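import Cfsg.Agent.H3.MX1

/-! Groups of Monster type: small singular subgroups. -/

set_option autoImplicit false
set_option linter.unusedSectionVars false
set_option synthInstance.maxSize 20000

namespace H3.MX
open Cfsg H15 H19 H0 H0.Mo H0.Y H15.ML H15.MX Subgroup
open scoped commutatorElement Pointwise symmDiff

/-- duads in the tetrads of the first sextet -/
def b0 (j : ℕ) : ℕ := getT 0x3402000280000108000041000024000012000 24 16777215 j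
/-- duads in the tetrads of the second sextet -/
def b1 (j : ℕ) : ℕ := getT 0x804000800001202000108000082000048000012000 24 16777215 j
/-- two tetrads and three duads -/
def b5 (j : ℕ) : ℕ := getT 0x800001108000012000804009800007 24 16777215 j
/-- ninety sextets -/
def L9 (j : ℕ) : ℕ := getT 0xf56cfacbbb54a4ea39a0f5184673c912cf44e68e29e1fdd6dc4cdec8db70b31b07a6a9959878dc6f568256f55953c2c114911a053036f33e5ee0ddf2d97ce8b23a789f09e28f88ab89d7fd7d978a6a652e2d32b617f15b077065f17a5ca2b9c68ce8b988f57d50a4433ff3be3ac2e52a4f72f60f057ef7ae6904262f77cb7986d1434451388292 12 4095 j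
/-- two elements of the stabilizer of the first sextet -/
def gs (k : Fin 2) : ℕ := ![0xa100ebcd0d1ae06396351059693d2a, 0x689095c6a17cee572a83930c0392d0] k
/-- some translate is a split duad -/
noncomputable def spl (b : ℕ → ℕ) (m n : ℕ) : Bool := anyTo (fun k => force (Nat.xor n (lin b 7 k)) fun a =>
  band (Nat.beq (pc (rd a)) 2) (Nat.beq (pc (rd (Nat.xor a m))) 4)) 128
theorem ck1 {i : ℕ} (l : i < 4096) (e : pc (dec i) = 4) : spl b0 0x800007 (dec i) = true ∨ pc (rd (dec i ^^^ 0x800007)) = 0 ∨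
    ∃ j < 90, L9 j = i := by
  have := (allTo2_iff (fun i => force i fun i => force (dec i) fun m => bimp (Nat.beq (pc m) 4) (bor (spl b0 0x800007 m)
    (bor (Nat.beq (pc (rd (Nat.xor m 0x800007))) 0) (anyTo (fun j => Nat.beq (L9 j) i) 90)))) 64 64).1 (by decide +kernel) i l
  simpa [e, anyTo_iff] using this
theorem ck2 {i : ℕ} (l : i < 4096) (e : pc (dec i) % 2 = 0) : spl b0 0x800007 (dec i) = true ∨ spl b1 0x804009 (dec i) = true ∨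
    ∃ a < 32, rd (dec i) = rd (lin b5 5 a) := by
  have := (allTo2_iff (fun i => force i fun i => force (dec i) fun m => bimp (Nat.beq (Nat.mod (pc m) 2) 0) (bor (spl b0 0x800007 m)
    (bor (spl b1 0x804009 m) (anyTo (fun a => Nat.beq (rd m) (rd (lin b5 5 a))) 32)))) 64 64).1 (by decide +kernel) i l
  simpa [e, anyTo_iff] using this
theorem orb (j : ℕ) (l : j < 90) : ∃ σ ∈ M24, (σ • S 0x800007) ∆ S 0x800007 ∈ cw ∧ (σ • S (dec (L9 j))) ∆ S 0x804009 ∈ cw := by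
  induction j using Nat.strong_induction_on with
  | _ j ih =>
  rcases (by decide +kernel : ∀ j < 90, rd (dec (L9 j)) = rd 0x804009 ∨ ∃ k, ∃ i < j, rd (act (gs k) (dec (L9 j))) = rd (dec (L9 i))) j l
    with e | ⟨k, i, a, e⟩
  · exact ⟨1, one_mem _, by simpa using cw_empty, by simpa using cw_of e⟩
  obtain ⟨σ, c, d, d'⟩ := ih i a (by omega)
  obtain ⟨m, n⟩ := (by decide +kernel : ∀ k, isM (gs k) = true ∧ rd (act (gs k) 0x800007) = rd 0x800007) k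
  have t : ∀ {a b e : ℕ}, rd (act (gs k) a) = rd b → (σ • S b) ∆ S e ∈ cw → ((σ * P (gs k)) • S a) ∆ S e ∈ cw := fun p q => by
    have := cw_symmDiff (smul_mem_cw c (cw_of p)) q
    rwa [Finset.smul_finset_symmDiff, symmDiff_assoc, symmDiff_symmDiff_cancel_left, ← (isM_rep m).smul_S, ← mul_smul] at this
  exact ⟨_, mul_mem c (isM_mem m), t n d, t e d'⟩

universe u
variable {G : Type u} [Group G] [Finite G] {z s x y t g : G} {f : C[z] →* Spor.Co1} {R : G → Lam → Prop} {T T' : Finset GolayPt}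
  {U : Subgroup G}

theorem chain {V : ℕ → Subgroup G} (h0 : V 0 = ⊥) (c : ∀ i ≤ 4, #(V i) = 2 ^ i)
    (st : ∀ i < 4, ∀ U, Sing z U → V i < U → ∃ g, V (i + 1) ≤ cj g U) : Sc z := by
  have k : ∀ U, Sing z U → ∀ i ≤ 4, (∃ j ≤ 4, ∃ g, cj g U = V j) ∨ ∃ g, V i ≤ cj g U := fun U s i l => by
    induction i with
    | zero => exact .inr ⟨1, h0 ▸ bot_le⟩
    | succ i ih =>
      refine (ih (by omega)).elim .inl fun ⟨g, a⟩ => a.eq_or_lt.elim (fun e => .inl ⟨i, by omega, g, e.symm⟩) fun a => ?_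
      obtain ⟨g', b⟩ := st i l _ (s.cj g) a
      exact .inr ⟨g' * g, by rwa [cj_mul]⟩
  have k' : ∀ U, Sing z U → #U ≤ 16 → ∃ j, ∃ g, cj g U = V j ∧ #U = 2 ^ j := fun U s d => by
    obtain ⟨j, l, g, e⟩ := (k U s 4 le_rfl).elim id fun ⟨g, a⟩ =>
      ⟨4, le_rfl, g, (eq_of_le_of_card_ge a (by rwa [card_cj, c 4 le_rfl])).symm⟩
    exact ⟨j, g, e, by rw [← c j l, ← e, card_cj]⟩
  intro U U' s s' e d
  obtain ⟨i, g, p, q⟩ := k' U s d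
  obtain ⟨i', g', p', q'⟩ := k' U' s' (e ▸ d)
  exact ⟨g'⁻¹ * g, by rw [cj_mul, p, Nat.pow_right_injective le_rfl (q.symm.trans (e.trans q')), ← p', ← cj_mul, inv_mul_cancel, cj_one]⟩

/-- the duad classes -/
abbrev Du (a : ℕ) : Prop := a / 4 = 1 ∨ a / 4 = 2 ∨ a / 4 = 4
/-- coordinates -/
def E (R : G → Lam → Prop) (t : G) (a : ℕ) : Prop := a < 32 ∧ D R t (S (lin b5 5 a))
theorem tb : ∀ a < 32, pc (lin b5 5 a) % 2 = 0 ∧ lin b5 5 a < 2 ^ 24 ∧ (Du a → pc (rd (lin b5 5 a)) = 2) ∧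
    (¬ Du a → a ≠ 0 → pc (rd (lin b5 5 a)) = 4) ∧ (∃ k < 128, rd (lin b5 5 a) = rd (lin b0 7 k)) ∧
      ∃ k < 128, rd (lin b5 5 a) = rd (lin b1 7 k) := by decide +kernel
theorem tb0 : (∀ j < 7, (S (b0 j)).card % 2 = 0 ∧ pc (rd (b0 j)) = 2 ∧ pc (rd (b0 j ^^^ lin b5 5 1)) = 2) ∧
    (∀ j < 7, (S (b1 j)).card % 2 = 0 ∧ pc (rd (b1 j)) = 2 ∧ pc (rd (b1 j ^^^ lin b5 5 2)) = 2) ∧
      lin b5 5 0 = 0 ∧ lin b5 5 1 = 0x800007 ∧ lin b5 5 2 = 0x804009 := by decide +kernel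

namespace Fr
variable (h : Fr f R s) {a a' n : ℕ}
include h
theorem emul (b : E R x a) (c : E R y a') : E R (x * y) (a ^^^ a') :=
  ⟨Nat.xor_lt_two_pow (n := 5) b.1 c.1, lin_xor b5 5 a a' ▸ h.mulS b.2 c.2⟩
theorem eex (l : a < 32) : ∃ x, E R x a := (h.ex (by rw [card_S (tb a l).2.1]; exact (tb a l).1)).imp fun _ b => ⟨l, b⟩
theorem e0 : E R x 0 ↔ x ∈ closure {z, s} := by simp [E, tb0.2.2.1, S_zero, h.two]
theorem eA (b : E R x a) (c : Du a) : A2 z x := h.ty2 b.2 ((tb a b.1).2.2.1 c)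
theorem eB (b : E R x a) (c : ¬ Du a) (d : a ≠ 0) : IsConj z x ∧ x ∉ closure {z, s} := h.ty4 b.2 ((tb a b.1).2.2.2.1 c d)
theorem eu (b : E R x a) (c : E R x a') : a = a' := by
  have k := h.emul b ⟨c.1, h.inv c.2⟩
  rw [mul_inv_cancel] at k
  by_contra e
  by_cases d : Du (a ^^^ a')
  exacts [(h.eA k d).2.1 rfl, (h.eB k d (mt Nat.xor_eq_zero_iff.1 e)).2 (one_mem _)]
/-- the filtration -/
def W (n : ℕ) : Subgroup G where
  carrier := {x | ∃ a < 2 ^ n, E R x a}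
  mul_mem' := fun ⟨_, a, b⟩ ⟨_, c, d⟩ => ⟨_, Nat.xor_lt_two_pow a c, h.emul b d⟩
  one_mem' := ⟨0, by positivity, h.e0.2 (one_mem _)⟩
  inv_mem' := fun ⟨_, a, b⟩ => ⟨_, a, b.1, h.inv b.2⟩
theorem eW (b : E R x a) : x ∈ h.W n ↔ a < 2 ^ n := ⟨fun ⟨_, c, d⟩ => h.eu d b ▸ c, fun c => ⟨a, c, b⟩⟩
theorem W0 : h.W 0 = closure {z, s} := by
  ext x; exact ⟨fun ⟨a, b, c⟩ => h.e0.1 (by rwa [show a = 0 by omega] at c), fun b => ⟨0, one_pos, h.e0.2 b⟩⟩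
theorem card2 : #(closure {z, s} : Subgroup G) = 4 := by
  have a := sq h.g (.refl _); have b := sq h.g h.b
  rw [closure_pair_eq, sup_comm, card_sup_of_disjoint, Nat.card_zpowers, Nat.card_zpowers,
    orderOf_eq_prime ((pow_two _).trans a) (ne1 h.g (.refl _)), orderOf_eq_prime ((pow_two _).trans b) (ne1 h.g h.b)]
  · exact (cent_le_norm _).trans' (zpowers_le.2 (mem_cent.2 fun y c => (es h.g (.refl _)).cent y (zpowers_le.2 h.L.tQ c)))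
  · exact eq_bot_iff.2 fun x c => ((es h.g h.b).mem_zp.1 c.1).resolve_right fun e => h.L.notMem (e ▸ c.2)
theorem cardW (l : n ≤ 5) : #(h.W n) = 2 ^ n * 4 := by
  have l' : ∀ a : Fin (2 ^ n), a.1 < 32 := fun a => a.2.trans_le (Nat.pow_le_pow_right two_pos l)
  choose w k using fun a => h.eex (l' a)
  have k' : ∀ a (v : closure {z, s}), E R (v * w a) a := fun a v => Nat.zero_xor a.1 ▸ h.emul (h.e0.2 v.2) (k a)
  rw [← h.card2, ← Nat.card_fin (2 ^ n), ← Nat.card_prod]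
  refine (Nat.card_eq_of_bijective (fun p : Fin (2 ^ n) × (closure {z, s} : Subgroup G) => (⟨p.2 * w p.1, _, p.1.2, k' _ _⟩ : h.W n))
    ⟨fun p q e => ?_, fun ⟨x, a, b, c⟩ => ⟨⟨⟨a, b⟩, x * (w ⟨a, b⟩)⁻¹, h.mul2 c.2 (h.inv (k _).2) (by simpa using cw_empty)⟩, by simp⟩⟩).symm
  have e : p.2.1 * w p.1 = q.2.1 * w q.1 := congrArg Subtype.val e
  have e' : p.1 = q.1 := Fin.ext (h.eu (k' p.1 p.2) (e ▸ k' q.1 q.2))
  exact Prod.ext e' (Subtype.ext (mul_right_cancel (e' ▸ e :)))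
theorem Ws (l : h.W n ≤ U) (b : E R x (2 ^ n)) (m : x ∈ U) : h.W (n + 1) ≤ U := fun y ⟨a, c, d⟩ => by
  by_cases e : a < 2 ^ n
  · exact l ⟨a, e, d⟩
  exact (mul_mem_cancel_right m).1 (l ⟨_, (by decide : ∀ n < 5, ∀ a < 32, a < 2 ^ (n + 1) → ¬ a < 2 ^ n → a ^^^ 2 ^ n < 2 ^ n) n
    ((Nat.pow_lt_pow_iff_right one_lt_two).1 b.1) a d.1 c e, h.emul d b⟩)
theorem nspl {b : ℕ → ℕ} {m n : ℕ} (a : D R x (S m)) (e : pc (rd m) = 4)
    (c : ∀ j < 7, (S (b j)).card % 2 = 0 ∧ pc (rd (b j)) = 2 ∧ pc (rd (b j ^^^ m)) = 2) (d : D R t (S n)) (q : t ∈ Qo x) :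
    spl b m n ≠ true := fun k => by
  obtain ⟨k, -, p⟩ := (anyTo_iff _ _).1 k
  obtain ⟨y, r, r'⟩ := h.spQ a e c k
  have p : pc (rd (n ^^^ lin b 7 k)) = 2 ∧ pc (rd (n ^^^ lin b 7 k ^^^ m)) = 4 := by simpa using p
  exact h.split a e (h.mulS d r') p.1 p.2 (mul_mem q r)
theorem inS {b : ℕ → ℕ} {m n k : ℕ} (a : D R x (S m)) (e : pc (rd m) = 4)
    (c : ∀ j < 7, (S (b j)).card % 2 = 0 ∧ pc (rd (b j)) = 2 ∧ pc (rd (b j ^^^ m)) = 2) (d : D R t (S n)) (q : rd n = rd (lin b 7 k)) :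
    t ∈ Qo x := let ⟨_, r, r'⟩ := h.spQ a e c k; (mul_mem_cancel_right r).1 (h.twoQ a e (h.mul2 d r' (cw_of q)))
theorem tet (a : t ∈ Qo z ⊓ Qo s) (b : IsConj z t) (c : t ∉ closure {z, s}) : ∃ i < 4096, D R t (S (dec i)) ∧ pc (dec i) = 4 := by
  obtain ⟨i, l, d, e⟩ := h.tot a
  have k := card_S (dec_lt i)
  exact ⟨i, l, d, (e.resolve_left fun e => c (h.two.2 (Finset.card_eq_zero.1 (k.trans e) ▸ d))).resolve_left
    fun e => (h.a2 d (k.trans e)).2.2 b⟩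
theorem Wz : closure {z, s} ≤ h.W n := fun _ a => ⟨0, by positivity, h.e0.2 a⟩
theorem mv {m : ℕ} {σ : Equiv.Perm GolayPt} (l : closure {z, s} ≤ U) (c : closure {z, s} ≤ C[g])
    (k : ∀ x T, D R x T → D R (g * x * g⁻¹) (σ • T)) (p : h.W n ≤ cj g U) (q : t ∈ U) (d : D R t (S m)) (r : n < 5)
    (e : (σ • S m) ∆ S (lin b5 5 (2 ^ n)) ∈ cw) : h.W (n + 1) ≤ cj g U :=
  h.Ws p ⟨Nat.pow_lt_pow_right one_lt_two r, h.shift (k _ _ d) e⟩ (conj_mem_cj.2 q)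
theorem W0c (l : closure {z, s} ≤ U) (c : closure {z, s} ≤ C[g]) : h.W 0 ≤ cj g U := by
  rw [h.W0, ← cj_of_mem_cent (le_cent1_iff.1 c)]; exact cj_mono g l
theorem sc : Sc z := by
  have zs : z ∈ closure {z, s} ∧ s ∈ closure {z, s} := ⟨subset_closure (by simp), subset_closure (by simp)⟩
  have z1 := ne1 h.g (.refl _)
  have nt : ∀ {U}, Sing z U → closure {z, s} ≤ U → ∀ t ∈ U, t ∉ closure {z, s} → ∃ i < 4096, D R t (S (dec i)) ∧ pc (dec i) = 4 :=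
    fun a l t m n => h.tet ⟨(a z (l zs.1) z1).2 m, (a s (l zs.2) (ne1 h.g h.b)).2 m⟩ (a t m fun e => n (e ▸ one_mem _)).1 n
  refine chain (V := fun i => match i with | 0 => ⊥ | 1 => zpowers z | n + 2 => h.W n) rfl (fun i l => ?_) fun i l U a b => ?_
  · rcases i with _ | _ | i
    exacts [card_bot, (Nat.card_zpowers z).trans (orderOf_eq_prime (p := 2) ((pow_two _).trans (sq h.g (.refl _))) z1),
      (h.cardW (by omega)).trans (by ring)]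
  obtain ⟨t, m, n⟩ := SetLike.exists_of_lt b
  have b := b.le
  interval_cases i
  · obtain ⟨g, e⟩ := isConj_iff.1 (a t m n).1.symm
    exact ⟨g, zpowers_le.2 (e ▸ conj_mem_cj.2 m)⟩
  · obtain ⟨γ, r⟩ := (h.M.conj_iff h.L ((a z (b (mem_zpowers z)) z1).2 m)).1
      ⟨(a t m fun e => n (e ▸ one_mem _)).1, fun e => n (e ▸ mem_zpowers z)⟩
    obtain ⟨g, c, e⟩ := h.M.conj_type r (g' := 1) (by simpa using h.r) (h.M.not_zero h.L h.r)
    refine ⟨g, h.W0.trans_le ((closure_le _).2 ?_)⟩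
    rintro _ (rfl | rfl)
    exacts [by simpa [mem_cent1.1 c] using conj_mem_cj (g := g).2 (b (mem_zpowers _)), e ▸ conj_mem_cj.2 m]
  · have b := h.Wz.trans b
    obtain ⟨i, l, d, e⟩ := nt a b t m fun k => n (h.Wz k)
    have e := (card_S (dec_lt i)).trans e
    obtain ⟨σ, c, p⟩ := m24_trans_sextets (Sx_mem_sextets e) (Sx_mem_sextets (t := S (lin b5 5 (2 ^ 0))) (by decide +kernel))
    obtain ⟨g, q, k⟩ := h.act c
    exact ⟨g, h.mv b q k (h.W0c b q) m d (by omega) (mem_Sx.1 (p ▸ Finset.smul_mem_smul_finset (mem_Sx.2 ⟨e, by simpa using cw_empty⟩))).2⟩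
  · obtain ⟨x, r⟩ := h.eex (a := 1) (by omega)
    have xU := b ((h.eW r).2 one_lt_two)
    have b' := h.Wz.trans b
    obtain ⟨i, l, d, e⟩ := nt a b' t m fun k => n (h.Wz k)
    have o := (tb 1 (by omega)).2.2.2.1 (by omega) (by omega)
    rcases ck1 l e with k | k | ⟨j, k, rfl⟩
    · exact absurd k (tb0.2.2.2.1 ▸ h.nspl r.2 o tb0.1 d ((a x xU (ne1 h.g (h.ty4 r.2 o).1)).2 m))
    · exact absurd ((mul_mem_cancel_right ((h.eW r).2 one_lt_two)).1 (h.Wz (h.ty0 (h.mulS d r.2) (tb0.2.2.2.1 ▸ k)))) n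
    obtain ⟨σ, c, p, p'⟩ := orb j k
    obtain ⟨g, q, k⟩ := h.act c
    exact ⟨g, h.mv b' q k (h.mv b' q k (h.W0c b' q) xU r.2 (by omega) (tb0.2.2.2.1 ▸ p)) m d (by omega) (tb0.2.2.2.2 ▸ p')⟩
theorem sing : Sing z (h.W 2) ∧ QU (h.W 2) = h.W 5 := by
  obtain ⟨x, r⟩ := h.eex (a := 1) (by omega)
  obtain ⟨y, r'⟩ := h.eex (a := 2) (by omega)
  have o := (tb 1 (by omega)).2.2.2.1 (by omega) (by omega)
  have o' := (tb 2 (by omega)).2.2.2.1 (by omega) (by omega)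
  have k : ∀ w ∈ ({z, s, x, y} : Set G), IsConj z w ∧ w ∈ h.W 2 ∧ h.W 5 ≤ Qo w := by
    rintro _ (rfl | rfl | rfl | rfl)
    exacts [⟨.refl _, h.Wz (subset_closure (by simp)), fun _ ⟨_, _, c⟩ => (h.mem c.2).1⟩,
      ⟨h.b, h.Wz (subset_closure (by simp)), fun _ ⟨_, _, c⟩ => (h.mem c.2).2⟩,
      ⟨(h.ty4 r.2 o).1, (h.eW r).2 (by omega), fun _ ⟨a, _, c⟩ => let ⟨_, _, e⟩ := (tb a c.1).2.2.2.2.1; h.inS r.2 o tb0.1 c.2 e⟩,
      ⟨(h.ty4 r'.2 o').1, (h.eW r').2 (by omega), fun _ ⟨a, _, c⟩ => let ⟨_, _, e⟩ := (tb a c.1).2.2.2.2.2; h.inS r'.2 o' tb0.2.1 c.2 e⟩]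
  have l : h.W 2 ≤ h.W 5 := fun _ ⟨a, b, c⟩ => ⟨a, by omega, c⟩
  have e : h.W 2 = closure {z, s, x, y} := le_antisymm (h.Ws (h.Ws (h.W0.trans_le (closure_mono (Set.insert_subset_insert (by simp)))) r (subset_closure (by simp)))
    r' (subset_closure (by simp))) ((closure_le _).2 fun w a => (k w a).2.1)
  obtain ⟨p, q⟩ := closure_sing h.g (fun w a => (k w a).1) fun w a v b => (k w a).2.2 (l (k v b).2.1)
  refine ⟨e ▸ p, le_antisymm (fun t a => ?_) fun t a => e ▸ q t fun w b => (k w b).2.2 a⟩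
  have m : ∀ w ∈ ({z, s, x, y} : Set G), t ∈ Qo w := fun w b => mem_QU.1 a w (k w b).2.1 (ne1 h.g (k w b).1)
  obtain ⟨i, c, d, f⟩ := h.tot ⟨m z (by simp), m s (by simp)⟩
  rcases ck2 c (by omega) with j | j | ⟨a, b, j⟩
  exacts [absurd j (tb0.2.2.2.1 ▸ h.nspl r.2 o tb0.1 d (m x (by simp))),
    absurd j (tb0.2.2.2.2 ▸ h.nspl r'.2 o' tb0.2.1 d (m y (by simp))), ⟨a, b, b, h.shift d (cw_of j)⟩]
theorem nA (b : E R x a) (c : A2 z x) : Du a := by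
  by_contra d
  by_cases e : a = 0
  exacts [c.2.2 (h.sing.1 x (h.Wz (h.e0.1 (e ▸ b))) c.2.1).1, c.2.2 (h.eB b d e).1]
theorem nB (b : E R x a) (c : IsConj z x) : ¬ Du a := fun d => (h.eA b d).2.2 c
theorem t4 : ∃ g, T4 z (h.W 2) g := by
  obtain ⟨g, r⟩ := h.eex (a := 28) (by omega)
  have q := h.sing.2
  have B := h.eB r (by omega) (by omega)
  refine ⟨g, q ▸ h.cardW le_rfl, ⟨q ▸ (h.eW r).2 (by omega), B.1, mt (h.eW r).1 (by omega), ?_⟩, fun x d => ?_, ?_, ?_⟩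
  · rw [q]; rintro x ⟨a, -, b⟩ c d e
    exact h.eA (h.emul b r) ((by decide : ∀ a < 32, ¬ Du a → ¬ a < 2 ^ 2 → ¬ a ^^^ 28 < 2 ^ 2 → Du (a ^^^ 28)) a b.1 (h.nB b c)
      (mt (h.eW b).2 d) (mt (h.eW (h.emul b r)).2 e))
  · obtain ⟨a, -, b⟩ := q.le d.1
    refine ((by decide : ∀ a < 32, ¬ Du a → ¬ a < 2 ^ 2 → a ^^^ 28 < 2 ^ 2 ∨ ∃ c < 32, ¬ Du c ∧ c ≠ 0 ∧ ¬ c < 2 ^ 2 ∧ ¬ c ^^^ a < 2 ^ 2 ∧
      ¬ Du (c ^^^ a)) a b.1 (h.nB b d.2.1) (mt (h.eW b).2 d.2.2.1)).elim (h.eW (h.emul b r)).2 fun ⟨c, l, e1, e2, e3, e4, e5⟩ => ?_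
    obtain ⟨y, k⟩ := h.eex l
    exact absurd (h.nA (h.emul k b) (d.2.2.2 y (q.ge ⟨c, l, k⟩) (h.eB k e1 e2).1 (mt (h.eW k).1 e3) (mt (h.eW (h.emul k b)).1 e4))) e5
  · rw [q]; rintro x ⟨a, -, b⟩ y ⟨a', -, b'⟩ c c' d
    exact ((by decide +kernel : ∀ a < 32, ∀ a' < 32, ¬ Du a → ¬ Du a' → Du (a ^^^ a') → a ^^^ 28 < 2 ^ 2 ∨ a' ^^^ 28 < 2 ^ 2) a b.1 a' b'.1
      (h.nB b c) (h.nB b' c') (h.nA (h.emul b b') d)).imp (h.eW (h.emul b r)).2 (h.eW (h.emul b' r)).2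
  · rw [q]; rintro x ⟨a, -, b⟩ y ⟨a', -, b'⟩ c c' d d' m
    refine ((by decide +kernel : ∀ a < 32, ∀ a' < 32, ¬ Du a → ¬ Du a' → ¬ a < 2 ^ 2 → ¬ a' < 2 ^ 2 → a ^^^ a' < 2 ^ 2 ∨ ∃ c < 32,
      (c = 0 ∨ Du c ∧ Du (c ^^^ a)) ∧ ¬ Du (a' ^^^ c) ∧ a' ^^^ c ≠ 0 ∧ Du (a' ^^^ c ^^^ a)) a b.1 a' b'.1 (h.nB b c) (h.nB b' c')
      (mt (h.eW b).2 d) (mt (h.eW b').2 d')).elim (h.eW (h.emul b b')).2 fun ⟨e, l, e1, e2, e3, e4⟩ => ?_
    obtain ⟨p, k, k'⟩ : ∃ p, E R p e ∧ p ∈ Qo x := e1.elim (fun f => ⟨1, f ▸ h.e0.2 (one_mem _), one_mem _⟩) fun f =>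
      let ⟨p, k⟩ := h.eex l; ⟨p, k, memQ h.g (.refl _) c (h.mem b.2).1 (h.mem k.2).1 (h.eA k f.1) (h.eA (h.emul k b) f.2)⟩
    have A := h.eA (h.emul (h.emul b' k) b) e4
    exact absurd (mul_b h.g c (h.eB (h.emul b' k) e2 e3).1 (mul_mem m k') fun f => A.2.1 (by rw [f, sq h.g c])) A.2.2
end Fr

omit [Finite G] in
theorem T4cj (a : T4 z (cj g U) t) : T4 z U (g⁻¹ * t * g⁻¹⁻¹) := by
  have e : cj g⁻¹ (cj g U) = U := by rw [← cj_mul, inv_mul_cancel, cj_one]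
  have q : ∀ {x}, x ∈ QU U → g * x * g⁻¹ ∈ QU (cj g U) := fun b => cj_QU g U ▸ conj_mem_cj.2 b
  have r : ∀ {x}, g * x * g⁻¹ * t ∈ cj g U → x * (g⁻¹ * t * g⁻¹⁻¹) ∈ U := fun b => by simpa [mul_assoc] using mem_cj.1 b
  refine ⟨by rw [← a.card, ← cj_QU, card_cj], e ▸ a.dist.cj g⁻¹, fun x d => r (a.uniq _ (d.cj g)), fun x b y c d d' k =>
    (a.d2 _ (q b) _ (q c) (cjB d g) (cjB d' g) (by rw [conj_mul]; exact k.cj g)).imp r r, fun x b y c d d' k k' m => (conj_mem_cj (g := g)).1 (by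
      rw [← conj_mul]; exact a.d3 _ (q b) _ (q c) (cjB d g) (cjB d' g) (mt conj_mem_cj.1 k) (mt conj_mem_cj.1 k') (Qo_conj m g))⟩

theorem exF' (h : MG z) : ∃ s f R, Fr (z := z) f R s := let ⟨s, f, R, a, b, c, d⟩ := h.ex; ⟨s, f, R, h, c, a, d, b⟩
theorem sc : SC := fun _ _ _ _ h => let ⟨_, _, _, a⟩ := exF' h; a.sc
theorem sq : SQ := fun _ _ _ _ h c U a b =>
  let ⟨_, _, _, k⟩ := exF' h; let ⟨_, t⟩ := k.t4; let ⟨_, e⟩ := c U _ a k.sing.1 (b.trans (k.cardW (n := 2) (by omega)).symm) b.le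
  ⟨_, T4cj (e ▸ t)⟩

end H3.MX
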