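import Cfsg.Agent.H27.MS1

/-! S5899: transvections and offenders on sections of a minimal insoluble group. -/

set_option autoImplicit false
set_option linter.unusedVariables false
set_option linter.unusedSectionVars false

namespace H3.MS
open Cfsg Subgroup H18 H17.GS H28.S H2.GW
open H19 hiding eq_bot_mono
open H28.NG hiding Hyp Uniq Ch
open H27.MS
open scoped MatrixGroups

universe u
variable {G : Type u} [Group G] [Finite G] {N Q T V₀ V A D E U W X : Subgroup G} {a b c g : G} {e k : ℕ}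

theorem qt (h : Fr N Q T) : Q ≤ T := h.syl.le_of_norm' h.nq.le h.pg (h.nq.norms h.syl.le)

theorem full (h : Fr N Q T) (h1 : X ≤ N) (h2 : N ≤ X ⊔ Q) : X = N := by
  by_contra k
  exact h.ns (sol_mono (sol_sup h.pg.sol (h.sol X (lt_of_le_of_ne h1 k)) (h.nq.norms h1))
    (h2.trans (sup_comm _ _).le))

theorem perf (h : Fr N Q T) : N ≤ ⁅N, N⁆ := (h.smp _ (der_normal N)).elim (fun k => absurd
  (sol_of_quo h.nq.norm (sol_mono h.pg.sol inf_le_left) (sol_of_ab ((ab_quo_iff h.nq.norm).2 k))) h.ns) (·.ge)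

theorem frJ (h : Fr N Q T) (hg : g ∈ N) : Fr N Q (cj g T) := ⟨h.pg, h.nq, h.syl.Jmem hg, h.ns, h.sol, h.smp⟩

theorem cN (h : Fr N Q T) (s : Sec N Q V₀ V) (ha : a ∈ N) (k : a ∈ Cm V₀ V) : a ∈ Q :=
  (h.smp _ (inf_normal_of_norm' (norms_Cm s.n0 s.nV))).elim (fun j => j ⟨ha, k⟩)
    fun j => absurd (j.ge.trans inf_le_right) s.nc

theorem three (h : Fr N Q T) (s : Sec N Q V₀ V) : ¬ ⁅⁅V, N⁆, N⁆ ≤ V₀ := fun k => by
  have n := s.ea.norm
  have a : ⁅⁅quo V₀ V, quo V₀ N⁆, quo V₀ N⁆ = ⊥ := by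
    rw [← quo_comm n s.n0, ← quo_comm ((commg_le_left s.nV).trans n) s.n0]; exact quo_eq_bot k
  have b := three_subgroup (H := quo V₀ N) (K := quo V₀ N) (L := quo V₀ V) (by rwa [commg_comm (quo V₀ N)]) a
  rw [← quo_comm s.n0 s.n0, ← le_antisymm (perf h) (der_normal N).le, ← quo_comm s.n0 n,
    quo_eq_bot_iff ((commg_le_right s.nV).trans n)] at b
  exact s.nc (le_Cm s.n0 b)

theorem sec_top (h : Fr N Q T) (s : Sec N Q V₀ V) : Sec N Q (V ⊓ Cm V₀ N) V :=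
  have l := s.ea.leC s.n0
  have n : N ≤ N(V ⊓ Cm V₀ N) := norms_inf s.nV (norms_Cm s.n0 le_normalizer)
  ⟨s.ea.mono l inf_le_left le_rfl, s.nV, n, Cm_mono l (h.nq.le.trans n) s.cq, fun k => three h s
    ((commutator_mono ((commg_of_Cm' k).trans inf_le_right) le_rfl).trans (commg_of_Cm le_rfl))⟩

theorem sec_bot (h : Fr N Q T) (s : Sec N Q V₀ V) : Sec N Q V₀ (⁅V, N⁆ ⊔ V₀) :=
  ⟨s.ea.subB s.nV, norms_sup (norms_comm s.nV le_normalizer) s.n0, s.n0,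
    s.cq.trans (Cm_anti (s.ea.br_le s.nV)), fun k => three h s
      ((commutator_mono le_sup_left le_rfl).trans (commg_of_Cm' k))⟩

theorem card_inf (h1 : A ≤ V) (h2 : D ≤ V) : #A * #D ≤ #V * #(A ⊓ D) := by
  have a := card_inf_mul_relIndex A D
  have b := card_inf_mul_relIndex A V
  rw [inf_eq_left.2 h1] at b
  have c : A.relIndex D ≤ A.relIndex V := relIndex_le_of_le_right h2 (by
    intro z; rw [z, mul_zero] at b; exact Nat.card_pos.ne b)
  rw [← a, ← b]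
  calc _ ≤ #A * (#(A ⊓ D) * A.relIndex V) := Nat.mul_le_mul_left _ (Nat.mul_le_mul_left _ c)
    _ = _ := by ring

theorem idx_inf {m n : ℕ} (h1 : A ≤ V) (h2 : D ≤ V) (a : #V ≤ m * #A) (b : #V ≤ n * #D) :
    #V ≤ m * n * #(A ⊓ D) := by
  refine Nat.le_of_mul_le_mul_left ?_ (Nat.card_pos (α := V))
  calc _ ≤ (m * #A) * (n * #D) := Nat.mul_le_mul a b
    _ = m * n * (#A * #D) := by ring
    _ ≤ m * n * (#V * #(A ⊓ D)) := Nat.mul_le_mul_left _ (card_inf h1 h2)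
    _ = _ := by ring

theorem cjC (s : Sec N Q V₀ V) (hg : g ∈ N) (A : Subgroup G) : cj g (V ⊓ Cm V₀ A) = V ⊓ Cm V₀ (cj g A) := by
  rw [cj_inf, cj_Cm, cj_of_mem_norm (s.nV hg), cj_of_mem_norm (s.n0 hg)]

theorem cm_sym (s : Sec N Q V₀ V) (ha : A ≤ N) (hD : D ≤ V ⊓ Cm V₀ A) : A ≤ Cm V₀ D :=
  Cm_symm (hD.trans inf_le_right) (ha.trans s.n0)

theorem eb_tr (h : Fr N Q T) (s : Sec N Q V₀ V) (ha : a ∈ N) (hb : b ∈ N) (hg : g ∈ N)
    (k : g * a * g⁻¹ * b⁻¹ ∈ Q) (y : Eb V₀ V a e) : Eb V₀ V b e := by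
  refine y.trans (Nat.mul_le_mul_left _ ?_)
  rw [← card_cj g, cjC s hg, cj_zpowers]
  have x := cm_sym s (zpowers_le' (mul_mem (mul_mem hg ha) (inv_mem hg))) le_rfl (mem_zpowers _)
  refine card_le_of_le (le_inf inf_le_left (Cm_symm (zpowers_le' ?_) (inf_le_left.trans s.ea.norm)))
  have := mul_mem (inv_mem (Cm_anti inf_le_left (s.cq k))) x
  simpa [mul_assoc] using this

theorem eb_mono (y : Eb V₀ V a e) (l : e ≤ k) : Eb V₀ V a k :=
  y.trans (Nat.mul_le_mul_right _ (Nat.pow_le_pow_right (by decide) l))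

theorem out (h : Fr N Q T) (ha : a ∈ N) (a0 : a ∉ Q) : ∃ g ∈ N, g * a * g⁻¹ ∉ T := by
  by_contra! k
  have l : Kc (zpowers a) N ≤ T := Kc_le_of_cj fun g hg => by rw [cj_zpowers]; exact zpowers_le' (k g hg)
  rcases h.smp _ (Kc_normal (zpowers_le' ha)) with j | j
  · exact a0 (j (le_Kc (mem_zpowers a)))
  · exact h.ns (sol_mono h.syl.pi.sol (j.ge.trans l))

theorem ivJ (h : Fr N Q T) (i : Iv N Q a) (hg : g ∈ N) : Iv N Q (g * a * g⁻¹) :=
  ⟨mul_mem (mul_mem hg i.1) (inv_mem hg), fun k => i.2.1 (by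
    simpa [mul_assoc] using h.nq.conj_mem (inv_mem hg) k), by
    simpa [mul_assoc] using h.nq.conj_mem hg i.2.2⟩

theorem be_lb (h : Fr N Q T) (s : Sec N Q V₀ V) (B : Be N Q T E) (hD : D ≤ V) (n : N ≤ Cm V₀ D ⊔ Q)
    (y : #V ≤ k * #D) : #T ^ 2 ≤ k * #Q ^ 2 := by
  have l : D ≤ V ⊓ Cm V₀ N :=
    le_inf hD (Cm_symm (n.trans (sup_le le_rfl (s.cq.trans (Cm_anti hD)))) (hD.trans s.ea.norm))
  have a := B.lb _ _ (sec_top h s)
  refine Nat.le_of_mul_le_mul_right (a.trans ?_) (Nat.card_pos (α := (V ⊓ Cm V₀ N : Subgroup G)))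
  calc _ ≤ k * #(V ⊓ Cm V₀ N) * #Q ^ 2 :=
        Nat.mul_le_mul_right _ (y.trans (Nat.mul_le_mul_left _ (card_le_of_le l)))
    _ = _ := by ring

/-- a pair `a, b` with `a, b, a b ∉ Q` -/
theorem pair (n : E ≤ N(Q)) (y : 2 * #(E ⊓ Q) < #E) : ∃ a ∈ E, ∃ b ∈ E, a ∉ Q ∧ b ∉ Q ∧ a * b ∉ Q := by
  by_contra! k
  have c := card_inf_mul_relIndex Q E
  rw [inf_comm] at c
  have d : Q.relIndex E ≤ 2 := by
    by_cases j : E ≤ Q
    · rw [relIndex_eq_one.2 j]; decide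
    · obtain ⟨a, a1, a0⟩ := SetLike.not_le_iff_exists.1 j
      refine (relIndex_eq_two_iff.2 ⟨a, a1, fun b b1 => ?_⟩).le
      by_cases q : b ∈ Q
      · exact .inr ⟨q, fun p => a0 ((mul_mem_cancel_left q).1 p)⟩
      · exact .inl ⟨k b b1 a a1 q a0, q⟩
  nlinarith

theorem sq_mem (h : Fr N Q T) (s : Sec N Q V₀ V) (ha : a ∈ N) (y : Eb V₀ V a 1) : a * a ∈ Q := by
  have z := zpowers_le' ha
  have m : a ∈ N(V ⊓ Cm V₀ (zpowers a)) := norms_inf (z.trans s.nV) (norms_Cm (z.trans s.n0) le_normalizer) (mem_zpowers a)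
  have x := cm_sym s z le_rfl (mem_zpowers a)
  refine cN h s (mul_mem ha ha) ?_
  by_cases j : V ≤ Cm V₀ (zpowers a)
  · have := Cm_symm j (z.trans s.n0) (mem_zpowers a)
    exact mul_mem this this
  have c : #V = #(V ⊓ Cm V₀ (zpowers a)) * 2 := by
    obtain ⟨r, hr⟩ := card_dvd_of_le (inf_le_left : V ⊓ Cm V₀ (zpowers a) ≤ V)
    have p := Nat.card_pos (α := (V ⊓ Cm V₀ (zpowers a) : Subgroup G))
    have p' := Nat.card_pos (α := V)
    have r1 : r ≠ 1 := fun q => j ((eq_of_le_of_card_eq inf_le_left (by rw [hr, q, mul_one])).ge.trans inf_le_right)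
    have r2 : r ≤ 2 := by unfold Eb at y; nlinarith
    have r0 : r ≠ 0 := fun q => by rw [q] at hr; omega
    rw [hr, show r = 2 by omega]
  have t := hyp_cm (hyp_of_card inf_le_left c) (s.nV ha) m
  refine ⟨s.n0 (mul_mem ha ha), fun v hv => ?_⟩
  have d := t.2 v hv
  have := mul_mem (x.2 _ d) (s.ea.sq _ d.1)
  convert this using 1
  group

theorem sec8 (h : Fr N Q T) (s : Sec N Q V₀ U) (y : 2 * #Q < #T) : 4 * #V₀ < #U := by
  by_contra! z
  have tn := h.syl.le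
  obtain ⟨a, a1, b, b1, a0, b0, c0⟩ := pair (h.nq.norms tn) (by rwa [inf_eq_right.2 (qt h)])
  have l := s.ea.leC (tn.trans s.n0)
  have u0 : ¬ U ≤ Cm V₀ T := fun k => a0 (cN h s (tn a1) (Cm_symm k (tn.trans s.n0) a1))
  have d0 := s.ea.meet (fun k => u0 (k.trans (Cm_self (tn.trans s.n0)))) (tn.trans s.nV) (tn.trans s.n0)
    fun r r1 o => by
      have := h.syl.pi.inf_eq_bot (og_zp o)
      rw [show r = 1 from mem_bot.1 (this.le ⟨r1, mem_zpowers r⟩)]; exact one_mem _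
  obtain ⟨r, hr⟩ := card_dvd_of_le l
  obtain ⟨t, ht⟩ := card_dvd_of_le (inf_le_left : U ⊓ Cm V₀ T ≤ U)
  have p := Nat.card_pos (α := V₀)
  have p' := Nat.card_pos (α := U)
  have r1 : r ≠ 1 := fun q => d0 (eq_of_le_of_card_eq l (by rw [hr, q, mul_one])).ge
  have t1 : t ≠ 1 := fun q => u0 ((eq_of_le_of_card_eq inf_le_left (by rw [ht, q, mul_one])).ge.trans inf_le_right)
  have r0 : r ≠ 0 := fun q => by rw [hr, q] at ht; omega
  have t0 : t ≠ 0 := fun q => by rw [q] at ht; omega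
  have rt : r * t ≤ 4 := by rw [ht, hr] at z; nlinarith
  obtain rfl : r = 2 := by
    have : 2 ≤ t := by omega
    have : r ≤ 2 := by nlinarith
    omega
  obtain rfl : t = 2 := by omega
  have H1 := hyp_of_card l hr
  have H2 := hyp_of_card inf_le_left ht
  have nD : T ≤ N(U ⊓ Cm V₀ T) := norms_inf (tn.trans s.nV) (norms_Cm (tn.trans s.n0) le_normalizer)
  obtain ⟨v, v1, v0⟩ := SetLike.not_le_iff_exists.1 u0
  have f : ∀ x ∈ T, x ∉ Q → x * v * x⁻¹ * v⁻¹ ∉ V₀ := fun x x1 x0 q => x0 (cN h s (tn x1) ⟨s.n0 (tn x1), fun w w1 => by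
    have m := cm_sym s tn le_rfl x1
    by_cases j : w ∈ U ⊓ Cm V₀ T
    · exact m.2 w j
    · have i := hyp_mul H2 w1 (inv_mem v1) j fun i => v0 (inv_mem_iff.1 i).2
      have := mul_mem (m.2 _ i) (conj_mem_of_norm (s.ea.norm i.1) q)
      convert this using 1
      group⟩)
  have g : ∀ x ∈ T, x * v * x⁻¹ * v⁻¹ ∈ U ⊓ Cm V₀ T := fun x x1 => (hyp_cm H2 (s.nV (tn x1)) (nD x1)).2 v v1
  refine f _ (mul_mem a1 b1) c0 ?_
  have := hyp_mul H1 (conj_mem_of_norm (nD a1) (g b b1)) (g a a1) (fun i => f b b1 b0 (by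
    simpa [mul_assoc] using conj_mem_of_norm (inv_mem (s.n0 (tn a1))) i)) (f a a1 a0)
  convert this using 1
  group

/-! ### `L₃(2)` -/

abbrev S7 := SL(3, ZMod 2)
def e12 : S7 := ⟨!![1, 1, 0; 0, 1, 0; 0, 0, 1], by decide⟩
def e13 : S7 := ⟨!![1, 0, 1; 0, 1, 0; 0, 0, 1], by decide⟩
def e21 : S7 := ⟨!![1, 0, 0; 1, 1, 0; 0, 0, 1], by decide⟩
def e23 : S7 := ⟨!![1, 0, 0; 0, 1, 1; 0, 0, 1], by decide⟩
def e31 : S7 := ⟨!![1, 0, 0; 0, 1, 0; 1, 0, 1], by decide⟩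
def e32 : S7 := ⟨!![1, 0, 0; 0, 1, 0; 0, 1, 1], by decide⟩

theorem cm_of {x y z : S7} {K : Subgroup S7} (hx : x ∈ K) (hy : y ∈ K) (k : (x * y).1 = (z * y * x).1) :
    z ∈ ⁅K, K⁆ := by
  have := comm_mem hx hy
  have e : x * y = z * y * x := Subtype.ext k
  rwa [e, mul_inv_cancel_right, mul_inv_cancel_right] at this

theorem ns7 {Y : Subgroup S7} (h1 : e12 ∈ Y) (h2 : e23 ∈ Y) (h3 : e31 ∈ Y) : ¬ Sol Y := fun s => by
  let K := zpowers e12 ⊔ zpowers e23 ⊔ zpowers e31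
  have a : e12 ∈ K := mem_sup_left (mem_sup_left (mem_zpowers _))
  have b : e23 ∈ K := mem_sup_left (mem_sup_right (mem_zpowers _))
  have c : e31 ∈ K := mem_sup_right (mem_zpowers _)
  have l := (der_normal K).le
  have a' : e13 ∈ K := l (cm_of a b (by decide))
  have b' : e21 ∈ K := l (cm_of b c (by decide))
  have c' : e32 ∈ K := l (cm_of c a (by decide))
  have := sol_eq_bot_of_le_der (sol_mono s (sup_le (sup_le (zpowers_le' h1) (zpowers_le' h2)) (zpowers_le' h3)))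
    (sup_le (sup_le (zpowers_le' (cm_of a' c' (by decide))) (zpowers_le' (cm_of b' a' (by decide))))
      (zpowers_le' (cm_of c' b' (by decide))))
  have e : e12 = 1 := mem_bot.1 (this.le a)
  exact absurd (congrArg Subtype.val e) (by decide)

/-- three involutions generate -/
theorem gen7 (h : Fr N Q T) (l : L7 N Q) : ∃ a b c, Iv N Q a ∧ Iv N Q b ∧ Iv N Q c ∧
    ∀ X : Subgroup G, a ∈ X → b ∈ X → c ∈ X → N ≤ X := by
  obtain ⟨π, hs, hk⟩ := l
  have f : ∀ x : S7, x.1 ≠ 1 → (x * x).1 = 1 → ∃ a : N, π a = x ∧ Iv N Q a := fun x x0 x1 => by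
    obtain ⟨a, rfl⟩ := hs x
    exact ⟨a, rfl, a.2, fun k => x0 (congrArg Subtype.val ((hk a).2 k)),
      (hk (a * a)).1 (by rw [map_mul]; exact Subtype.ext x1)⟩
  obtain ⟨a, a1, a2⟩ := f e12 (by decide) (by decide)
  obtain ⟨b, b1, b2⟩ := f e23 (by decide) (by decide)
  obtain ⟨c, c1, c2⟩ := f e31 (by decide) (by decide)
  refine ⟨a, b, c, a2, b2, c2, fun X x y z => ?_⟩
  by_contra k
  exact ns7 (a1 ▸ mem_im_of ⟨a.2, x⟩) (b1 ▸ mem_im_of ⟨b.2, y⟩) (c1 ▸ mem_im_of ⟨c.2, z⟩)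
    (sol_im (h.sol (N ⊓ X) (lt_of_le_of_ne inf_le_left fun j => k (inf_eq_left.1 j))) π)

theorem br_card (s : Sec N Q V₀ V) (ha : a ∈ N) (y : Eb V₀ V a 1) : #(cm V a ⊔ V₀) ≤ 2 * #V₀ := by
  have c := s.ea.card_br (s.nV ha) (s.n0 ha)
  have p := Nat.card_pos (α := (V ⊓ Cm V₀ (zpowers a) : Subgroup G))
  unfold Eb at y
  nlinarith

theorem sup_card {m n : ℕ} (s : EA V₀ V) (h1 : V₀ ≤ A) (h2 : V₀ ≤ D) (h3 : A ≤ V) (h4 : D ≤ V) (a : #A ≤ m * #V₀)
    (b : #D ≤ n * #V₀) : #(A ⊔ D) ≤ m * n * #V₀ := by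
  have c := card_sup_mul_inf (h4.trans (s.nsub h1 h3))
  refine Nat.le_of_mul_le_mul_right ?_ (Nat.card_pos (α := V₀))
  calc _ ≤ #(A ⊔ D) * #(A ⊓ D) := Nat.mul_le_mul_left _ (card_le_of_le (le_inf h1 h2))
    _ ≤ (m * #V₀) * (n * #V₀) := c ▸ Nat.mul_le_mul a b
    _ = _ := by ring

theorem le8 (h : Fr N Q T) (s : Sec N Q V₀ V) (l : L7 N Q) (y : ∀ b, Iv N Q b → Eb V₀ V b 1) :
    #(⁅V, N⁆ ⊔ V₀) ≤ 8 * #V₀ := by
  obtain ⟨a, b, c, ia, ib, ic, k⟩ := gen7 h l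
  have t : ∀ x ∈ N, cm V x ⊔ V₀ ≤ V := fun x p => s.ea.br_le (zpowers_le' (s.nV p))
  have w : cm V a ⊔ V₀ ⊔ (cm V b ⊔ V₀) ⊔ (cm V c ⊔ V₀) ≤ V := sup_le (sup_le (t a ia.1) (t b ib.1)) (t c ic.1)
  have n := sup_card s.ea (le_sup_of_le_left le_sup_right) le_sup_right (sup_le (t a ia.1) (t b ib.1)) (t c ic.1)
    (sup_card s.ea le_sup_right le_sup_right (t a ia.1) (t b ib.1) (br_card s ia.1 (y a ia)) (br_card s ib.1 (y b ib)))
    (br_card s ic.1 (y c ic))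
  generalize hW : cm V a ⊔ V₀ ⊔ (cm V b ⊔ V₀) ⊔ (cm V c ⊔ V₀) = W at w n
  have m : ∀ x, cm V x ≤ W → x ∈ Cm W V := fun x p =>
    le_Cm' (norms_of_commg_le ((commutator_mono w le_rfl).trans p)) p (mem_zpowers x)
  exact (card_le_of_le (sup_le (commg_of_Cm' (k _ (m a (hW ▸ le_sup_of_le_left (le_sup_of_le_left le_sup_left)))
    (m b (hW ▸ le_sup_of_le_left (le_sup_of_le_right le_sup_left))) (m c (hW ▸ le_sup_of_le_right le_sup_left))))
    (hW ▸ le_sup_of_le_right le_sup_right))).trans n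

theorem be_big (h : Fr N Q T) (B : Be N Q T E) : Q ≤ E ∧ E ≤ T ∧ 8 * #Q ≤ #E := by
  obtain ⟨p, -, p3, c, -⟩ := B.dim
  exact ⟨fun x q => (B.mem x).2 ⟨qt h q, mul_mem q q⟩, fun x q => ((B.mem x).1 q).1,
    c ▸ Nat.mul_le_mul_right _ (Nat.pow_le_pow_right (n := 2) (by decide) p3)⟩

/-- transvections -/
theorem mb1 (ty : Ty.{u}) (mbk : MBK.{u}) (mbd : MBD.{u}) (mbs : MBS.{u}) : MB1.{u} := by
  intro G _ _ N Q T V₀ V a h s ha a0 y
  have i : Iv N Q a := ⟨ha, a0, sq_mem h s ha y⟩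
  obtain ⟨one, t⟩ := ty h
  have al : ∀ b, Iv N Q b → Eb V₀ V b 1 := fun b j => by
    obtain ⟨g, hg, k⟩ := one a b i j
    exact eb_tr h s ha j.1 hg k y
  have p := Nat.card_pos (α := Q)
  have tn := h.syl.le
  rcases t with ⟨E, B⟩ | t | ⟨n, t⟩ | t
  · exfalso
    obtain ⟨qe, et, c⟩ := be_big h B
    obtain ⟨x, x1, z, z1, x0, z0, xz⟩ := pair (h.nq.norms (et.trans tn)) (by rw [inf_eq_right.2 qe]; omega)
    have ix : Iv T Q x := ⟨et x1, x0, ((B.mem x).1 x1).2⟩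
    have iz : Iv T Q z := ⟨et z1, z0, ((B.mem z).1 z1).2⟩
    have jx : Iv N Q x := ⟨tn ix.1, ix.2⟩
    have jz : Iv N Q z := ⟨tn iz.1, iz.2⟩
    obtain ⟨g, hg, k⟩ := out h jx.1 x0
    have jg := ivJ h jx hg
    have := be_lb h s B (inf_le_left.trans (inf_le_left.trans inf_le_left)) (B.gen _ _ _ _ ix iz xz jg k
      (cm_sym s (zpowers_le' jx.1) (inf_le_left.trans inf_le_left) (mem_zpowers _))
      (cm_sym s (zpowers_le' jz.1) (inf_le_left.trans inf_le_right) (mem_zpowers _))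
      (cm_sym s (zpowers_le' jg.1) inf_le_right (mem_zpowers _)))
      (idx_inf (inf_le_left.trans inf_le_left) inf_le_left (idx_inf inf_le_left inf_le_left (al _ jx) (al _ jz)) (al _ jg))
    have := card_le_of_le et
    nlinarith
  · exact absurd y (mbk h t s i).1
  · have l := mbd h t s i (.inl (eb_mono y (by decide)))
    have s' := sec_bot h s
    refine ⟨l, s', ?_⟩
    have u := le8 h s l al
    have c : 8 * #Q ≤ #T :=
      t.card ▸ Nat.mul_le_mul_right _ (Nat.pow_le_pow_right (n := 2) (by decide) (Nat.succ_le_succ t.two))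
    have v := sec8 h s' (by omega)
    obtain ⟨r, hr⟩ := card_dvd_of_le s'.ea.le
    obtain ⟨m, hm⟩ := s'.ea.pgV.exists_card
    obtain ⟨j, -, rfl⟩ := (Nat.dvd_prime_pow Nat.prime_two).1 (hm ▸ Dvd.intro_left _ hr.symm : r ∣ 2 ^ m)
    have p' := Nat.card_pos (α := V₀)
    rw [hr] at u v ⊢
    have j1 : 2 ^ j ≤ 2 ^ 3 := by nlinarith
    have j2 : 2 ^ 2 < 2 ^ j := by nlinarith
    rw [Nat.pow_le_pow_iff_right (by decide)] at j1
    rw [Nat.pow_lt_pow_iff_right (by decide)] at j2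
    rw [show j = 3 by omega]; ring
  · exact absurd (eb_mono y (by decide)) (mbs h t s i)

/-! ### offenders -/

theorem card9 (h : Fr N Q T) (l : L9 N Q) : #T ≤ 16 * #Q := by
  obtain ⟨π, hs, hk⟩ := l
  have c : Nat.card SL(3, ZMod 3) = 5616 := by
    have h := H11.card_units_mul_card_sl (ι := Fin 3) (F := ZMod 3)
    rw [Matrix.card_GL_field, Fin.prod_univ_three] at h
    simp only [ZMod.card, Fin.val_zero, Fin.val_one, Fin.val_two] at h
    omega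
  have k : π.ker = Q.subgroupOf N := by ext x; exact hk x
  have r : Q.relIndex N = 5616 := by
    rw [relIndex, ← k, index_ker, MonoidHom.range_eq_top.2 hs, card_top, c]
  have d : Q.relIndex T ∣ 5616 := r ▸ Dvd.intro _ (relIndex_mul_relIndex Q T N (qt h) h.syl.le)
  have e := card_inf_mul_relIndex Q T
  rw [inf_eq_left.2 (qt h)] at e
  obtain ⟨m, hm⟩ := h.syl.pi.exists_card
  obtain ⟨j, -, hj⟩ := (Nat.dvd_prime_pow Nat.prime_two).1 (hm ▸ Dvd.intro_left _ e : Q.relIndex T ∣ 2 ^ m)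
  rw [hj] at d e
  have : j ≤ 4 := by
    by_contra! q
    exact absurd ((pow_dvd_pow 2 q).trans d) (by decide)
  rw [← e, mul_comm]
  exact Nat.mul_le_mul_right _ (Nat.pow_le_pow_right (n := 2) (by decide) this)

theorem di4 {n : ℕ} (h : Fr N Q T) (t : Di N Q T n) (a : Abelem 2 A) (l : A ≤ T) : #A ≤ 4 * #(A ⊓ Q) := by
  obtain ⟨x, y, ix, iy, e, -⟩ := t.ex
  have nT := h.nq.norms h.syl.le
  have xy := mul_mem ix.1 iy.1
  have cT : Q ⊔ zpowers (x * y) ≤ T := sup_le (qt h) (zpowers_le' xy)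
  have m : x * y ∈ Q ⊔ zpowers (x * y) := mem_sup_right (mem_zpowers _)
  have xn : x ∈ N(Q ⊔ zpowers (x * y)) := norm_sup_zp ((cj_of_mem_norm (nT ix.1)).le.trans le_sup_left) (by
    have := mul_mem (mem_sup_left (mul_mem ix.2.2 iy.2.2) : _ ∈ Q ⊔ zpowers (x * y)) (inv_mem m)
    convert this using 1
    group)
  have c1 : #T ≤ 2 * #(Q ⊔ zpowers (x * y)) := by
    refine (card_le_of_le ?_).trans ((card_sup_le xn (mem_sup_left ix.2.2)).trans (mul_comm _ _).le)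
    rw [e]
    refine sup_le (sup_le (le_sup_of_le_left le_sup_left) le_sup_right) (zpowers_le' ?_)
    simpa using mul_mem (inv_mem (mem_sup_right (mem_zpowers x) : x ∈ Q ⊔ zpowers (x * y) ⊔ zpowers x)) (mem_sup_left m)
  have c2 := card_inf l cT
  generalize hC : Q ⊔ zpowers (x * y) = C at c1 c2 cT
  have n : A ⊓ C ≤ N(Q) := inf_le_right.trans (cT.trans nT)
  have cy : Cyc (quo Q (A ⊓ C)) := cyc_mono (cyc_zpowers (qm Q (x * y))) (by
    rw [← quo_zp (nT xy), ← quo_sup_left (zpowers_le' (nT xy)), hC]; exact quo_mono _ inf_le_right)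
  have ae : Abelem 2 (quo Q (A ⊓ C)) := abelem_mono (abelem_quo a Q) (quo_mono _ inf_le_left)
  obtain ⟨ξ, hξ⟩ := cyc_iff.1 cy
  have c3 : Q.relIndex (A ⊓ C) ≤ 2 := by
    rw [← card_quo n, ← hξ, Nat.card_zpowers]
    exact orderOf_le_of_pow_eq_one (by decide) (ae.2 ξ (hξ ▸ mem_zpowers ξ))
  have c4 := card_inf_mul_relIndex Q (A ⊓ C)
  have c5 : #(Q ⊓ (A ⊓ C)) ≤ #(A ⊓ Q) := card_le_of_le (le_inf (inf_le_right.trans inf_le_left) inf_le_left)
  have p := Nat.card_pos (α := C)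
  have c6 : #A ≤ 2 * #(A ⊓ C) := by nlinarith
  nlinarith

/-- offenders -/
theorem nf (ty : Ty.{u}) (f1 : F1.{u}) (mb : MB1.{u}) (mbk : MBK.{u}) (mbd : MBD.{u}) (mbs : MBS.{u}) : NF.{u} := by
  intro G _ _ N Q T' V₀ V A h' q0 s a l a0 y
  obtain ⟨g, hg, aT⟩ := h'.syl.sle_cj l (ab_pg a)
  have h := frJ h' hg
  generalize cj g T' = T at aT h
  clear h' hg g T'
  obtain ⟨x, x1, x0⟩ := SetLike.not_le_iff_exists.1 a0
  have sq : ∀ z ∈ A, z * z ∈ Q := fun z p => by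
    rw [← pow_two, a.2 z p]; exact one_mem _
  have i : Iv N Q x := ⟨l x1, x0, sq x x1⟩
  obtain ⟨m, hm⟩ := card_dvd_of_le (inf_le_left : A ⊓ Q ≤ A)
  have p := Nat.card_pos (α := Q)
  have p' := Nat.card_pos (α := (A ⊓ Q : Subgroup G))
  have ym : #V ≤ m * #(V ⊓ Cm V₀ A) := by rw [hm] at y; nlinarith
  have eb : ∀ e, m ≤ 2 ^ e → Eb V₀ V x e := fun e k => ym.trans (Nat.mul_le_mul k
    (card_le_of_le (inf_le_inf_left _ (Cm_anti (zpowers_le' x1)))))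
  have c : #(Q ⊔ A) = m * #Q := by
    have := card_sup_mul_inf (l.trans h.nq.norm)
    rw [inf_comm, hm] at this
    exact Nat.eq_of_mul_eq_mul_right p' (by rw [this]; ring)
  have le : Q ⊔ A ≤ T := sup_le (qt h) aT
  have ne : ¬ #T ≤ m * #Q := fun k =>
    f1 h q0 a aT ((eq_of_le_of_card_ge le (c ▸ k)).ge.trans (sup_comm _ _).le)
  have hf : 2 * (m * #Q) ≤ #T := by
    obtain ⟨r, hr⟩ := card_dvd_of_le le
    have pT := Nat.card_pos (α := T)
    rw [c] at hr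
    have r0 : r ≠ 0 := fun q => by rw [q] at hr; omega
    have r1 : r ≠ 1 := fun q => ne (by rw [hr, q, mul_one])
    rw [hr, mul_comm]
    exact Nat.mul_le_mul_left _ (by omega)
  by_cases m2 : m ≤ 2
  · exact (mb h s i.1 x0 (eb 1 m2)).1
  obtain ⟨-, t⟩ := ty h
  rcases t with ⟨E, B⟩ | t | ⟨n, t⟩ | t
  · exfalso
    obtain ⟨z, z1, w, w1, z0, w0, zw⟩ := pair (l.trans h.nq.norm) (by rw [hm]; nlinarith)
    obtain ⟨g, hg, k⟩ := out h (l z1) z0
    have lg : cj g A ≤ N := cj_le_of_mem_norm (le_normalizer hg) l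
    have := be_lb h s B (inf_le_left.trans inf_le_left) (B.gen _ _ _ _ ⟨aT z1, z0, sq z z1⟩ ⟨aT w1, w0, sq w w1⟩ zw
      (ivJ h ⟨l z1, z0, sq z z1⟩ hg) k (cm_sym s l inf_le_left z1) (cm_sym s l inf_le_left w1)
      (cm_sym s lg inf_le_right (conj_mem_cj.2 z1)))
      (idx_inf inf_le_left inf_le_left ym (by rwa [← cjC s hg, card_cj]))
    exact ne (by nlinarith)
  · have := t.card
    exact absurd (by nlinarith) m2
  · have := di4 h t a aT
    exact mbd h t s i (.inl (eb 3 (by rw [hm] at this; nlinarith)))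
  · have := card9 h t
    exact absurd (eb 3 (by nlinarith)) (mbs h t s i)

end H3.MS
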