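import Cfsg.Agent.H28.Comm
import Cfsg.Agent.H3.Transfer

/-! A parity form of the transfer for 2-elements. -/

set_option autoImplicit false

namespace H3.HT

open Cfsg Subgroup MulAction

variable {G : Type*} [Group G] [Finite G] {S : Subgroup G} {ϕ : S →* ℤˣ} {x g c : G}

/-- `g⁻¹ x g` lies in `S` and is not killed by `ϕ` -/
def W (ϕ : S →* ℤˣ) (x g : G) : Prop := ∃ h : g⁻¹ * x * g ∈ S, ϕ ⟨_, h⟩ ≠ 1

omit [Finite G] in
theorem W.mr (h : W ϕ x g) (s : S) : W ϕ x (g * s) := by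
  obtain ⟨h, e⟩ := h
  refine ⟨by simpa [mul_assoc] using mul_mem (mul_mem (inv_mem s.2) h) s.2, fun e' => e ?_⟩
  have : ϕ (s⁻¹ * ⟨_, h⟩ * s) = 1 := by
    rw [← e']; congr 1; ext; simp [mul_assoc]
  rwa [map_mul, map_mul, mul_right_comm, ← map_mul, inv_mul_cancel, map_one, one_mul] at this

omit [Finite G] in
theorem W.ml (h : W ϕ x g) (hc : c * x = x * c) : W ϕ x (c * g) := by
  obtain ⟨h, e⟩ := h
  have : (c * g)⁻¹ * x * (c * g) = g⁻¹ * x * g := by
    calc _ = g⁻¹ * c⁻¹ * (x * c) * g := by group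
      _ = _ := by rw [← hc]; group
  exact ⟨this ▸ h, by convert e⟩

omit [Finite G] in
theorem W_out : W ϕ x (g : G ⧸ S).out ↔ W ϕ x g := by
  obtain ⟨s, hs⟩ := QuotientGroup.mk_out_eq_mul S g
  rw [hs]
  exact ⟨fun h => by simpa using h.mr s⁻¹, fun h => h.mr s⟩

omit [Finite G] in
theorem fx (x : G) (q : G ⧸ S) : x • q = q ↔ q.out⁻¹ * x * q.out ∈ S := by
  conv_lhs => rw [← q.out_eq, eq_comm]
  rw [mul_assoc]; exact QuotientGroup.eq

omit [Finite G] in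
theorem smul_eq (c : G) (q : G ⧸ S) : c • q = ((c * q.out : G) : G ⧸ S) := by
  conv_lhs => rw [← q.out_eq]
  rfl

/-- **Transfer parity**: the number of cosets fixed by `x` with nontrivial value is even. -/
theorem tv {n : ℕ} (hx : x ^ 2 ^ n = 1) (hV : MonoidHom.transfer ϕ x = 1)
    (hj : ∀ j, 0 < j → ∀ g, ¬ W ϕ (x ^ 2 ^ j) g) : Even {q : G ⧸ S | W ϕ x q.out}.ncard := by
  classical
  have : Fintype (Quotient (orbitRel (zpowers x) (G ⧸ S))) := Fintype.ofFinite _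
  rw [MonoidHom.transfer_eq_prod_quotient_orbitRel_zpowers_quot,
    Finset.prod_congr rfl (g := fun q => if W ϕ x q.out.out then -1 else 1), Finset.prod_ite,
    Finset.prod_const, Finset.prod_const_one, mul_one] at hV
  · have e : (Finset.univ.filter fun q : Quotient (orbitRel (zpowers x) (G ⧸ S)) => W ϕ x q.out.out).card =
        {q : G ⧸ S | W ϕ x q.out}.ncard := by
      rw [← Fintype.card_subtype, ← Nat.card_eq_fintype_card, ← Nat.card_coe_set_eq]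
      refine Nat.card_congr ⟨fun q => ⟨q.1.out, q.2⟩, fun q => ⟨Quotient.mk _ q.1, ?_⟩,
        fun q => Subtype.ext q.1.out_eq, fun q => Subtype.ext ?_⟩
      all_goals
        have h1 : (Quotient.mk (orbitRel (zpowers x) (G ⧸ S)) q.1).out = q.1 := by
          obtain ⟨c, hc⟩ := orbitRel_apply.1 (Quotient.mk_out (s := orbitRel (zpowers x) (G ⧸ S)) q.1)
          rw [← hc]
          exact (zpowers_le (H := stabilizer G q.1)).2 ((fx x q.1).2 q.2.1) c.2
      · rw [h1]; exact q.2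
      · exact h1
    rw [e] at hV
    by_contra h
    rw [(Nat.not_even_iff_odd.1 h).neg_one_pow] at hV
    exact absurd hV (by decide)
  · intro q _
    have hd : Function.minimalPeriod (x • ·) q.out ∣ 2 ^ n := by
      refine Function.IsPeriodicPt.minimalPeriod_dvd ?_
      change (x • ·)^[2 ^ n] q.out = q.out
      rw [smul_iterate, hx]; exact one_smul _ _
    obtain ⟨j, -, h⟩ := (Nat.dvd_prime_pow Nat.prime_two).1 hd
    rcases j.eq_zero_or_pos with rfl | hp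
    · have h1 := (fx x q.out).1 (Function.minimalPeriod_eq_one_iff_isFixedPt.1 h)
      have h2 : ∀ h', ϕ ⟨q.out.out⁻¹ * x ^ Function.minimalPeriod (x • ·) q.out * q.out.out, h'⟩ =
          ϕ ⟨_, h1⟩ := fun _ => by congr 2; rw [h, pow_zero, pow_one]
      rw [h2]
      split_ifs with h3
      · exact (Int.units_eq_one_or _).resolve_left h3.2
      · by_contra h4; exact h3 ⟨h1, h4⟩
    · rw [if_neg]
      · by_contra h4
        refine hj j hp q.out.out ?_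
        rw [← h]
        exact ⟨_, h4⟩
      · intro h3
        have := Function.minimalPeriod_eq_one_iff_isFixedPt.2
          (show Function.IsFixedPt (x • ·) q.out from (fx x q.out).2 h3.1)
        rw [this] at h
        exact absurd (Nat.one_lt_two_pow hp.ne') (by omega)

omit [Finite G] in
/-- an invariant set of a 2-group and its fixed points have the same parity -/
theorem par_fix {α : Type*} [Finite α] [MulAction G α] {C : Subgroup G} (hC : IsPGroup 2 C) {Y : Set α}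
    (hY : ∀ c ∈ C, ∀ q ∈ Y, c • q ∈ Y) : Even Y.ncard ↔ Even {q | q ∈ Y ∧ ∀ c ∈ C, c • q = q}.ncard := by
  let Y' : SubMulAction C α := ⟨Y, fun c q hq => hY c c.2 q hq⟩
  have h1 := hC.card_modEq_card_fixedPoints Y'
  have h3 : Nat.card (fixedPoints C Y') = {q | q ∈ Y ∧ ∀ c ∈ C, c • q = q}.ncard := by
    rw [← Nat.card_coe_set_eq]
    exact Nat.card_congr ⟨fun q => ⟨q.1.1, q.1.2, fun c h => congrArg Subtype.val (q.2 ⟨c, h⟩)⟩,
      fun q => ⟨⟨q.1, q.2.1⟩, fun c => Subtype.ext (q.2.2 c c.2)⟩, fun _ => rfl, fun _ => rfl⟩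
  rw [Nat.even_iff, Nat.even_iff, ← h3, ← h1, ← Nat.card_coe_set_eq]; rfl

/-- extremal form -/
theorem tvx0 (hS : Odd S.index) {n : ℕ} (hx : x ^ 2 ^ n = 1) (hV : MonoidHom.transfer ϕ x = 1)
    (hj : ∀ j, 0 < j → ∀ g, ¬ W ϕ (x ^ 2 ^ j) g) {C : Subgroup G} (hC : IsPGroup 2 C)
    (hCx : ∀ c ∈ C, c * x = x * c) (hxC : x ∈ C) :
    ∃ g : G, (∀ c ∈ C, g * c * g⁻¹ ∈ S) ∧ ∃ h : g * x * g⁻¹ ∈ S, ϕ ⟨_, h⟩ = 1 := by
  by_contra! H
  have h1 := (par_fix hC (Y := {q : G ⧸ S | W ϕ x q.out}) fun c hc q hq => by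
    change W _ _ _
    rw [smul_eq, W_out]; exact W.ml hq (hCx c hc)).1 (tv hx hV hj)
  have h2 := (par_fix hC (Y := (Set.univ : Set (G ⧸ S))) fun _ _ _ _ => trivial).2 (by
    convert h1 using 4 with q
    refine ⟨fun h => ⟨⟨(fx x q).1 (h.2 x hxC), ?_⟩, h.2⟩, fun h => ⟨trivial, h.2⟩⟩
    simpa using H q.out⁻¹ (fun c hc => by rw [inv_inv]; exact (fx c q).1 (h.2 c hc))
      (by rw [inv_inv]; exact (fx x q).1 (h.2 x hxC)))
  rw [Set.ncard_univ] at h2
  exact Nat.not_even_iff_odd.2 hS h2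

/-- extremal form, for subgroups of an ambient group: `χ` is multiplicative on `S` -/
theorem tvx {H : Subgroup G} (hS : Odd (S.relIndex H)) (χ : G → ℤˣ)
    (hχ : ∀ a ∈ S, a ∈ H → ∀ b ∈ S, b ∈ H → χ (a * b) = χ a * χ b) {n : ℕ} (hx : x ^ 2 ^ n = 1)
    (hV : ∀ (ψ : H →* ℤˣ) (h : x ∈ H), ψ ⟨x, h⟩ = 1)
    (hj : ∀ j, 0 < j → ∀ g ∈ H, g * x ^ 2 ^ j * g⁻¹ ∈ S → χ (g * x ^ 2 ^ j * g⁻¹) = 1)
    {C : Subgroup G} (hC : IsPGroup 2 C) (hCH : C ≤ H) (hCx : ∀ c ∈ C, c * x = x * c) (hxC : x ∈ C) :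
    ∃ g ∈ H, (∀ c ∈ C, g * c * g⁻¹ ∈ S) ∧ χ (g * x * g⁻¹) = 1 := by
  let ϕ : S.subgroupOf H →* ℤˣ := MonoidHom.mk' (fun a => χ a.1.1) fun a b => hχ _ a.2 a.1.2 _ b.2 b.1.2
  obtain ⟨g, h1, h2, h3⟩ := tvx0 (G := H) (ϕ := ϕ) (x := ⟨x, hCH hxC⟩) (n := n) hS (Subtype.ext hx) (hV _ _)
    (fun j hp g ⟨h, e⟩ => e (by
      have := hj j hp g⁻¹ (inv_mem g.2) (by rw [inv_inv]; exact h)
      rw [inv_inv] at this
      exact this))
    (C := C.subgroupOf H) (hC.comap_of_injective _ H.subtype_injective)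
    (fun c hc => Subtype.ext (hCx c hc)) hxC
  exact ⟨g, g.2, fun c hc => h1 ⟨c, hCH hc⟩ hc, h3⟩

end H3.HT
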