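import Cfsg.Agent.H27.MS2
import Cfsg.Agent.H3.MS1

/-! S5899: the tall case with a Bender type centralizer, the configuration `Tz`. -/

set_option autoImplicit false
set_option linter.unusedVariables false
set_option linter.unusedSectionVars false

namespace H3.MS
open Cfsg Subgroup H18 H17.GS H28.S H2.GW
open H19 hiding eq_bot_mono
open H28.NG hiding Hyp Uniq Ch
open H29.PU (bm bm_le nrm_bm)
open H27.MS

universe u
variable {G : Type u} [Group G] [Finite G] {N Q T S Y B E W Z : Subgroup G} {a b c g : G}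

theorem cen3 (h : Fr N Q T) (z : Z ≤ C(N)) (k : N ≤ Cm Z B) : B ≤ C(N) := by
  have a : ⁅⁅N, B⁆, N⁆ = ⊥ := commutator_eq_bot_iff_le_centralizer.2 ((commg_of_Cm k).trans z)
  have b := three_subgroup (H := N) (K := N) (L := B) a (by rwa [commg_comm B])
  rw [← le_antisymm (perf h) (der_normal N).le] at b
  exact cents_symm (commutator_eq_bot_iff_le_centralizer.1 b)

theorem big8 (h : Fr N Q T) (B : Be N Q T E) (a : Abelem 2 Y) (l : Y ≤ T) (n : N(T) ≤ N(Y)) (y0 : ¬ Y ≤ Q) :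
    8 * #(Y ⊓ Q) ≤ #Y := by
  obtain ⟨y, y1, y0⟩ := SetLike.not_le_iff_exists.1 y0
  obtain ⟨-, et, c⟩ := be_big h B
  have e : E ≤ Q ⊔ Y := fun x p => by
    by_cases q : x ∈ Q
    · exact mem_sup_left q
    obtain ⟨r, r1, r2⟩ := B.tr y x ⟨l y1, y0, by rw [← pow_two, a.2 y y1]; exact one_mem _⟩
      ⟨et p, q, ((B.mem x).1 p).2⟩
    simpa [mul_assoc] using mul_mem (inv_mem (mem_sup_left r2 : _ ∈ Q ⊔ Y)) (mem_sup_right (conj_mem_of_norm (n r1.2) y1))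
  have d := card_sup_mul_inf (l.trans (h.nq.norms h.syl.le))
  have := card_le_of_le e
  have p := Nat.card_pos (α := Q)
  rw [inf_comm]
  nlinarith

theorem gen0 (h : Fr N Q T) (B : Be N Q T E) (a : Abelem 2 Y) (l : Y ≤ T) (n : N(T) ≤ N(Y)) (y0 : ¬ Y ≤ Q)
    (w : Y ≤ W) (c1 : c ∈ W) (i : Iv N Q c) (c0 : c ∉ T) : N ≤ W := by
  have tn := h.syl.le
  have := big8 h B a l n y0
  have p := Nat.card_pos (α := (Y ⊓ Q : Subgroup G))
  obtain ⟨x, x1, y, y1, x0, y0, xy⟩ := pair (l.trans (h.nq.norms tn)) (by omega)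
  have sq : ∀ z ∈ Y, z * z ∈ Q := fun z p => by rw [← pow_two, a.2 z p]; exact one_mem _
  exact (full h inf_le_left (B.gen _ _ _ _ ⟨l x1, x0, sq x x1⟩ ⟨l y1, y0, sq y y1⟩ xy i c0 ⟨tn (l x1), w x1⟩
    ⟨tn (l y1), w y1⟩ ⟨i.1, c1⟩)).ge.trans inf_le_right

theorem tz0 : TZ0.{u} := by
  intro G _ _ S Y Q E t B
  have f := t.lc.toFr
  have sc := f.syl.le
  have qs := qt f
  have yS : Y ≤ S := t.YB.trans bm_le
  have nY : N(S) ≤ N(Y) := (nrm_bm le_rfl).trans t.NB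
  have zz : Zs S ≤ Z(S) := Ohm1_le _ _
  have zY : Zs S ≤ Y := le_Kc.trans t.eY.ge
  have zQ : Zs S ≤ Q := (zz.trans (inf_le_right.trans (cent_mono qs))).trans t.lc.chr
  have zC : Zs S ≤ C(C(Zs S)) := cents_symm le_rfl
  have cZ : C(Zs S) ≤ N(Zs S) := norms_of_cents le_rfl
  have ns : N(S) ≤ C(Zs S) := (norm_le_norm_Ohm1_center 2 S).trans (t.lc.nrm _
    (f.syl.pi.Ohm1_center_ne_bot fun k => t.lc.q0 (eq_bot_iff.2 (qs.trans k.le))) ⟨zQ.trans f.nq.le, cZ⟩).le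
  have ab := t.ab
  have nq := t.nq
  have zm : ∀ w ∈ S, w ^ 2 = 1 → w ∈ C(C(Zs S)) → w ∈ Zs S := fun w p q r => H19.mem_Ohm1 ⟨p, cent_mono sc r⟩ q
  have chr := t.lc.chr
  obtain ⟨y₀, y1, y0⟩ := SetLike.not_le_iff_exists.1 nq
  obtain ⟨g, hg, g0⟩ := out f (sc (yS y1)) y0
  have iv : ∀ y ∈ Y, y ∉ Q → Iv S Q y := fun y p q => ⟨yS p, q, by rw [← pow_two, ab.2 y p]; exact one_mem _⟩
  have iv' : ∀ y ∈ Y, y ∉ Q → Iv C(Zs S) Q y := fun y p q => ⟨sc (yS p), (iv y p q).2⟩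
  have gn : g ∉ N(S) := fun k => g0 (conj_mem_of_norm k (yS y1))
  have gQ : cj g Q = Q := f.nq.cj_eq hg
  have g1 : ∀ x ∈ cj g Y, x ∉ Q → ∀ W, Y ≤ W → x ∈ W → C(Zs S) ≤ W := fun x p q W w r => by
    have e : x = g * (g⁻¹ * x * g) * g⁻¹ := by group
    have q' : g⁻¹ * x * g ∉ Q := fun k => q (e ▸ f.nq.conj_mem hg k)
    exact gen0 f B ab yS nY nq w r (e ▸ ivJ f (iv' _ (mem_cj.1 p) q') hg) fun k =>
      gn (B.se g hg _ (iv _ (mem_cj.1 p) q') (le_normalizer (e ▸ k)))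
  have g2 : ∀ y ∈ Y, y ∉ Q → ∀ W, cj g Y ≤ W → y ∈ W → C(Zs S) ≤ W := fun y p q W w r => by
    have := gen0 (W := cj g⁻¹ W) f B ab yS nY nq (cj_le_iff.1 w) (conj_mem_cj.2 r) (ivJ f (iv' y p q) (inv_mem hg))
      fun k => gn (inv_mem_iff.1 (B.se _ (inv_mem hg) _ (iv y p q) (le_normalizer k)))
    rw [← cj_of_mem_norm (le_normalizer hg)]
    exact cj_le_iff.2 this
  have ax : Abelem 2 (cj g Y) := abelem_J ab g
  have xC : cj g Y ≤ C(Zs S) := cj_le_of_mem_norm (le_normalizer hg) (yS.trans sc)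
  have qY : Q ≤ N(Y) := qs.trans (le_normalizer.trans nY)
  have qX : Q ≤ N(cj g Y) := by rw [← gQ, ← cj_norm]; exact cj_mono g qY
  have zX : Zs S ≤ cj g Y := (cj_of_mem_norm (cZ hg)).ge.trans (cj_mono g zY)
  have eD : cj g (Y ⊓ Q) = cj g Y ⊓ Q := by rw [cj_inf, gQ]
  have c8 := big8 f B ab yS nY nq
  have c8' : 8 * #(cj g Y ⊓ Q) ≤ #(cj g Y) := by rwa [← eD, card_cj, card_cj]
  have cd : #(Y ⊓ Q) = #(cj g Y ⊓ Q) := by rw [← eD, card_cj]
  have x1 : g * y₀ * g⁻¹ ∈ cj g Y := conj_mem_cj.2 y1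
  have x0 := (ivJ f (iv' _ y1 y0) hg).2.1
  generalize cj g Y = X at *
  have yC := yS.trans sc
  have k1 : ⁅Y, Q⁆ ≤ Y ⊓ Q := le_inf (commg_le_left qY) (commg_le_right (f.nq.norms yC))
  have k2 : ⁅X, Q⁆ ≤ X ⊓ Q := le_inf (commg_le_left qX) (commg_le_right (f.nq.norms xC))
  have yx : Y ⊓ X ≤ Zs S := fun w p => zm w (yS p.1) (ab.2 w p.1) (le_cent1_iff.1 (g1 _ x1 x0 _
    (le_cent1_iff.2 (ab_cent ab p.1)) (le_cent1_iff.2 (ab_cent ax p.2) x1)))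
  have n1 : ∀ b ∈ X ⊓ Q, b ∉ Zs S → Y ⊓ Cm (Zs S) (zpowers b) ≤ Y ⊓ Q := fun b p b0 y q => ⟨q.1, by
    by_contra r
    exact b0 (zm b (qs p.2) (ax.2 b p.1) (cen3 f zC (g2 y q.1 r _ (Cm_of_cent (xC.trans cZ)
      (cents_symm (zpowers_le' (ab_cent ax p.1)))) q.2) (mem_zpowers b)))⟩
  have n2 : ∀ a ∈ Y ⊓ Q, a ∉ Zs S → X ⊓ Cm (Zs S) (zpowers a) ≤ X ⊓ Q := fun a p a0 x q => ⟨q.1, by
    by_contra r
    exact a0 (zm a (qs p.2) (ab.2 a p.1) (cen3 f zC (g1 x q.1 r _ (Cm_of_cent (yC.trans cZ)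
      (cents_symm (zpowers_le' (ab_cent ab p.1)))) q.2) (mem_zpowers a)))⟩
  have zA := le_inf zY zQ
  have zD := le_inf zX zQ
  have d0 : ¬ X ⊓ Q ≤ Zs S := fun k => by
    have k' : Y ⊓ Q ≤ Zs S := (eq_of_le_of_card_ge zA (cd ▸ card_le_of_le k)).ge
    exact f.ns (sol_mono f.pg.sol ((cents_symm (cen3 f zC (g1 _ x1 x0 _ (le_Cm (yC.trans cZ) (k1.trans k'))
      (le_Cm (xC.trans cZ) (k2.trans k) x1)))).trans chr))
  have pA := Nat.card_pos (α := (Y ⊓ Q : Subgroup G))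
  refine ⟨Y ⊓ Q, X ⊓ Q, lt_of_le_of_ne inf_le_left fun k => nq (inf_eq_left.1 k), abelem_mono ax inf_le_left,
    inf_le_right.trans qs, zA, zD, (commutator_mono le_rfl inf_le_right).trans k1,
    (le_inf ((commutator_mono inf_le_left inf_le_right).trans (commg_le_left qY))
      ((commutator_mono inf_le_right inf_le_left).trans (commg_le_right qX))).trans yx,
    fun y p q b r b0 k => q (n1 b r b0 ⟨p, (mem_Cm1 (cZ (f.nq.le r.2))).2 ⟨cZ (yC p), k⟩⟩), cd, ?_, ?_, ns⟩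
  · obtain ⟨b, b1, b0⟩ := SetLike.not_le_iff_exists.1 d0
    have c := (ea_of ab zY).card_br (qY b1.2) (cZ (f.nq.le b1.2))
    have := Nat.mul_le_mul (card_le_of_le (n1 b b1 b0))
      (card_le_of_le (sup_le ((commutator_mono le_rfl (zpowers_le' b1.2)).trans k1) zA))
    nlinarith
  · refine (em _).imp_right fun k => ?_
    obtain ⟨a, ⟨a1, a2⟩, a0⟩ := SetLike.not_le_iff_exists.1 k
    have c := (ea_of ax zX).card_br (qX a1.2) (cZ (f.nq.le a1.2))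
    have nx : X ≤ N(C(Y ⊓ Q ⊔ X ⊓ Q)) := norms_cent (norms_of_commg_le'
      (((commutator_mono le_rfl (sup_le inf_le_right inf_le_right)).trans k2).trans le_sup_right))
    have ac : a ∈ C(Y ⊓ Q ⊔ X ⊓ Q) := (cent_sup _ _).ge ⟨cent_mono inf_le_left (ab_cent ab a1.1), a2⟩
    have := Nat.mul_le_mul (card_le_of_le (n2 a a1 a0)) (card_le_of_le (sup_le (le_inf
      ((commutator_mono le_rfl (zpowers_le' a1.2)).trans k2) (((commutator_mono le_rfl (zpowers_le' ac)).trans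
        (commg_le_right nx)).trans (cent_mono le_sup_left))) (le_inf zD (cents_symm (inf_le_left.trans yC)))))
    nlinarith

end H3.MS
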