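import Cfsg.Agent.H12.MS0

/-! S5899: the main configuration with `N(Y)` insoluble. -/

set_option autoImplicit false
set_option linter.unusedVariables false
set_option linter.unusedSectionVars false

namespace H3.MS
open Cfsg Subgroup H18 H17.GS H28.S H2.GW
open H19 hiding eq_bot_mono
open H28.NG hiding Hyp Uniq Ch
open H29.PU (bm bm_le nrm_bm)
open H27.MS H12.MS

universe u

theorem gi (lc : LC.{u}) (cm : CM.{u}) (nt : NT.{u}) (no : NO.{u}) : GI.{u} := by
  intro G _ _ S Y h ns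
  obtain ⟨l, -⟩ := lc h.hy h.Y0 h.pg le_rfl ns h.sM
  obtain ⟨e, b, -⟩ := (cm h.hz l).2.resolve_left fun k => h.nz k.ge
  have s := H12.MS.sec_bot h.ab le_rfl (cents_symm (h.YQ.trans ((Ohm1_le _ _).trans inf_le_right))) h.ncY
  have q : Oc {2} N(Y) = C(Y) := s.cq'.antisymm ((le_inf (cent_le_norm Y) le_rfl).trans (s.ker' l.toFr))
  rw [q] at l b s
  have zc : Zs S ≤ C(S) := (Ohm1_le _ _).trans inf_le_right
  have kc : Y ≤ Kc (Y ⊓ C(S)) N(Y) := h.eY.le.trans (Kc_mono (le_inf h.ZY zc) le_rfl)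
  have rk : ∀ A, A ≤ N(Y) → Abelem 2 A → #A * #(Y ⊓ C(A)) ≤ #Y * #(A ⊓ C(Y)) := fun A a1 a2 => by
    by_cases k : A ≤ C(Y)
    · rw [inf_eq_left.2 k, mul_comm]; exact Nat.mul_le_mul_right _ (card_le_of_le inf_le_left)
    · exact (no h.hz l s kc a2 a1 k).le
  have c4 : 4 < #Y := by
    obtain ⟨a, a1, a0⟩ := SetLike.not_le_iff_exists.1
      (fun k : S ≤ C(Y) => h.ZlY.not_ge fun v p => h.memZ p (cents_symm k p))
    have := nt h.hz l s (h.SM a1) a0
    have := card_le_of_le (le_inf h.ZY (zc.trans (cent_le_cent1 a1)))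
    have := ne_bot_iff_one_lt_card.1 h.Z0
    omega
  refine ⟨⟨h, fun v p => ⟨1, one_mem _, ?_⟩, rk, fun t u p => ?_, fun X x1 x2 => ?_, fun g g1 g2 => ?_⟩, l, s, e,
    c4.ne'⟩
  · show cj 1 _ ≤ _
    rw [cj_one]; exact b.trans (cent_le_cent1 p)
  · exfalso
    have c := card_inf_mul_relIndex (Y ⊓ C[t]) Y
    rw [p.hyp.idx, inf_eq_left.2 p.hyp.le] at c
    have := nt h.hz l s p.mem fun k => by
      rw [inf_eq_left.2 (le_cent1_iff.2 k)] at c
      have := Nat.card_pos (α := Y)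
      omega
    omega
  · have x0 : X ≠ ⊥ := fun k => by rw [k, card_bot] at x2; omega
    obtain ⟨T, t1, t2⟩ := h.Bpg.exists_syl (b.trans (cent_mono x1))
    have tc : T ≤ C(Y) := fun a p => by_contra fun k => by
      have := nt h.hz l s (h.pgM t1.pi t2 p) k
      have := card_le_of_le (le_inf x1 (le_cent1_iff.2 (t1.le p)))
      omega
    have yz : Y ≤ Zs T := abelem_le_Ohm1 h.ab (le_inf (h.YB.trans t2) (cents_symm tc))
    exact (h.star _ T t2 t1 (h.hy.chC x0 (abelem_mono h.ab x1))).trans (sup_le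
      (inf_le_right.trans ((cent_mono (yz.trans le_Kc)).trans (cent_le_norm Y))) inf_le_right)
  · change cj g Y ≤ _ at g1 ⊢
    change Y ≤ N(cj g Y) at g2
    by_contra k
    have a := no h.hz l s kc (abelem_J h.ab g) g1 k
    have c := rk (cj g⁻¹ Y) (cj_le_iff.2 (by rwa [inv_inv, cj_norm])) (abelem_J h.ab _)
    rw [← card_cj g (Y ⊓ _), ← card_cj g (_ ⊓ C(Y)), cj_inf, cj_inf, cj_cent, cj_cent, cj_cj_inv, card_cj] at c
    rw [card_cj] at a
    omega

end H3.MS
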