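import Cfsg.Agent.H13.NT0
import Cfsg.Agent.H3.LU1
import Cfsg.Agent.H15.LU1

/-! S1825: proper covers without failure of factorization modules. -/

set_option autoImplicit false
set_option linter.unusedVariables false
set_option linter.unusedSectionVars false

open Cfsg
namespace H3.NT

section
open Subgroup H18 H17.GS H17.TS H0.LU H23.QJ H3.LU
open H19 hiding eq_bot_mono
open H18.UB (Am Md)
open H5.FF (Mo Od HI)
open scoped MatrixGroups commutatorElement

theorem nfu (k : Kit) {X : Type} [Group X] [Finite X] {K S : Subgroup X} (h : H13.NT.CG K S) (z : Z(K) ≠ ⊥)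
    (u : IsLU (K ⧸ center K)) : ¬ H13.NT.FF X := fun ⟨M, A, o⟩ => by
  obtain ⟨Y, _, p, ⟨e⟩, d⟩ := dt u
  obtain ⟨D, f, m⟩ := UB.md_can h.qs
  obtain ⟨e'⟩ := m.equiv
  obtain ⟨t1, t2, -⟩ := pt k.b d m.am (e'.symm.trans e)
  have := h.nor
  have n : ∀ A, A ≤ N(K) := fun _ => le_normalizer_of_normal
  have pA : PG 2 A := UB.pg_of fun g => ⟨1, Subtype.ext (o.ea.2 g g.2)⟩
  have i : ∀ {a : N(K)}, f a ∈ D → a.1 ∈ K := fun t => sup_le le_rfl h.cK (m.mem.1 t)
  have c : C2 K A := fun x hx y hy a b => i (a := ⟨x, n A hx⟩ * ⟨y, n A hy⟩) (map_mul f _ _ ▸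
    t1 _ (pA.dvd (card_im_dvd f A)) _ (mem_im_of hx) _ (mem_im_of hy) (mt i a) (mt i b))
  have c := c.card
  by_cases b : K ⊓ A = ⊥
  · obtain ⟨⟨a, a1⟩, a2⟩ := ne_bot_iff_exists_ne_one.1 o.ne
    rw [b, card_bot] at c
    exact absurd ((k.m X).tv M h.nor h.qs h.odd (sq_one o.ea a1) (fun t => a2 (Subtype.ext (b.le ⟨h.cK t, a1⟩)))
      ((o.d_le k.ff M a1).trans (H5.FF.rk_le (μ := 1) c))) z
  obtain ⟨⟨a, a1⟩, a2⟩ := ne_bot_iff_exists_ne_one.1 b
  obtain ⟨j⟩ := m.inj (n (K ⊓ A)) (eq_bot_iff.2 fun x t => ((pA.infr K).inf_eq_bot h.odd).le ⟨t.1, t.1.1, t.2⟩)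
  have c4 := (Nat.card_congr j.toEquiv).trans_le (t2 _ (m.le inf_le_left) (abelem_im (abelem_mono o.ea inf_le_right) f))
  have := (o.d_le k.ff M a1.2).trans (H5.FF.rk_le (μ := 3) (by omega))
  have := (dl k.ff d h.qs e ⟨a, a1.1⟩ (ord2_of (Subtype.ext (sq_one o.ea a1.2)) fun t => a2 (Subtype.ext (congrArg Subtype.val t :)))
    (M.res K.subtype K.subtype_injective)).trans_eq (k.ff.e.dres M _ _ _)
  exact absurd this (by simp only [subtype_apply]; omega)

end

section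
open Subgroup H5.FF H0.TR H15.FF H15.FF.M22 H15.LU
open H28.FF (TI)
open H16 hiding Act PG
open H19 hiding eq_bot_mono rk

theorem nfm (k : H0.LU.Kit) {X : Type} [Group X] [Finite X] {K S : Subgroup X} (h : H13.NT.CG K S) (hz : Z(K) ≠ ⊥)
    (e : K ⧸ center K ≃* Spor.M22) : ¬ H13.NT.FF X := fun ⟨M, A, hA⟩ => by
  have := h.nor
  have := h.qs.1
  have nK : ∀ g, g ∈ N(K) := fun g => by rw [normalizer_eq_top]; trivial
  let π : K →* Spor.M22 := e.toMonoidHom.comp (QuotientGroup.mk' _)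
  have sπ : Function.Surjective π := e.surjective.comp (QuotientGroup.mk'_surjective _)
  have kπ : π.ker = center K := by ext x; simp [π]
  have zk : (center K).map K.subtype = Z(K) := by
    ext x
    exact ⟨fun ⟨z, hz, e⟩ => e ▸ ⟨z.2, mem_cent.2 fun y hy => congrArg Subtype.val (mem_center_iff.1 hz ⟨y, hy⟩)⟩,
      fun ⟨a, b⟩ => ⟨⟨x, a⟩, mem_center_iff.2 fun y => Subtype.ext (mem_cent.1 b y y.2), rfl⟩⟩
  have c3 : #(center K) = 3 := by
    have d := H23.card_ker_dvd Agent.S2036.result (τ := π) ⟨sπ, kπ.le, by rw [Group.IsPerfect.commutator_eq_top]; exact le_top⟩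
    have o := H17.GS.og_iff.1 h.odd
    have n : #Z(K) ≠ 1 := fun e => hz (card_eq_one.1 e)
    rw [← zk, card_map_of_injective K.subtype_injective] at o n
    rw [kπ, show Nat.card (Multiplicative (ZMod 12)) = 12 by simp] at d
    have := Nat.le_of_dvd (by decide) d
    generalize #(center K) = m at *
    interval_cases m <;> simp_all (config := { decide := true })
  have C : Cv π := ⟨sπ, fun z hz => by
    have m : z ∈ center K := kπ.le hz
    exact ⟨orderOf_dvd_iff_pow_eq_one.1 (c3 ▸ orderOf_dvd_natCard _ m), fun g => mem_center_iff.1 m g⟩⟩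
  -- the rank of `A ⊓ K`
  have k1 : rk A ≤ rk (A ⊓ K) + 1 := by
    have := H15.simple_M22
    obtain ⟨am, ⟨ι⟩⟩ := H18.UB.am_inn (X := Spor.M22) (by
      have := Group.IsPerfect.center_quotient_center_eq_bot K
      exact eq_bot_iff.2 fun x hx => by
        obtain ⟨x, rfl⟩ := e.surjective x
        have : x = 1 := mem_bot.1 (this.le (mem_center_iff.2 fun y => e.injective (by rw [map_mul, map_mul, mem_center_iff.1 hx])))
        rw [this, map_one]
        exact one_mem _)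
    obtain ⟨f, m⟩ := H18.UB.md_ex am h.qs ⟨e.trans ι⟩
    let ψ : X →* Out Spor.M22 := (QuotientGroup.mk' _).comp (f.comp ((MonoidHom.id X).codRestrict _ nK))
    have kψ : ψ.ker ≤ K := fun y hy => sup_le le_rfl h.cK ((m.mem_im (a := ⟨y, nK y⟩) le_normalizer).1
      (m.im.symm ▸ (QuotientGroup.eq_one_iff _).1 hy))
    refine rk_le ?_
    rw [← card_inf_mul_relIndex ψ.ker A, relIndex_ker, pow_add, pow_rk ((H17.GS.ab_pg hA.ea).infl K), inf_comm A]
    exact Nat.mul_le_mul (card_le (inf_le_inf_right A kψ))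
      (rk_out k.ff (a := 1) Agent.S2062.result (by decide) _ (H23.FF.ab_map hA.ea ψ))
  have he := hA.e_le k.ff M
  by_cases n : A ⊓ K = ⊥
  · obtain ⟨a, a1, a2⟩ := off_ex hA
    have := hA.d_le k.ff M a1
    rw [n, rk_bot] at k1
    exact hz ((k.m X).tv M h.nor h.qs h.odd ((sq a).symm.trans (hA.ea.2 a a1))
      (fun c => a2 (mem_bot.1 (n ▸ ⟨a1, h.cK c⟩))) (by omega))
  obtain ⟨M', H⟩ := sub k.ff (M.res K.subtype K.subtype_injective) h.qs c3
  set B := (A ⊓ K).comap K.subtype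
  have m : B.map K.subtype = A ⊓ K := map_comap_eq_self fun x hx => ⟨⟨x, hx.2⟩, rfl⟩
  have ab : Abelem 2 B := H23.FF.ab_comap (abelem_mono hA.ea inf_le_left) K.subtype_injective
  have eB := k.ff.e.res M K.subtype K.subtype_injective B
  have r := H23.FF.rk_map K.subtype_injective B
  rw [m] at eB r
  obtain ⟨h1, ⟨u, h2⟩⟩ := H B
  have := k.ff.e.mono M (inf_le_left : A ⊓ K ≤ A)
  obtain ⟨a, ⟨aA, aK⟩, a1⟩ := (bot_or_exists_ne_one _).resolve_left n
  have d4 := (C.dl f22 k.ff ⟨a, aK⟩ (by rw [orderOf_mk]; exact orderOf_eq_prime (hA.ea.2 a aA) a1) M').trans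
    (M'.d_le k.ff (A := B) ⟨aA, aK⟩)
  have := C.five f22 k.ff M' ab (lt_of_lt_of_le (by decide) (H28.FF.lt_card (H17.GS.ab_pg ab) (show 2 ≤ rk B by omega)))
  have := rk_le (C.card ab ▸ f22.rk _ (H23.FF.ab_map ab π))
  omega

end

theorem nfc : H13.NT.NFC := fun k _ _ _ _ _ h z u => u.elim (nfu k h z) fun ⟨e⟩ => nfm k h z e

end H3.NT
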