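/-
Fusion systems on a Sylow `3`-subgroup of `G₂(3ⁿ)`: the additive lemmas `L3a`, `L3b`, `L3c`.
-/
import Cfsg.Agent.H2.G0

set_option autoImplicit false
set_option linter.unusedSectionVars false
set_option linter.unusedSimpArgs false

namespace H3.G3
open Subgroup H25 H8.PU H25.GC H25.GC.Gc H2.G H24.SP
universe v

section avg
variable {X : Type*} [AddCommGroup X] [Finite X] (H : Subgroup (Au X))
/-- the sum over a subgroup -/
noncomputable def avg (x : X) : X := ∑ᶠ k : H, (k : Au X) x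
variable {H}
theorem avg_sub (x y : X) : avg H (x - y) = avg H x - avg H y := by
  have := Fintype.ofFinite H
  simp [avg, finsum_eq_sum_of_fintype, Finset.sum_sub_distrib]
theorem avg_r {k : Au X} (hk : k ∈ H) (x : X) : avg H (k x) = avg H x :=
  finsum_comp_equiv (Equiv.mulRight (⟨k, hk⟩ : H)) (f := fun j : H => (j : Au X) x)
theorem avg_l {k : Au X} (hk : k ∈ H) (x : X) : k (avg H x) = avg H x := by
  have := Fintype.ofFinite H
  simp only [avg, finsum_eq_sum_of_fintype, map_sum]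
  exact Equiv.sum_comp (Equiv.mulLeft (⟨k, hk⟩ : H)) (fun j : H => (j : Au X) x)
theorem avg_n {g : Au X} (hg : g ∈ nz H) (x : X) : avg H (g x) = g (avg H x) := by
  have := Fintype.ofFinite H
  simp only [avg, finsum_eq_sum_of_fintype, map_sum]
  refine Fintype.sum_bijective (fun j : H => (⟨g⁻¹ * j * g, conj_mem_of_mem_nz' hg j.2⟩ : H)) ?_ _ _ fun j => ?_
  · exact Finite.injective_iff_bijective.1 fun a b e => Subtype.ext (by simpa using congrArg Subtype.val e)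
  · simp [mul_ap]
theorem avg_map {Y : Type*} [AddCommGroup Y] (f : X →+ Y) {x : X} (h : ∀ k ∈ H, f (k x) = f x) :
    f (avg H x) = Nat.card H • f x := by
  have := Fintype.ofFinite H
  simp only [avg, finsum_eq_sum_of_fintype, map_sum]
  rw [Finset.sum_congr rfl fun (j : H) _ => h j j.2]
  simp
end avg

variable {K : Type v} [Field K] [Finite K] [CharP K 3] {G : Subgroup (AZ K)}

theorem t3 (τ : K) (x : VV K) :
    tZ τ x = (x.1, x.2.1 + τ * x.1, x.2.2.1 + 2 * τ * x.2.1 + τ ^ 2 * x.1, x.2.2.2 + τ ^ 3 * x.1) := by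
  simp [tZ_ap, h3]
theorem o3 (x y : VV K) : oZ x y = x.1 * y.2.2.2 - y.1 * x.2.2.2 := by simp [oZ, h3]
theorem ex_cube (x : K) : ∃ y : K, y ^ 3 = x :=
  Finite.injective_iff_surjective.1 (fun _ _ => cube_inj : Function.Injective fun y : K => y ^ 3) x
theorem two_ne : (2 : K) ≠ 0 := fun e => one_ne_zero (by linear_combination h3 (K := K) - e : (1 : K) = 0)
theorem tmem (h : LH3 G) (τ : K) : tZ τ ∈ G := h.syl.le ⟨τ, rfl⟩

/-- conjugates of `T` preserve the form -/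
theorem o_conj (h : LH3 G) {g : AZ K} (hg : g ∈ G) (τ : K) (x y : VV K) :
    oZ ((g * tZ τ * g⁻¹) x) ((g * tZ τ * g⁻¹) y) = oZ x y := by
  obtain ⟨μ, hμ⟩ := h.fm g hg
  have e : ∀ a b : VV K, oZ (tZ τ a) (tZ τ b) = oZ a b := fun a b => by simp only [o3, t3]; ring
  rw [mul_ap, mul_ap, mul_ap, mul_ap, hμ, e, ← hμ, ap_inv, ap_inv]
theorem conj_sub (g : AZ K) (τ : K) (x : VV K) : ∃ y : VV K, y.1 = 0 ∧ (g * tZ τ * g⁻¹) x = x + g y :=
  ⟨tZ τ (g⁻¹ x) - g⁻¹ x, by simp [t3], by simp [mul_ap]⟩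

theorem k1 (h : LH3 G) (g : AZ K) (hg : g ∈ G) (e : ∀ x, (g x).1 = x.1 ∧ (g x).2.2.2 = x.2.2.2) : g = 1 := by
  have := Nat.fact_prime_three
  let N : Subgroup (AZ K) :=
    { carrier := {g | g ∈ G ∧ ∀ x, (g x).1 = x.1 ∧ (g x).2.2.2 = x.2.2.2}
      one_mem' := ⟨one_mem _, fun _ => ⟨rfl, rfl⟩⟩
      mul_mem' := fun {a b} ha hb => ⟨mul_mem ha.1 hb.1, fun x =>
        ⟨(ha.2 _).1.trans (hb.2 x).1, (ha.2 _).2.trans (hb.2 x).2⟩⟩
      inv_mem' := fun {a} ha => ⟨inv_mem ha.1, fun x => by simpa [eq_comm] using ha.2 (a⁻¹ x)⟩ }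
  have hn : G ≤ nz N := le_nz_iff.2 fun a ha k hk => ⟨mul_mem (mul_mem ha hk.1) (inv_mem ha), fun x => by
    have := h.mM a ha (k (a⁻¹ x) - a⁻¹ x) (by simp [hk.2]) (by simp [hk.2])
    simpa [mul_ap, sub_eq_zero] using this⟩
  have hb : TZ K ⊓ N = ⊥ := eq_bot_iff.2 fun a ⟨⟨τ, e⟩, hk⟩ => by
    have := (hk.2 (1, 0, 0, 0)).2
    simp only [e, t3, mul_one, zero_add, ne_eq, OfNat.ofNat_ne_zero, not_false_eq_true, pow_eq_zero_iff] at this
    rw [e, this, tZ_zero]; exact one_mem _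
  have hc : (Nat.card N : K) ≠ 0 := fun e => by
    have := (h.syl.inf_normal hn).2
    rw [hb, inf_eq_right.2 fun a ha => ha.1, relIndex_bot_left] at this
    exact this ((CharP.cast_eq_zero_iff K 3 _).1 e)
  have tn : ∀ τ, tZ τ ∈ nz N := fun τ => hn (tmem h τ)
  -- fixed points
  let F : VV K → Prop := fun x => ∀ k ∈ N, k x = x
  have F1 : ∀ τ x, F x → F (tZ τ x - x) := fun τ x hx k hk => by
    have := hx _ (conj_mem_of_mem_nz' (tn τ) hk)
    rw [map_sub, hx k hk]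
    congr 1
    simpa [mul_ap] using congrArg (tZ τ) this
  have F2 : ∀ r : K, F (0, 0, r, 0) := fun r => by
    have e1 : (avg N (1, 0, 0, 0)).1 = (Nat.card N : K) := by
      simpa using avg_map (H := N) (AddMonoidHom.fst K _) (x := (1, 0, 0, 0)) fun k hk => (hk.2 _).1
    have := F1 1 _ (F1 (r / (2 * Nat.card N)) _ fun k hk => avg_l hk (1, 0, 0, 0))
    have h2 := two_ne (K := K)
    convert this using 1
    ext <;> simp only [t3, e1, Prod.fst_sub, Prod.snd_sub] <;> field_simp <;> ring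
  have F3 : ∀ r : K, avg N (0, 0, r, 0) = 0 → r = 0 := fun r e => by
    have := avg_map (H := N) (AddMonoidHom.id _) (F2 r)
    rw [e, map_zero] at this
    simpa [hc] using congrArg (fun x : VV K => x.2.2.1) this
  refine LinearEquiv.ext fun x => sub_eq_zero.1 ?_
  have m0 : avg N (g x - x) = 0 := by rw [avg_sub, avg_r (show g ∈ N from ⟨hg, e⟩), sub_self]
  have m1 : (g x - x).1 = 0 := by simp [e]
  have m2 : (g x - x).2.2.2 = 0 := by simp [e]
  show g x - x = 0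
  generalize g x - x = m at *
  obtain ⟨u, s, r, v⟩ := m
  subst m1 m2
  have m3 : avg N (tZ 1 (0, s, r, 0) - (0, s, r, 0)) = 0 := by rw [avg_sub, avg_n (tn 1), m0, map_zero, sub_self]
  rw [show tZ 1 ((0, s, r, 0) : VV K) - (0, s, r, 0) = (0, 0, 2 * s, 0) by simp [t3]] at m3
  obtain rfl : s = 0 := by simpa [two_ne] using F3 _ m3
  rw [F3 r m0]; rfl

theorem eqU (h : ∀ g ∈ G, (∀ x, (g x).1 = x.1 ∧ (g x).2.2.2 = x.2.2.2) → g = 1) {a b : AZ K} (ha : a ∈ G) (hb : b ∈ G)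
    (e : ∀ x, (a x).1 = (b x).1 ∧ (a x).2.2.2 = (b x).2.2.2) : a = b :=
  mul_inv_eq_one.1 (h _ (mul_mem ha (inv_mem hb)) fun x => by simpa [mul_ap] using e (b⁻¹ x))

theorem l3a : L3a K := fun G h => by
  refine ⟨k1 h, fun g hg e => mem_nz_of_conj_mem ?_⟩
  rintro _ ⟨τ, rfl⟩
  have e1 : ∀ x, ((g * tZ τ * g⁻¹) x).1 = x.1 := fun x => by
    obtain ⟨y, hy, e'⟩ := conj_sub g τ x
    simp [e', e y hy]
  obtain ⟨a, ha⟩ := ex_cube ((g * tZ τ * g⁻¹) (1, 0, 0, 0)).2.2.2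
  refine ⟨a, eqU (k1 h) (mul_mem (mul_mem hg (tmem h τ)) (inv_mem hg)) (tmem h a) fun x => ⟨by rw [e1, t3], ?_⟩⟩
  have := o_conj h hg τ x (1, 0, 0, 0)
  simp only [o3, e1, ← ha] at this
  simp only [t3]
  linear_combination -this

/-- an element outside the Borel subgroup -/
theorem out (h : LH3 G) (k : K3 G) {g : AZ K} (hg : g ∈ G) (hn : g ∉ nz (TZ K)) :
    ∃ τ : K, ∀ x : VV K, x.1 = 0 → ((tZ τ * g : AZ K) x).2.2.2 = 0 := by
  obtain ⟨x0, h0, h1⟩ : ∃ x : VV K, x.1 = 0 ∧ (g x).1 ≠ 0 := by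
    by_contra e
    push Not at e
    exact hn (k.2 g hg e)
  obtain ⟨μ, hμ⟩ := h.fm g hg
  have m0 : μ 0 = 0 := by simpa [o3] using (hμ 0 0).symm
  obtain ⟨τ, e⟩ := ex_cube (-((g x0).2.2.2 / (g x0).1))
  refine ⟨τ, fun x hx => ?_⟩
  have := hμ x0 x
  rw [o3, o3, h0, hx, zero_mul, zero_mul, sub_zero, m0] at this
  simp only [mul_ap, t3, e]
  field_simp
  linear_combination this

theorem lower (h : LH3 G) (k : K3 G) (c : K) : ∃ g ∈ G, ∀ x, (g x).1 = x.1 + c * x.2.2.2 ∧ (g x).2.2.2 = x.2.2.2 := by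
  obtain ⟨g0, h0, hn⟩ := SetLike.not_le_iff_exists.1 h.ne
  obtain ⟨τ0, e⟩ := out h k h0 hn
  have hg : tZ τ0 * g0 ∈ G := mul_mem (tmem h _) h0
  generalize tZ τ0 * g0 = g at *
  have hm : ∀ τ, g * tZ τ * g⁻¹ ∈ G := fun τ => mul_mem (mul_mem hg (tmem h τ)) (inv_mem hg)
  have e1 : ∀ (τ : K) (x : VV K), ((g * tZ τ * g⁻¹ : AZ K) x).2.2.2 = x.2.2.2 := fun τ x => by
    obtain ⟨y, hy, e'⟩ := conj_sub g τ x
    simp [e', e y hy]
  let f : K → K := fun τ => ((g * tZ τ * g⁻¹) (0, 0, 0, 1)).1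
  have e2 : ∀ (τ : K) (x : VV K), ((g * tZ τ * g⁻¹ : AZ K) x).1 = x.1 + f τ * x.2.2.2 := fun τ x => by
    have := o_conj h hg τ x (0, 0, 0, 1)
    simp only [o3, e1] at this
    linear_combination this
  have inj : Function.Injective f := fun a b e => tZ_inj (by
    simpa using eqU k.1 (hm a) (hm b) fun x => ⟨by rw [e2, e2, e], by rw [e1, e1]⟩)
  obtain ⟨τ, rfl⟩ := Finite.injective_iff_surjective.1 inj c
  exact ⟨_, hm τ, fun x => ⟨e2 τ x, e1 τ x⟩⟩

theorem l3b : L3b K := fun G h k => by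
  obtain ⟨h1, m1, e1⟩ := lower h k 1
  obtain ⟨w, ew'⟩ : ∃ w, w = tZ (-1) * h1 * tZ (-1) := ⟨_, rfl⟩
  have hw : w ∈ G := ew' ▸ mul_mem (mul_mem (tmem h _) m1) (tmem h _)
  have ew : ∀ x, (w x).1 = x.2.2.2 ∧ (w x).2.2.2 = -x.1 := fun x => by
    constructor <;> simp only [ew', mul_ap, t3, e1] <;> ring
  have ei : ∀ x, (w⁻¹ x).1 = -x.2.2.2 ∧ (w⁻¹ x).2.2.2 = x.1 := fun x => by
    have := ew (w⁻¹ x)
    rw [ap_inv] at this
    exact ⟨by rw [this.2, neg_neg], this.1.symm⟩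
  refine ⟨fun ν hν => ?_, w, hw, ew, ?_, fun g hg => ?_⟩
  · obtain ⟨hc, mc, ec⟩ := lower h k (ν ^ 3)⁻¹
    obtain ⟨g, eg'⟩ : ∃ g, g = tZ (-ν) * hc * tZ (-ν) * w⁻¹ := ⟨_, rfl⟩
    have hm : g ∈ G := eg' ▸ mul_mem (mul_mem (mul_mem (tmem h _) mc) (tmem h _)) (inv_mem hw)
    have eg : ∀ x, (g x).1 = (ν ^ 3)⁻¹ * x.1 ∧ (g x).2.2.2 = ν ^ 3 * x.2.2.2 := fun x => by
      constructor <;> simp only [eg', mul_ap, t3, ec, ei] <;> field_simp <;> ring
    obtain ⟨τ, a, l, φ, -, -, d⟩ := h.bor g hm (k.2 g hm fun x hx => by rw [(eg x).1, hx, mul_zero])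
    have d1 : ∀ x : VV K, (ν ^ 3)⁻¹ * x.1 = l * φ x.1 := fun x => by
      simpa [tZ_inv, mul_ap, t3, eg] using congrArg Prod.fst (d x)
    have d2 : ∀ x : VV K, ν ^ 3 * x.2.2.2 + (-τ) ^ 3 * ((ν ^ 3)⁻¹ * x.1) = l * a ^ 3 * φ x.2.2.2 := fun x => by
      simpa only [tZ_inv, mul_ap, t3, eg] using congrArg (fun y : VV K => y.2.2.2) (d x)
    obtain rfl : (ν ^ 3)⁻¹ = l := by simpa using d1 (1, 0, 0, 0)
    have hφ : ∀ x, φ x = x := fun x => by simpa [hν] using (d1 (x, 0, 0, 0)).symm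
    obtain rfl : τ = 0 := by simpa [hν] using d2 (1, 0, 0, 0)
    obtain rfl : ν ^ 2 = a := cube_inj (by
      have := d2 (0, 0, 0, 1)
      simp only [mul_zero, add_zero, map_one, mul_one] at this
      field_simp at this
      linear_combination this)
    exact ⟨g, hm, fun x => by simpa [tZ_zero, hφ] using d x⟩
  · have : w * tZ (-1) * w⁻¹ = h1 := eqU k.1 (mul_mem (mul_mem hw (tmem h _)) (inv_mem hw)) m1 fun x => by
      constructor <;> simp only [mul_ap, t3, e1, ew, ei] <;> ring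
    conv_lhs => rw [ew', ← this]
    simp only [mul_assoc]
  · refine or_iff_not_imp_left.2 fun hn => ?_
    obtain ⟨τ, e⟩ := out h k hg hn
    exact ⟨τ, k.2 _ (mul_mem (mul_mem hw (tmem h τ)) hg) fun x hx => by
      rw [mul_assoc, mul_ap, (ew _).1, e x hx]⟩

theorem l3c : L3c K := fun G k hD w hw _ ew rel => by
  have h2 := two_ne (K := K)
  have h0 := h3 (K := K)
  have cm : ∀ a l : K, a ≠ 0 → l ≠ 0 → ∀ u s r v : K,
      (w (l * a ^ 3 * u, l * a ^ 2 * s, l * a * r, l * v)).2.1 = l * a * (w (u, s, r, v)).2.1 ∧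
      (w (l * a ^ 3 * u, l * a ^ 2 * s, l * a * r, l * v)).2.2.1 = l * a ^ 2 * (w (u, s, r, v)).2.2.1 := by
    intro a l ha hl u s r v
    obtain ⟨g, hg, d⟩ := hD a l ha hl
    obtain ⟨g', hg', d'⟩ := hD a⁻¹ (l * a ^ 3) (inv_ne_zero ha) (mul_ne_zero hl (pow_ne_zero _ ha))
    have e : w * g' = g * w := eqU k.1 (mul_mem hw hg') (mul_mem hg hw) fun x => by
      constructor <;> simp only [mul_ap, ew, d x, d' x, d (w x), RingEquiv.refl_apply] <;> field_simp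
    have e' : g' (u, s, r, v) = (l * a ^ 3 * u, l * a ^ 2 * s, l * a * r, l * v) := by
      rw [d']; ext <;> simp only [RingEquiv.refl_apply] <;> field_simp
    have := congrArg (fun f : AZ K => f (u, s, r, v)) e
    simp only [mul_ap, e', d (w _), RingEquiv.refl_apply] at this
    rw [this]; exact ⟨rfl, rfl⟩
  have lin : ∀ (l : K) (x : VV K), (w (l • x)).2.1 = l * (w x).2.1 ∧ (w (l • x)).2.2.1 = l * (w x).2.2.1 := fun l x => by
    by_cases hl : l = 0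
    · simp [hl]
    · have := cm 1 l one_ne_zero hl x.1 x.2.1 x.2.2.1 x.2.2.2
      simp only [one_pow, mul_one] at this
      exact this
  have sg := cm (-1) 1 (by simp) one_ne_zero
  have n1 : w (-1, 0, 0, 0) = -w (1, 0, 0, 0) := by rw [← map_neg]; simp
  have n2 : w (0, 0, -1, 0) = -w (0, 0, 1, 0) := by rw [← map_neg]; simp
  have z1 : (w (0, 1, 0, 0)).2.1 = 0 := by
    have := (sg 0 1 0 0).1
    norm_num at this
    exact mul_left_cancel₀ h2 (by linear_combination this)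
  have z2 : (w (0, 0, 0, 1)).2.1 = 0 := by
    have := (sg 0 0 0 1).1
    norm_num at this
    exact mul_left_cancel₀ h2 (by linear_combination this)
  have z3 : (w (1, 0, 0, 0)).2.2.1 = 0 := by
    have := (sg 1 0 0 0).2
    norm_num [n1] at this
    exact mul_left_cancel₀ h2 (by linear_combination -this)
  have z4 : (w (0, 0, 1, 0)).2.2.1 = 0 := by
    have := (sg 0 0 1 0).2
    norm_num [n2] at this
    exact mul_left_cancel₀ h2 (by linear_combination -this)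
  obtain ⟨a, ha⟩ : ∃ a, a = (w (1, 0, 0, 0)).2.1 := ⟨_, rfl⟩
  obtain ⟨b, hb⟩ : ∃ a, a = (w (0, 0, 1, 0)).2.1 := ⟨_, rfl⟩
  obtain ⟨c, hc⟩ : ∃ a, a = (w (0, 1, 0, 0)).2.2.1 := ⟨_, rfl⟩
  obtain ⟨d, hd⟩ : ∃ a, a = (w (0, 0, 0, 1)).2.2.1 := ⟨_, rfl⟩
  have W : ∀ x, w x = (x.2.2.2, a * x.1 + b * x.2.2.1, c * x.2.1 + d * x.2.2.2, -x.1) := fun x => by
    have e : x = x.1 • (1, 0, 0, 0) + x.2.1 • (0, 1, 0, 0) + x.2.2.1 • (0, 0, 1, 0) + x.2.2.2 • ((0, 0, 0, 1) : VV K) := by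
      simp
    refine Prod.ext (ew x).1 (Prod.ext ?_ (Prod.ext ?_ (ew x).2)) <;> conv_lhs => rw [e]
    all_goals simp only [map_add, Prod.fst_add, Prod.snd_add, lin, z1, z2, z3, z4, ← ha, ← hb, ← hc, ← hd]; ring
  have R : ∀ x, w (tZ 1 (w x)) = tZ (-1) (w (tZ (-1) x)) := fun x => by
    have : w * (tZ (-1))⁻¹ * w = tZ (-1) * w * tZ (-1) := by
      rw [mul_inv_eq_iff_eq_mul.2 rel, inv_mul_cancel_right]
    simpa [tZ_inv, mul_ap] using congrArg (fun f : AZ K => f x) this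
  have r1 := R (0, 1, 0, 0)
  have r2 := R (0, 0, 1, 0)
  have r3 := R (0, 0, 0, 1)
  simp only [W, t3, Prod.mk.injEq] at r1 r2 r3
  have b0 : b ≠ 0 := fun e => by simpa using w.map_eq_zero_iff.1 (by simp [W, e] : w (0, 0, 1, 0) = 0)
  obtain rfl : b = -1 := mul_left_cancel₀ b0 (by linear_combination -r2.2.1 + (b ^ 2) * h0)
  obtain rfl : c = 1 := by linear_combination -r1.2.2.1 + h0
  obtain rfl : a = d := by linear_combination r3.2.1
  refine ⟨a, fun j hj => ?_, LinearEquiv.ext fun x => ?_⟩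
  · have := (cm j 1 hj one_ne_zero 0 0 0 1).2
    simpa [W] using this.symm
  · rw [W]; ext <;> simp [mul_ap, zZ_ap, zZ_inv_ap, nZ_ap] <;> ring

end H3.G3
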