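import Cfsg.Agent.H24.ND0
import Cfsg.Agent.H24.FrobStruct

/-! S4780, chunks `S0` and `QT`. -/

set_option autoImplicit false
set_option linter.unusedSectionVars false

open Subgroup MulAction H19 H20 H6 Cfsg H3.PT H3.GR H3.ND H24.ND
open scoped commutatorElement

namespace H3.NE

universe u

theorem qt : H24.ND.QT.{u} := by
  intro G _ _ N K L p _ _ _ h hL
  have a := hL.trans (der_le N)
  have b := hL.trans h.dN
  have c : ∀ {X : Subgroup G}, L ≤ X → X ⊔ (QuotientGroup.mk' L).ker = X := fun e => by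
    rw [QuotientGroup.ker_mk', sup_eq_left.2 e]
  have d : (N.map (QuotientGroup.mk' L)).relIndex ⊤ = N.relIndex ⊤ := by
    rw [← map_top_q, relIndex_map_map, c a, top_sup_eq]
  have e : ∀ {X : Subgroup G} {x : G}, L ≤ X → QuotientGroup.mk' L x ∈ X.map (QuotientGroup.mk' L) →
      x ∈ X := fun e1 e2 => by rwa [← mem_comap, comap_map_eq, c e1] at e2
  have f : ∀ χ ∈ Irr (⊤ : Subgroup (G ⧸ L)), ⁅N, N⁆ ≤ cker (χ ∘ QuotientGroup.mk' L) ↔
      ⁅N.map (QuotientGroup.mk' L), N.map (QuotientGroup.mk' L)⁆ ≤ cker χ :=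
    fun χ h1 => by rw [cker_q h1, Subgroup.map_commutator]
  have k : ∀ χ : G ⧸ L → ℂ, deg (χ ∘ QuotientGroup.mk' L) = deg χ := fun χ => deg_congr rfl
  refine ⟨?_, ?_, fun e => h.nle ?_, fun e => h.ne ?_, ?_, d ▸ h.np, fun x hx => ?_,
    fun χ h1 h2 => k χ ▸ h.pd _ (irr_q h1) (mt (f χ h1).1 h2), fun χ h1 ξ h2 h3 => ?_, ?_,
    fun χ h1 h2 => d ▸ k χ ▸ h.lf _ (irr_q h1) ((f χ h1).2 h2), ?_, fun r M hr hM h1 => ?_⟩
  · rw [← map_top_q, ← Subgroup.map_commutator]; exact map_mono h.dG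
  · rw [← Subgroup.map_commutator]; exact map_mono h.dN
  · rwa [Subgroup.map_le_map_iff, c b] at e
  · rwa [eq_top_iff, ← map_top_q, Subgroup.map_le_map_iff, c a, top_le_iff] at e
  · rw [relIndex_map_map, c a, c b]; exact h.pi
  · obtain ⟨x, rfl⟩ := QuotientGroup.mk'_surjective L x
    rintro _ ⟨w, h1, rfl⟩ h2
    exact mem_map_of_mem _ (h.fp x (fun e => hx (mem_map_of_mem _ e)) w h1 (e b (by simpa using h2)))
  · rw [← k χ, ← k ξ] at *
    exact h.nd _ (irr_q h1) _ (irr_q h2) h3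
  · obtain ⟨g, hg⟩ := h.cyc
    exact ⟨QuotientGroup.mk' L g, by rw [← MonoidHom.map_zpowers, ← Subgroup.map_sup, hg, map_top_q]⟩
  · obtain ⟨χ, h1, h2, h3⟩ := h.df
    obtain ⟨φ, h4, rfl⟩ := ex_q h1 (b.trans h2)
    exact ⟨φ, h4, (cker_q h4).1 h2, by rw [d, ← h3, k]⟩
  · rw [← map_top_q, ← Subgroup.map_commutator, map_le_iff_le_comap]
    refine h.nq r _ hr (hM.comap _) ?_
    rwa [relIndex_top_right, index_comap_of_surjective _ (QuotientGroup.mk'_surjective L),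
      ← relIndex_top_right]

variable {G : Type u} [Group G] [Finite G] {N K L : Subgroup G} {β : G → ℂ} {p : ℕ}

theorem cyc [hN : N.Normal] [hK : K.Normal] (h1 : ⁅(⊤ : Subgroup G), ⊤⁆ ≤ N) (h2 : ⁅N, N⁆ ≤ K)
    (h3 : ¬ N ≤ K) (h4 : ∀ x, x ∉ N → Fpf N K x) : ∃ g, N ⊔ zpowers g = ⊤ := by
  have := hN.map _ (QuotientGroup.mk'_surjective K)
  let φ : G →* MulAut (N.map (QuotientGroup.mk' K)) := MulAut.conjNormal.comp (QuotientGroup.mk' K)
  have a : ∀ x (n : G) (hn : n ∈ N), φ x ⟨_, mem_map_of_mem _ hn⟩ = ⟨_, mem_map_of_mem _ hn⟩ ↔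
      x * n * x⁻¹ * n⁻¹ ∈ K := fun x n hn => by
    rw [Subtype.ext_iff, ← QuotientGroup.eq_one_iff]
    simp [φ, mul_inv_eq_one]
  have b : N ≤ φ.ker := fun x hx => MulEquiv.ext (by
    rintro ⟨_, n, hn, rfl⟩
    exact (a x n hn).2 (h2 (commutator_mem_commutator hx hn)))
  have : Nontrivial (N.map (QuotientGroup.mk' K)) := (nontrivial_iff_ne_bot _).2 (by
    rwa [Ne, Subgroup.map_eq_bot_iff, QuotientGroup.ker_mk'])
  have c := H24.isCyclic_of_fpf (QuotientGroup.lift N φ b) (fun x hx => by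
    obtain ⟨x, rfl⟩ := QuotientGroup.mk_surjective x
    rintro ⟨_, n, hn, rfl⟩ e
    exact Subtype.ext ((QuotientGroup.eq_one_iff n).2
      (h4 x (mt (QuotientGroup.eq_one_iff x).2 hx) n hn ((a x n hn).1 e)))) ⊤
    (comm_iff_der.2 (by
      rw [← map_top_q, ← Subgroup.map_commutator, Subgroup.map_eq_bot_iff, QuotientGroup.ker_mk']
      exact h1))
  obtain ⟨x, hx⟩ := cyc_iff.1 c
  obtain ⟨g, rfl⟩ := QuotientGroup.mk'_surjective N x
  refine ⟨g, ?_⟩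
  have := congrArg (comap (QuotientGroup.mk' N)) hx
  rwa [← MonoidHom.map_zpowers, comap_map_eq, QuotientGroup.ker_mk', comap_top, sup_comm] at this

theorem caseA [Group.IsSolvable G] (nd : NDA G) (hp : p.Prime) (hK : Crit ⊤ K)
    (hA : ⁅(⊤ : Subgroup G), ⊤⁆ ≤ CM ⊤ K ⊤) (h5 : PiN {p} (K.relIndex ⊤)) :
    ∃ m, ∀ χ ∈ Irr (⊤ : Subgroup G), deg χ = 1 ∨ deg χ = m := by
  have := Fact.mk hp
  obtain ⟨β, b1, b2, b3⟩ := exists_nonlin hK.normal hK.ne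
  have f : ∀ d, d ≠ 0 → ∀ ξ ∈ Irr (⊤ : Subgroup G), deg ξ = deg β * d → d = 1 := fun d _ ξ a e =>
    (Nat.mul_eq_left (dn b1)).1 (e.symm.trans (nd β b1 ξ a b3 ⟨d, e⟩).symm)
  have b4 := h5.dvd (irr_deg_dvd_relIndex hK.normal b1 b2)
  have h1 : Dg (⊤ : Subgroup G) ⊥ fun d => d ≠ 1 → p ∣ d := fun φ a _ e => by_contra fun e' =>
    e (f _ (dn a) _ (hK.mul_irr hA b1 b2 b3 (irr_chr a) (Res_irr_of_coprime hK.nZ a
      ((h5.dvd (relIndex_dvd_left (le_CM hK.normal.le ⊤) ⊤)).coprime (PiN.of_not_dvd e'))))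
      (deg_mul (irr_chr b1) (irr_chr a)))
  have h2 := thompson_hall hp h1
  have h3 := Ores_normal p (⊤ : Subgroup G)
  generalize Ores p (⊤ : Subgroup G) = M at h2 h3
  have h4 : PiN {p} (M.relIndex ⊤) := by simpa using h2.idx
  have := nt hK.normal.norm
  have h6 : M ≤ K := le_of_pi_of_relIndex nr le_top le_top h2.pi (by simpa using h5)
  have h7 : Ab M := ab_of_dg fun θ a _ => by_contra fun e => by
    have k := fun β => exists_deg_of_ext (β := β) h3 a (ext_of_hall h3 (h4.coprime h2.pi).symm a)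
    have i := H20.le_inertia (L := ⊤) (irr_cinv a) le_top
    obtain ⟨χ, c, d⟩ := k _ (triv_mem_Irr _) (by rwa [cker_triv])
    rw [deg_triv, one_mul] at d
    have c1 := (mem_ovr.1 c).1
    have c2 : deg χ ≠ 1 := fun e' => e (Nat.eq_one_of_mul_eq_one_left (d.symm.trans e'))
    have c3 : ⁅H20.inertia ⊤ θ, H20.inertia ⊤ θ⁆ ≤ M :=
      (dg_one (h3.of_le i le_top)).1 fun γ g1 g2 => by
        obtain ⟨ξ, c', d'⟩ := k γ g1 g2
        rw [mul_left_comm, ← d] at d'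
        have := nd χ c1 ξ (mem_ovr.1 c').1 c2 (d' ▸ dvd_mul_left _ _)
        rw [d'] at this
        exact (Nat.mul_eq_right (dn c1)).1 this.symm
    have c4 := deg_le_of_ab le_top b1 (c3.trans (h6.trans b2))
    have c5 := nd β b1 χ c1 b3 ((pdvd b4 (h4.dvd (relIndex_dvd_left i ⊤)) (dn b1) c4).trans
      (d ▸ dvd_mul_right _ _))
    rw [c5, d] at c4
    have := irr_deg_pos a
    have := Nat.pos_of_ne_zero (relIndex_ne_zero' (H20.inertia ⊤ θ) ⊤)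
    exact e (by nlinarith)
  refine ⟨deg β, fun χ a => or_iff_not_imp_left.2 fun e => ?_⟩
  have c := h4.dvd (deg_dvd_of_ab h3 a ((comm_iff_der.1 h7).le.trans bot_le))
  exact (le_total (deg χ) (deg β)).elim (fun l => nd χ a β b1 e (pdvd c b4 (dn a) l))
    fun l => (nd β b1 χ a b3 (pdvd b4 c (dn b1) l)).symm

theorem s0 : H24.ND.S0.{u} := by
  intro G _ _ _ nd
  by_cases hq : ∀ (r : ℕ) (L : Subgroup G), r.Prime → L.Normal → PiN {r} (L.relIndex ⊤) →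
      ⁅(⊤ : Subgroup G), ⊤⁆ ≤ L
  swap
  · push Not at hq
    obtain ⟨r, L, hr, hL, h1, h2⟩ := hq
    obtain ⟨K, h3, hK⟩ := exists_crit normalIn_top h2 (sol_quo inferInstance _)
    have h4 := h1.dvd (relIndex_dvd_left h3 ⊤)
    refine Or.inl (caseA nd hr hK (hK.cases.resolve_right fun hB => ?_) h4)
    obtain ⟨β, b1, b2, b3⟩ := exists_nonlin hK.normal hK.ne
    obtain ⟨p, hp, -, h7, -⟩ := hK.exists_p
    have h8 := hK.cop hB
    rw [← hK.deg_eq hB b1 b2 b3] at h8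
    have h9 : r ∣ deg β := ((h4.dvd (irr_deg_dvd_relIndex hK.normal b1 b2)).dvd_of_ne_one b3).2
    have h10 := h4.dvd (h7.trans (Dvd.intro _ (relIndex_mul_relIndex K _ ⊤ le_sup_left le_top)))
    exact hr.ne_one (Nat.eq_one_of_dvd_coprimes h8 h9 ((h10.dvd_of_ne_one hp.ne_one).2.trans h7))
  by_cases h0 : ⁅(⊤ : Subgroup G), (⊤ : Subgroup G)⁆ ≤ ⊥
  · exact Or.inl ⟨1, fun χ a => Or.inl ((der_le_cker a).1 (h0.trans bot_le))⟩
  obtain ⟨K, -, hK⟩ := exists_crit (NormalIn.bot ⊤) h0 (sol_quo inferInstance _)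
  obtain ⟨β, b1, b2, b3⟩ := exists_nonlin hK.normal hK.ne
  have f : ∀ d, d ≠ 0 → ∀ ξ ∈ Irr (⊤ : Subgroup G), deg ξ = deg β * d → d = 1 := fun d _ ξ a e =>
    (Nat.mul_eq_left (dn b1)).1 (e.symm.trans (nd β b1 ξ a b3 ⟨d, e⟩).symm)
  have k1 := nt hK.normal.norm
  have k2 := nt hK.nN.norm
  rcases hK.cases with hA | hB
  · obtain ⟨p, hp, h5⟩ := hK.exists_pg hA
    exact (hK.ne (hq p K hp k1 h5)).elim
  have h5 := hK.deg_eq hB b1 b2 b3
  obtain ⟨p, hp, h6, h7, -⟩ := hK.exists_p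
  have h8 := hK.cop hB
  have h9 := fun θ => frob_deg (ψ := θ) hK.normal hK.nN le_sup_left hK.ab hB
  have := Fact.mk hp
  have i1 := hK.ab
  have i2 : ¬ K ⊔ ⁅(⊤ : Subgroup G), ⊤⁆ ≤ K := fun e => hK.ne (le_sup_right.trans e)
  have i3 : ⁅(⊤ : Subgroup G), ⊤⁆ ≤ K ⊔ ⁅⊤, ⊤⁆ := le_sup_right
  generalize K ⊔ ⁅(⊤ : Subgroup G), ⊤⁆ = N at *
  refine Or.inr ⟨N, K, p, hp, k2, k1, i3, i1, i2, fun e => b3 (by rw [h5, e, relIndex_self]),
    h6, fun e => hp.ne_one (Nat.eq_one_of_dvd_coprimes h8 e h7), fun x => hB x trivial,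
    fun φ a e => ?_, nd, cyc i3 i1 i2 fun x => hB x trivial, fun φ a e => h5 ▸ or_iff_not_imp_left.2
      fun e' => nd φ a β b1 e' (h5 ▸ deg_dvd_of_ab normalIn_top a e), ⟨β, b1, b2, h5⟩, hq⟩
  obtain ⟨θ, c, d, e⟩ := ex_nl a (der_le N) e
  refine ((h9 θ c).elim (fun ⟨ξ, c', d'⟩ => absurd ((der_le_cker c).2 (f _ (dn c) ξ c' (h5 ▸ d'))) e)
    fun e => hp.dvd_of_dvd_pow (h7.trans e)).trans (GR.deg_dvd a c d)

end H3.NE
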