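/-
Fusion systems on a Sylow `p`-subgroup of `G₂(q)`: the linear lemmas `LB`, `LC`.
-/
import Cfsg.Agent.H25.GC1

set_option autoImplicit false
set_option linter.unusedSectionVars false
set_option linter.unusedSimpArgs false
set_option linter.unnecessarySeqFocus false

namespace H3.GC
open Subgroup H25 H25.GC H25.GC.Gc H2.G
open H24.SP (mul_ap one_ap inv_ap ap_inv)
universe v
variable {K : Type v} [Field K] [Finite K] {p : ℕ} [hp : Fact p.Prime] [CharP K p] {G : Subgroup (AZ K)}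

open Polynomial in
theorem pz4 (hq : 4 < Nat.card K) {A B C' D E : K} (h : ∀ τ : K, A * τ ^ 4 + B * τ ^ 3 + C' * τ ^ 2 + D * τ + E = 0) :
    A = 0 ∧ B = 0 ∧ C' = 0 ∧ D = 0 := by
  have := Fintype.ofFinite K
  have e := eq_zero_of_natDegree_lt_card_of_eval_eq_zero (C A * X ^ 4 + C B * X ^ 3 + C C' * X ^ 2 + C D * X + C E)
    Function.injective_id (fun τ => by simpa using h τ) (lt_of_le_of_lt (by compute_degree) (Nat.card_eq_fintype_card (α := K) ▸ hq))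
  refine ⟨?_, ?_, ?_, ?_⟩
  · simpa [coeff_X, coeff_C, coeff_X_pow] using congrArg (coeff · 4) e
  · simpa [coeff_X, coeff_C, coeff_X_pow] using congrArg (coeff · 3) e
  · simpa [coeff_X, coeff_C, coeff_X_pow] using congrArg (coeff · 2) e
  · simpa [coeff_X, coeff_C, coeff_X_pow] using congrArg (coeff · 1) e
open Polynomial in
theorem pz3 (hq : 3 < Nat.card K) {B C' D : K} (h : ∀ τ : K, B * τ ^ 3 + C' * τ ^ 2 + D * τ = 0) : C' = 0 ∧ D = 0 := by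
  have := Fintype.ofFinite K
  have e := eq_zero_of_natDegree_lt_card_of_eval_eq_zero (C B * X ^ 3 + C C' * X ^ 2 + C D * X)
    Function.injective_id (fun τ => by simpa using h τ) (lt_of_le_of_lt (by compute_degree) (Nat.card_eq_fintype_card (α := K) ▸ hq))
  refine ⟨?_, ?_⟩
  · simpa [coeff_X, coeff_C, coeff_X_pow] using congrArg (coeff · 2) e
  · simpa [coeff_X, coeff_C, coeff_X_pow] using congrArg (coeff · 1) e

theorem tm (h : LH p G) (τ : K) : tZ τ ∈ G := h.syl.le ⟨τ, rfl⟩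
theorem tZ_e0 (τ c : K) : tZ τ (0, 0, 0, c) = (0, 0, 0, c) := by simp [tZ_ap]
theorem ne0 (g : AZ K) : g (0, 0, 0, 1) ≠ 0 := fun e => by simpa using g.map_eq_zero_iff.1 e
theorem bo_t {g : AZ K} (τ : K) (h : Bo (tZ τ * g)) : Bo g := let ⟨c, e⟩ := h; ⟨c, by
  have := congrArg (fun x => (tZ τ)⁻¹ x) e
  simpa [mul_ap, tZ_inv (K := K) τ ▸ tZ_e0 (-τ) c] using this⟩
theorem pt_t {x : VV K} {τ c : K} (e : tZ τ x = (c, 0, 0, 0)) : x = (c, c * (-τ), c * (-τ) ^ 2, c * (-τ) ^ 3) := by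
  have := congrArg (fun x => (tZ τ)⁻¹ x) e
  simp only [inv_ap] at this
  rw [this, tZ_inv, tZ_ap]; ext <;> simp <;> ring
theorem tZ_pow (τ : K) (n : ℕ) : tZ τ ^ n = tZ (n * τ) := by
  induction n with
  | zero => simp [tZ_zero]
  | succ n ih => rw [pow_succ, ih, ← tZ_add]; push_cast; ring_nf
/-- a `p`-element is conjugate into `T` -/
theorem conj_T {H : Subgroup (AZ K)} (h : Syl p (TZ K) H) {g : AZ K} (hg : g ∈ H) (e : g ^ p = 1) :
    ∃ k ∈ H, ∃ τ, k * g * k⁻¹ = tZ τ := by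
  have : IsPGroup p (zpowers g) := IsPGroup.of_card_dvd_pow (n := 1) (by
    rw [Nat.card_zpowers, pow_one]; exact orderOf_dvd_of_pow_eq_one e)
  obtain ⟨k, hk, e'⟩ := h.exists_cj_le this (zpowers_le.2 hg)
  exact ⟨k, hk, e' (conj_mem_cj k (mem_zpowers g))⟩
theorem lin4 (h : LH p G) (h3 : (3 : K) ≠ 0) {g : AZ K} (hg : g ∈ G) (x : VV K) :
    g x = x.1 • g (1, 0, 0, 0) + x.2.1 • g (0, 1, 0, 0) + x.2.2.1 • g (0, 0, 1, 0) + x.2.2.2 • g (0, 0, 0, 1) := by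
  simp only [← h.lin h3 hg, ← map_add]
  congr 1; simp

section LB
theorem two0 (h2 : p = 2) : (2 : K) = 0 := by subst h2; exact_mod_cast CharP.cast_eq_zero K 2
theorem three1 (h2 : p = 2) : (3 : K) = 1 := by linear_combination two0 (K := K) h2
/-- a generator of `K*` -/
theorem ex_gen (h2 : p = 2) (hq : 2 < Nat.card K) : ∃ l : K, l ≠ 0 ∧ l ^ 4 ≠ 1 ∧ l ^ 5 ≠ 1 := by
  have := Fintype.ofFinite K
  classical
  obtain ⟨l, hl⟩ := IsCyclic.exists_ofOrder_eq_natCard (α := Kˣ)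
  obtain ⟨n, -, hn⟩ := FiniteField.card K p
  rw [Nat.card_units] at hl
  have k : ∀ m, (l : K) ^ m = 1 → Nat.card K - 1 ∣ m := fun m e =>
    hl ▸ orderOf_dvd_of_pow_eq_one (Units.ext (by simpa using e))
  rw [Nat.card_eq_fintype_card, hn, h2] at k hq
  obtain ⟨n, hn0⟩ := n
  have h4 : n = 2 ∨ 8 ≤ 2 ^ n := by
    rcases n with _ | _ | _ | n
    · omega
    · simp at hq
    · simp
    · exact Or.inr (by rw [pow_add]; have := Nat.one_le_two_pow (n := n); omega)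
  refine ⟨l, l.ne_zero, fun e => ?_, fun e => ?_⟩ <;> have := k _ e <;> simp only [PNat.mk_coe] at this <;>
    rcases h4 with rfl | h4
  · norm_num at this
  · have := Nat.le_of_dvd (by norm_num) this; omega
  · norm_num at this
  · have := Nat.le_of_dvd (by norm_num) this; omega

/-- eigenvalues of a conjugate of `h(l)` -/
theorem eig (h : LH p G) (h3 : (3 : K) ≠ 0) {g d : AZ K} (hg : g ∈ G) {l : K} (hl : l ≠ 0) (hd : DZ d l⁻¹ (l ^ 2) (.refl K))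
    (P : Submodule K (VV K)) (f : VV K →ₗ[K] K) (c : K) (hP : ∀ y ∈ P, (g⁻¹ * d * g) y ∈ P ∧ f ((g⁻¹ * d * g) y) = c * f y)
    {y : VV K} (hy : y ∈ P) (hf : f y = 1) : (c - l ^ 2) * (c - l) * (c - 1) * (c - l⁻¹) = 0 := by
  let op : K → VV K → VV K := fun a y => (g⁻¹ * d * g) y - a • y
  have o1 : ∀ a, ∀ y ∈ P, op a y ∈ P ∧ f (op a y) = (c - a) * f y := fun a y hy =>
    ⟨P.sub_mem (hP y hy).1 (P.smul_mem a hy), by simp only [op, map_sub, map_smul, (hP y hy).2, smul_eq_mul]; ring⟩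
  have o2 : ∀ a y, g (op a y) = d (g y) - a • g y := fun a y => by simp only [op, map_sub, h.lin h3 hg, mul_ap, ap_inv]
  have e : op (l ^ 2) (op l (op 1 (op l⁻¹ y))) = 0 := g.map_eq_zero_iff.1 (by
    simp only [o2, hd _, RingEquiv.refl_apply]
    ext <;> simp <;> field_simp <;> ring)
  have k1 := o1 l⁻¹ _ hy
  have k2 := o1 1 _ k1.1
  have k3 := o1 l _ k2.1
  have k4 := o1 (l ^ 2) _ k3.1
  rw [e, k3.2, k2.2, k1.2, hf, map_zero] at k4
  linear_combination -k4.2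

theorem opp (h2 : p = 2) (hq : 2 < Nat.card K) (h : LH p G) {g : AZ K} (hg : g ∈ G) (h0 : (g (0, 0, 0, 1)).1 = 0) : Bo g := by
  have z2 := two0 (K := K) h2
  have z3 := three1 (K := K) h2
  have h3 : (3 : K) ≠ 0 := z3 ▸ one_ne_zero
  obtain ⟨l, hl, l4, l5⟩ := ex_gen (K := K) h2 hq
  obtain ⟨d, hd, dd⟩ := h.tt l hl
  have key : ∀ c : K, c ^ 3 = l → (c - l ^ 2) * (c - l) * (c - 1) * (c - l⁻¹) ≠ 0 := fun c e => by
    simp only [mul_ne_zero_iff, ne_eq, sub_eq_zero]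
    refine ⟨⟨⟨?_, ?_⟩, ?_⟩, ?_⟩ <;> rintro rfl
    · exact l5 (mul_left_cancel₀ hl (by linear_combination e))
    · exact l4 (mul_left_cancel₀ hl (by linear_combination (c ^ 2 + 1) * e))
    · exact l4 (by rw [← e]; simp)
    · exact l4 (by field_simp at e; exact e.symm)
  -- the Borel element `g⁻¹ d g`
  have B : ∀ g ∈ G, ∀ a : K, d (g (0, 0, 0, 1)) = a • g (0, 0, 0, 1) → ∃ τ k m, m * k ^ 3 = a ∧ m * a = l ∧
      ∀ x, (g⁻¹ * d * g) x = tZ τ (m * x.1, m * k * x.2.1, m * k ^ 2 * x.2.2.1, m * k ^ 3 * x.2.2.2) := fun g hg a e => by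
    have hm : g⁻¹ * d * g ∈ G := mul_mem (mul_mem (inv_mem hg) hd) hg
    have e0 : (g⁻¹ * d * g) (0, 0, 0, 1) = (0, 0, 0, a) := by
      rw [mul_ap, mul_ap, e, ← h.lin h3 hg, inv_ap]; simp
    obtain ⟨τ, k, m, -, -, e1⟩ := h.bor _ hm ⟨a, e0⟩
    have e2 : ∀ x, (g⁻¹ * d * g) x = tZ τ (m * x.1, m * k * x.2.1, m * k ^ 2 * x.2.2.1, m * k ^ 3 * x.2.2.2) := fun x => by
      have := congrArg (tZ τ) (e1 x)
      simpa only [mul_ap, ap_inv, RingEquiv.refl_apply] using this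
    have e3 : m * k ^ 3 = a := by simpa [e0, tZ_ap] using (e2 (0, 0, 0, 1)).symm
    refine ⟨τ, k, m, e3, ?_, e2⟩
    obtain ⟨μ, hμ⟩ := h.fm g hg
    have μ0 : μ ≠ 0 := fun z => ne0 g (oZ_nd h3 fun y => by
      obtain ⟨y, rfl⟩ := g.surjective y
      rw [hμ, z, zero_mul])
    have e4 := hμ ((g⁻¹ * d * g) (1, 0, 0, 0)) ((g⁻¹ * d * g) (0, 0, 0, 1))
    have e5 : ∀ x y, oZ (d x) (d y) = l * oZ x y := fun x y => by
      simp only [dd _, oZ, RingEquiv.refl_apply]; field_simp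
    have e6 : oZ ((g⁻¹ * d * g) (1, 0, 0, 0)) ((g⁻¹ * d * g) (0, 0, 0, 1)) = m * a := by
      rw [e0, e2]; simp [oZ, tZ_ap]
    rw [e6] at e4
    simp only [mul_ap, ap_inv, e5, hμ] at e4
    exact mul_left_cancel₀ μ0 (by rw [← e4]; simp [oZ, mul_comm])
  have hs := h.sq h2 g hg (0, 0, 0, 1) (by simp [qf])
  obtain ⟨⟨u, s, r, v⟩, ex⟩ : ∃ x, g (0, 0, 0, 1) = x := ⟨_, rfl⟩
  rw [ex] at h0 hs
  obtain rfl : u = 0 := h0
  simp only [qf, zero_mul, zero_sub, neg_eq_zero, mul_eq_zero, h3, false_or] at hs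
  by_cases hr : r = 0
  · subst hr
    by_cases hs' : s = 0
    · exact ⟨v, by rw [ex, hs']⟩
    exfalso
    obtain ⟨τ, hτ⟩ : ∃ τ : K, τ ^ 2 = v / s := Finite.injective_iff_surjective.1 (fun a b e => by
      have : (a - b) ^ 2 = 0 := by linear_combination e + (b ^ 2 - a * b) * z2
      exact sub_eq_zero.1 (pow_eq_zero_iff two_ne_zero |>.1 this) : Function.Injective fun a : K => a ^ 2) _
    have ex' : (tZ τ * g) (0, 0, 0, 1) = (0, s, 0, 0) := by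
      rw [mul_ap, ex, tZ_ap, hτ]; ext <;> simp [z2, z3]; field_simp; linear_combination v * z2
    obtain ⟨σ, k, m, e1, e2, e3⟩ := B _ (mul_mem (tm h τ) hg) l (by rw [ex', dd]; simp [hl, pow_two])
    obtain rfl : m = 1 := mul_right_cancel₀ hl (by rw [e2, one_mul])
    exact key k (by rw [← e1, one_mul]) (eig h h3 (mul_mem (tm h τ) hg) hl dd (LinearMap.ker (.fst K K _))
      ((LinearMap.fst K K _).comp (.snd K K _)) k (fun y hy => by
        have hy' : y.1 = 0 := hy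
        rw [e3]; simp [tZ_ap, hy']) (y := (0, 1, 0, 0)) rfl rfl)
  · exfalso
    obtain rfl : s = 0 := hs.resolve_right hr
    have ex' : (tZ (v / r) * g) (0, 0, 0, 1) = (0, 0, r, 0) := by
      rw [mul_ap, ex, tZ_ap]; ext <;> simp [z2, z3]; field_simp; linear_combination v * z2
    obtain ⟨σ, k, m, e1, e2, e3⟩ := B _ (mul_mem (tm h _) hg) 1 (by rw [ex', dd]; simp [hl])
    obtain rfl : m = l := by rw [← e2, mul_one]
    exact key (m * k ^ 2) (by linear_combination (m ^ 2 * k ^ 3 + m) * e1) (eig h h3 (mul_mem (tm h _) hg) hl dd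
      (LinearMap.ker (.fst K K _) ⊓ LinearMap.ker ((LinearMap.fst K K _).comp (.snd K K _)))
      ((LinearMap.fst K K _).comp ((LinearMap.snd K K _).comp (.snd K K _))) _ (fun y hy => by
        have hy' : y.1 = 0 := hy.1
        have hy'' : y.2.1 = 0 := hy.2
        rw [e3]; simp [tZ_ap, hy', hy'']) (y := (0, 0, 1, 0)) ⟨rfl, rfl⟩ rfl)

theorem lb : LB K p := fun h2 hq G h g hg => by
  refine or_iff_not_imp_left.2 fun hn => ?_
  have z2 := two0 (K := K) h2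
  have z3 := three1 (K := K) h2
  have h3 : (3 : K) ≠ 0 := z3 ▸ one_ne_zero
  obtain ⟨l, hl, l4, -⟩ := ex_gen (K := K) h2 hq
  obtain ⟨d, hd, dd⟩ := h.tt l hl
  have hu : (g (0, 0, 0, 1)).1 ≠ 0 := fun e => hn (opp h2 hq h hg e)
  obtain ⟨τ, hτ⟩ : ∃ τ, τ = -((g (0, 0, 0, 1)).2.1 / (g (0, 0, 0, 1)).1) := ⟨_, rfl⟩
  have hg' := mul_mem (tm h τ) hg
  have hs := h.sq h2 _ hg' (0, 0, 0, 1) (by simp [qf])
  have e1 : ((tZ τ * g) (0, 0, 0, 1)).1 ≠ 0 := hu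
  have e2 : ((tZ τ * g) (0, 0, 0, 1)).2.1 = 0 := by rw [mul_ap, tZ_ap, hτ]; field_simp; ring
  obtain ⟨⟨u, s, r, v⟩, ex⟩ : ∃ x, (tZ τ * g) (0, 0, 0, 1) = x := ⟨_, rfl⟩
  rw [ex] at e1 e2 hs
  obtain rfl : s = 0 := e2
  obtain rfl : v = 0 := by simpa [qf, show u ≠ 0 from e1] using hs
  generalize hk : tZ τ * g = k at hg' ex
  obtain ⟨μ, hμ⟩ := h.fm k⁻¹ (inv_mem hg')
  obtain ⟨c, e⟩ := opp h2 hq h (mul_mem (mul_mem (inv_mem hg') hd) hg') (by
    have := hμ (k (0, 0, 0, 1)) (d (k (0, 0, 0, 1)))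
    rw [inv_ap] at this
    rw [ex, dd] at this
    simpa [oZ, mul_ap, ex, dd _] using this)
  have e' := congrArg k e
  rw [mul_ap, mul_ap, ap_inv, show ((0, 0, 0, c) : VV K) = c • (0, 0, 0, 1) by simp, h.lin h3 hg', ex, dd] at e'
  simp only [Prod.smul_mk, smul_eq_mul, RingEquiv.refl_apply, Prod.mk.injEq] at e'
  obtain rfl : l ^ 2 = c := mul_right_cancel₀ e1 e'.1
  obtain rfl : r = 0 := by
    by_contra hr
    have := mul_right_cancel₀ hr e'.2.2.1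
    field_simp at this
    exact l4 (by linear_combination -(l ^ 2 + 1) * this)
  exact ⟨-τ, u, pt_t (by rw [← ex, ← hk]; rfl)⟩
end LB

/-- the cone over the twisted cubic -/
def Cn (x : VV K) : Prop := x.2.1 ^ 2 = x.1 * x.2.2.1 ∧ x.2.2.1 ^ 2 = x.2.1 * x.2.2.2 ∧ x.1 * x.2.2.2 = x.2.1 * x.2.2.1
theorem cn_pt (hP : Pt G) {g : AZ K} (hg : g ∈ G) : Cn (g (0, 0, 0, 1)) := by
  obtain ⟨c, e⟩ | ⟨τ, c, e⟩ := hP g hg <;> rw [e] <;> refine ⟨?_, ?_, ?_⟩ <;> ring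
/-- the opposite root group gives `SL₂` -/
theorem su_of (h : LH p G) (hP : Pt G) (hn : ∀ c, nZ * tZ c * nZ⁻¹ ∈ G) : Su G := by
  have e : ∀ a : K, a ≠ 0 → ∀ x : VV K, (tZ a * (nZ * tZ a⁻¹ * nZ⁻¹) * tZ a : AZ K) x =
      (-(a⁻¹ ^ 3 * x.2.2.2), a⁻¹ * x.2.2.1, -(a * x.2.1), a ^ 3 * x.1) := fun a ha x => by
    ext <;> simp only [mul_ap, tZ_ap, nZ_ap, nZ_inv_ap] <;> field_simp <;> ring
  have m : ∀ a : K, tZ a * (nZ * tZ a⁻¹ * nZ⁻¹) * tZ a ∈ G := fun a => mul_mem (mul_mem (tm h a) (hn _)) (tm h a)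
  have n : nZ ∈ G := by
    convert m (-1) using 1
    refine LinearEquiv.ext fun x => ?_
    rw [e (-1) (by simp), nZ_ap, inv_neg, inv_one]; ext <;> simp only <;> ring
  refine ⟨fun ν hν => ⟨_, mul_mem (m (-ν)) (inv_mem n), fun x => ?_⟩, n, fun g hg => (hP g hg).imp_right fun ⟨τ, c, e⟩ =>
    ⟨-τ, -c, ?_⟩⟩
  · rw [mul_ap, e _ (neg_ne_zero.2 hν), nZ_inv_ap]; ext <;> simp only [RingEquiv.refl_apply] <;> field_simp
  · rw [mul_ap, mul_ap, e, tZ_ap, nZ_ap]; ext <;> simp only <;> ring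

theorem lc : LC K p := fun h3 hq G h hP => by
  refine su_of h hP ?_
  -- an element swapping the two points
  obtain ⟨j, hj, c, c', j0, j1⟩ : ∃ j ∈ G, ∃ c c' : K, j (0, 0, 0, 1) = (c, 0, 0, 0) ∧ j (1, 0, 0, 0) = (0, 0, 0, c') := by
    obtain ⟨g0, h0, hn⟩ := h.ne
    obtain ⟨τ, c, e⟩ := (hP g0 h0).resolve_left hn
    have hg := mul_mem (tm h (-τ)) h0
    have e1 : (tZ (-τ) * g0) (0, 0, 0, 1) = (c, 0, 0, 0) := by rw [mul_ap, e, tZ_ap]; ext <;> simp only <;> ring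
    generalize tZ (-τ) * g0 = g at hg e1
    have c0 : c ≠ 0 := fun z => ne0 g (by rw [e1, z]; rfl)
    obtain ⟨b, e2⟩ | ⟨σ, b, e2⟩ := hP _ (inv_mem hg)
    · have := congrArg g e2
      rw [ap_inv, show ((0, 0, 0, b) : VV K) = b • (0, 0, 0, 1) by simp, h.lin h3 hg, e1] at this
      simp at this
    · have b0 : b ≠ 0 := fun z => ne0 g⁻¹ (by rw [e2, z]; simp)
      refine ⟨g * tZ σ, mul_mem hg (tm h σ), c, b⁻¹, by rw [mul_ap, tZ_e0, e1], ?_⟩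
      have : tZ σ (1, 0, 0, 0) = b⁻¹ • g⁻¹ (0, 0, 0, 1) := by rw [e2, tZ_ap]; ext <;> simp [b0]
      rw [mul_ap, this, h.lin h3 hg, ap_inv]; simp
  have c0 : c ≠ 0 := fun z => ne0 j (by rw [j0, z]; rfl)
  have c1 : c' ≠ 0 := fun z => by simpa using j.map_eq_zero_iff.1 (by rw [j1, z]; rfl : j (1, 0, 0, 0) = 0)
  obtain ⟨μ, hμ⟩ := h.fm j hj
  obtain ⟨⟨u1, b1, a1, v1⟩, j2⟩ : ∃ x, j (0, 1, 0, 0) = x := ⟨_, rfl⟩
  obtain ⟨⟨u2, b2, a2, v2⟩, j3⟩ : ∃ x, j (0, 0, 1, 0) = x := ⟨_, rfl⟩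
  obtain rfl : u1 = 0 := by simpa [j1, j2, oZ, c1] using hμ (0, 1, 0, 0) (1, 0, 0, 0)
  obtain rfl : v1 = 0 := by simpa [j0, j2, oZ, c0] using hμ (0, 1, 0, 0) (0, 0, 0, 1)
  obtain rfl : u2 = 0 := by simpa [j1, j3, oZ, c1] using hμ (0, 0, 1, 0) (1, 0, 0, 0)
  obtain rfl : v2 = 0 := by simpa [j0, j3, oZ, c0] using hμ (0, 0, 1, 0) (0, 0, 0, 1)
  have J : ∀ x, j x = (c * x.2.2.2, b1 * x.2.1 + b2 * x.2.2.1, a1 * x.2.1 + a2 * x.2.2.1, c' * x.1) := fun x => by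
    rw [lin4 h h3 hj, j0, j1, j2, j3]; ext <;> simp <;> ring
  have C : ∀ τ : K, (b1 * τ + b2 * τ ^ 2) ^ 2 = c * τ ^ 3 * (a1 * τ + a2 * τ ^ 2) ∧
      (a1 * τ + a2 * τ ^ 2) ^ 2 = (b1 * τ + b2 * τ ^ 2) * c' ∧ c * τ ^ 3 * c' = (b1 * τ + b2 * τ ^ 2) * (a1 * τ + a2 * τ ^ 2) :=
    fun τ => by
      obtain ⟨k1, k2, k3⟩ := cn_pt hP (mul_mem (mul_mem hj (tm h τ)) hj)
      simp only [mul_ap, j0] at k1 k2 k3
      simp only [J, tZ_ap] at k1 k2 k3
      have c2 := pow_ne_zero 2 c0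
      exact ⟨mul_left_cancel₀ c2 (by linear_combination k1), mul_left_cancel₀ c2 (by linear_combination k2),
        mul_left_cancel₀ c2 (by linear_combination k3)⟩
  have fin : a2 = 0 → b1 = 0 → a1 ^ 2 = b2 * c' → ∀ γ, nZ * tZ γ * nZ⁻¹ ∈ G := fun e1 e2 e3 γ => by
    subst e1 e2
    have e4 : c * c' = b2 * a1 := by simpa using (C 1).2.2
    have a0 : a1 ≠ 0 := fun z => by simp [z, c0, c1] at e4
    obtain rfl : b2 = a1 ^ 2 / c' := by field_simp; exact e3.symm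
    obtain rfl : c = a1 ^ 3 / c' ^ 2 := by field_simp at e4 ⊢; exact e4
    have : nZ * tZ γ * nZ⁻¹ * j = j * tZ (-(γ * c' / a1)) := LinearEquiv.ext fun x => by
      ext <;> simp only [mul_ap, J, tZ_ap, nZ_ap, nZ_inv_ap] <;> field_simp <;> ring
    rw [eq_mul_inv_of_mul_eq this]
    exact mul_mem (mul_mem hj (tm h _)) (inv_mem hj)
  have := Fintype.ofFinite K
  by_cases h4 : 4 < Nat.card K
  · obtain ⟨k1, -, k2, k3⟩ := pz4 h4 (A := a2 ^ 2) (B := 2 * a1 * a2) (C' := a1 ^ 2 - b2 * c') (D := -(b1 * c')) (E := 0)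
      fun τ => by linear_combination (C τ).2.1
    exact fin (by simpa using k1) (by simpa [c1] using k3) (sub_eq_zero.1 k2)
  have q4 : Fintype.card K = 4 := by
    have : Fintype.card K ≠ 3 := fun e => h3 (by exact_mod_cast e ▸ FiniteField.cast_card_eq_zero K)
    rw [Nat.card_eq_fintype_card] at hq h4; omega
  have z2 : (2 : K) = 0 := pow_eq_zero_iff two_ne_zero |>.1 (by
    have := FiniteField.cast_card_eq_zero K
    rw [q4] at this; linear_combination (exp := 1) this)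
  have p2 : p = 2 := (Nat.prime_dvd_prime_iff_eq hp.out Nat.prime_two).1 ((CharP.cast_eq_zero_iff K p 2).1 (by exact_mod_cast z2))
  have q3 : 3 < Nat.card K := by rw [Nat.card_eq_fintype_card, q4]; norm_num
  have x4 : ∀ x : K, x ^ 4 = x := fun x => q4 ▸ FiniteField.pow_card x
  obtain ⟨k1, k2⟩ := pz3 q3 (B := 0) (C' := a1 ^ 2 - b2 * c') (D := a2 ^ 2 - b1 * c') fun τ => by
    linear_combination (C τ).2.1 - a2 ^ 2 * x4 τ - a1 * a2 * τ ^ 3 * z2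
  obtain ⟨k3, k4⟩ := pz3 q3 (B := 0) (C' := b1 ^ 2 - c * a2) (D := b2 ^ 2 - c * a1) fun τ => by
    linear_combination (C τ).1 - (b2 ^ 2 - c * a1 - c * a2 * τ) * x4 τ - b1 * b2 * τ ^ 3 * z2
  by_cases a0 : a2 = 0
  · exact fin a0 (by simpa [a0, c1] using k2) (sub_eq_zero.1 k1)
  exfalso
  obtain ⟨-, k6⟩ := pz3 q3 (B := b1 * a2 + b2 * a1 - c * c') (C' := b1 * a1) (D := b2 * a2) fun τ => by
    linear_combination -(C τ).2.2 - b2 * a2 * x4 τ
  obtain rfl : b2 = 0 := by simpa [a0] using k6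
  obtain rfl : a1 = 0 := by simpa using k1
  have e4 : c * c' = b1 * a2 := by simpa using (C 1).2.2
  have b0 : b1 ≠ 0 := fun z => by simp [z, c0, c1] at e4
  have cu : ∀ x : K, x ≠ 0 → x ^ 3 = 1 := fun x hx => mul_right_cancel₀ hx (by linear_combination x4 x)
  have I : ∀ x, (j * j * j) x = (x.2.2.2, x.2.1, x.2.2.1, x.1) := fun x => by
    ext <;> simp only [mul_ap, J]
    · linear_combination x.2.2.2 * (c * e4 - b1 * k3 + cu b1 b0)
    · linear_combination x.2.1 * cu b1 b0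
    · linear_combination x.2.2.1 * cu a2 a0
    · linear_combination x.1 * (c' * e4 - a2 * k2 + cu a2 a0)
  have hi := mul_mem (mul_mem hj hj) hj
  generalize j * j * j = i at I hi
  obtain ⟨k, hk, τ, e⟩ := conj_T h.syl hi (by
    rw [p2, pow_two]; exact LinearEquiv.ext fun x => by rw [mul_ap, I, I]; rfl)
  have e1 : k (i (k⁻¹ (0, 0, 1, 0)) - k⁻¹ (0, 0, 1, 0)) = (0, 0, 0, 3 * τ) := by
    rw [map_sub, ap_inv, ← mul_ap, ← mul_ap, e]; simp [tZ_ap]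
  have e2 := h.sq p2 _ (inv_mem hk) (0, 0, 0, 3 * τ) (by simp [qf])
  rw [← e1, inv_ap, I] at e2
  have e3 : (k⁻¹ (0, 0, 1, 0)).2.2.2 - (k⁻¹ (0, 0, 1, 0)).1 = 0 := pow_eq_zero_iff two_ne_zero |>.1 (by
    simp only [qf, Prod.fst_sub, Prod.snd_sub] at e2
    linear_combination -e2)
  have e5 : i (k⁻¹ (0, 0, 1, 0)) = k⁻¹ (0, 0, 1, 0) := by
    rw [I]; exact Prod.ext (sub_eq_zero.1 e3) (Prod.ext rfl (Prod.ext rfl (sub_eq_zero.1 e3).symm))
  rw [e5, sub_self, map_zero] at e1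
  obtain rfl : τ = 0 := by simpa [h3] using e1.symm
  rw [tZ_zero, conj_eq_one_iff] at e
  simpa [e, one_ap] using I (1, 0, 0, 0)

end H3.GC
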