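/-
Fusion systems on a Sylow `p`-subgroup of `G₂(q)`: the linear lemmas `AV`, `LA`.
-/
import Cfsg.Agent.H3.GCb

set_option autoImplicit false
set_option linter.unusedSectionVars false
set_option linter.unusedSimpArgs false
set_option linter.unnecessarySeqFocus false

namespace H3.GC
open Subgroup H25 H25.GC H25.GC.Gc H2.G
open H24.SP (mul_ap one_ap inv_ap ap_inv)
universe v
variable {K : Type v} [Field K] [Finite K] {p : ℕ} [hp : Fact p.Prime] [CharP K p] {G : Subgroup (AZ K)}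

variable (K) in
/-- polynomials in `l` and `l τ` of degree at most `n` -/
def W (n : ℕ) : Submodule K (Kˣ × K → K) :=
  Submodule.span K {f | ∃ i j, i ≤ j ∧ j ≤ n ∧ f = fun z => (z.1 : K) ^ j * z.2 ^ i}
theorem W_mul {m n : ℕ} {f g : Kˣ × K → K} (hf : f ∈ W K m) (hg : g ∈ W K n) : f * g ∈ W K (m + n) := by
  have := Submodule.mul_mem_mul hf hg
  rw [W, W, Submodule.span_mul_span] at this
  refine Submodule.span_mono ?_ this
  rintro _ ⟨_, ⟨i, j, a, b, rfl⟩, _, ⟨i', j', a', b', rfl⟩, rfl⟩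
  exact ⟨i + i', j + j', by omega, by omega, funext fun z => by simp only [Pi.mul_apply]; ring⟩
theorem W_mul4 {f g f' g' : Kˣ × K → K} (hf : f ∈ W K 3) (hg : g ∈ W K 3) (hf' : f' ∈ W K 3) (hg' : g' ∈ W K 3) :
    f * g * f' * g' ∈ W K 12 := by
  have := W_mul (W_mul (W_mul hf hg) hf') hg'
  norm_num only at this
  exact this
theorem W_mon {n : ℕ} (c : K) (j i : ℕ) (a : i ≤ j := by omega) (b : j ≤ n := by omega) :
    (fun z : Kˣ × K => c * ((z.1 : K) ^ j * z.2 ^ i)) ∈ W K n :=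
  (W K n).smul_mem c (Submodule.subset_span ⟨i, j, a, b, rfl⟩)
theorem W_sum (hq : 8 ≤ Nat.card K) [Fintype K] [Fintype Kˣ] {f : Kˣ × K → K} (hf : f ∈ W K 12) :
    ∑ l : Kˣ, ∑ τ : K, (l : K)⁻¹ ^ 6 * f (l, τ) = 0 := by
  classical
  induction hf using Submodule.span_induction with
  | zero => simp
  | add f g _ _ a b => simp only [Pi.add_apply, mul_add, Finset.sum_add_distrib, a, b, add_zero]
  | smul c f _ a =>
    simp only [Pi.smul_apply, smul_eq_mul, mul_left_comm _ c, ← Finset.mul_sum] at a ⊢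
    rw [a, mul_zero]
  | mem f h =>
    obtain ⟨i, j, a, b, rfl⟩ := h
    rw [Nat.card_eq_fintype_card] at hq
    simp only [← mul_assoc, ← Finset.mul_sum, ← Finset.sum_mul]
    by_cases h6 : i ≤ 6
    · rw [FiniteField.sum_pow_lt_card_sub_one K i (by omega), mul_zero]
    · obtain ⟨k, rfl⟩ : ∃ k, j = 6 + k := ⟨j - 6, by omega⟩
      have e : ∀ l : Kˣ, (l : K)⁻¹ ^ 6 * (l : K) ^ (6 + k) = (l : K) ^ k := fun l => by field_simp; ring
      have := FiniteField.sum_pow_units K k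
      rw [if_neg fun h => by have := Nat.le_of_dvd (by omega) h; omega] at this
      rw [Finset.sum_congr rfl fun l _ => e l]
      convert zero_mul (∑ τ : K, τ ^ i)
      convert this
/-- `l · t(τ) h(l) x` -/
def zz (x : VV K) (z : Kˣ × K) : VV K := tZ z.2 ((z.1 : K) ^ 3 * x.1, (z.1 : K) ^ 2 * x.2.1, z.1 * x.2.2.1, x.2.2.2)
theorem W_lin (f : VV K →ₗ[K] K) (x : VV K) : (fun z => f (zz x z)) ∈ W K 3 := by
  have e : ∀ y : VV K, f y = y.1 * f (1, 0, 0, 0) + y.2.1 * f (0, 1, 0, 0) + y.2.2.1 * f (0, 0, 1, 0) + y.2.2.2 * f (0, 0, 0, 1) :=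
    fun y => by simp only [← smul_eq_mul, ← map_smul, ← map_add]; congr 1; simp
  convert add_mem (add_mem (add_mem (add_mem (add_mem (add_mem (add_mem (add_mem (add_mem
    (W_mon (n := 3) (x.1 * f (1, 0, 0, 0)) 3 0) (W_mon (x.2.1 * f (0, 1, 0, 0)) 2 0)) (W_mon (x.1 * f (0, 1, 0, 0)) 3 1))
    (W_mon (x.2.2.1 * f (0, 0, 1, 0)) 1 0)) (W_mon (2 * x.2.1 * f (0, 0, 1, 0)) 2 1)) (W_mon (x.1 * f (0, 0, 1, 0)) 3 2))
    (W_mon (x.2.2.2 * f (0, 0, 0, 1)) 0 0)) (W_mon (3 * x.2.2.1 * f (0, 0, 0, 1)) 1 1))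
    (W_mon (3 * x.2.1 * f (0, 0, 0, 1)) 2 2)) (W_mon (x.1 * f (0, 0, 0, 1)) 3 3) using 1
  funext z
  rw [e]; simp only [zz, tZ_ap, Pi.add_apply]; ring

theorem av : AV K := fun hq f1 f2 f3 f4 x _ _ => by
  have := W_sum hq (W_mul4 (W_lin f1 x) (W_lin f2 x) (W_lin f3 x) (W_lin f4 x))
  rw [← this, ← Equiv.sum_comp (Equiv.inv Kˣ)]
  refine Finset.sum_congr rfl fun l _ => ?_
  rw [← Equiv.sum_comp (Equiv.mulLeft₀ (l : K) l.ne_zero)]
  refine Finset.sum_congr rfl fun τ _ => ?_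
  have e : zz x (l, τ) = (l : K) • (((l : K) ^ 2 * (tZ (l * τ) x).1, l * (tZ (l * τ) x).2.1, (tZ (l * τ) x).2.2.1,
      (l : K)⁻¹ * (tZ (l * τ) x).2.2.2) : VV K) := by ext <;> simp [zz, tZ_ap] <;> field_simp
  simp only [Pi.mul_apply, e, map_smul, smul_eq_mul, Equiv.inv_apply, Units.val_inv_eq_inv_val, inv_inv, Equiv.mulLeft₀_apply]
  field_simp

/-- the discriminant -/
def Dq (x : VV K) : K := x.1 ^ 2 * x.2.2.2 ^ 2 - 6 * x.1 * x.2.2.2 * x.2.1 * x.2.2.1 + 4 * x.1 * x.2.2.1 ^ 3 +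
  4 * x.2.1 ^ 3 * x.2.2.2 - 3 * x.2.1 ^ 2 * x.2.2.1 ^ 2
theorem W_D (f : VV K →ₗ[K] VV K) (x : VV K) : (fun z => Dq (f (zz x z))) ∈ W K 12 := by
  have a := W_lin ((LinearMap.fst K K _).comp f) x
  have b := W_lin (((LinearMap.fst K K _).comp (.snd K K _)).comp f) x
  have c := W_lin (((LinearMap.fst K K _).comp ((LinearMap.snd K K _).comp (.snd K K _))).comp f) x
  have d := W_lin (((LinearMap.snd K K _).comp ((LinearMap.snd K K _).comp (.snd K K _))).comp f) x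
  have m := fun {f1 f2 f3 f4 : Kˣ × K → K} (c : K) (h1 : f1 ∈ W K 3) (h2 : f2 ∈ W K 3) (h3 : f3 ∈ W K 3) (h4 : f4 ∈ W K 3) =>
    (W K 12).smul_mem c (W_mul4 h1 h2 h3 h4)
  convert add_mem (add_mem (add_mem (add_mem (m 1 a a d d) (m (-6) a d b c)) (m 4 a c c c)) (m 4 b b b d)) (m (-3) b b c c) using 1
  funext z
  simp only [Dq, Pi.add_apply, Pi.smul_apply, Pi.mul_apply, smul_eq_mul, LinearMap.comp_apply, LinearMap.fst_apply,
    LinearMap.snd_apply]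
  ring
/-- the multiplier -/
def mu (g : AZ K) : K := oZ (g (1, 0, 0, 0)) (g (0, 0, 0, 1))
theorem mu_eq (h : LH p G) {g : AZ K} (hg : g ∈ G) (x y : VV K) : oZ (g x) (g y) = mu g * oZ x y := by
  obtain ⟨μ, e⟩ := h.fm g hg
  rw [mu, e, e]; simp [oZ]
theorem mu_mul (h : LH p G) {g : AZ K} (hg : g ∈ G) (k : AZ K) : mu (g * k) = mu g * mu k := mu_eq h hg _ _
theorem mu_one : mu (1 : AZ K) = 1 := by simp [mu, one_ap, oZ]
theorem mu_ne (h : LH p G) {g : AZ K} (hg : g ∈ G) : mu g ≠ 0 := fun e => by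
  simpa [e, mu_one] using mu_mul h hg g⁻¹
theorem mu_t (τ : K) : mu (tZ τ) = 1 := by simp [mu, tZ_ap, oZ]
/-- the twisted right action on functions -/
def act (g : AZ K) (f : VV K → K) : VV K → K := fun x => (mu g)⁻¹ ^ 2 * f (g x)
theorem act_act (h : LH p G) {g : AZ K} (hg : g ∈ G) (k : AZ K) (f : VV K → K) : act k (act g f) = act (g * k) f :=
  funext fun x => by simp only [act, mu_mul h hg, mul_ap]; ring
theorem act_one (f : VV K → K) : act 1 f = f := funext fun x => by simp [act, mu_one, one_ap]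
theorem act_t (τ : K) : act (tZ τ) Dq = Dq := funext fun x => by simp only [act, mu_t, Dq, tZ_ap]; ring
theorem act_bo (h : LH p G) {g : AZ K} (hg : g ∈ G) (b : Bo g) : act g Dq = Dq := by
  obtain ⟨τ, k, l, hk, hl, d⟩ := h.bor g hg b
  rw [← mul_inv_cancel_left (tZ τ) g, ← act_act h (tm h τ), act_t]
  funext x
  simp only [act, mu, d _, Dq, oZ, RingEquiv.refl_apply]
  field_simp
  ring

theorem D_inv (h3 : (3 : K) ≠ 0) (hq : 8 ≤ Nat.card K) (h : LH p G) {g : AZ K} (hg : g ∈ G) : act g Dq = Dq := by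
  classical
  have := Fintype.ofFinite K
  have := Fintype.ofFinite G
  let Ω : Finset (VV K → K) := Finset.univ.image fun g : G => act g Dq
  have mΩ : ∀ {f}, f ∈ Ω ↔ ∃ g ∈ G, act g Dq = f := by simp [Ω]
  have D0 : Dq ∈ Ω := mΩ.2 ⟨1, one_mem _, act_one _⟩
  have aΩ : ∀ k ∈ G, ∀ f ∈ Ω, act k f ∈ Ω := fun k hk f hf =>
    let ⟨g, hg, e⟩ := mΩ.1 hf; mΩ.2 ⟨g * k, mul_mem hg hk, by rw [← e, act_act h hg]⟩
  have inj : ∀ k ∈ G, Function.Injective (act k) := fun k hk a b e => by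
    simpa only [act_act h hk, mul_inv_cancel, act_one] using congrArg (act k⁻¹) e
  have sΩ : ∀ k ∈ G, ∀ x, ∑ f ∈ Ω, act k f x = ∑ f ∈ Ω, f x := fun k hk x =>
    Finset.sum_bij (fun f _ => act k f) (aΩ k hk) (fun a _ b _ e => inj k hk e)
      (fun f hf => ⟨act k⁻¹ f, aΩ _ (inv_mem hk) f hf, by rw [act_act h (inv_mem hk), inv_mul_cancel, act_one]⟩) fun _ _ => rfl
  -- `T` acts freely outside `D`
  have free : ∀ f ∈ Ω.erase Dq, ∀ τ, act (tZ τ) f = f → τ = 0 := fun f hf τ e => by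
    obtain ⟨g, hg, rfl⟩ := mΩ.1 (Finset.mem_of_mem_erase hf)
    let H : Subgroup (AZ K) :=
      { carrier := {k | k ∈ G ∧ act k Dq = Dq}
        one_mem' := ⟨one_mem _, act_one _⟩
        mul_mem' := fun a b => ⟨mul_mem a.1 b.1, by rw [← act_act h a.1, a.2, b.2]⟩
        inv_mem' := fun {a} ha => ⟨inv_mem ha.1, inj a ha.1 (by rw [act_act h (inv_mem ha.1), inv_mul_cancel, act_one, ha.2])⟩ }
    obtain ⟨k, hk, σ, e'⟩ := conj_T (H := H) (h.syl.mono_right (fun _ ⟨a, e⟩ => e ▸ ⟨tm h a, act_t a⟩) fun _ a => a.1)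
      (g := g * tZ τ * g⁻¹) ⟨mul_mem (mul_mem hg (tm h τ)) (inv_mem hg), by
        rw [← act_act h (mul_mem hg (tm h τ)), ← act_act h hg, e, act_act h hg, mul_inv_cancel, act_one]⟩ (by
        rw [conj_pow, tZ_pow, CharP.cast_eq_zero, zero_mul, tZ_zero, mul_one, mul_inv_cancel])
    by_contra t0
    have := act_bo h (mul_mem hk.1 hg) (h.ti _ (mul_mem hk.1 hg) τ t0 ⟨σ, by rw [← e']; group⟩)
    rw [← act_act h hk.1, hk.2] at this
    exact Finset.ne_of_mem_erase hf this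
  choose! d hd dd using h.tt
  have R : ∀ x, ∑ f ∈ Ω.erase Dq, f x = 0 := fun x => by
    have e1 : ∀ l : Kˣ, ∑ f ∈ Ω.erase Dq, act (d l) f x = ∑ f ∈ Ω.erase Dq, f x := fun l => by
      have := sΩ _ (hd l l.ne_zero) x
      rw [← Finset.add_sum_erase _ _ D0, ← Finset.add_sum_erase _ _ D0,
        act_bo h (hd l l.ne_zero) ⟨_, by rw [dd l l.ne_zero]; simp; rfl⟩] at this
      exact add_left_cancel this
    have e2 : ∑ f ∈ Ω.erase Dq, ∑ l : Kˣ, act (d l) f x = 0 := by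
      refine Finset.sum_cancels_of_partition_cancels ⟨fun a b => ∃ τ, a = act (tZ τ) b, ⟨fun a => ⟨0, by rw [tZ_zero, act_one]⟩,
        fun ⟨τ, e⟩ => ⟨-τ, by rw [e, act_act h (tm h τ), ← tZ_add, add_neg_cancel, tZ_zero, act_one]⟩,
        fun ⟨τ, e⟩ ⟨σ, e'⟩ => ⟨σ + τ, by rw [e, e', act_act h (tm h σ), tZ_add]⟩⟩⟩ fun f hf => ?_
      have e3 : ∑ τ : K, ∑ l : Kˣ, act (d l) (act (tZ τ) f) x = 0 := by
        obtain ⟨g, hg, rfl⟩ := mΩ.1 (Finset.mem_of_mem_erase hf)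
        have := W_sum hq (W_D ⟨⟨g, map_add g⟩, h.lin h3 hg⟩ x)
        rw [Finset.sum_comm, ← mul_zero ((mu g)⁻¹ ^ 2), ← this, Finset.mul_sum]
        refine Finset.sum_congr rfl fun l _ => ?_
        rw [Finset.mul_sum]
        refine Finset.sum_congr rfl fun τ _ => ?_
        have e4 : zz x (l, τ) = (l : K) • tZ τ (d l x) := by
          rw [dd l l.ne_zero]; ext <;> simp [zz, tZ_ap] <;> field_simp
        have e5 : mu (d l) = l := by simp [mu, dd l l.ne_zero _, oZ]; field_simp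
        simp only [act, mu_t, e4, e5, LinearMap.coe_mk, AddHom.coe_mk, h.lin h3 hg, Dq, Prod.smul_fst, Prod.smul_snd, smul_eq_mul]
        field_simp
      refine Eq.trans ?_ e3
      refine (Finset.sum_bij (fun τ _ => act (tZ τ) f) (fun τ _ => Finset.mem_filter.2 ⟨Finset.mem_erase.2 ⟨fun e =>
        Finset.ne_of_mem_erase hf (inj _ (tm h τ) (e.trans (act_t τ).symm)), aΩ _ (tm h τ) f (Finset.mem_of_mem_erase hf)⟩, τ, rfl⟩)
        (fun a _ b _ e => sub_eq_zero.1 (free f hf _ (inj _ (tm h b) ?_))) (fun a ha => ?_) fun _ _ => rfl).symm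
      · rw [act_act h (tm h _), ← tZ_add, sub_add_cancel, e]
      · obtain ⟨τ, e⟩ := (Finset.mem_filter.1 ha).2
        exact ⟨τ, Finset.mem_univ _, e.symm⟩
    rw [Finset.sum_comm, Finset.sum_congr rfl fun l _ => e1 l, Finset.sum_const, Finset.card_univ, Fintype.card_units,
      nsmul_eq_mul, Nat.cast_sub Fintype.card_pos, FiniteField.cast_card_eq_zero] at e2
    simpa using e2
  have S : ∀ x, ∑ f ∈ Ω, f x = Dq x := fun x => by rw [← Finset.add_sum_erase _ _ D0, R, add_zero]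
  funext x
  rw [← S x, ← sΩ g hg x]
  simp only [act, ← Finset.mul_sum, S]

theorem la : LA K p := fun h5 hq G h g0 h0 => by
  obtain ⟨h2, h3⟩ := n23 (K := K) h5
  have h4 : (4 : K) ≠ 0 := by rw [show (4 : K) = 2 * 2 by norm_num]; exact mul_ne_zero h2 h2
  have k : ∀ g ∈ G, ∀ y : VV K, let z := g (0, 0, 0, 1)
      y.1 * (2 * z.1 * z.2.2.2 ^ 2 - 6 * z.2.2.2 * z.2.1 * z.2.2.1 + 4 * z.2.2.1 ^ 3) +
      y.2.1 * (-6 * z.1 * z.2.2.2 * z.2.2.1 + 12 * z.2.1 ^ 2 * z.2.2.2 - 6 * z.2.1 * z.2.2.1 ^ 2) +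
      y.2.2.1 * (-6 * z.1 * z.2.2.2 * z.2.1 + 12 * z.1 * z.2.2.1 ^ 2 - 6 * z.2.1 ^ 2 * z.2.2.1) +
      y.2.2.2 * (2 * z.1 ^ 2 * z.2.2.2 - 6 * z.1 * z.2.1 * z.2.2.1 + 4 * z.2.1 ^ 3) = 0 := fun g hg y => by
    obtain ⟨w, rfl⟩ := g.surjective y
    have e : ∀ ε : K, Dq (g (0, 0, 0, 1) + ε • g w) = mu g ^ 2 * Dq ((0, 0, 0, 1) + ε • w) := fun ε => by
      have := congrFun (D_inv h3 hq h hg) ((0, 0, 0, 1) + ε • w)
      have m := mu_ne h hg
      rw [← this, act, map_add, h.lin h3 hg]; field_simp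
    generalize g (0, 0, 0, 1) = z at e
    generalize g w = y at e
    generalize mu g ^ 2 = m at e
    obtain ⟨u, s, r, v⟩ := z
    obtain ⟨a, b, c, d⟩ := y
    obtain ⟨a', b', c', d'⟩ := w
    simp only [Dq, Prod.smul_mk, Prod.mk_add_mk, smul_eq_mul] at e ⊢
    exact (pz4 (by omega) (A := Dq (a, b, c, d) - m * Dq (a', b', c', d'))
      (B := u * (2 * a * d ^ 2 - 6 * d * b * c + 4 * c ^ 3) + s * (-6 * a * d * c + 12 * b ^ 2 * d - 6 * b * c ^ 2) +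
        r * (-6 * a * d * b + 12 * a * c ^ 2 - 6 * b ^ 2 * c) + v * (2 * a ^ 2 * d - 6 * a * b * c + 4 * b ^ 3) -
        m * (2 * a' ^ 2 * d' - 6 * a' * b' * c' + 4 * b' ^ 3))
      (C' := u ^ 2 * d ^ 2 + a ^ 2 * v ^ 2 + 4 * u * a * v * d - 6 * (u * v * b * c + u * s * d * c + u * r * d * b +
        v * s * a * c + v * r * a * b + s * r * a * d) + 12 * (u * r * c ^ 2 + a * r ^ 2 * c) + 12 * (s * b ^ 2 * v + s ^ 2 * b * d) -
        3 * (s ^ 2 * c ^ 2 + b ^ 2 * r ^ 2 + 4 * s * b * r * c) - m * a' ^ 2)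
      (E := Dq (u, s, r, v)) fun ε => by simp only [Dq]; linear_combination e ε).2.2.2
  by_cases hu : (g0 (0, 0, 0, 1)).1 = 0
  · have e1 : (g0 (0, 0, 0, 1)).2.1 = 0 := by simpa [hu, h4] using k g0 h0 (0, 0, 0, 1)
    have e2 : (g0 (0, 0, 0, 1)).2.2.1 = 0 := by simpa [hu, h4, e1] using k g0 h0 (1, 0, 0, 0)
    exact Or.inl ⟨_, Prod.ext hu (Prod.ext e1 (Prod.ext e2 rfl))⟩
  obtain ⟨τ, hτ⟩ : ∃ τ, τ = -((g0 (0, 0, 0, 1)).2.1 / (g0 (0, 0, 0, 1)).1) := ⟨_, rfl⟩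
  have hg := mul_mem (tm h τ) h0
  have e0 : ((tZ τ * g0) (0, 0, 0, 1)).1 ≠ 0 := hu
  have e1 : ((tZ τ * g0) (0, 0, 0, 1)).2.1 = 0 := by rw [mul_ap, tZ_ap, hτ]; field_simp; ring
  have e2 : ((tZ τ * g0) (0, 0, 0, 1)).2.2.2 = 0 := by simpa only [e0, e1, h2, zero_mul, mul_zero, one_mul, zero_add, add_zero, sub_zero,
    ne_eq, OfNat.ofNat_ne_zero, not_false_eq_true, zero_pow, mul_eq_zero, pow_eq_zero_iff, false_or] using k _ hg (0, 0, 0, 1)
  have e3 : ((tZ τ * g0) (0, 0, 0, 1)).2.2.1 = 0 := by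
    have := k _ hg (0, 0, 1, 0)
    simp only [e1, e2] at this
    exact pow_eq_zero_iff two_ne_zero |>.1 (mul_left_cancel₀ (mul_ne_zero (mul_ne_zero h3 h4) e0) (by linear_combination this))
  exact Or.inr ⟨-τ, _, pt_t (Prod.ext rfl (Prod.ext e1 (Prod.ext e3 e2)))⟩

end H3.GC
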