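/-
Fusion systems on a Sylow `3`-subgroup of `G₂(3ⁿ)`: normal form and the realizing group.
-/
import Cfsg.Agent.H2.G30
import Cfsg.Agent.H14.G3A

set_option autoImplicit false
set_option linter.unusedSectionVars false
set_option linter.unusedSimpArgs false

namespace H3.G3
open Cfsg Subgroup H25 H25.FS H25.GC H25.GC.Gc H2.G
open H8.PU hiding Co Wt Wy Md Ck G2 S2 N2 E2 TR MD
universe u v
variable {K : Type v} [Field K] [Finite K] [CharP K 3] {Γ : Type u} [Group Γ] [Finite Γ]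
  {S L C0 : Subgroup Γ} {ev ev' : Gc K →* Γ} {M1 M2 g0 g τ a : Γ} {F : FS Γ} {k l : K} {φ : K ≃+* K}

theorem zc_fr (h : Co S ev) (hS : IsPGroup 3 S) : (Zc K).map ev ≤ fr S := by
  rintro _ ⟨c, hc, rfl⟩
  have := mul_mem (cm_fr hS (h.mS (xa 1)) (h.mS (xs c.r))) (cm_fr hS (h.mS (xu 1)) (h.mS (xv c.z)))
  convert this using 1
  have h3 := h3 (K := K)
  obtain ⟨h1, h2, h4, h5⟩ := mZc.1 hc
  gs h [h1, h2, h4, h5]
  refine ⟨?_, ?_, ?_, ?_⟩ <;> grind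

theorem key (h : Co S ev) (h' : Co S ev') (hS : IsPGroup 3 S) (hk : k ≠ 0) (hl : l ≠ 0) (hτ : τ ∈ nz S)
    (w : ∀ c, τ * ev c * τ⁻¹ = ev' (sc k l φ c)) (hg : g ∈ nz S)
    (d : Ld ev ev' g k l φ) : g * τ⁻¹ ∈ kk (fr S) S [(Z4 K).map ev'] := by
  have e : ∀ y ∈ S, ∃ c c', y = ev' (sc k l φ c) ∧ g * ev c * g⁻¹ = ev' c' ∧ g * τ⁻¹ * y * (g * τ⁻¹)⁻¹ = ev' c' := fun y hy => by
    obtain ⟨c, -, e1⟩ := h.ex (conj_mem_of_mem_nz' hτ hy)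
    obtain ⟨c', -, e2⟩ := h'.ex (conj_mem_of_mem_nz hg (h.mS c))
    exact ⟨c, c', by rw [← w, e1]; group, e2.symm, by rw [e2, e1]; group⟩
  have c1 : Cm (g * τ⁻¹) S ((Z4 K).map ev') := fun y hy => by
    obtain ⟨c, c', rfl, e1, e2⟩ := e y hy
    rw [e2]
    gs h' [(d c c' e1).1, (d c c' e1).2.1]
  refine kk_mem (by
    simp only [List.mem_singleton, forall_eq]
    exact mem_nz_of_conj_mem fun y hy => by simpa using mul_mem (c1 y (h'.le _ hy)) hy) (mul_mem hg (inv_mem hτ))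
    ⟨c1, fun y hy => ?_⟩
  obtain ⟨c, c', rfl, e1, e2⟩ := e y (h'.le _ hy)
  rw [e2]
  gs h' [mul_eq_zero, hk, hl, false_or, EmbeddingLike.map_eq_zero_iff] at hy
  obtain ⟨d1, d2, d3⟩ := d c c' e1
  obtain ⟨d3, d4, -⟩ := d3 hy.1 hy.2
  refine zc_fr h' hS ?_
  have h3 := h3 (K := K)
  gs h' [mZc, d1, d2, d3, d4, hy.1, hy.2, h3]
  exact ⟨by ring, by ring⟩

theorem g4 (m : Md3 S ev L C0 M1 M2 g0) : C0 ⊔ zpowers g0 ≤ nz ((Z4 K).map ev) :=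
  sup_le (fun _ hg => let ⟨_, _, _, w⟩ := m.wt _ hg; m.wZ4 w) (zpowers_le.2 (mem_nz.2 ((m.cjg _).trans gr_Z4)))

theorem nf3 : NF3 K Γ := fun S L C0 ev M1 M2 g0 F m n => by
  have h1 := F.A_le_nz S
  obtain ⟨k, hk, e⟩ := sz0 (p := 3) (X := kk (fr S) S [(Z4 K).map ev]) (A := C0 ⊔ zpowers g0)
    (fun g hg => nz_le_nz_ai_self S hg.1.1) (m.CS'.trans (nz_le_nz_ai_self S)) (h1.trans (nz_le_nz_ai_self S))
    (fun g hg => kk_nz (by simpa using g4 m hg) (nz_le_nz_fr _ (m.CS' hg)) (m.CS' hg))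
    (fun g hg => by
      obtain ⟨r, t, φ, r0, t0, e⟩ := H14.G3.au3 S ev m.toCo g (h1 hg)
      obtain ⟨k, hk, w⟩ := m.ex' r t φ r0 t0
      rcases e with e | e
      · simpa using mul_mem_sup (key m.toCo m.toCo m.pg r0 t0 (m.CS hk) w.cj (h1 hg) e)
          (mem_sup_left hk : k ∈ C0 ⊔ zpowers g0)
      · have := key (τ := g0 * k) m.toCo (co_gr m.toCo) m.pg r0 t0 (mul_mem m.gS (m.CS hk))
          (fun c => by rw [cj_mul2, w.cj, m.gj]; rfl) (h1 hg) e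
        rw [gr_Z4] at this
        simpa only [inv_mul_cancel_right] using mul_mem_sup this (mul_mem (mem_sup_right (mem_zpowers g0)) (mem_sup_left hk) : g0 * k ∈ C0 ⊔ zpowers g0))
    (fun k hk => (kk_pel m.pg (by simpa using m.toCo.le _) hk).mono (cz_le_ai _ _)) n.auS.syl.2
  exact ⟨k⁻¹, inv_mem hk.1.1, n.cj (inv_mem hk.1.1), by
    rw [cjs_A' (inv_mem hk.1.1)]; exact cj_le.2 fun a ha => by rw [inv_inv]; exact e a ha⟩

/-- the graph coset does not normalize `Q₁` -/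
theorem in0 (m : Md3 S ev L C0 M1 M2 g0) (hk : a ∈ C0 ⊔ zpowers g0) (h : a ∈ nz ((Q1 K).map ev)) : a ∈ C0 :=
  (m.mem' hk).resolve_right fun c => by
    obtain ⟨_, _, _, w⟩ := m.wt _ c
    have : g0 ∈ nz ((Q1 K).map ev) := by simpa using mul_mem (inv_mem (m.w1 w)) h
    have e := (m.g1.symm.trans (mem_nz.1 this)).le (show ev (xa 1) ∈ _ by gs m.toCo [])
    gs m.toCo [] at e
    exact one_ne_zero e
theorem ai1 (h : Co S ev) : ai S S ≤ nz ((Q1 K).map ev) := ai_le (inf_le_left.trans h.nQ1) ((cz_anti (h.le _)).trans (cz_le_nz _))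
theorem dec (m : Md3 S ev L C0 M1 M2 g0) (n : Nf 3 S (C0 ⊔ zpowers g0) F) (ha : a ∈ F.A S) :
    ∃ y ∈ ai S S, ∃ τ ∈ (C0 ⊔ zpowers g0) ⊓ F.A S, a = y * τ := by
  obtain ⟨y, hy, k, hk, rfl⟩ := (mem_sup_of_le_nz_left (m.CS'.trans (nz_le_nz_ai_self S))).1 (sup_comm _ (ai S S) ▸ n.hA ha)
  exact ⟨y, hy, k, ⟨hk, (mul_mem_cancel_left (ai_self_le_A n.eS.ge hy)).1 ha⟩, rfl⟩

theorem dc3 : DC3 K Γ := fun S L C0 ev M1 M2 g0 F m n a ha h => by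
  obtain ⟨y, hy, k, hk, rfl⟩ := dec m n ha
  have hk' := in0 m hk.1 ((mul_mem_cancel_left (ai1 m.toCo hy)).1 h)
  obtain ⟨-, u, hu, e⟩ := mem_ai.1 hy
  obtain ⟨r, t, φ, w⟩ := m.wt k hk'
  exact ⟨u, hu, k, ⟨hk', hk.2⟩, r, t, φ, w, Agree.mul_right (by rwa [mem_nz.1 (m.CS hk')])⟩

theorem re3 : RE3 K Γ := fun S L C0 ev M1 M2 g0 F m n hT => by
  have DL : (C0 ⊔ zpowers g0) ⊓ F.A S ≤ nz L := inf_le_left.trans (sup_le m.CL (zpowers_le.2 m.gL))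
  have SG : S ≤ L ⊔ (C0 ⊔ zpowers g0) ⊓ F.A S := m.syl.1.trans le_sup_left
  refine ⟨L ⊔ (C0 ⊔ zpowers g0) ⊓ F.A S, m.syl.trans ⟨le_sup_left, fun c => ?_⟩, ?_, le_sup_left⟩
  · rw [relIndex_eq_of_cover (H := (C0 ⊔ zpowers g0) ⊓ F.A S) le_sup_right fun a ha => by
      obtain ⟨b, hb, c, hc, rfl⟩ := (mem_sup_of_le_nz_right DL).1 (sup_comm L _ ▸ ha)
      exact ⟨b, hb, by simpa using hc⟩] at c
    obtain ⟨⟨k, hk⟩, o⟩ := exists_prime_orderOf_dvd_card' 3 (c.trans (relIndex_dvd_card _ _))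
    rw [orderOf_mk] at o
    have pe : PEl 3 (ai S S) k := ⟨1, by rw [pow_one, ← o, pow_orderOf_eq_one]; exact one_mem _⟩
    have hk' := in0 m hk.1 (ai1 m.toCo (n.auS.syl.mem_of_pel n.auS.An' hk.2 pe))
    obtain ⟨_, _, _, w⟩ := m.wt k hk'
    obtain ⟨rfl, rfl, rfl⟩ := m.lin n.toSa hk.2 w pe
    rw [m.fa k hk' w, orderOf_one] at o
    exact absurd o (by decide)
  rw [ofSub_A SG le_rfl]
  refine le_antisymm (fun a ha => ?_) (ai_le (fun g hg => ?_) (F.cz_le_A S))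
  · obtain ⟨y, hy, k, hk, rfl⟩ := dec m n ha
    exact mul_mem (ai_mono SG S hy) (mem_ai_of_mem (mem_sup_right hk) (m.CS' hk.1))
  · obtain ⟨l, hl, b, hb, rfl⟩ := (mem_sup_of_le_nz_left DL).1 hg.1
    obtain ⟨s, hs, τ, k, l, w, rfl⟩ := m.nl l hl ((mul_mem_cancel_right (F.A_le_nz S hb.2)).1 (mem_inf.1 hg).2)
    obtain ⟨τ', h1, w'⟩ := hT k l w.k0 w.l0
    exact mul_mem (mul_mem (n.mA hs (le_nz_self S hs)) ((m.agW w w').mem_A h1)) hb.2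

end H3.G3
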