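import Cfsg.Agent.H3.FV1

/-! S5720, the endgame in `SL₂(p)` and the assembly. -/

set_option autoImplicit false

open Module LinearMap H17.FV
open scoped MatrixGroups

namespace H3.FV

universe u v w

section
variable {p : ℕ} [Fact p.Prime]

def su (c : ZMod p) : SL(2, ZMod p) := ⟨!![1, c; 0, 1], by simp [Matrix.det_fin_two_of]⟩
def sh (l : (ZMod p)ˣ) : SL(2, ZMod p) :=
  ⟨!![(l : ZMod p), 0; 0, ((l⁻¹ : (ZMod p)ˣ) : ZMod p)], by
    rw [Matrix.det_fin_two_of, Units.mul_inv, mul_zero, sub_zero]⟩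
def sw : SL(2, ZMod p) := ⟨!![0, -1; 1, 0], by simp [Matrix.det_fin_two_of]⟩

theorem sl_ext {x y : SL(2, ZMod p)} (h : x.1 = y.1) : x = y := Subtype.ext h
theorem vm (x y : SL(2, ZMod p)) : (x * y).1 = x.1 * y.1 := rfl
theorem vu (c : ZMod p) : (su c).1 = !![1, c; 0, 1] := rfl
theorem vh (l : (ZMod p)ˣ) : (sh l).1 = !![(l : ZMod p), 0; 0, (l : ZMod p)⁻¹] := by
  rw [← Units.val_inv_eq_inv_val]; rfl
theorem vw : (sw : SL(2, ZMod p)).1 = !![0, -1; 1, 0] := rfl
theorem v1 : (1 : SL(2, ZMod p)).1 = !![1, 0; 0, 1] := Matrix.one_fin_two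

theorem su0 : su (0 : ZMod p) = 1 := sl_ext (by rw [vu, v1])
theorem su_add (a b : ZMod p) : su (a + b) = su a * su b := sl_ext (by
  rw [vm, vu, vu, vu, Matrix.mul_fin_two]; simp [add_comm])
theorem sh1 : sh (1 : (ZMod p)ˣ) = 1 := sl_ext (by rw [vh, v1, Units.val_one, inv_one])
theorem sh_mul (a b : (ZMod p)ˣ) : sh (a * b) = sh a * sh b := sl_ext (by
  rw [vm, vh, vh, vh, Matrix.mul_fin_two, Units.val_mul, mul_inv]
  simp only [mul_zero, zero_mul, add_zero, zero_add, mul_one, one_mul, mul_neg, neg_mul, neg_neg, neg_zero])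
theorem sh_su (l : (ZMod p)ˣ) (c : ZMod p) : sh l * su c = su ((l : ZMod p) ^ 2 * c) * sh l :=
  sl_ext (by
    have h : (l : ZMod p) ^ 2 * c * (l : ZMod p)⁻¹ = l * c := by
      have := l.ne_zero
      field_simp
    rw [vm, vm, vh, vu, vu, Matrix.mul_fin_two, Matrix.mul_fin_two]
    simp only [mul_zero, zero_mul, add_zero, zero_add, mul_one, one_mul, mul_neg, neg_mul, neg_neg, neg_zero, h])
theorem sw_sw : (sw * sw : SL(2, ZMod p)) = sh (-1) := sl_ext (by
  rw [vm, vw, vh, Matrix.mul_fin_two]; simp)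
theorem sw_sh (l : (ZMod p)ˣ) : sw * sh l = sh l⁻¹ * sw := sl_ext (by
  rw [vm, vm, vw, vh, vh, Matrix.mul_fin_two, Matrix.mul_fin_two, Units.val_inv_eq_inv_val, inv_inv]
  simp only [mul_zero, zero_mul, add_zero, zero_add, mul_one, one_mul, mul_neg, neg_mul, neg_neg, neg_zero])
theorem sa_val (l : (ZMod p)ˣ) : (sw * sh l * su (-((l⁻¹ : (ZMod p)ˣ) : ZMod p))).1 =
    !![0, -(l : ZMod p)⁻¹; (l : ZMod p), -1] := by
  rw [vm, vm, vw, vh, vu, Matrix.mul_fin_two, Matrix.mul_fin_two, Units.val_inv_eq_inv_val]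
  simp only [mul_zero, zero_mul, add_zero, zero_add, mul_one, one_mul, mul_neg, neg_mul, neg_neg, neg_zero, mul_inv_cancel₀ l.ne_zero]
theorem sa_cube (l : (ZMod p)ˣ) : (sw * sh l * su (-((l⁻¹ : (ZMod p)ˣ) : ZMod p))) ^ 3 = 1 :=
  sl_ext (by
    rw [pow_three, vm, vm _ (_ * _), sa_val, Matrix.mul_fin_two, Matrix.mul_fin_two, v1]
    simp only [mul_zero, zero_mul, add_zero, zero_add, mul_one, one_mul, mul_neg, neg_mul, neg_neg, neg_zero, mul_inv_cancel₀ l.ne_zero,
      inv_mul_cancel₀ l.ne_zero, neg_add_cancel, add_neg_cancel])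
theorem sa_ne (l : (ZMod p)ˣ) : sw * sh l * su (-((l⁻¹ : (ZMod p)ˣ) : ZMod p)) ≠ 1 := fun e => by
  have := congrFun (congrFun (sa_val l) 0) 0
  rw [e, v1] at this
  exact one_ne_zero this
theorem su_ne : su (1 : ZMod p) ≠ 1 := fun e => by
  have := congrArg (fun x : SL(2, ZMod p) => x.1 0 1) e
  simp only [vu, v1] at this
  simp at this
theorem sz_ne (hp : 11 ≤ p) : sh (-1 : (ZMod p)ˣ) ≠ 1 := fun e => by
  have := congrArg (fun x : SL(2, ZMod p) => x.1 0 0) e
  have h : ((2 : ℕ) : ZMod p) = 0 := by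
    simp only [vh, v1] at this
    simp at this
    rw [Nat.cast_ofNat, ← one_add_one_eq_two, ← neg_eq_iff_add_eq_zero]; exact this
  have := Nat.le_of_dvd two_pos ((ZMod.natCast_eq_zero_iff 2 p).1 h)
  omega

variable {K : Type v} {V : Type w} [Field K] [AddCommGroup V] [Module K V]
  (ρ : Representation K SL(2, ZMod p) V)

/-- the algebra generated by the image -/
abbrev Al : Subalgebra K (End K V) := Algebra.adjoin K
  ((Set.range (fun c => ρ (su c)) ∪ Set.range fun l => ρ (sh l)) ∪ {ρ sw})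

/-- the standard generators -/
def dat : Dat K (Al ρ) p where
  U c := ⟨ρ (su c), Algebra.subset_adjoin (Or.inl (Or.inl ⟨c, rfl⟩))⟩
  H l := ⟨ρ (sh l), Algebra.subset_adjoin (Or.inl (Or.inr ⟨l, rfl⟩))⟩
  w := ⟨ρ sw, Algebra.subset_adjoin (Or.inr rfl)⟩
  U0 := Subtype.ext (by simp [su0])
  Uadd a b := Subtype.ext (by simp [su_add])
  H1 := Subtype.ext (by simp [sh1])
  Hmul a b := Subtype.ext (by simp [sh_mul])
  HU l c := Subtype.ext ((map_mul ρ _ _).symm.trans ((congrArg ρ (sh_su l c)).trans (map_mul ρ _ _)))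
  ww := Subtype.ext ((map_mul ρ _ _).symm.trans (congrArg ρ sw_sw))
  wH l := Subtype.ext ((map_mul ρ _ _).symm.trans ((congrArg ρ (sw_sh l)).trans (map_mul ρ _ _)))
  cube l := Subtype.ext (by
    have := congrArg ρ (sa_cube l)
    rw [map_pow, map_mul, map_mul, map_one] at this
    exact this)
  gen := top_le_iff.1 ((Algebra.adjoin_adjoin_coe_preimage (R := K)).ge.trans (Algebra.adjoin_mono (by
    rintro x ((⟨c, e⟩ | ⟨l, e⟩) | e)
    · exact Or.inl (Or.inl ⟨c, Subtype.ext e⟩)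
    · exact Or.inl (Or.inr ⟨l, Subtype.ext e⟩)
    · exact Or.inr (Subtype.ext e))))

theorem a_val (l : (ZMod p)ˣ) :
    ((dat ρ).a l : End K V) = ρ (sw * sh l * su (-((l⁻¹ : (ZMod p)ˣ) : ZMod p))) := by
  rw [map_mul, map_mul]; rfl

theorem cub {R : Type*} [Ring R] {a : R} (h : a ^ 3 = 1) : (a - 1) * (1 + a + a ^ 2) = 0 := by
  rw [← sub_eq_zero.2 h]; noncomm_ring

theorem N_mem (l : (ZMod p)ˣ) (x : V) : (dat ρ).N l • x ∈ ker (((dat ρ).a l : End K V) - 1) := by
  have : ((dat ρ).a l - 1) * (dat ρ).N l = 0 := by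
    exact cub ((dat ρ).a_cube l)
  have h := congrArg (· • x) this
  simp only [mul_smul, zero_smul] at h
  exact h

variable [FiniteDimensional K V]

theorem rk_N (hs : Small ρ) (l : (ZMod p)ˣ) (M : Submodule (Al ρ) V) :
    6 * rk K M ((dat ρ).N l) < finrank K V := by
  refine lt_of_le_of_lt (Nat.mul_le_mul_left 6 ?_) (hs _ (sa_ne l))
  rw [← a_val, rk, ← LinearMap.finrank_range_of_inj
    (f := (M.subtype.restrictScalars K).domRestrict _) fun x y e => Subtype.ext (Subtype.ext e)]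
  refine Submodule.finrank_mono ?_
  rintro _ ⟨⟨_, y, rfl⟩, rfl⟩
  exact N_mem ρ l y

theorem rk_N' (hs : Small ρ) (l : (ZMod p)ˣ) : 6 * rk K V ((dat ρ).N l) < finrank K V := by
  refine lt_of_le_of_lt (Nat.mul_le_mul_left 6 ?_) (hs _ (sa_ne l))
  rw [← a_val]
  refine Submodule.finrank_mono ?_
  rintro _ ⟨y, rfl⟩
  exact N_mem ρ l y

theorem fin (cr : CR.{v, w}) (ek : EK.{v, w}) (cf : CF.{v, w}) (bl : BL.{v, w}) (hp : 11 ≤ p) :
    ¬ Small ρ := fun hs => by
  obtain ⟨ν, hν⟩ := IsCyclic.exists_ofOrder_eq_natCard (α := (ZMod p)ˣ)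
  rw [Nat.card_eq_fintype_card, ZMod.card_units] at hν
  by_cases h0 : (p : K) = 0
  · have : CharP K p := (CharP.charP_iff_prime_eq_zero Fact.out).2 h0
    have ef := ek K _ p (dat ρ) hp
    have h1 := cf K _ V p (dat ρ) ν hp hν ef
    have h2 := bl K _ V p (dat ρ) ν hp hν ef
    have h3 := rk_N' ρ hs 1
    have h4 := rk_N' ρ hs ν
    have h5 := hs _ su_ne
    have h6 : finrank K (ker (act K V (dat ρ).e)) ≤ finrank K (ker (ρ (su 1) - 1)) :=
      Submodule.finrank_mono fun x hx => by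
        obtain ⟨y, hy⟩ := ef.eU
        have h := congrArg (· • x) hy
        simp only [mul_smul] at h
        rw [show (dat ρ).e • x = 0 from hx, smul_zero] at h
        exact h
    simp only [Dat.Ineq] at h1 h2
    omega
  let M : Submodule (Al ρ) V :=
    { carrier := {m | (dat ρ).H (-1) • m = -m}
      add_mem' := fun {a b} ha hb => by
        change _ = _ at ha hb ⊢
        rw [smul_add, ha, hb, neg_add]
      zero_mem' := by simp
      smul_mem' := fun y m hm => by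
        change _ = _ at hm ⊢
        rw [← mul_smul, Dat.zc, mul_smul, hm, smul_neg] }
  have : FiniteDimensional K M :=
    .of_injective (M.subtype.restrictScalars K) Subtype.val_injective
  have h1 := cr K _ M p (dat ρ) ν hp hν h0 fun m => Subtype.ext m.2
  have h3 := rk_N ρ hs 1 M
  have h4 := rk_N ρ hs ν M
  have h5 := hs _ (sz_ne hp)
  have h6 := ker_mul_le (ρ (sh (-1)) - 1) (ρ (sh (-1)) + 1)
  have h7 : (ρ (sh (-1)) - 1) * (ρ (sh (-1)) + 1) = 0 := by
    rw [← sub_eq_zero.2 (congrArg Subtype.val (dat ρ).zz)]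
    change _ = ρ (sh (-1)) * ρ (sh (-1)) - 1
    noncomm_ring
  have h8 : finrank K (ker (ρ (sh (-1)) + 1)) ≤ finrank K M :=
    LinearMap.finrank_le_finrank_of_injective
      (f := (ker (ρ (sh (-1)) + 1)).subtype.codRestrict (M.restrictScalars K)
        fun x => eq_neg_of_add_eq_zero_left x.2)
      fun x y e => Subtype.ext (congrArg (fun t : M => (t : V)) e)
  rw [h7, ker_zero, finrank_top] at h6
  omega

end

theorem main (lt : H17.FV.LT.{u, v, w}) (g1 : G1.{u}) (g2 : G2.{u}) (g3 : G3.{u}) (g4 : G4.{u})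
    (cr : CR.{v, w}) (ek : EK.{v, w}) (cf : CF.{v, w}) (bl : BL.{v, w})
    {H : Type u} [Group H] [Finite H] (hR : 120 < (Cfsg.solvableRadical H).index)
    {K : Type v} {V : Type w} [Field K] [AddCommGroup V] [Module K V] [FiniteDimensional K V]
    (ρ : Representation K H V) :
    ∃ h : H, h ≠ 1 ∧ (finrank K V : ℚ) / 6 ≤ finrank K (ker (ρ h - 1)) := by
  by_contra hn
  have hs : Small ρ := fun h h1 => by_contra fun e => hn ⟨h, h1, by
    rw [div_le_iff₀ (by norm_num)]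
    exact_mod_cast (not_lt.1 e).trans (mul_comm _ _).le⟩
  obtain ⟨nt, ui⟩ := lt H K V ρ hs
  obtain ⟨L, hL⟩ := g1 H hR ui
  obtain ⟨p, hp, h7, X, f, hf⟩ := g2 L (nt.inj L.subtype_injective)
    ((l5 H K V ρ hs).inj L.subtype_injective) hL
  have := Fact.mk hp
  have i : Function.Injective (L.subtype.comp X.subtype) :=
    L.subtype_injective.comp X.subtype_injective
  let e := MulEquiv.ofBijective f ⟨g4.1 X p f h7 hf (g3 X p f h7 hf (ui.inj i) (nt.inj i)), hf.surj⟩
  have j : Function.Injective ((L.subtype.comp X.subtype).comp e.symm.toMonoidHom) :=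
    i.comp e.symm.injective
  by_cases h : p = 7
  · subst h
    exact g4.2 (nt.inj j)
  have h11 : 11 ≤ p := by
    by_contra c
    have : p = 8 ∨ p = 9 ∨ p = 10 := by omega
    rcases this with rfl | rfl | rfl <;> exact absurd hp (by norm_num)
  exact fin (ρ.comp ((L.subtype.comp X.subtype).comp e.symm.toMonoidHom)) cr ek cf bl h11
    fun x hx => hs _ ((map_ne_one_iff _ j).2 hx)

end H3.FV
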