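import Cfsg.Agent.H7.GP4

/-! S5267, chunk XC: the exceptional case with `c = n`. -/

set_option autoImplicit false
set_option linter.unusedSectionVars false

namespace H3.GP
open Subgroup H25 H25.FS H4 H4.P5 H4.G3 H4.Mx H7.GP
open scoped commutatorElement

universe u

theorem big {m A B : ℕ} (h : (A : ZMod m) = B) (l : B < A) : B + m ≤ A := by
  have := Nat.le_of_dvd (by omega)
    ((Nat.modEq_iff_dvd' l.le).1 ((ZMod.natCast_eq_natCast_iff _ _ _).1 h).symm)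
  omega

theorem par {m : ℕ} (hm : 2 ∣ m) (a : ZMod m) : 2 * a ≠ 1 := fun h => by
  have := congrArg (ZMod.castHom hm (ZMod 2)) h
  rw [map_mul, map_one, map_ofNat] at this
  revert this
  generalize ZMod.castHom hm (ZMod 2) a = b
  revert b; decide

variable {Γ : Type u} [Group Γ] [Finite Γ] {p n : ℕ} [hp : Fact p.Prime]
variable {P : ℕ → Subgroup Γ} {t : ℕ → Γ} {lc : ℕ → Γ → ZMod p}
variable {B E H M V X : Subgroup Γ} {g v w y ζ : Γ} {a c i j u d : ℕ}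

theorem un (o : CH p n P t lc) (r : MM p P M) (x : EX p n P) (q : Cg p n P M E X H V i j u n d) :
    u + 1 = n := by
  by_contra h
  have := q.uc
  exact q.gap.no (n - 1) (by omega) (by omega) fun m hm =>
    o.cenX x ▸ mem_nz_inf (r.nz hm) (mem_nz_cz (r.nz hm))

theorem ij (o : CH p n P t lc) (x : EX p n P) (q : Cg p n P M E X H V i j u n d) : i + j + 1 = n := by
  have := q.uc; have := q.ju; have := q.j1; have := q.ic
  have h1 : i + 1 < n - j + 1 := o.lt_of ((q.ci _ (o.up (o.mem (n - j)) (by omega))).2 fun w hw =>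
    o.up (o.cm0 _ _ _ (o.mem _) w hw) (by omega)) (o.nm (by omega))
  by_contra h
  exact (x.pair (i + 1) (n - 1 - (i + 1)) (by omega) (by omega) (by omega) _ (o.mem _) _ (o.mem _)
    (o.eq_one le_rfl ((q.ci _ (o.up (o.mem _) (by omega))).1 (o.mem _) _
      (o.up (o.mem _) (by omega))))).elim (o.nm (by omega)) (o.nm (by omega))

section
variable (o : CH p (i + j + 1) P t lc) (q : Cg p (i + j + 1) P M E X H V i j (i + j) (i + j + 1) d)
include o q

theorem hq : i + j + 1 ≤ j + 2 * d := by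
  have := q.i2
  by_contra h
  exact o.nm (by omega) (q.ex _ (o.mem i) (q.nmi o) j le_rfl q.dc _ (o.mem j)
    (o.up (o.cm0 _ _ _ (o.mem i) _ (o.mem j)) (by omega)))

theorem srz (hg : g ∈ X) (hg' : g ∉ H) : ⁅t i, g * t (i + j) * g⁻¹⁆ ∉ P (i + j + 1) := fun k =>
  q.zn o rfl hg hg' (by
    simpa [commutatorElement_def] using mul_mem (mem_sup_left (q.sr g hg hg' _ (o.mem _) _
      (q.xN o (o.mem i)) (q.tE o) k g hg)) (mem_sup_right (mem_zpowers (t (i + j)))))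

omit q in
theorem mv (hv : v ∈ P j) (h : ⁅t i, v⁆ ∉ P (i + j + 1)) (hζ : ζ ∈ P (i + j)) :
    ∃ k : ℕ, ⁅t i ^ k, v⁆ = ζ := by
  have c : ∀ y ∈ P i, ⁅y, v⁆ ∈ P (i + j) := fun y hy => o.cm0 _ _ y hy v hv
  refine ⟨(lc (i + j) ζ / lc (i + j) ⁅t i, v⁆).val, mul_inv_eq_one.1 (o.eq_one le_rfl
    (o.mq (by omega) (c _ (pow_mem (o.mem i) _)) hζ ?_))⟩
  rw [(o.adL (by omega) (o.le i) c).pow (o.mem i), ZMod.natCast_zmod_val,
    div_mul_cancel₀ _ (o.ne (c _ (o.mem i)) h)]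

theorem cjV (hg : g ∈ X) : g * t (i + j) * g⁻¹ ∈ V := conj_mem_of_mem_nz (q.XV hg) (q.UV (o.mem _))

theorem tv (hg : g ∈ X) (hg' : g ∉ H) : V ≤ P (i + j) ⊔ zpowers (g * t (i + j) * g⁻¹) := by
  refine q.gen _ fun h hh => ?_
  by_cases hH : h ∈ H
  · exact (mem_nz.1 ((q.nU h hh).1 hH)).le.trans le_sup_left
  rw [← q.zsup o rfl, cj_sup, cj_zpowers, mem_nz.1 (q.Xc hh), q.zsup o rfl]
  refine sup_le ((o.anti (by omega)).trans le_sup_left) (zpowers_le.2 ?_)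
  have c : ∀ w ∈ V, ⁅t i, w⁆ ∈ P (i + j) := fun w hw => o.cm0 _ _ _ (o.mem i) w (q.Vj hw)
  have f := (o.adR (by omega) (q.Vj.trans (o.le j)) c).cj (inv_mem (q.XV hg))
  have f0 := o.ne (c _ (cjV o q (inv_mem hg))) (srz o q (inv_mem hg) (mt inv_mem_iff.1 hg'))
  set a := -lc (i + j) ⁅t i, g⁻¹ * (h * t (i + j) * h⁻¹) * g⁻¹⁻¹⁆ /
    lc (i + j) ⁅t i, g⁻¹ * t (i + j) * g⁻¹⁻¹⁆
  obtain ⟨k, hk⟩ := mv o (q.Vj (cjV o q hh)) (srz o q hh hH) (pow_mem (o.mem (i + j)) a.val)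
  have xk : g⁻¹ * (t i ^ k * h) ∈ X := mul_mem (inv_mem hg) (mul_mem (pow_mem (q.xX o (o.mem i)) k) hh)
  have e : g⁻¹ * (t i ^ k * h) * t (i + j) * (g⁻¹ * (t i ^ k * h))⁻¹ =
      g⁻¹ * (t (i + j) ^ a.val * (h * t (i + j) * h⁻¹)) * g⁻¹⁻¹ := by
    rw [← hk, commutatorElement_def]; group
  have k1 : g⁻¹ * (t i ^ k * h) ∈ H := by_contra fun k0 => srz o q xk k0 <| by
    refine (o.ker _ (by omega) _ (c _ (cjV o q xk))).1 ?_
    have f1 := f _ (pow_mem (q.UV (o.mem _)) a.val) _ (cjV o q hh)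
    have f2 := f.pow (q.UV (o.mem _)) a.val
    dsimp only at f1 f2
    rw [e, f1, f2, ZMod.natCast_zmod_val, div_mul_cancel₀ _ f0, neg_add_cancel]
  have k2 := conj_mem_of_mem_nz ((q.nU _ xk).1 k1) (o.mem (i + j))
  rw [e, ← q.zsup o rfl, o.bot le_rfl, bot_sup_eq] at k2
  obtain ⟨b, hb⟩ := mem_zpowers_iff.1 k2
  rw [show h * t (i + j) * h⁻¹ = (t (i + j) ^ a.val)⁻¹ * (g * t (i + j) * g⁻¹) ^ b by
    rw [conj_zpow, hb]; group]
  exact mul_mem (mem_sup_left (inv_mem (pow_mem (o.mem _) _))) (mem_sup_right (zpow_mem_zpowers _ _))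

theorem vj (hg : g ∈ X) (hg' : g ∉ H) : g * t (i + j) * g⁻¹ ∉ P (j + 1) := fun k =>
  srz o q hg hg' (o.cm0 _ _ _ (o.mem i) _ k)

theorem lvl (hg : g ∈ X) (hg' : g ∉ H) (h1 : j < c) (hw : w ∈ P c ⊔ zpowers (g * t (i + j) * g⁻¹))
    (h : w ∈ P (j + 1)) : w ∈ P c := by
  have hv := cjV o q hg
  obtain ⟨a, ha, b, hb, rfl⟩ := (mem_sup_of_le_nz_left (zpowers_le.2 (o.nzb j c (q.Vj hv)))).1 hw
  obtain ⟨k, rfl⟩ := mem_powers_iff_mem_zpowers.2 hb
  by_cases k0 : (k : ZMod p) = 0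
  · obtain ⟨k, rfl⟩ := (ZMod.natCast_eq_zero_iff _ _).1 k0
    dsimp only
    rwa [pow_mul, o.eq_one le_rfl (q.el.pw _ hv), one_pow, mul_one]
  · exact absurd ((mul_mem_cancel_left (o.up ha h1)).1 h)
      (H24.XE.pow_notMem (o.pP j) (q.Vj hv) (vj o q hg hg') k0)

/-- elements of `E` of a given level -/
theorem exE (hg : g ∈ X) (hg' : g ∉ H) (h1 : 1 ≤ a) (h2 : a ≤ i + j) (h3 : a ≠ i)
    (h : ⁅t a, g * t (i + j) * g⁻¹⁆ ∈ P (i + j)) : ∃ e ∈ E, e ∈ P a ∧ e ∉ P (a + 1) := by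
  rcases h3.lt_or_gt with h3 | h3
  · obtain ⟨k, hk⟩ := mv o (q.Vj (cjV o q hg)) (srz o q hg hg') h
    have xk := inv_mem (pow_mem (o.up (o.mem i) h3) k)
    have m := mul_mem (o.up xk a.le_succ) (o.mem a)
    refine ⟨_, (q.cen _ (o.up m h1)).2 fun w hw => cm_gen (sup_le (o.nzb _ _)
      (zpowers_le.2 (o.nzb j _ (q.Vj (cjV o q hg))))) (fun z hz => o.act' hz (o.le a m)) ?_ w
      (tv o q hg hg' hw), m, fun k => o.nm (by omega) ((mul_mem_cancel_left xk).1 k)⟩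
    rw [show ∀ v, ⁅(t i ^ k)⁻¹ * t a, v⁆ = (t i ^ k)⁻¹ * (⁅t a, v⁆ * v) * t i ^ k * v⁻¹ by
      intro v; simp only [commutatorElement_def]; group, ← hk]
    simp [commutatorElement_def, mul_assoc]
  · exact ⟨_, q.iE (o.up (o.mem a) h3), o.mem a, o.nm (by omega)⟩

theorem nab (x : EX p (i + j + 1) P) : ¬ ∀ a ∈ P 1, ∀ b ∈ P 1, ⁅a, b⁆ ∈ P (i + j) := fun h => by
  obtain ⟨g, hg, hg'⟩ := q.exg
  have := x.six
  obtain ⟨a, a1, a2, a3, a4⟩ : ∃ a, 1 ≤ a ∧ a ≤ 3 ∧ a ≠ i ∧ a ≠ j := by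
    by_contra k
    push Not at k
    have := k 1; have := k 2; have := k 3
    omega
  have v1 := q.EP (q.VE (cjV o q hg))
  obtain ⟨e, e1, e2, e3⟩ := exE o q hg hg' a1 (by omega) a3 (h _ (o.up (o.mem _) a1) _ v1)
  obtain ⟨f, f1, f2, f3⟩ := exE o q hg hg' (a := i + j - a) (by omega) (by omega) (by omega)
    (h _ (o.up (o.mem _) (by omega)) _ v1)
  refine hg' ((q.nU g hg).2 (mem_nz_of_le ?_))
  conv_lhs => rw [← o.sup (h _ (q.EP e1) _ (q.EP f1)) fun k => (x.pair a (i + j - a) a1 (by omega)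
    (by omega) e e2 f f2 (o.eq_one le_rfl k)).elim e3 f3, cj_sup, cj_zpowers, mem_nz.1 (q.Xc hg)]
  refine sup_le (o.anti (by omega)) (zpowers_le.2 ?_)
  convert h _ (q.EP (conj_mem_of_mem_nz (q.lc.An hg) e1)) _ (q.EP (conj_mem_of_mem_nz (q.lc.An hg) f1))
    using 1
  simp only [commutatorElement_def]; group

theorem chij (h5 : 5 ≤ p) (fl : M ≤ Fl P) : ¬ ∀ m ∈ M, chi t lc j m = 1 := fun h => by
  obtain ⟨g, hg, hg'⟩ := q.exg
  have := q.j1; have := q.i2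
  have := tr1 q.lc le_rfl (q.xN o (o.mem i)) (q.xX o (o.mem i)) (q.tE o) (q.xp o (o.mem i))
    (fun g => lc j (g⁻¹ * t (i + j) * g)) (fun g hg a ha hH => by
      obtain ⟨m, hm, k⟩ := q.exm (inv_mem hH)
      have hv := cjV o q (inv_mem hg)
      have := o.chi_eq (by omega) (fl_nz (fl hm) q.j1) (fl_nz (fl hm) (by omega)) (q.Vj hv)
      rw [h m hm, mul_one, ← k _ (q.VE hv)] at this
      simpa [mul_assoc] using this) (k := 1) (fun g₀ h₀ g hg =>
      (pd1 (q.quad1 o (hq o q) (inv_mem (o.mem i))) (q.XV (inv_mem (q.xX o (o.mem i))))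
        (((o.add j).mono q.Vj).cj (inv_mem (q.XV hg))) (fun b hb => by
          simpa [o.eq_one le_rfl hb] using (o.add j).one) (cjV o q (inv_mem h₀))).congr fun n => by
        congr 1; simp only [inv_pow]; group) (by omega) (inv_mem hg)
  simp only [inv_inv, inv_one, one_mul, mul_one] at this
  exact vj o q hg hg' ((o.ker _ (by omega) _ (q.Vj (cjV o q hg))).1
    (this.trans (o.zero (by omega) (o.up (o.mem _) (by omega)))))

omit q in
theorem cen2 (h : ∀ w ∈ P 1, ⁅t 2, w⁆ ∈ P (i + j)) : ∀ a ∈ P 1, ∀ b ∈ P 1, ⁅a, b⁆ ∈ P (i + j) := by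
  have := o.four
  have s : P (i + j) ≤ P 1 := o.anti (by omega)
  have k := o.le_inv (Y := P 1 ⊓ stab (P 1) (P (i + j))) (mem_nz_inf (o.nz0 1 (o.mem 0))
    (nz_stab (o.nz0 1 (o.mem 0)) (o.nz0 _ (o.mem 0)))) inf_le_left
    ⟨o.up (o.mem 2) (by omega), (stab_iff s).2 h⟩ (o.nm (a := 2) (by omega))
  rw [← o.sup (o.mem 1) (o.nm (by omega))]
  exact comm_gen (sup_le (o.nzb _ _) (zpowers_le.2 (o.nzb _ _ (o.mem 1))))
    (fun a ha b hb => (stab_iff s).1 (k ha).2 b (o.up hb (by omega)))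
    fun a ha => (stab_iff s).1 (k ha).2 _ (o.mem 1)

theorem flag (r : MM p P M) (x : EX p (i + j + 1) P) (fl : M ≤ Fl P) : False := by
  have T : Tr P (i + j) := o.trm
  have hq := hq o q
  have n6 := x.six; have nl := x.le; have i2 := q.i2; have j1 := q.j1
  obtain ⟨g, hg, hg'⟩ := q.exg
  have nab := nab o q x
  obtain ⟨y, hy, ny⟩ : ∃ y ∈ P 1, ¬ ∀ w ∈ P 1, ⁅y, w⁆ ∈ P (i + j) := by simpa using nab
  obtain ⟨b, b1, -, b2, b3⟩ := o.level hy fun k => ny fun w hw => comm_mem_l k (o.nzb 1 _ hw)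
  obtain ⟨D₀, d1, -, d2, d3⟩ := o.exD (o.shT T le_rfl b1 b2) ny
  obtain ⟨e, rfl⟩ := Nat.exists_eq_add_of_le' (show b ≤ D₀ by omega)
  have m0 : ∀ m ∈ M, mu t lc m ≠ 0 := fun m hm => o.mu_ne (fl hm)
  have W := fun m hm => o.wt_mu r T (by omega) (m := m) hm (fl hm)
  have b4 : b < i + j := o.lt_of b2 fun k => ny fun w hw => comm_mem_l k (o.nzb 1 _ hw)
  have c1 : ∀ a, 1 ≤ a → a < i + j → ∀ m ∈ M, chi t lc a m = mu t lc m ^ (e + a) := fun a a1 a2 m hm => by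
    obtain ⟨a, rfl⟩ := Nat.exists_eq_add_of_le a1
    obtain ⟨b, rfl⟩ := Nat.exists_eq_add_of_le b1
    have h1 := o.wt2 (by omega) (fl hm) (W m hm) b1 b2 b3 d2 d3
    rw [(W m hm).pow le_rfl b b4, ← add_assoc, pow_add] at h1
    rw [(W m hm).pow le_rfl a a2, mul_right_cancel₀ (pow_ne_zero b (m0 m hm)) h1, ← pow_add, add_assoc]
  have c2 : ∀ m ∈ M, chi t lc (i + j) m = mu t lc m ^ (e + i + (e + j)) := fun m hm => by
    rw [pow_add, ← c1 i (by omega) (by omega) m hm, ← c1 j j1 (by omega) m hm]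
    exact o.pairw x (fl hm) (by omega) j1 rfl
  have cop := q.cop o rfl hq m0 c2
  choose h h1 h2 h3 using fun a => exh cop (e + a)
  have c3 : ∀ a, 1 ≤ a → a < i + j → ∀ m ∈ M, chi t lc a m = chi t lc (i + j) m ^ h a :=
    fun a a1 a2 m hm => by rw [c1 a a1 a2 m hm, c2 m hm, h3 a _ (m0 m hm)]
  have h4 : ∀ a, (h a : ZMod (p - 1)) * (e + i + (e + j)) = e + a := fun a => by
    exact_mod_cast (ZMod.natCast_eq_natCast_iff _ _ _).2 (h2 a)
  have ev : 2 ∣ p - 1 := (hp.out.even_sub_one (by omega)).two_dvd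
  have hi : h i = 2 := by
    refine (q.endh o r rfl hq (fun m hm => fl_nz (fl hm) (by omega)) (by omega) (h1 i)
      (c3 i (by omega) (by omega))).resolve_left fun k => chij o q (by omega) fl fun m hm => ?_
    have e1 := o.pairw x (fl hm) (show 1 ≤ i by omega) j1 rfl
    rw [c3 i (by omega) (by omega) m hm, k, pow_one] at e1
    exact (mul_left_cancel₀ (q.zne o rfl hm) ((mul_one _).trans e1)).symm
  have h5 := h4 i
  rw [hi, Nat.cast_ofNat] at h5
  obtain ⟨D, sh, hD⟩ : ∃ D, Sh P (i + j) 1 D (t i) ∧ ((D = i + j ∧ i ≠ 2) ∨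
      (i + 1 ≤ D ∧ D + 2 ≤ i + j ∧ (D : ZMod (p - 1)) = e + i)) := by
    by_cases k : ∀ w ∈ P 1, ⁅t i, w⁆ ∈ P (i + j)
    · exact ⟨_, o.shc k, .inl ⟨rfl, fun k' => nab (cen2 o (k' ▸ k))⟩⟩
    obtain ⟨D, d1, d2, d3, d4⟩ := o.exD (o.shT T le_rfl (by omega) (o.mem i)) k
    refine ⟨D, d3, .inr ⟨d1, by omega, ?_⟩⟩
    exact_mod_cast (ZMod.natCast_eq_natCast_iff _ _ _).2 (q.modeq o rfl hq m0 c2 fun m hm => by
      rw [← c1 i (by omega) (by omega) m hm,
        o.wt2 (by omega) (fl hm) (W m hm) (by omega) (o.mem i) (q.nmi o) d3 d4])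
  have D1 : i + 1 ≤ D := by omega
  have nil : ∀ {B : Subgroup Γ} (c), c ≤ i + j → P c ≤ B → Nil ((c - 2) / D) (P 1) B {t i} :=
    fun c c1 c2 => o.nil sh (o.le i (o.mem i)) le_rfl ((o.anti (by
      have := Nat.lt_mul_div_succ (c - 2) (show 0 < D by omega)
      rw [mul_comm] at this
      omega)).trans c2)
  have evk : ∀ {B : Subgroup Γ} {y : Γ} (a c), B ≤ E → X ≤ nz B → 1 ≤ a → a < i + j → y ∈ E → y ∈ P a →
      (∀ w ∈ E, w ∈ P (a + 1) → w ∈ B) → y ∉ B → c ≤ i + j → P c ≤ B → h a * D ≤ c - 2 :=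
    fun a c k1 k2 k3 k4 k5 k6 k7 k8 k9 k0 => (Nat.mul_le_mul_right D (q.ev o fl k1 k2 k3 k5 k6 k7
      (k1.trans q.EP) (fun g hg => q.EP (conj_mem_of_mem_nz (q.lc.An hg) k5)) (nil c k9 k0) k8 rfl hq (h1 a)
      (c3 a k3 k4))).trans (Nat.div_mul_le_self _ _)
  have nV : ∀ w ∈ P (j + 1), w ∉ P (i + j) → w ∉ V := fun w k1 k2 k3 =>
    k2 (lvl o q hg hg' (by omega) (tv o q hg hg' k3) k1)
  obtain ⟨s, hs⟩ : ∃ s, i + j = s + 2 := ⟨i + j - 2, by omega⟩
  have hs' : (i : ZMod (p - 1)) + j = s + 2 := by exact_mod_cast congrArg (Nat.cast (R := ZMod (p - 1))) hs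
  rcases j1.eq_or_lt with rfl | j2
  · obtain rfl : i = s + 1 := by omega
    have v1 := q.Vj (cjV (i := s + 1) (j := 1) o q hg)
    obtain ⟨y, y1, y2, y3⟩ := exE (i := s + 1) (j := 1) o q hg hg' (a := s) (by omega) (by omega) (by omega)
      (o.cm1 s 1 (by omega) le_rfl (by omega) _ (o.mem s) _ v1)
    have := evk s _ q.VE q.XV (by omega) (by omega) y1 y2 (fun w k1 k2 => q.UV (q.nE w k2 k1))
      (nV y (o.up y2 (by omega)) fun k => y3 (o.up k (by omega))) le_rfl q.UV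
    have h0 : h s = 0 := by
      by_contra k
      have := Nat.mul_le_mul_right D (Nat.one_le_iff_ne_zero.2 k)
      omega
    have h6 := h4 s
    rw [h0] at h6
    push_cast at h5 h6
    exact par ev (e + (s + 1) + (e + 1)) (by linear_combination h5 - h6)
  have y1 : t (s + 1) ∈ E := q.iE (o.up (o.mem _) (by omega))
  have y2 : ∀ w ∈ E, w ∈ P (s + 1 + 1) → w ∈ V := fun w _ k => q.UV (hs ▸ k)
  have k1 := evk (s + 1) _ q.VE q.XV (by omega) (by omega) y1 (o.mem _) y2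
    (nV _ (o.up (o.mem _) (by omega)) (hs ▸ o.nm (by omega))) le_rfl q.UV
  have h6 := h4 (s + 1)
  push_cast at h6
  rcases Nat.eq_zero_or_pos (h (s + 1)) with k0 | k0
  · rw [k0, Nat.cast_zero] at h6
    rcases (show 2 ≤ j from j2).eq_or_lt with rfl | j3
    · exact par ev (-(e + i + (e + 2))) (by push_cast at h5 h6 hs'; linear_combination -h5 + h6 - hs')
    rcases i2.eq_or_lt with rfl | i3
    · obtain k | ⟨k1, k2, k3⟩ := hD
      · exact k.2 rfl
      have := big (B := 2) (A := D) (m := p - 1) (by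
        push_cast at h5 h6 hs' k3 ⊢; linear_combination k3 + h5 + 2 * h6 - 2 * hs') k1
      omega
    have XB := q.ev0 o fl q.VE q.XV (by omega) y1 (o.mem _) y2 (q.VE.trans q.EP)
      (fun g hg => q.EP (conj_mem_of_mem_nz (q.lc.An hg) y1)) (nil _ le_rfl q.UV)
      ((Nat.div_le_self _ _).trans_lt (by omega)) fun m hm => by
        rw [c3 _ (by omega) (by omega) m hm, k0, pow_zero]
    have PB : P (s + 1) ≤ V ⊔ zpowers (t (s + 1)) := o.le_of (o.mem _) (o.nm (by omega))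
      (mem_sup_right (mem_zpowers _)) ((hs ▸ q.UV).trans le_sup_left)
    have k2 := evk s (s + 1) (sup_le q.VE (zpowers_le.2 y1)) XB (by omega) (by omega)
      (q.iE (o.up (o.mem s) (by omega))) (o.mem s) (fun w _ k => PB k) (fun k => o.nm (by omega)
        (lvl o q hg hg' (c := s + 1) (by omega) (sup_le ((tv o q hg hg').trans (sup_le_sup_right
          (o.anti (by omega)) _)) (zpowers_le.2 (mem_sup_left (o.mem _))) k) (o.up (o.mem s) (by omega))))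
      (by omega) PB
    obtain ⟨i, rfl⟩ := Nat.exists_eq_add_of_le' (show 1 ≤ i by omega)
    have h7 := h4 s
    have := big (B := 0) (A := h s * i + 1) (m := p - 1) (by
      push_cast at h5 h6 h7 hs' ⊢
      linear_combination h7 - h6 - (h s : ZMod (p - 1)) * (h5 + h6 - hs')) (by omega)
    have := Nat.mul_le_mul_left (h s) (show i ≤ D by omega)
    omega
  obtain k | ⟨-, k2, k3⟩ := hD
  · have := Nat.mul_le_mul_right D k0
    omega
  obtain ⟨i, rfl⟩ := Nat.exists_eq_add_of_le' (show 1 ≤ i by omega)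
  obtain ⟨j, rfl⟩ := Nat.exists_eq_add_of_le' (show 1 ≤ j by omega)
  rcases (show 1 ≤ h (s + 1) from k0).eq_or_lt with k0 | k0
  · rw [← k0] at h6
    have := big (B := i) (A := D) (m := p - 1) (by
      push_cast at h5 h6 hs' k3 ⊢; linear_combination k3 + h6 - hs') (by omega)
    omega
  obtain ⟨a, ha⟩ := Nat.exists_eq_add_of_le' (show 2 ≤ h (s + 1) from k0)
  rw [ha] at h6 k1
  have z : ((p - 1 : ℕ) : ZMod (p - 1)) = 0 := ZMod.natCast_self _
  have a1 := big (B := 2 * i) (A := a * D + 3 * D) (m := p - 1) (by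
    push_cast at h5 h6 hs' k3 ⊢
    linear_combination (a + 3) * k3 - (a + 1) * h5 + 2 * h6 - 2 * hs') (by omega)
  have a2 := big (B := 2 * j) (A := a * D + 2 * (p - 1)) (m := p - 1) (by
    rw [Nat.cast_add, Nat.cast_mul 2, z]
    push_cast at h5 h6 hs' k3 ⊢
    linear_combination a * k3 - (a + 2) * h5 + 2 * h6 - 2 * hs') (by omega)
  rw [add_mul] at k1
  omega

end

theorem xc (hto : TO.{u}) : XC.{u} := by
  intro Γ _ _ p n _ P t lc M E X H V i j u d o r x q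
  obtain rfl := ij o x q
  obtain rfl : u = i + j := by have := un o r x q; omega
  by_cases fl : M ≤ Fl P
  · exact flag o q r x fl
  have := q.j1
  obtain ⟨k, k1, k2, k3, -⟩ := hto (c := i + j) o r o.trm (.inr ⟨rfl, x⟩) (nab o q x) fl _
    (o.chrK (by omega) (by omega) q.gap.Ka q.gap.Kb)
  exact q.zexp o rfl (hq o q) k1 (by omega) k3

end H3.GP
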