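import Cfsg.Agent.H3.PT3

/-! Comparing `p`-parts of character degrees. -/

set_option autoImplicit false
set_option linter.unusedSectionVars false

open Subgroup MulAction H19 H20 H6 Cfsg H3.PT

namespace H3.GR

universe u
variable {G : Type u} [Group G] [Finite G] {p q : ℕ} [hp : Fact p.Prime] [hq : Fact q.Prime]
  {F H J K L M N P T : Subgroup G} {χ ψ φ θ μ η : G → ℂ}

abbrev v (p n : ℕ) : ℕ := padicValNat p n

theorem v_le {a b : ℕ} (h : a ∣ b) (hb : b ≠ 0) : v q a ≤ v q b :=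
  (padicValNat_dvd_iff_le hb).1 (pow_padicValNat_dvd.trans h)

theorem v_lt {a b : ℕ} (ha : PiN {q} a) (hb : PiN {q} b) (h0 : a ≠ 0) (h : a < b) : v q a < v q b := by
  obtain ⟨i, rfl⟩ := ha.exists_pow h0
  obtain ⟨j, rfl⟩ := hb.exists_pow (by omega)
  rw [v, v, padicValNat.prime_pow, padicValNat.prime_pow]
  exact (Nat.pow_lt_pow_iff_right hq.out.one_lt).1 h

theorem v_pos {a : ℕ} (h0 : a ≠ 0) : 0 < v q a ↔ q ∣ a := by
  rw [dvd_iff_padicValNat_ne_zero h0, Nat.pos_iff_ne_zero]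

theorem dn (h : χ ∈ Irr H) : deg χ ≠ 0 := (irr_deg_pos h).ne'

theorem ex_con (h : φ ∈ Chr L) (h0 : deg φ ≠ 0) :
    ∃ ψ ∈ Irr L, dot L φ ψ ≠ 0 ∧ v q (deg ψ) ≤ v q (deg φ) := by
  by_contra! e
  refine pow_succ_padicValNat_not_dvd (p := q) h0 ?_
  conv_rhs => rw [deg_eq_sum h]
  refine Finset.dvd_sum fun ξ hξ => ?_
  by_cases e' : mu L φ ξ = 0
  · rw [e', zero_mul]; exact dvd_zero _
  · exact ((padicValNat_dvd_iff_le (dn hξ)).2 (e ξ hξ ((mu_ne h (irr_chr hξ)).1 e'))).mul_left _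

theorem down (h : χ ∈ Irr L) (hH : H ≤ L) :
    ∃ ψ ∈ Irr H, dot H χ ψ ≠ 0 ∧ v q (deg ψ) ≤ v q (deg χ) := by
  simpa only [dot_Res_left, deg_Res] using
    ex_con (q := q) (chr_Res (irr_chr h) hH) (by rw [deg_Res]; exact dn h)

theorem up (h : ψ ∈ Irr H) (hH : H ≤ L) :
    ∃ χ ∈ Irr L, dot H χ ψ ≠ 0 ∧ v q (deg χ) ≤ v q (H.relIndex L) + v q (deg ψ) := by
  have e := deg_Ind (irr_chr h) hH
  obtain ⟨χ, a, b, c⟩ := ex_con (q := q) (chr_Ind (irr_chr h) hH)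
    (e ▸ mul_ne_zero (relIndex_ne_zero' _ _) (dn h))
  rw [dot_Ind_left hH _ (irr_cinv a), Ne, dot_eq_zero_comm] at b
  exact ⟨χ, a, b, by rwa [e, v, v, padicValNat.mul (relIndex_ne_zero' _ _) (dn h)] at c⟩

theorem perm (hJ : J ≤ M) (hK : M ≤ N(K)) (h1 : K ≤ J) (hN : N ≤ M) (h : ¬ N ≤ J) :
    ∃ ξ ∈ Irr M, K ≤ cker ξ ∧ ¬ N ≤ cker ξ ∧ deg ξ < J.relIndex M := by
  by_contra! e
  refine h (le_trans (le_cker_of_constituents (chr_Ind (triv_mem_Chr J) hJ) fun ψ h6 h7 => ?_)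
    (cker_Ind_le (G := M) (triv_mem_Chr J) (by simp)))
  by_cases h8 : ψ = triv M
  · rwa [h8, cker_triv]
  have h9 := deg_lt_of_dot (chr_Ind (triv_mem_Chr J) hJ) h6 (triv_mem_Irr M) h8 h7
    (by rw [dot_Ind_triv_triv hJ]; exact one_ne_zero)
  rw [deg_Ind (triv_mem_Chr J) hJ, deg_triv, mul_one] at h9
  rw [dot_Ind_left hJ _ (irr_cinv h6), Ne, dot_eq_zero_comm] at h7
  exact by_contra fun e' => (e ψ h6 (le_cker_of_above h6 hJ (triv_mem_Chr J) h7 hK h1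
    (by rwa [cker_triv])) e').not_gt h9

theorem nr [K.Normal] : H ≤ N(K) := normalIn_top.norms le_top

theorem idx_q [K.Normal] (S : Sylow q G) : PiN {q} (K.relIndex (K ⊔ (S : Subgroup G))) := by
  rw [relIndex_sup_left]; exact (spi S).relIndex _

theorem idx_q' (S : Sylow q G) : ¬ q ∣ (K ⊔ (S : Subgroup G)).relIndex ⊤ :=
  (syl_sylow_top S).not_dvd_relIndex hq.out le_sup_right

theorem le_sup_syl [P.Normal] (h : PiN {q} (K.relIndex P)) (S : Sylow q G) :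
    P ≤ K ⊔ (S : Subgroup G) :=
  relIndex_eq_one.1 (PiN.eq_one (h.dvd (relIndex_dvd_left le_sup_left P))
    ((PiN.of_not_dvd (idx_q' S)).dvd (relIndex_dvd_of_norm' nr le_top le_top)))

theorem small [K.Normal] [N.Normal] (S : Sylow q G) (hN : N ≤ K ⊔ (S : Subgroup G)) (hK : K ≤ J)
    (hJ : J ≤ K ⊔ (S : Subgroup G)) (h : ¬ N ≤ J) : ∃ ξ ∈ Irr ⊤, K ≤ cker ξ ∧ ¬ N ≤ cker ξ ∧
      v q (deg ξ) < v q (J.relIndex (K ⊔ (S : Subgroup G))) := by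
  obtain ⟨ξ, a, b, c, d⟩ := perm hJ nr hK hN h
  obtain ⟨χ, e, f, g⟩ := up (q := q) a le_top
  refine ⟨χ, e, le_cker_of_above e le_top (irr_chr a) f nr le_sup_left b,
    fun i => c (le_cker_of_below (irr_chr e) le_top a f hN i), ?_⟩
  rw [v, v, padicValNat.eq_zero_of_not_dvd (idx_q' S), zero_add] at g
  exact g.trans_lt (v_lt ((idx_q S).dvd (deg_dvd_of_ab ⟨le_sup_left, nr⟩ a ((der_le _).trans b)))
    ((idx_q S).dvd (relIndex_dvd_left hK _)) (dn a) d)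

/-- relative Taketa step -/
theorem lemT [K.Normal] [P.Normal] (hP : PiN {q} (K.relIndex P)) (hχ : χ ∈ Irr ⊤) (hK : K ≤ cker χ)
    (h : ¬ ⁅P, P⁆ ≤ cker χ) :
    ∃ ξ ∈ Irr ⊤, K ≤ cker ξ ∧ ¬ P ≤ cker ξ ∧ v q (deg ξ) < v q (deg χ) := by
  obtain ⟨S⟩ : Nonempty (Sylow q G) := inferInstance
  have h1 := le_sup_syl hP S
  obtain ⟨ψ, a, b, c⟩ := down (q := q) hχ (le_top (a := K ⊔ (S : Subgroup G)))
  have d := le_cker_of_below (irr_chr hχ) le_top a b le_sup_left hK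
  obtain ⟨J, j, l, h2, e⟩ := mon_of_ab_nil ⟨le_sup_left, nr⟩
    (PiN.nil (p := q) (by unfold PG PiG; rw [card_quo nr]; exact idx_q S)) a ((der_le _).trans d)
  obtain ⟨ξ, x1, x2, x3, x4⟩ := small S h1 (d.trans (e ▸ cker_Ind_le h2.chr (h2.one ▸ one_ne_zero)))
    j fun i => h (le_cker_of_above hχ le_top (irr_chr a) b nr ((der_le _).trans h1)
      (e ▸ le_cker_Ind nr ((der_le _).trans i) ((der_mono i).trans h2.der_le)))
  exact ⟨ξ, x1, x2, x3, x4.trans_le (by rwa [← e, deg_Ind h2.chr j, h2.deg, mul_one] at c)⟩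

theorem cinv_below [F.Normal] [N.Normal] (hχ : χ ∈ Irr ⊤) (hθ : θ ∈ Irr F) (hφ : φ ∈ Irr F)
    (h1 : dot F χ θ ≠ 0) (h2 : dot F χ φ ≠ 0) (h : CInv N θ) : CInv N φ := by
  obtain ⟨g, -, rfl⟩ := mem_orb.1 (clifford_conj normalIn_top hχ hθ hφ h1 h2)
  exact h.cfj (H5.RD.mem_nrm N g)

theorem lemQ [F.Normal] [N.Normal] (hN : PiN {q} (F.relIndex N)) (hθ : θ ∈ Irr F)
    (hχ : χ ∈ Irr ⊤) (h1 : dot F χ θ ≠ 0) (h : ¬ CInv N θ) :
    ∃ ξ ∈ Irr ⊤, F ≤ cker ξ ∧ ¬ N ≤ cker ξ ∧ v q (deg ξ) < v q (deg χ) := by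
  obtain ⟨S⟩ : Nonempty (Sylow q G) := inferInstance
  obtain ⟨ψ, a, b, c⟩ := down (q := q) hχ (le_top (a := F ⊔ (S : Subgroup G)))
  obtain ⟨φ, d, e⟩ := irr_exists_below a le_sup_left
  obtain ⟨ξ, x1, x2, x3, x4⟩ := small S (le_sup_syl hN S) (H20.le_inertia (irr_cinv d) le_sup_left)
    (inertia_le _ φ) fun i => h (cinv_below hχ d hθ (dot_ne_below (irr_chr hχ) le_top le_sup_left a
      (irr_chr d) b e) h1 (le_inertia_iff.1 i).2)
  exact ⟨ξ, x1, x2, x3, x4.trans_le ((v_le ((dvd_mul_right _ _).trans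
    (clifford_dvd ⟨le_sup_left, nr⟩ a d e)) (dn a)).trans c)⟩

theorem lemQ0 [F.Normal] (hθ : θ ∈ Irr F) (hχ : χ ∈ Irr ⊤) (h1 : dot F χ θ ≠ 0) (h : ¬ CInv N θ) :
    ∃ ξ ∈ Irr ⊤, F ≤ cker ξ ∧ ¬ N ≤ cker ξ ∧ deg ξ < deg χ :=
  let ⟨ξ, a, b, c, d⟩ := perm (inertia_le ⊤ θ) nr (H20.le_inertia (irr_cinv hθ) le_top) le_top
    fun i => h (le_inertia_iff.1 i).2
  ⟨ξ, a, b, c, d.trans_le (Nat.le_of_dvd (irr_deg_pos hχ) ((dvd_mul_right _ _).trans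
    (clifford_dvd normalIn_top hχ hθ h1)))⟩

theorem ex_prime [F.Normal] [N.Normal] (hF : F ≤ N) (hab : ⁅N, N⁆ ≤ F) (hT : F ≤ T) (h : ¬ N ≤ T) :
    ∃ q, q.Prime ∧ ∃ M : Subgroup G, M.Normal ∧ F ≤ M ∧ M ≤ N ∧ PiN {q} (F.relIndex M) ∧ ¬ M ≤ T := by
  by_contra! e
  refine h (le_of_syl fun q Q a b => le_sup_right.trans (e q a (F ⊔ Q) (normalizer_eq_top_iff.1
    (top_le_iff.1 (b.sup_norm_of_nil_quo nr (nil_of_ab ((ab_quo_iff nr).2 hab)) nr nr))) le_sup_left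
      (sup_le hF b.le) ?_))
  rw [relIndex_sup_left]; exact b.pi.relIndex _

theorem eqdeg [N.Normal] (h : ⁅(⊤ : Subgroup G), ⊤⁆ ≤ N) (hμ : μ ∈ Irr N) (hχ : χ ∈ Irr ⊤)
    (hψ : ψ ∈ Irr ⊤) (h1 : dot N χ μ ≠ 0) (h2 : dot N ψ μ ≠ 0) : deg χ = deg ψ := by
  obtain ⟨e, -, -, -, a, -⟩ := Ind_ab_inertia normalIn_top hμ ((der_mono le_top).trans h)
  exact deg_congr ((a χ (mem_ovr.2 ⟨hχ, h1⟩)).2.trans (a ψ (mem_ovr.2 ⟨hψ, h2⟩)).2.symm)

theorem inv_res [F.Normal] (hμ : μ ∈ Irr N) (hk : F ≤ cker μ) :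
    CInv (H20.inertia ⊤ (μ * η)) (Res F η) := by
  have := ((cinv_inertia ⊤ (μ * η)).Res (H := F) nr).smul (μ 1)⁻¹
  rwa [Res_mul_of_ker hk, inv_smul_smul₀ (irr_one_ne hμ)] at this

/-- comparison of `p`-parts over `μ` and over `μ * η` -/
theorem lemP [F.Normal] [N.Normal] (hF : F ≤ N) (pF : PG p F) (hN : ¬ p ∣ F.relIndex N)
    (hη : Can N F η) (h1 : deg η ≠ 1) (hμ : μ ∈ Irr N) (hk : F ≤ cker μ) (hχ : χ ∈ Irr ⊤)
    (h : dot N χ (μ * η) ≠ 0) : ∃ ξ ∈ Irr ⊤, dot N ξ μ ≠ 0 ∧ v p (deg ξ) < v p (deg χ) := by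
  have nF : F ⊴ N := ⟨hF, nr⟩
  have a1 := gallagher_irr nF (irr_chr hη.irr) hη.res hμ hk
  have a2 : H20.inertia ⊤ (μ * η) ≤ H20.inertia ⊤ μ := fun g hg => ⟨trivial, by
    have b0 := H5.RD.mem_nrm F g
    have b2 := hη.cfj_eq nF ((PiN.of_not_dvd hN).coprime' (pF.dvd hη.deg_dvd))
      (H5.RD.mem_nrm N g) b0 ((inv_res hμ hk).cfj_eq hg)
    exact gallagher_inj nF (irr_chr hη.irr) hη.res (irr_cfj hμ (H5.RD.mem_nrm N g)) hμ
      ((le_cker_cfj b0).2 hk) hk (by rw [← hg.2, cfj_mul_fun, b2])⟩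
  have a3 := clifford_dvd normalIn_top hχ a1 h
  rw [deg_mul (irr_chr hμ) (irr_chr hη.irr)] at a3
  have a4 := v_le (q := p) ((mul_dvd_mul (relIndex_dvd_left a2 ⊤) (dvd_mul_left _ _)).trans a3) (dn hχ)
  rw [v, padicValNat.mul (relIndex_ne_zero' _ _) (dn hη.irr)] at a4
  have a5 := (v_pos (dn hη.irr)).2 ((pF.dvd hη.deg_dvd).dvd_of_ne_one h1).2
  have a6 := H20.le_inertia (L := ⊤) (irr_cinv hμ) le_top
  obtain ⟨S, hS⟩ := exists_syl p (H20.inertia ⊤ μ)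
  have a7 := sup_le a6 hS.le
  obtain ⟨a, b1, rfl⟩ := exists_infl nF hμ hk
  have a8 := deg_dvd_of_ab nF hμ ((der_le _).trans hk)
  obtain ⟨ν, b2, b3, -⟩ := exists_can' (T := N ⊔ S) ⟨le_sup_left, nr⟩ hμ ((cinv_inertia _ _).mono a7)
    (PiN.coprime (π := {p}) (by rw [relIndex_sup_left]; exact hS.pi.relIndex _) (PiN.mul
      ((PiN.of_not_dvd hN).dvd (by
        rw [dord_infl nF (irr_chr b1), ← card_quo nF.norm]; exact dord_dvd_card _ _))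
      ((PiN.of_not_dvd hN).dvd a8)))
  obtain ⟨ζ, c1, c2, c3⟩ := up (q := p) b2.irr a7
  have c4 : dot N ζ (infl F a) ≠ 0 := dot_ne_below (irr_chr c1) a7 le_sup_left b2.irr (irr_chr hμ) c2
    (mem_ovr.1 (mem_ovr_of_Res b2.irr hμ b3)).2
  have c5 := mem_ovr.1 (Ind_mem_ovr normalIn_top hμ (mem_ovr.2 ⟨c1, c4⟩))
  refine ⟨_, c5.1, c5.2, ?_⟩
  rw [v, v, v, padicValNat.eq_zero_of_not_dvd (hS.not_dvd_relIndex hp.out le_sup_right),
    ← deg_Res N ν, b3, padicValNat.eq_zero_of_not_dvd fun e => hN (e.trans a8)] at c3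
  rw [deg_Ind (irr_chr c1) le_top, v, padicValNat.mul (relIndex_ne_zero' _ _) (dn c1)]
  unfold v at *
  omega

/-- comparison of `q`-parts over `μ` and over `μ * η` -/
theorem lemR [F.Normal] [N.Normal] (hF : F ≤ N) (pF : PG p F) (hN : ¬ p ∣ F.relIndex N) (pq : p ≠ q)
    (hη : Can N F η) (hμ : μ ∈ Irr N) (hk : F ≤ cker μ) (hχ : χ ∈ Irr ⊤)
    (h : dot N χ (μ * η) ≠ 0) : ∃ ξ ∈ Irr ⊤, dot N ξ μ ≠ 0 ∧ v q (deg ξ) ≤ v q (deg χ) := by
  have nF : F ⊴ N := ⟨hF, nr⟩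
  have a1 := gallagher_irr nF (irr_chr hη.irr) hη.res hμ hk
  obtain ⟨ζ, a2, a3, rfl⟩ := corr_surj normalIn_top a1 hχ h
  have a6 := H20.le_inertia (L := ⊤) (irr_cinv a1) le_top
  obtain ⟨S, hS⟩ := exists_syl q (H20.inertia ⊤ (μ * η))
  have a7 := sup_le a6 hS.le
  obtain ⟨ψ, b1, b2, b3⟩ := down (q := q) a2 a7
  obtain ⟨φ, b4, b5⟩ := irr_exists_below b1 le_sup_left
  have b6 := clifford_conj ⟨a6, nr⟩ a2 a1 b4 a3
    (dot_ne_below (irr_chr a2) a7 le_sup_left b1 (irr_chr b4) b2 b5)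
  rw [orb_of_cinv (cinv_inertia _ _), Finset.mem_singleton] at b6
  subst b6
  have nM : F ⊴ N ⊔ S := ⟨hF.trans le_sup_left, nr⟩
  obtain ⟨τ, c1, c2⟩ := exists_can nM hη.res ((inv_res hμ hk).mono a7) (PiN.coprime' (by
    rw [← relIndex_mul_relIndex F N _ hF le_sup_left, relIndex_sup_left]
    exact (PiN.of_not_dvd hN).mul ((hS.pi.relIndex _).sing_ne pq.symm)) pF)
  have c3 : Res N τ = η := (c1.Res hF le_sup_left).unique' nF hη (by rw [Res_Res hF, c2])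
    ((PiN.of_not_dvd hN).coprime' pF)
  obtain ⟨β, d1, d2, rfl⟩ := gallagher_surj nM (irr_chr c1.irr) c1.res b1 (by
    rw [← dot_Res_right, c2]
    refine dot_ne_below (irr_chr b1) le_sup_left hF a1 (irr_chr hη.res) b5 ?_
    rw [dot_mul_of_ker hk, ← dot_Res_left, irr_dot_self hη.res, mul_one]
    exact irr_one_ne hμ)
  have d3 : dot N β μ ≠ 0 := by
    rw [← dot_mul_ext nF (irr_chr hη.irr) hη.res fun x hx n hn => by
      rw [cker_mul_right ((irr_cinv d1).mono le_sup_left) (d2 hn) (hF hn),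
        cker_mul_right (irr_cinv hμ) (hk hn) (hF hn)]]
    rwa [dot_congr_left (φ' := β * τ) fun x hx _ => by rw [← c3, Pi.mul_apply, Res_of_mem _ hx]; rfl]
  obtain ⟨ξ, e1, e2, e3⟩ := up (q := q) d1 le_top
  refine ⟨ξ, e1, dot_ne_below (irr_chr e1) le_top le_sup_left d1 (irr_chr hμ) e2 d3, ?_⟩
  rw [deg_mul (irr_chr d1) (irr_chr c1.irr), v, padicValNat.mul (dn d1) (dn c1.irr)] at b3
  rw [← relIndex_mul_relIndex _ _ ⊤ a7 le_top, v, v, padicValNat.mul (relIndex_ne_zero' _ _)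
    (relIndex_ne_zero' _ _),
    padicValNat.eq_zero_of_not_dvd (hS.not_dvd_relIndex hq.out le_sup_right)] at e3
  rw [deg_Ind (irr_chr a2) le_top, v, v, padicValNat.mul (relIndex_ne_zero' _ _) (dn a2)]
  unfold v at *
  omega

theorem cker_q [K.Normal] {φ : G ⧸ K → ℂ} (h : φ ∈ Irr ⊤) :
    H ≤ cker (φ ∘ QuotientGroup.mk' K) ↔ H.map (QuotientGroup.mk' K) ≤ cker φ := by
  rw [cker_comp (MonoidHom.range_eq_top.2 (QuotientGroup.mk'_surjective K)).ge h, map_le_iff_le_comap]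

theorem irr_q [K.Normal] {φ : G ⧸ K → ℂ} (h : φ ∈ Irr ⊤) : φ ∘ QuotientGroup.mk' K ∈ Irr ⊤ :=
  comap_top (QuotientGroup.mk' K) ▸
    comp_mem_Irr (MonoidHom.range_eq_top.2 (QuotientGroup.mk'_surjective K)).ge h

theorem ex_q [K.Normal] (h : χ ∈ Irr ⊤) (hK : K ≤ cker χ) :
    ∃ φ ∈ Irr (⊤ : Subgroup (G ⧸ K)), φ ∘ QuotientGroup.mk' K = χ :=
  exists_irr_comp (MonoidHom.range_eq_top.2 (QuotientGroup.mk'_surjective K)).ge h
    ((QuotientGroup.ker_mk' K).le.trans hK)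

theorem dg_q [K.Normal] {s : ℕ → Prop} (h : Dg ⊤ K s) : Dg (⊤ : Subgroup (G ⧸ K)) ⊥ s :=
  fun φ a _ => deg_comp (f := QuotientGroup.mk' K) φ ▸ h _ (irr_q a)
    ((QuotientGroup.ker_mk' K).ge.trans (ker_le_cker_comp φ))

theorem map_top_q [K.Normal] : (⊤ : Subgroup G).map (QuotientGroup.mk' K) = ⊤ :=
  map_top_of_surjective _ (QuotientGroup.mk'_surjective K)

theorem dser_q [K.Normal] (n : ℕ) : dser n (⊤ : Subgroup (G ⧸ K)) = ⊥ ↔ dser n ⊤ ≤ K := by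
  rw [dser_top, dser_top, ← map_derivedSeries_eq (QuotientGroup.mk'_surjective K),
    Subgroup.map_eq_bot_iff, QuotientGroup.ker_mk']

instance dser_n (n : ℕ) : (dser n (⊤ : Subgroup G)).Normal :=
  normalizer_eq_top_iff.1 (top_le_iff.1 (dser_normal n ⊤).norm)

theorem nt (h : ⊤ ≤ N(K)) : K.Normal := normalizer_eq_top_iff.1 (top_le_iff.1 h)

/-- a coprime action fixing all non-linear characters of a `p`-group -/
theorem lemI (hP : PG p P) (hH : H ≤ N(P)) (hc : (#P).Coprime #H) (h : ¬ H ≤ C(P))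
    (hi : ∀ θ ∈ Irr P, deg θ ≠ 1 → CInv H θ) : ⁅⁅P, P⁆, ⁅P, P⁆⁆ = ⊥ := by
  have h1 : ⁅P, P⁆ ≤ C(H) := by_contra fun e => by
    obtain ⟨M, a, ⟨b, c, d⟩, m⟩ := exists_min_sub (fun M => P ≤ N(M) ∧ H ≤ N(M) ∧ ¬ M ≤ C(H))
      (A := ⁅P, P⁆) ⟨(der_normal P).norm, norms_comm hH hH, e⟩
    have a1 := a.trans (der_le P)
    have a2 := (hP.of_le a1).commg_lt hP b fun e => d (e.le.trans bot_le)
    have a3 : ⁅M, P⁆ ≤ C(H) := by_contra fun e =>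
      a2.ne (m _ ⟨commg_normr _ _, norms_comm c hH, e⟩ a2.le)
    have a4 : ⁅H, M⁆ ≤ ⁅P, M⁆ := commutator_le.2 fun x hx y hy => by
      obtain ⟨g, hg, e⟩ := conj_of_irr_eq (a1 hy) (a1 (conj_mem_of_norm (c hx) hy)) fun χ hχ => by
        by_cases e : deg χ = 1
        · have := a.trans ((der_le_cker hχ).2 e)
          rw [cker_apply (this hy), cker_apply (this (conj_mem_of_norm (c hx) hy))]
        · exact (hi χ hχ e x hx y).symm
      rw [commutatorElement_def, ← e]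
      exact commutator_mem_commutator hg hy
    rw [commutator_comm H, commutator_comm P] at a4
    exact d (commg_eq_bot.1 ((commg_commg c (hc.coprime_dvd_left (card_dvd_of_le a1))).symm.trans
      (commg_eq_bot.2 (a4.trans a3))))
  have h2 : ⁅H, P⁆ ≤ C(⁅P, P⁆) := commg_eq_bot.1 (three_subgroup (commg_eq_bot.2
    ((commg_le_right (der_normal P).norm).trans h1)) (by rw [commg_eq_bot.2 h1, commutator_bot_left]))
  rw [commutator_comm] at h2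
  refine commg_eq_bot.2 (le_trans (by_contra fun e => ?_) h2)
  have h3 := commg_le_left hH
  obtain ⟨θ, b, c, d⟩ := exists_nonlin ⟨h3, commg_norml _ _⟩ e
  obtain ⟨x, x1, x2⟩ := SetLike.not_le_iff_exists.1 fun e : ⁅P, H⁆ ≤ C(H) => h (cents_symm
    (commg_eq_bot.1 ((commg_commg hH hc).symm.trans (commg_eq_bot.2 e))))
  have x3 := h3 x1
  obtain ⟨n, n1, n2⟩ := exists_mul_mem_cent (H := ⁅P, P⁆) (k := x) (norms_comm hH hH)
    (hc.coprime_dvd_left (card_dvd_of_le (der_le _))) (Or.inr (hP.of_le (der_le _)).sol)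
    fun y hy => by
      have g := conj_mem_of_norm (hH hy) x3
      refine Du.sep le_rfl (der_le _) (mul_mem g (inv_mem x3)) fun l _ => ?_
      have := hi _ (irr_mul_lin b l.lin) (by
        rwa [deg_congr (ψ := θ) (by rw [Pi.mul_apply, l.lin.one, one_mul])]) y hy x
      rw [Pi.mul_apply, Pi.mul_apply, hi θ b d y hy x,
        mul_left_inj' ((cker_apply (c x1)).trans_ne (irr_one_ne b))] at this
      rw [l.lin.mem_cker (mul_mem g (inv_mem x3)), l.lin.map_mul g (inv_mem x3), this,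
        l.lin.mul_inv x3]
  exact x2 ((mul_mem_cancel_left (h1 n1)).1 n2)

theorem lemX0 (h : ⁅dser 2 (⊤ : Subgroup G), dser 1 (⊤ : Subgroup G)⁆ = ⊥) (hM : M ≤ dser 2 ⊤)
    (pM : PG q M) (hχ : χ ∈ Irr ⊤) (h1 : ¬ M ≤ cker χ) :
    ∃ ξ ∈ Irr (⊤ : Subgroup G), deg ξ ≠ 1 ∧ v q (deg ξ) < v q (deg χ) := by
  have hn : Nil (dser 1 (⊤ : Subgroup G)) :=
    H1.isNilpotent_of_commutator_le_centralizer (commg_eq_bot.1 h)
  have hd := nil_dprod hn {q}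
  have hA := Oc_pi {q} (dser 1 (⊤ : Subgroup G))
  have hB := Oc_pi {q}ᶜ (dser 1 (⊤ : Subgroup G))
  have a := nil_le_hall hn (nil_Oc_hall hn {q}) (hM.trans (der_le _)) pM
  have n1 := nt (norms_Oc {q} (nr (K := dser 1 (⊤ : Subgroup G)) (H := ⊤)))
  have n2 := nt (norms_Oc {q}ᶜ (nr (K := dser 1 (⊤ : Subgroup G)) (H := ⊤)))
  have l := Oc_le {q} (dser 1 (⊤ : Subgroup G))
  rw [dser_succ 1, ← hd.sup] at hM
  generalize Oc {q} (dser 1 (⊤ : Subgroup G)) = A at *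
  generalize Oc {q}ᶜ (dser 1 (⊤ : Subgroup G)) = B at *
  have b : M ≤ ⁅A, A⁆ := (le_inf (hM.trans (commg_sup_left_le (X := ⁅A, A⁆ ⊔ B) (commg_sup_right_le
    le_sup_left ((commutator_le_right _ _).trans le_sup_right) nr nr)
      ((commutator_le_left _ _).trans le_sup_right) nr nr)) a).trans (by
        rw [sup_inf_modl nr (der_le _), hB.inf_eq_bot' hA, sup_bot_eq])
  obtain ⟨ξ, c, -, d, e⟩ := lemT (K := ⊥) (hA.relIndex _) hχ bot_le fun i => h1 (b.trans i)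
  exact ⟨ξ, c, fun i => d (l.trans ((der_le_cker c).2 i)), e⟩

theorem map_dser [K.Normal] (n : ℕ) :
    (dser n (⊤ : Subgroup G)).map (QuotientGroup.mk' K) = dser n ⊤ := by
  rw [dser_top, dser_top, map_derivedSeries_eq (QuotientGroup.mk'_surjective K)]

theorem card_map_q [K.Normal] : #(M.map (QuotientGroup.mk' K)) = K.relIndex M := by
  rw [← relIndex_ker, QuotientGroup.ker_mk']

theorem lemX [K.Normal] (h : ⁅dser 2 (⊤ : Subgroup G), dser 1 (⊤ : Subgroup G)⁆ ≤ K) (hM : M ≤ K ⊔ dser 2 ⊤)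
    (pM : PiN {q} (K.relIndex M)) (hχ : χ ∈ Irr ⊤) (hK : K ≤ cker χ) (h1 : ¬ M ≤ cker χ) :
    ∃ ξ ∈ Irr ⊤, K ≤ cker ξ ∧ deg ξ ≠ 1 ∧ v q (deg ξ) < v q (deg χ) := by
  obtain ⟨φ, a, rfl⟩ := ex_q hχ hK
  obtain ⟨ξ, b, c, d⟩ := lemX0 (q := q) (M := M.map (QuotientGroup.mk' K)) (by
    rwa [← map_dser, ← map_dser, ← Subgroup.map_commutator, Subgroup.map_eq_bot_iff,
      QuotientGroup.ker_mk']) ((map_mono hM).trans (by
        rw [Subgroup.map_sup, QuotientGroup.map_mk'_self, bot_sup_eq, map_dser]))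
    (by unfold PG PiG; rwa [card_map_q]) a (mt (cker_q a).2 h1)
  exact ⟨_, irr_q b, (QuotientGroup.ker_mk' K).ge.trans (ker_le_cker_comp ξ),
    by rwa [deg_comp], by rwa [deg_comp, deg_comp]⟩

end H3.GR
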