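import Cfsg.Agent.H3.GR1

/-! Metabelian groups whose derived subgroup is a `p'`-group. -/

set_option autoImplicit false
set_option linter.unusedSectionVars false

open Subgroup MulAction H19 H20 H6 Cfsg H3.PT

namespace H3.GR

universe u
variable {G : Type u} [Group G] [Finite G] {p q : ℕ} [hp : Fact p.Prime] [hq : Fact q.Prime]
  {F H J K L M N P T : Subgroup G} {χ ψ φ θ μ η : G → ℂ} {x y z : ℕ}

theorem ex_du [N.Normal] (hN : ⁅N, N⁆ ≤ cker χ) (hχ : χ ∈ Irr ⊤) (h : ¬ N ≤ cker χ) :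
    ∃ w : Du N, w ≠ 0 ∧ dot N χ w.fn ≠ 0 := by
  obtain ⟨θ, a, b⟩ := irr_exists_below hχ (le_top (a := N))
  obtain ⟨w, rfl⟩ := exists_ch_of_lin ((irr_lin_iff a).2
    (le_cker_of_below (irr_chr hχ) le_top a b (der_le _) hN))
  refine ⟨w, fun e => h (le_cker_of_above hχ le_top (irr_chr a) b nr le_rfl ?_), b⟩
  rw [show w = 1 from e, Ch.fn_one, cker_triv]

structure Mb (p : ℕ) (S : Subgroup G) : Prop where
  ab : ⁅dser 1 (⊤ : Subgroup G), dser 1 (⊤ : Subgroup G)⁆ = ⊥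
  pd : ¬ p ∣ #(dser 1 (⊤ : Subgroup G))

namespace Mb
variable [Group.IsSolvable G] {S : Sylow p G} (h : Mb p (S : Subgroup G))
include h

theorem cop : (#(dser 1 (⊤ : Subgroup G))).Coprime #(S : Subgroup G) :=
  (PiN.of_not_dvd h.pd).coprime' (spi S)

theorem inf : (S : Subgroup G) ⊓ dser 1 ⊤ = ⊥ := (spi S).inf_eq_bot (PiN.of_not_dvd h.pd)

theorem sup : ⁅dser 1 (⊤ : Subgroup G), (S : Subgroup G)⁆ ⊔ N((S : Subgroup G)) = ⊤ :=
  top_le_iff.1 ((frat (nt (normal_of_der_le le_sup_left le_top).norm)).ge.trans (sup_le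
    ((commg_sup_cent nr h.cop (Or.inl (spi S).sol)).ge.trans (sup_le_sup_left
      (inf_le_right.trans (norms_of_cents le_rfl)) _)) le_sup_right))

theorem n1 : ⁅dser 1 (⊤ : Subgroup G), (S : Subgroup G)⁆.Normal :=
  nt (h.sup.ge.trans (sup_le le_normalizer (norms_comm nr le_rfl)))

theorem n2 : (⁅dser 1 (⊤ : Subgroup G), (S : Subgroup G)⁆ ⊔ (S : Subgroup G)).Normal :=
  have := h.n1
  nt (h.sup.ge.trans (sup_le (le_sup_left.trans le_normalizer) (norms_sup nr le_rfl)))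

theorem ext (w : Du ⁅dser 1 (⊤ : Subgroup G), (S : Subgroup G)⁆) :
    Ext (H20.inertia ⊤ w.fn) ⁅dser 1 (⊤ : Subgroup G), (S : Subgroup G)⁆ w.fn :=
  have := h.n1
  ext_split h.sup (le_bot_iff.1 ((le_inf inf_le_left (commg_eq_bot.1 (le_bot_iff.1 ((le_inf
    (commg_le_right inf_le_right) ((commutator_mono (inf_le_left.trans (commutator_le_left _ _))
      le_rfl).trans (commutator_le_left _ _))).trans h.inf.le)))).trans
        (ab_commg_inf_cent (comm_iff_der.2 h.ab) nr h.cop).le)) w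

theorem pi {w : Du ⁅dser 1 (⊤ : Subgroup G), (S : Subgroup G)⁆} (w0 : w ≠ 0) :
    p ∣ (H20.inertia ⊤ w.fn).relIndex ⊤ := by_contra fun e => by
  have := h.n1
  have a := Du.mem_Fs.1 ((le_in h.n2 w.lin.irr e).trans (Du.stab _).ge)
  rw [commutator_comm, commg_commg nr h.cop] at a
  exact w0 (Du.eq_zero a)

theorem ab2 : ⁅⁅dser 1 (⊤ : Subgroup G), (S : Subgroup G)⁆, ⁅dser 1 (⊤ : Subgroup G), (S : Subgroup G)⁆⁆
    ≤ H := ((der_mono (commutator_le_left _ _)).trans h.ab.le).trans bot_le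

theorem pd2 (hχ : χ ∈ Irr ⊤) (hk : ⁅dser 1 (⊤ : Subgroup G), (S : Subgroup G)⁆ ≤ cker χ) :
    ¬ p ∣ deg χ := fun e => idx_q' S (e.trans (deg_dvd_of_ab (@normalIn_top _ _ _ h.n2) hχ
  (le_trans (le_inf (der_le _) (der_mono le_top)) (by
    change _ ⊓ dser 1 ⊤ ≤ _
    rwa [sup_inf_modl (commg_normr _ _) (commutator_le_left _ _), h.inf, sup_bot_eq]))))

theorem la (hd : Dg (⊤ : Subgroup G) ⊥ fun d => d = 1 ∨ d = x ∨ d = y) (hχ : χ ∈ Irr ⊤)
    (hψ : ψ ∈ Irr ⊤) (h1 : deg χ = x) (h2 : deg ψ = y) (hx : ¬ p ∣ x) (hy : p ∣ y) : x ∣ y := by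
  have := h.n1
  obtain ⟨w, w0, -⟩ := ex_du h.ab2 hψ fun e => h.pd2 hψ e (h2 ▸ hy)
  have a := H20.le_inertia (L := ⊤) (cinv_of_cent (cents_symm ((commutator_le_left _ _).trans
    (commg_eq_bot.1 h.ab))) w.lin.chr.2) le_top
  have b : ∀ β ∈ Irr (H20.inertia ⊤ w.fn), ⁅dser 1 (⊤ : Subgroup G), (S : Subgroup G)⁆ ≤ cker β →
      (H20.inertia ⊤ w.fn).relIndex ⊤ * deg β = y := fun β b c => by
    obtain ⟨ξ, d, e⟩ := exists_deg_of_ext normalIn_top w.lin.irr (h.ext w) b c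
    rw [w.lin.deg, mul_one] at e
    have f : p ∣ deg ξ := e ▸ (h.pi w0).mul_right _
    rcases hd.bot (mem_ovr.1 d).1 with g | g | g
    exacts [absurd (Nat.dvd_one.1 (g ▸ f)) hp.out.ne_one, absurd (g ▸ f) hx, e ▸ g]
  have c := b _ (triv_mem_Irr _) (by rw [cker_triv]; exact (commutator_le_left _ _).trans a)
  rw [deg_triv, mul_one] at c
  rw [← h1, ← c]
  refine deg_dvd_of_ab (normal_of_der_le a le_top) hχ (((dg_one (normalIn_top.of_le
    ((commutator_le_left (dser 1 ⊤) (S : Subgroup G)).trans a) le_top)).1 fun β d e => ?_).trans (by_contra fun e => ?_))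
  · exact (mul_eq_left₀ (relIndex_ne_zero' _ _)).1 ((b β d e).trans c.symm)
  · obtain ⟨w, w0, f⟩ := ex_du h.ab2 hχ e
    exact hx (h1 ▸ ((h.pi w0).mul_right _).trans (clifford_dvd normalIn_top hχ w.lin.irr f))

theorem lb (hd : Dg (⊤ : Subgroup G) ⊥ fun d => d = 1 ∨ d = y ∨ d = z) (hχ : χ ∈ Irr ⊤)
    (hψ : ψ ∈ Irr ⊤) (h1 : deg χ = y) (h2 : deg ψ = z) (hy : p ∣ y) (hz : v p y < v p z) :
    y ∣ z := by
  have := h.n1
  have z0 := h2 ▸ dn hψ
  have e : dser 1 (⊤ : Subgroup G) ≤ ⁅dser 1 (⊤ : Subgroup G), (S : Subgroup G)⁆ := by_contra fun e => by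
    obtain ⟨ξ, a, b, c⟩ := exists_nonlin normalIn_top e
    rcases hd.bot a with g | g | g
    exacts [c g, h.pd2 a b (g ▸ hy), h.pd2 a b (g ▸ (v_pos z0).1 (by omega))]
  have k := h.ext
  have k0 := h.ab2 (H := ⊥)
  have k1 : (#⁅dser 1 (⊤ : Subgroup G), (S : Subgroup G)⁆).Coprime p :=
    ((PiN.of_not_dvd h.pd).of_le (commutator_le_left _ _)).coprime_prime hp.out
  generalize ⁅dser 1 (⊤ : Subgroup G), (S : Subgroup G)⁆ = D at *
  have k2 : ∀ (w : Du D) {ξ : G → ℂ}, ξ ∈ Irr ⊤ → dot D ξ w.fn ≠ 0 →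
      deg ξ = (stabilizer G w).relIndex ⊤ := fun w ξ a b => deg_eq_of_cast (by
    rw [((Ind_ab_inertia_ext normalIn_top w.lin.irr ((der_mono le_top).trans e) (k w)).2.2 ξ
      (mem_ovr.2 ⟨a, b⟩)).2, w.lin.one, mul_one, Du.stab])
  have k3 : ∀ (a b : G) (w : Du D), a • b • w = b • a • w := fun a b w => by
    have := (Du.mem_Fs (w := w)).2 (k0.trans bot_le)
      (e (commutator_mem_commutator (mem_top a⁻¹) (mem_top b⁻¹)))
    conv_rhs => rw [← mem_stabilizer_iff.1 this]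
    simp only [← mul_smul, commutatorElement_def, inv_inv, ← mul_assoc]
    congr 1; group
  obtain ⟨a, -, a1⟩ := ex_du (k0.trans bot_le) hχ fun i =>
    hp.out.ne_one (Nat.dvd_one.1 ((der_le_cker hχ).1 (e.trans i) ▸ h1 ▸ hy))
  obtain ⟨b, -, b1⟩ := ex_du (k0.trans bot_le) hψ fun i => by
    rw [← h2, (der_le_cker hψ).1 (e.trans i), v, v, padicValNat_one_right] at hz; omega
  obtain ⟨R, hR⟩ := exists_syl p (stabilizer G a)
  obtain ⟨s, s1, s2⟩ := SetLike.not_le_iff_exists.1 fun i : R ≤ stabilizer G b => by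
    have := v_le (q := p) (relIndex_dvd_left (inf_le_right (a := stabilizer G a)
      (b := stabilizer G b)) ⊤) (relIndex_ne_zero' _ _)
    rw [← relIndex_mul_relIndex _ _ ⊤ inf_le_left le_top, v, v, padicValNat.mul (relIndex_ne_zero' _ _)
      (relIndex_ne_zero' _ _), padicValNat.eq_zero_of_not_dvd (hR.not_dvd_relIndex hp.out
        (le_inf hR.le i)), ← k2 a hχ a1, ← k2 b hψ b1, h1, h2] at this
    unfold v at hz
    omega
  obtain ⟨j, hj⟩ := (hR.pi.elt s1).exists_pow (orderOf_pos s).ne'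
  have c := BS.Fx_inf_Cm (W := Du D) (g := s) (fun w => by rw [← hj, pow_orderOf_eq_one, one_smul])
    ((k1.symm.coprime_dvd_right Du.card_dvd).pow_left j)
  have c1 : ∀ w ∈ BS.Cm (Du D) s, s • w = w → w = 0 := fun w i j =>
    AddSubgroup.mem_bot.1 (c.le ⟨BS.mem_Fx.2 j, i⟩)
  have c2 : stabilizer G (a + (s • b - b)) < stabilizer G a := by
    refine lt_of_le_not_ge (fun g hg => sub_eq_zero.1 (c1 _ ⟨b - g • b, ?_⟩ ?_)) fun i => s2 ?_
    · rw [mem_stabilizer_iff, smul_add, smul_sub] at hg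
      rw [BS.dl_apply, smul_sub, k3 s g]
      linear_combination (norm := abel) -hg
    · rw [smul_sub, k3, hR.le s1]
    · have := i (hR.le s1)
      rw [mem_stabilizer_iff, smul_add, hR.le s1, add_right_inj] at this
      exact sub_eq_zero.1 (c1 _ (BS.sub_mem_Cm s b) this)
  obtain ⟨ξ, d1, d2⟩ := irr_exists_above (a + (s • b - b)).lin.irr le_top
  have d3 := relIndex_mul_relIndex _ _ ⊤ c2.le le_top
  rw [← k2 a hχ a1, ← k2 _ d1 d2, h1] at d3
  rcases hd.bot d1 with g | g | g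
  · exact absurd (Nat.dvd_one.1 (g ▸ d3 ▸ hy.mul_left _)) hp.out.ne_one
  · exact absurd (relIndex_eq_one.1 ((mul_eq_right₀ (h1 ▸ dn hχ)).1 (d3.trans g))) c2.not_ge
  · exact g ▸ d3 ▸ dvd_mul_left _ _

end Mb

theorem ld (hd : Dg (⊤ : Subgroup G) ⊥ fun d => d = 1 ∨ d = y) (hy : p ∣ y) (pq : p ≠ q)
    (h : q ∣ #(dser 1 (⊤ : Subgroup G))) : ¬ q ∣ y := fun e => by
  have a := thompson hq.out (hd.imp fun d a b => (a.resolve_left b) ▸ e)
  obtain ⟨ξ, b, c, d⟩ := exists_nonlin (Ores_normal q ⊤) fun i => (a.of_le i).not_dvd hq.out rfl h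
  exact pq (((Ores_idx hq.out ⊤).dvd (deg_dvd_of_ab (Ores_normal q ⊤) b ((der_le _).trans c))).eq_of_dvd
    hp.out ((hd.bot b).resolve_left d ▸ hy))

end H3.GR
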