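import Cfsg.Agent.H3.GR2

/-! Garrison's theorem: the case `G'' ≤ F(G)`. -/

set_option autoImplicit false
set_option linter.unusedSectionVars false

open Subgroup MulAction H19 H20 H6 Cfsg H3.PT

namespace H3.GR

universe u
variable {G : Type u} [Group G] [Finite G] [Group.IsSolvable G] {p q : ℕ} [hp : Fact p.Prime]
  [hq : Fact q.Prime] {F H J K L M N P T : Subgroup G} {χ ψ φ θ μ η ξ : G → ℂ} {a b c : ℕ}

theorem lin_ker (hχ : χ ∈ Irr ⊤) (h : deg χ = 1) (n : ℕ) : dser (n + 1) ⊤ ≤ cker χ :=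
  (dser_anti ⊤ (Nat.le_add_left 1 n)).trans ((der_le_cker hχ).2 h)

theorem deg_inv (hF : F ⊴ N) (hab : ⁅N, N⁆ ≤ F) (hc : (#F).Coprime (F.relIndex N)) (hθ : θ ∈ Irr F)
    (hi : CInv N θ) (hψ : ψ ∈ Irr N) (h : dot F ψ θ ≠ 0) : deg ψ = deg θ := by
  have e := inertia_eq_self hi
  have := ((Ind_ab_inertia_coprime hF hθ (by rwa [e]) (by rwa [e])).2.2 ψ (mem_ovr.2 ⟨hψ, h⟩)).2
  rw [e, relIndex_self, Nat.cast_one, one_mul] at this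
  exact deg_congr this

theorem dot_can (hη : Can N F η) (hμ : μ ∈ Irr N) (hk : F ≤ cker μ) :
    dot F (μ * η) (Res F η) ≠ 0 := by
  rw [dot_mul_of_ker hk, ← dot_Res_left, irr_dot_self hη.res, mul_one]
  exact irr_one_ne hμ

theorem lemP' [F.Normal] [N.Normal] (hF : F ≤ N) (pF : PG p F) (hN : ¬ p ∣ F.relIndex N)
    (hd : dser 1 ⊤ ≤ N) (hθ : θ ∈ Irr F) (h1 : deg θ ≠ 1) (hi : CInv N θ) (hξ : ξ ∈ Irr ⊤)
    (hk : F ≤ cker ξ) : ∃ χ ∈ Irr ⊤, dot F χ θ ≠ 0 ∧ v p (deg ξ) < v p (deg χ) := by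
  obtain ⟨μ, a, b⟩ := irr_exists_below hξ (le_top (a := N))
  have c := le_cker_of_below (irr_chr hξ) le_top a b hF hk
  obtain ⟨η, d, rfl⟩ := exists_can ⟨hF, nr⟩ hθ hi ((PiN.of_not_dvd hN).coprime' pF)
  have e := gallagher_irr ⟨hF, nr⟩ (irr_chr d.irr) d.res a c
  obtain ⟨χ, f, g⟩ := irr_exists_above e le_top
  obtain ⟨ζ, i, j, k⟩ := lemP hF pF hN d (by rwa [deg_Res] at h1) a c f g
  exact ⟨χ, f, dot_ne_below (irr_chr f) le_top hF e (irr_chr hθ) g (dot_can d a c),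
    eqdeg hd a i hξ j b ▸ k⟩

theorem qstep [F.Normal] [N.Normal] (hF : F ≤ N) (hab : ⁅N, N⁆ ≤ F) (hθ : θ ∈ Irr F)
    (hχ : χ ∈ Irr ⊤) (h1 : dot F χ θ ≠ 0) (h : ¬ CInv N θ) : ∃ q, ∃ _ : Fact q.Prime,
      ∃ M : Subgroup G, M.Normal ∧ F ≤ M ∧ M ≤ N ∧ PiN {q} (F.relIndex M) ∧
        ∃ ξ ∈ Irr ⊤, F ≤ cker ξ ∧ ¬ M ≤ cker ξ ∧ v q (deg ξ) < v q (deg χ) := by
  obtain ⟨q, a, M, b, c, d, e, f⟩ := ex_prime hF hab (H20.le_inertia (L := ⊤) (irr_cinv hθ) le_top)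
    fun i => h (le_inertia_iff.1 i).2
  have := Fact.mk a
  exact ⟨q, this, M, b, c, d, e, lemQ e hθ hχ h1 fun i => f (H20.le_inertia i le_top)⟩

theorem ex_nl [F.Normal] (hχ : χ ∈ Irr ⊤) [M.Normal] (hM : M ≤ F) (h : ¬ M ≤ cker χ) :
    ∃ θ ∈ Irr F, dot F χ θ ≠ 0 ∧ ¬ M ≤ cker θ :=
  let ⟨θ, a, b⟩ := irr_exists_below hχ (le_top (a := F))
  ⟨θ, a, b, fun i => h (le_cker_of_above hχ le_top (irr_chr a) b nr hM i)⟩

theorem deg_dvd [F.Normal] (hχ : χ ∈ Irr ⊤) (hθ : θ ∈ Irr F) (h : dot F χ θ ≠ 0) : deg θ ∣ deg χ :=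
  (dvd_mul_left _ _).trans (clifford_dvd normalIn_top hχ hθ h)

theorem idx_dvd [F.Normal] (hχ : χ ∈ Irr ⊤) (hθ : θ ∈ Irr F) (h : dot F χ θ ≠ 0) :
    (H20.inertia ⊤ θ).relIndex ⊤ ∣ deg χ :=
  (dvd_mul_right _ _).trans (clifford_dvd normalIn_top hχ hθ h)

theorem ex_faith [K.Normal] (h : ¬ M ≤ K) : ∃ χ ∈ Irr ⊤, K ≤ cker χ ∧ ¬ M ≤ cker χ := by
  by_contra! e
  exact h (le_of_forall_cker normalIn_top le_top e)

theorem der_sup [F.Normal] (h : ⁅K, K⁆ ≤ F) : ⁅F ⊔ K, F ⊔ K⁆ ≤ F :=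
  commg_sup_left_le (commutator_le_left _ _)
    (commg_sup_right_le (commutator_le_right _ _) h nr nr) nr nr

structure Hy (p : ℕ) (F : Subgroup G) (a b c : ℕ) : Prop where
  pF : PG p F
  max : ∀ P : Subgroup G, P.Normal → PG p P → P ≤ F
  cent : C(F) ≤ F
  uniq : ∀ K : Subgroup G, K.Normal → K ≠ ⊥ → dser 4 ⊤ ≤ K
  ne : dser 4 (⊤ : Subgroup G) ≠ ⊥
  dg : Dg (⊤ : Subgroup G) ⊥ fun d => d = 1 ∨ d = a ∨ d = b ∨ d = c
  ab : a < b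
  bc : b < c
  a1 : 1 < a
  br : Dg ⊤ F fun d => d = 1 ∨ d = a ∨ d = b
  th : ∃ χ ∈ Irr (⊤ : Subgroup G), deg χ ≠ 1 ∧ ¬ p ∣ deg χ

namespace Hy
variable [F.Normal] (h : Hy p F a b c)
include h

theorem pdv (hθ : θ ∈ Irr F) (h1 : deg θ ≠ 1) : p ∣ deg θ :=
  ((h.pF.dvd (irr_deg_dvd hθ)).dvd_of_ne_one h1).2

theorem np [N.Normal] (hF : F ≤ N) (hab : ⁅N, N⁆ ≤ F) : ¬ p ∣ F.relIndex N := by
  obtain ⟨S, hS⟩ := exists_syl p N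
  exact hS.not_dvd_relIndex hp.out (le_sup_right.trans (h.max _ (nt (hS.sup_norm_of_nil_quo nr
    (nil_of_ab ((ab_quo_iff nr).2 hab)) nr nr)) (h.pF.sup hS.pi nr)))

theorem ne_p [N.Normal] (hF : F ≤ N) (hab : ⁅N, N⁆ ≤ F) (h1 : M ≤ N) (h2 : PiN {q} (F.relIndex M))
    (h3 : F ≤ M) (h4 : ¬ M ≤ F) : p ≠ q ∧ q ∣ F.relIndex N :=
  have := ((h2.dvd_of_ne_one fun e => h4 (relIndex_eq_one.1 e)).2).trans (relIndex_dvd_right h3 h1)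
  ⟨fun e => h.np hF hab (e ▸ this), this⟩

theorem case1 (h2 : dser 2 ⊤ ≤ F) : False := by
  have hF : F ≤ F ⊔ dser 1 ⊤ := le_sup_left
  have hab : ⁅F ⊔ dser 1 ⊤, F ⊔ dser 1 ⊤⁆ ≤ F := der_sup h2
  have hN := h.np hF hab
  have hc := h.pF.coprime (PiN.of_not_dvd hN)
  have h3 : dser 3 ⊤ ≤ ⁅F, F⁆ := der_mono h2
  obtain ⟨χ3, z1, -, z2⟩ := ex_faith (K := ⊥) (mt le_bot_iff.1 h.ne)
  obtain ⟨χ2, y1, -, y2, y3⟩ := lemT (K := ⊥) ((h.pF.of_le (h3.trans (der_le _))).relIndex _) z1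
    bot_le z2
  obtain ⟨χ1, x1, -, x2, x3⟩ := lemT (K := ⊥) ((h.pF.of_le h2).relIndex _) y1 bot_le y2
  have nl : ∀ {ξ : G → ℂ} {M : Subgroup G}, ξ ∈ Irr ⊤ → F ≤ cker ξ → ¬ M ≤ cker ξ →
      M ≤ F ⊔ dser 1 ⊤ → deg ξ ≠ 1 := fun a b c d e => c (d.trans (sup_le b (lin_ker a e 0)))
  have dg : ∀ {ξ : G → ℂ}, ξ ∈ Irr ⊤ → deg ξ ≠ 1 →
      deg ξ = deg χ1 ∨ deg ξ = deg χ2 ∨ deg ξ = deg χ3 := fun {ξ} i j => by
    have e1 := (h.dg.bot x1).resolve_left fun e => x2 (lin_ker x1 e 1)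
    have e2 := (h.dg.bot y1).resolve_left fun e => y2 (lin_ker y1 e 2)
    have e3 := (h.dg.bot z1).resolve_left fun e => z2 (lin_ker z1 e 3)
    have e4 := (h.dg.bot i).resolve_left j
    have e5 : deg χ1 ≠ deg χ2 := fun e => x3.ne (e ▸ rfl)
    have e6 : deg χ2 ≠ deg χ3 := fun e => y3.ne (e ▸ rfl)
    have e7 : deg χ1 ≠ deg χ3 := fun e => (x3.trans y3).ne (e ▸ rfl)
    omega
  have py := (v_pos (dn y1)).1 (by omega : 0 < v p (deg χ2))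
  have pz := (v_pos (dn z1)).1 (by omega : 0 < v p (deg χ3))
  have px : ¬ p ∣ deg χ1 := fun e => by
    obtain ⟨ξ, i, j, k⟩ := h.th
    rcases dg i j with l | l | l
    exacts [k (l ▸ e), k (l ▸ py), k (l ▸ pz)]
  obtain ⟨θ1, t1, t2, -⟩ := ex_nl x1 h2 x2
  obtain ⟨q, _, M, _, m1, m2, m3, ξ, s1, s2, s3, s4⟩ := qstep hF hab t1 x1 t2 fun i => by
    obtain ⟨ψ, j, k, l⟩ := irr_exists_between ((irr_cinv x1).mono le_top) hF t2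
    refine x2 ((der_mono le_sup_right).trans (le_cker_of_above x1 le_top (irr_chr j) k nr (der_le _)
      ((der_le_cker j).2 ((deg_inv ⟨hF, nr⟩ hab hc t1 i j l).trans ?_))))
    exact by_contra fun e => px ((h.pdv t1 e).trans (deg_dvd x1 t1 t2))
  have s5 := (dg s1 (nl s1 s2 s3 m2)).resolve_left fun e => s4.ne (e ▸ rfl)
  have s6 : p ∣ deg ξ := s5.elim (· ▸ py) (· ▸ pz)
  obtain ⟨S⟩ : Nonempty (Sylow p (G ⧸ F)) := inferInstance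
  have cd : #(dser 1 (⊤ : Subgroup (G ⧸ F))) = F.relIndex (F ⊔ dser 1 ⊤) := by
    rw [← map_dser, card_map_q, relIndex_sup_left]
  have mb : Mb p (S : Subgroup (G ⧸ F)) := ⟨(dser_q 2).2 h2, cd ▸ hN⟩
  obtain ⟨ξ', r1, rfl⟩ := ex_q s1 s2
  have dg2 : Dg ⊤ F fun d => d = 1 ∨ d = deg χ2 ∨ d = deg χ3 := fun ζ i j => by_contra fun e => by
    rw [not_or, not_or] at e
    have k := ((dg i e.1).resolve_right (not_or.2 e.2))
    obtain ⟨ζ', l, rfl⟩ := ex_q i j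
    refine (v_le (mb.la (dg_q fun τ t1 t2 => ?_) l r1 ((deg_comp ζ').symm.trans k) (deg_comp ξ').symm
      px s6) (dn s1)).not_gt s4
    have e1 := h.br _ i j
    have e2 := h.br _ s1 s2
    have e3 := h.br _ t1 t2
    have e4 := nl s1 s2 s3 m2
    have e5 : deg (ξ' ∘ QuotientGroup.mk' F) ≠ deg χ1 := fun e => s4.ne (e ▸ rfl)
    omega
  have qs : ∀ {χ θ : G → ℂ}, χ ∈ Irr ⊤ → θ ∈ Irr F → dot F χ θ ≠ 0 → ¬ CInv (F ⊔ dser 1 ⊤) θ →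
      ∃ q, ∃ _ : Fact q.Prime, ∃ ζ ∈ Irr ⊤, F ≤ cker ζ ∧ (deg ζ = deg χ2 ∨ deg ζ = deg χ3) ∧
        v q (deg ζ) < v q (deg χ) := fun i j k l =>
    let ⟨q, a, _, _, _, b, _, ζ, c, d, e, f⟩ := qstep hF hab j i k l
    ⟨q, a, ζ, c, d, (dg2 ζ c d).resolve_left (nl c d e b), f⟩
  obtain ⟨θ2, u1, u2, u3⟩ := ex_nl y1 (h3.trans (der_le _)) y2
  have u4 : deg θ2 ≠ 1 := fun e => u3 (h3.trans ((der_le_cker u1).2 e))
  by_cases cz : ∃ ζ ∈ Irr ⊤, F ≤ cker ζ ∧ deg ζ = deg χ3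
  · obtain ⟨ζ, c1, c2, c3⟩ := cz
    have ni : ∀ θ ∈ Irr F, deg θ ≠ 1 → ¬ CInv (F ⊔ dser 1 ⊤) θ := fun θ i j k => by
      obtain ⟨χ, l, -, m⟩ := lemP' hF h.pF hN le_sup_right i j k c1 c2
      rw [c3] at m
      rcases dg l fun e => by rw [e, v, v, padicValNat_one_right] at m; omega with e | e | e <;>
        rw [e] at m <;> omega
    obtain ⟨θ3, w1, w2, w3⟩ := ex_nl z1 ((der_mono (h3.trans (der_le _))).trans (der_le _)) z2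
    obtain ⟨_, _, ζ2, d1, d2, d3, d4⟩ := qs z1 w1 w2 (ni _ w1 fun e =>
      w3 ((der_mono (h3.trans (der_le _))).trans ((der_le_cker w1).2 e)))
    obtain ⟨ζ', l, rfl⟩ := ex_q c1 c2
    obtain ⟨ζ2', l2, rfl⟩ := ex_q d1 d2
    have := mb.lb (dg_q dg2) l2 l ((deg_comp _).symm.trans (d3.resolve_right fun e =>
      d4.ne (e ▸ rfl))) ((deg_comp _).symm.trans c3) py y3
    obtain ⟨_, _, ζ3, -, -, e3, e4⟩ := qs y1 u1 u2 (ni _ u1 u4)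
    rcases e3 with e | e
    exacts [e4.ne (e ▸ rfl), (v_le this (dn z1)).not_gt (e ▸ e4)]
  have dg3 : Dg ⊤ F fun d => d = 1 ∨ d = deg χ2 := fun ζ i j =>
    (dg2 ζ i j).imp_right fun k => k.resolve_right fun e => cz ⟨ζ, i, j, e⟩
  have m4 : ¬ M ≤ F := fun i => s3 (i.trans s2)
  obtain ⟨pq, q1⟩ := h.ne_p hF hab m2 m3 m1 m4
  have qy := ld (dg_q dg3) py pq (cd ▸ q1)
  have u5 : CInv (F ⊔ dser 1 ⊤) θ2 := by_contra fun e =>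
    let ⟨_, _, ζ, i, j, k, l⟩ := qs y1 u1 u2 e
    l.ne ((k.resolve_right fun e => cz ⟨ζ, i, j, e⟩) ▸ rfl)
  obtain ⟨χ, f1, f2, f3⟩ := lemP' hF h.pF hN le_sup_right u1 u4 u5 s1 s2
  rw [(dg3 _ s1 s2).resolve_left (nl s1 s2 s3 m2)] at f3
  have f4 : deg χ = deg χ3 := by
    rcases dg f1 fun e => by rw [e, v, v, padicValNat_one_right] at f3; omega with e | e | e
    · rw [e] at f3; omega
    · rw [e] at f3; omega
    · exact e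
  obtain ⟨Q⟩ : Nonempty (Sylow q G) := inferInstance
  obtain ⟨g1, g2⟩ := of_not_dv (A := F) (q := q) (fun ⟨ζ, i⟩ => by
    rcases (dg_top.1 (dg_q dg3)) ζ with e | e
    exacts [‹Fact q.Prime›.out.ne_one (Nat.dvd_one.1 (e ▸ i)), qy (e ▸ i)]) Q
  have qz : ¬ q ∣ deg χ3 := by
    obtain ⟨ψ, j, k, l⟩ := irr_exists_between ((irr_cinv f1).mono le_top)
      (le_sup_left : F ≤ F ⊔ (Q : Subgroup G)) f2
    obtain ⟨n, n1, n2⟩ := exists_deg_ratio normalIn_top j (mem_ovr.2 ⟨f1, k⟩)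
    rw [← f4, n2, deg_inv ⟨le_sup_left, nr⟩ (der_sup g2) (h.pF.coprime ((idx_q Q).sing_ne pq.symm))
      u1 (le_inertia_iff.1 (sup_le (H20.le_inertia (irr_cinv u1) le_top)
        (le_in g1 u1 fun e => qy (e.trans (idx_dvd y1 u1 u2))))).2 j l,
      ‹Fact q.Prime›.out.dvd_mul, not_or]
    exact ⟨fun e => idx_q' Q (e.trans n1), fun e =>
      pq ((h.pF.dvd (irr_deg_dvd u1)).eq_of_dvd Fact.out e).symm⟩
  refine h.ne (le_bot_iff.1 ((der_mono h3).trans (lemI h.pF nr (h.pF.coprime ((spi Q).sing_ne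
    pq.symm)) (fun i => m4 ((le_sup_syl m3 Q).trans (sup_le le_rfl (i.trans h.cent))))
      fun θ i j => ?_).le))
  obtain ⟨χ, k, l⟩ := irr_exists_above i le_top
  have := (h.pdv i j).trans (deg_dvd k i l)
  refine (le_inertia_iff.1 (le_in g1 i fun e => ?_)).2
  rcases dg k fun e => hp.out.ne_one (Nat.dvd_one.1 (e ▸ this)) with e' | e' | e'
  exacts [px (e' ▸ this), qy (e' ▸ e.trans (idx_dvd k i l)), qz (e' ▸ e.trans (idx_dvd k i l))]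

end Hy

end H3.GR
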