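import Cfsg.Agent.H3.GR3

/-! Garrison's theorem. -/

set_option autoImplicit false
set_option linter.unusedSectionVars false

open Subgroup MulAction H19 H20 H6 Cfsg H3.PT

namespace H3.GR

universe u
variable {G : Type u} [Group G] [Finite G] [Group.IsSolvable G] {p q : ℕ} [hp : Fact p.Prime]
  [hq : Fact q.Prime] {F H J K L M N P T : Subgroup G} {χ ψ φ θ μ η ξ : G → ℂ} {a b c : ℕ}

namespace Hy
variable [F.Normal] (h : Hy p F a b c)
include h

theorem d3 : dser 3 ⊤ ≤ F :=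
  (dser_q 3).1 (three_deg (by have := h.a1; omega) (by have := h.ab; omega) (dg_q h.br))

theorem ab2 : ⁅F ⊔ dser 2 ⊤, F ⊔ dser 2 ⊤⁆ ≤ F := der_sup h.d3

theorem mina (hχ : χ ∈ Irr ⊤) (h1 : deg χ < a) : deg χ = 1 := by
  have := h.dg.bot hχ; have := h.ab; have := h.bc; omega

theorem nl2 (hξ : ξ ∈ Irr ⊤) (h1 : F ≤ cker ξ) (h2 : ¬ M ≤ cker ξ) (h3 : M ≤ F ⊔ dser 2 ⊤) :
    deg ξ = a ∨ deg ξ = b :=
  (h.br ξ hξ h1).resolve_left fun e => h2 (h3.trans (sup_le h1 (lin_ker hξ e 1)))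

theorem xx (hχ : χ ∈ Irr ⊤) (h1 : F ≤ cker χ) (h2 : deg χ = a) (m1 : F ≤ M)
    (m2 : M ≤ F ⊔ dser 2 ⊤) (m3 : PiN {q} (F.relIndex M)) (hψ : ψ ∈ Irr ⊤)
    (h3 : (F ⊔ dser 2 ⊤) ⊓ cker χ ≤ cker ψ) (h4 : ¬ M ≤ cker ψ) :
    v q a < v q (deg ψ) ∨ v q b < v q (deg ψ) := by
  have := nt (cker_normal hχ).norm
  have e : F ≤ (F ⊔ dser 2 ⊤) ⊓ cker χ := le_inf le_sup_left h1
  obtain ⟨θ, t1, t2⟩ := irr_exists_below hχ (le_top (a := F ⊔ dser 2 ⊤))
  obtain ⟨w, rfl⟩ := exists_ch_of_lin ((irr_lin_iff t1).2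
    (le_cker_of_below (irr_chr hχ) le_top t1 t2 (der_le _) (h.ab2.trans h1)))
  have i : CInv (dser 1 ⊤) w.fn := by_contra fun i =>
    let ⟨ξ, a, _, c, d⟩ := lemQ0 t1 hχ t2 i
    c (lin_ker a (h.mina a (h2 ▸ d)) 0)
  have j := le_cker_of_above hχ le_top (irr_chr t1) t2 nr (commutator_le_right _ _)
    ((Du.mem_Fs (w := w)).1 ((H20.le_inertia i le_top).trans (Du.stab _).ge))
  rw [commutator_comm] at j
  obtain ⟨ξ, x1, x2, x3, x4⟩ := lemX (le_inf ((commutator_le_left _ _).trans le_sup_right)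
    ((commutator_mono le_sup_right le_rfl).trans j)) (m2.trans (sup_le_sup_right e _))
    (m3.dvd (relIndex_dvd_left e M)) hψ h3 h4
  rcases (h.br ξ x1 (e.trans x2)).resolve_left x3 with i | i <;> rw [i] at x4
  exacts [Or.inl x4, Or.inr x4]

theorem stepE (hθ : θ ∈ Irr F) (hi : ¬ CInv (F ⊔ dser 2 ⊤) θ) (hχ : χ ∈ Irr ⊤)
    (h1 : dot F χ θ ≠ 0) : deg χ = c := by
  obtain ⟨ξ, x1, x2, x3, x4⟩ := lemQ0 hθ hχ h1 hi
  obtain ⟨q, _, M, _, m1, m2, m3, ζ, z1, z2, z3, z4⟩ := qstep le_sup_left h.ab2 hθ hχ h1 hi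
  have e1 := h.nl2 x1 x2 x3 le_rfl
  have e2 := h.dg.bot hχ
  have := h.ab
  have := h.a1
  by_contra e
  have e3 : deg χ = b := by omega
  have e4 := (h.nl2 z1 z2 z3 m2).resolve_right fun i => z4.ne (by rw [i, e3])
  have := h.xx z1 z2 e4 m1 m2 m3 z1 inf_le_right z3
  rw [e4] at this z4
  rw [e3] at z4
  omega

theorem ex_th (h2 : ¬ dser 2 ⊤ ≤ F) : ∃ θ ∈ Irr F, deg θ ≠ 1 ∧ CInv (F ⊔ dser 2 ⊤) θ ∧
    ∀ χ ∈ Irr ⊤, dot F χ θ ≠ 0 → deg χ = a ∨ deg χ = b := by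
  have hN := h.np le_sup_left h.ab2
  have hl : Hall {p} F (F ⊔ dser 2 ⊤) := ⟨le_sup_left, h.pF, PiN.of_not_dvd hN⟩
  obtain ⟨H, hH⟩ := hl.exists_compl nr
  have h3 := hH.hall_right hl
  have hc := h.pF.coprime h3.pi
  have h4 : ⁅F, H⁆ ⊔ N(H) = ⊤ := top_le_iff.1 ((h3.hfrattini inferInstance normalIn_top).ge.trans
    (sup_le (hH.sup.ge.trans (sup_le ((commg_sup_cent nr hc (Or.inl inferInstance)).ge.trans
      (sup_le_sup_left (inf_le_right.trans (norms_of_cents le_rfl)) _))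
        (le_normalizer.trans le_sup_right))) (inf_le_right.trans le_sup_right)))
  have nR : ⁅F, H⁆.Normal := nt (h4.ge.trans (sup_le le_normalizer (norms_comm nr le_rfl)))
  have h5 := commg_commg (K := F) (A := H) nr hc
  have h6 := commutator_le_left F H
  have h7 : ⁅F, H⁆ ≠ ⊥ := fun e => h2 (le_sup_right.trans (hH.sup.ge.trans
    (sup_le le_rfl ((cents_symm (commg_eq_bot.1 e)).trans h.cent))))
  generalize ⁅F, H⁆ = R at *
  have pR := h.pF.of_le h6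
  have g : ∀ χ ∈ Irr ⊤, ⁅R, R⁆ ≤ cker χ → ¬ R ≤ cker χ → deg χ = c := fun χ i j k => by
    obtain ⟨θ, t1, t2, t3⟩ := ex_nl i h6 k
    refine h.stepE t1 (fun l => ?_) i t2
    obtain ⟨τ, u1, u2⟩ := exists_inv_below (N := R) (S := H) ⟨h6, nr⟩ nr nr
      ((h.pF.relIndex _).coprime (h3.pi.relIndex _)) (Or.inl inferInstance)
      (mem_IrrI.2 ⟨t1, l.mono hH.right_le⟩)
    obtain ⟨w, rfl⟩ := exists_ch_of_lin ((irr_lin_iff (irrI_irr u1)).2 (le_cker_of_below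
      (irr_chr t1) h6 (irrI_irr u1) u2 (der_le _) (le_cker_of_below (irr_chr i) le_top t1 t2
        ((der_le _).trans h6) j)))
    have := (Du.mem_Fs (w := w)).1 ((H20.le_inertia (irrI_cinv u1) le_top).trans (Du.stab _).ge)
    rw [commutator_comm, h5] at this
    exact t3 (le_cker_of_above t1 h6 w.lin.chr u2 nr le_rfl this)
  obtain ⟨χ3, z1, -, z2⟩ := ex_faith (K := ⊥) (mt le_bot_iff.1 h.ne)
  obtain ⟨θ, t1, t2, t3⟩ := ex_nl z1 ((der_mono h.d3).trans (der_le _)) z2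
  have t4 : deg θ ≠ 1 := fun e => t3 ((der_mono h.d3).trans ((der_le_cker t1).2 e))
  have h8 : ⁅R, R⁆ ≠ ⊥ := fun e => by
    obtain ⟨S⟩ : Nonempty (Sylow p G) := inferInstance
    obtain ⟨x, x1, x2⟩ := SetLike.exists_of_lt (pR.commg_lt (spi S) nr h7)
    obtain ⟨w, w1, w2⟩ : ∃ w : Du R, ⁅R, (S : Subgroup G)⁆ ≤ cker w.fn ∧ x ∉ cker w.fn := by
      by_contra! i
      exact x2 (Du.sep (e.le.trans bot_le) (commutator_le_left _ _) x1 i)
    obtain ⟨χ, i, j⟩ := exists_deg_of_ext normalIn_top w.lin.irr (ext_split h4 (le_bot_iff.1 ((le_inf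
      inf_le_left (commg_eq_bot.1 (le_bot_iff.1 ((le_inf (commg_le_right inf_le_right)
        ((commutator_mono inf_le_left le_rfl).trans (commutator_le_left _ _))).trans
          (h3.pi.inf_eq_bot' pR).le)))).trans ((inf_le_inf_right _ h5.ge).trans (ab_commg_inf_cent
            (comm_iff_der.2 e) nr (pR.coprime h3.pi)).le))) w) (triv_mem_Irr _)
      (by rw [cker_triv]; exact H20.le_inertia (irr_cinv w.lin.irr) le_top)
    rw [deg_triv, w.lin.deg, mul_one, mul_one, g χ (mem_ovr.1 i).1 (e.le.trans bot_le) fun k =>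
      w2 (le_cker_of_below (irr_chr (mem_ovr.1 i).1) le_top w.lin.irr (mem_ovr.1 i).2 le_rfl k x1),
      ← g χ3 z1 (e.le.trans bot_le) fun k => z2 ((h.uniq R nR h7).trans k)] at j
    rw [commutator_comm] at w1
    exact (syl_sylow_top S).not_dvd_relIndex hp.out ((Du.mem_Fs.2 w1).trans (Du.stab _).le)
      (j ▸ (h.pdv t1 t4).trans (deg_dvd z1 t1 t2))
  have k : ∀ n, ∀ χ ∈ Irr ⊤, ¬ ⁅R, R⁆ ≤ cker χ → v p (deg χ) = n → v p c < n := fun n => by
    induction n using Nat.strong_induction_on with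
    | _ n ih =>
    rintro χ i j rfl
    obtain ⟨ξ, x1, -, x2, x3⟩ := lemT (K := ⊥) (pR.relIndex _) i bot_le j
    by_cases e : ⁅R, R⁆ ≤ cker ξ
    exacts [g ξ x1 e x2 ▸ x3, (ih _ x3 ξ x1 e rfl).trans x3]
  have k2 : ∀ χ ∈ Irr ⊤, dot F χ θ ≠ 0 → deg χ ≠ c := fun χ i j e => (k _ χ i (fun l => t3
    ((h.uniq _ inferInstance h8).trans (le_cker_of_below (irr_chr i) le_top t1 j
      ((der_le _).trans h6) l))) rfl).ne (e ▸ rfl)
  refine ⟨θ, t1, t4, by_contra fun e => k2 _ z1 t2 (h.stepE t1 e z1 t2), fun χ i j => ?_⟩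
  have := (h.dg.bot i).resolve_left fun e => t4 (Nat.dvd_one.1 (e ▸ deg_dvd i t1 j))
  have := k2 χ i j
  omega

theorem case2 (h2 : ¬ dser 2 ⊤ ≤ F) : False := by
  have hF : F ≤ F ⊔ dser 2 ⊤ := le_sup_left
  have hN := h.np hF h.ab2
  obtain ⟨θ, t1, t2, t3, t4⟩ := h.ex_th h2
  obtain ⟨η, e1, rfl⟩ := exists_can ⟨hF, nr⟩ t1 t3 ((PiN.of_not_dvd hN).coprime' h.pF)
  have k : ∀ μ ∈ Irr (F ⊔ dser 2 ⊤), F ≤ cker μ → ∃ χ ∈ Irr ⊤, dot (F ⊔ dser 2 ⊤) χ (μ * η) ≠ 0 ∧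
      (deg χ = a ∨ deg χ = b) ∧ ∃ ξ ∈ Irr ⊤, dot (F ⊔ dser 2 ⊤) ξ μ ≠ 0 ∧ F ≤ cker ξ ∧
        v p (deg ξ) < v p (deg χ) := fun μ i j => by
    have e := gallagher_irr ⟨hF, nr⟩ (irr_chr e1.irr) e1.res i j
    obtain ⟨χ, f, g⟩ := irr_exists_above e le_top
    obtain ⟨ξ, l, m, n⟩ := lemP hF h.pF hN e1 (by rwa [deg_Res] at t2) i j f g
    exact ⟨χ, f, g, t4 χ f (dot_ne_below (irr_chr f) le_top hF e (irr_chr t1) g (dot_can e1 i j)),
      ξ, l, m, le_cker_of_above l le_top (irr_chr i) m nr hF j, n⟩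
  obtain ⟨χ0, c1, c2, c3⟩ := ex_faith h2
  obtain ⟨μ, u1, u2, u3⟩ := ex_nl (F := F ⊔ dser 2 ⊤) c1 le_rfl fun i => c3 (le_sup_right.trans i)
  have u4 := le_cker_of_below (irr_chr c1) le_top u1 u2 hF c2
  obtain ⟨r, _, M, _, m1, m2, m3, m4⟩ := ex_prime hF h.ab2 u4 u3
  have := Fact.mk ‹r.Prime›
  obtain ⟨χ, f1, f2, f3, ξ, x1, x2, x3, x4⟩ := k μ u1 u4
  have nm : ∀ {ξ : G → ℂ}, ξ ∈ Irr ⊤ → dot (F ⊔ dser 2 ⊤) ξ μ ≠ 0 → ¬ M ≤ cker ξ := fun i j l =>
    m4 (le_cker_of_below (irr_chr i) le_top u1 j m2 l)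
  rcases h.nl2 x1 x3 (nm x1 x2) m2 with x5 | x5
  · have f4 := f3.resolve_left fun e => x4.ne (by rw [e, x5])
    obtain ⟨ζ, z1, z2, z3⟩ := lemR hF h.pF hN (h.ne_p hF h.ab2 m2 m3 m1 fun i => m4 (i.trans u4)).1
      e1 u1 u4 f1 f2
    have := nt (cker_normal x1).norm
    have a1 := h.xx x1 x3 x5 m1 m2 m3 z1 (le_cker_of_above z1 le_top (irr_chr u1) z2 nr inf_le_left
      (le_cker_of_below (irr_chr x1) le_top u1 x2 inf_le_left inf_le_right)) (nm z1 z2)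
    have a2 := h.xx x1 x3 x5 m1 m2 m3 x1 inf_le_right (nm x1 x2)
    rw [f4] at z3
    rw [x5] at a2
    omega
  have f4 := f3.resolve_right fun e => x4.ne (by rw [e, x5])
  rw [x5, f4] at x4
  have hF1 : F ≤ F ⊔ dser 1 ⊤ := le_sup_left
  have i1 : CInv (F ⊔ dser 1 ⊤) (Res F η) := by_contra fun i =>
    let ⟨_, z1, z2, z3, z4⟩ := lemQ0 t1 f1 (dot_ne_below (irr_chr f1) le_top hF (gallagher_irr
      ⟨hF, nr⟩ (irr_chr e1.irr) e1.res u1 u4) (irr_chr t1) f2 (dot_can e1 u1 u4)) i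
    z3 (sup_le z2 (lin_ker z1 (h.mina z1 (f4 ▸ z4)) 0))
  by_cases pd : p ∣ F.relIndex (F ⊔ dser 1 ⊤)
  swap
  · obtain ⟨ζ, z1, z2, z3⟩ : ∃ ζ ∈ Irr ⊤, F ≤ cker ζ ∧ deg ζ = a := by_contra fun e =>
      h2 ((dser_q 2).1 (two_deg_dser (m := b) (dg_q fun ζ i j => (h.br ζ i j).imp_right
        fun l => l.resolve_left fun l => e ⟨ζ, i, j, l⟩)))
    obtain ⟨χ', i, j, l⟩ := lemP' hF1 h.pF pd le_sup_right t1 t2 i1 z1 z2
    rcases t4 χ' i j with e | e <;> rw [z3, e] at l <;> omega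
  have l21 : F ⊔ dser 2 ⊤ ≤ F ⊔ dser 1 ⊤ := sup_le_sup_left (der_le _) _
  obtain ⟨S, hS⟩ := h.pF.exists_syl hF1
  have n1 := nt (hS.1.sup_norm_of_nil_quo (K := F ⊔ dser 2 ⊤) nr (nil_of_ab ((ab_quo_iff nr).2
    ((commg_sup_left_le ((commutator_le_left _ _).trans hF) (commg_sup_right_le
      ((commutator_le_right _ _).trans hF) le_sup_right nr nr) nr nr)))) nr nr)
  obtain ⟨w, w1, w2⟩ : ∃ w : Du (F ⊔ dser 2 ⊤), F ≤ cker w.fn ∧ w ∉ Fs _ S := by
    by_contra! e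
    have a1 : ⁅S, F ⊔ dser 2 ⊤⁆ ≤ S := le_trans (fun x hx => Du.sep h.ab2 hF
      (commutator_le_right _ _ hx) fun w i => Du.mem_Fs.1 (e w i) hx) hS.2
    have a2 := (hS.1.of_le le_sup_right (sup_le l21 hS.1.le)).frattini normalIn_top
    exact hS.1.not_dvd_relIndex hp.out (h.max S (nt (a2.ge.trans (sup_le (sup_le
      (norms_of_commg_le a1) le_normalizer) inf_le_right))) hS.1.pi) pd
  have pb : p ∣ b := by
    obtain ⟨χ', -, -, i, ζ, z1, z2, z3, z4⟩ := k _ w.lin.irr w1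
    have a1 : p ∣ deg ζ := Dvd.dvd.trans (by_contra fun e => w2 ((le_sup_right.trans
      (le_inertia_of_not_dvd normalIn_top le_sup_left w.lin.irr (by
        rw [relIndex_sup_left]; exact hS.1.pi.relIndex _) e)).trans (Du.stab _).ge))
      (idx_dvd z1 w.lin.irr z2)
    rcases h.br ζ z1 z3 with e | e | e
    · exact absurd (Nat.dvd_one.1 (e ▸ a1)) hp.out.ne_one
    · rcases i with j | j <;> rw [e, j] at z4 <;> omega
    · exact e ▸ a1
  have pa : p ∣ a := (v_pos (by have := h.a1; omega)).1 (by omega)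
  have a1 := thompson hp.out ((dg_q h.br).imp fun d i j => by
    rcases i with e | e | e
    exacts [absurd e j, e ▸ pa, e ▸ pb])
  obtain ⟨β, b1, b2, b3⟩ := exists_nonlin (Ores_normal p ⊤) fun i => (a1.of_le i).not_dvd hp.out rfl
    (by rw [relIndex_sup_left, ← card_map_q, map_dser] at pd; exact pd)
  obtain ⟨ζ, z1, z2, z3⟩ := h.th
  have n2 := (nt (Ores_normal p (⊤ : Subgroup (G ⧸ F))).norm).comap (QuotientGroup.mk' F)
  have a2 := h.dg.bot (gallagher_irr normalIn_top (irr_chr z1) (Res_irr_of_coprime (K := comap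
    (QuotientGroup.mk' F) (Ores p ⊤)) normalIn_top z1 (PiN.coprime (π := {p}) (by
      rw [relIndex_top_right, index_comap_of_surjective _ (QuotientGroup.mk'_surjective F),
        ← relIndex_top_right]
      exact Ores_idx hp.out ⊤) (PiN.of_not_dvd z3))) (irr_q b1)
    ((comap_mono b2).trans (comap_cker_le β)))
  have a3 : deg ζ = c := by
    rcases h.dg.bot z1 with e | e | e | e
    exacts [absurd e z2, absurd (e ▸ pa) z3, absurd (e ▸ pb) z3, e]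
  rw [deg_mul (irr_chr (irr_q b1)) (irr_chr z1), deg_comp, a3] at a2
  have := irr_deg_pos b1
  have := h.ab
  have := h.bc
  have := h.a1
  have : 2 * c ≤ deg β * c := Nat.mul_le_mul_right _ (by omega)
  omega

end Hy

theorem main (n : ℕ) : ∀ (G : Type u) [Group G] [Finite G] [Group.IsSolvable G], Nat.card G = n →
    1 < a → a < b → b < c → Dg (⊤ : Subgroup G) ⊥ (fun d => d = 1 ∨ d = a ∨ d = b ∨ d = c) →
    dser 4 (⊤ : Subgroup G) = ⊥ := by
  induction n using Nat.strong_induction_on with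
  | _ n ih =>
  rintro G _ _ _ rfl a1 ab bc dg
  by_contra ne
  have uniq : ∀ K : Subgroup G, K.Normal → K ≠ ⊥ → dser 4 ⊤ ≤ K := fun K _ hK => (dser_q 4).1
    (ih _ (by
      rw [card_eq_card_quotient_mul_card_subgroup K]
      exact lt_mul_of_one_lt_right Nat.card_pos (K.one_lt_card_iff_ne_bot.2 hK)) _ rfl a1 ab bc
      (dg_q (dg.mono bot_le)))
  obtain ⟨-, p, hp, h1⟩ := H1.elementary_of_minimal_normal (dser 4 (⊤ : Subgroup G)) ne inferInstance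
    fun M i j => or_iff_not_imp_left.2 fun e => j.antisymm (uniq M i e)
  have := Fact.mk hp
  have h2 : PG p (dser 4 (⊤ : Subgroup G)) := PiN.of_isPGroup hp (H1.isPGroup_of_pow_eq_one h1)
  have h3 : ∀ K : Subgroup G, K ⊴ ⊤ → PiG {p}ᶜ K → K = ⊥ := fun K i j => by_contra fun e =>
    ne (h2.eq_bot (j.of_le (uniq K (nt i.norm) e)))
  have h4 := Fit_eq_Oc (h3 _ (Oc_normal _ _) (Oc_pi _ _))
  have := nt (Oc_normal {p} (⊤ : Subgroup G)).norm
  have h : Hy p (Oc {p} (⊤ : Subgroup G)) a b c := by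
    refine ⟨Oc_pi _ _, fun P _ => le_Oc normalIn_top, ?_, uniq, ne, dg, ab, bc, a1,
      fun χ i j => by_contra fun e => ?_, by_contra fun e => ne ?_⟩
    · rw [← h4]; exact (le_inf le_top le_rfl).trans (cent_Fit_le inferInstance)
    · have k := dg.bot i
      rw [← h4, show Fit ⊤ = _ from H1.fittingOf_top] at j
      obtain ⟨ψ, l, m, -⟩ := broline i (or_iff_not_imp_left.2 fun l => ⟨(not_not.1 l).antisymm j,
        inferInstance, fun l => e (Or.inl ((der_le_cker i).1 (le_top.trans l.ge)))⟩)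
      have := dg.bot l
      omega
    · have k := Ores_idx hp (⊤ : Subgroup G)
      rw [h3 _ (Ores_normal p ⊤) (thompson hp fun χ i _ j => by_contra fun l => e ⟨χ, i, j, l⟩)] at k
      exact H19.eq_bot_mono (dser_anti ⊤ Finset.card_le_four) (le_bot_iff.1 (taketa' (NormalIn.bot ⊤)
        (fun χ u _ => mon_of_ab_nil (NormalIn.bot ⊤) (PiN.nil (p := p) (by
          unfold PG PiG; rwa [card_quo (NormalIn.bot ⊤).norm])) u ((der_le _).trans bot_le))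
        {1, a, b, c} (dg.imp fun d hd => by simpa using hd)))
  exact h.case2 h.case1

theorem sort4 {s : Set ℕ} (h : Nat.card s = 4) (h1 : 1 ∈ s) (h0 : 0 ∉ s) :
    ∃ a b c, 1 < a ∧ a < b ∧ b < c ∧ ∀ d ∈ s, d = 1 ∨ d = a ∨ d = b ∨ d = c := by
  obtain ⟨x, y, z, h2, h3, h4, h5⟩ := Set.ncard_eq_three.1 (show (s \ {1}).ncard = 3 by
    rw [Set.ncard_sdiff_singleton_of_mem h1, ← Nat.card_coe_set_eq, h])
  have k : ∀ d, d = x ∨ d = y ∨ d = z ↔ d ∈ s ∧ d ≠ 1 := fun d => by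
    simpa using (Set.ext_iff.1 h5 d).symm
  have k1 : ∀ d, d = x ∨ d = y ∨ d = z → 1 < d := fun d e => by
    have := (k d).1 e
    have : d ≠ 0 := fun i => h0 (i ▸ this.1)
    omega
  have := k1 x (by simp)
  have := k1 y (by simp)
  have := k1 z (by simp)
  refine ⟨min x (min y z), x + y + z - min x (min y z) - max x (max y z), max x (max y z),
    by omega, by omega, by omega, fun d hd => ?_⟩
  by_cases e : d = 1
  · exact Or.inl e
  have := (k d).2 ⟨hd, e⟩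
  omega

end H3.GR
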