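import Cfsg.Agent.H6.DH4
import Cfsg.Agent.H3.HT1

/-! Counting cosets by the class of the conjugate of `t`. -/

set_option autoImplicit false
set_option linter.unusedSectionVars false

namespace H3.HT
open Cfsg Subgroup MulAction H16 H1.Am H24.SS H19 H6.HS

universe u
variable {G : Type u} [Group G] [Finite G] {F : Subgroup G} {p : Par} {el : ℕ → G} {N x y co : ℕ}
  {M : Mu} {g c : G} {r : List ℕ} {ct : Wl}

attribute [local instance] two_fact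

theorem par_cons {f : List ℕ → Bool} {L : Wl} : par f (r :: L) = true ↔ (f r = true ↔ ¬ par f L = true) := by
  change (Bool.rec (par f L) (!par f L) (f r) : Bool) = true ↔ _
  cases f r <;> cases par f L <;> simp

theorem par_card {α : Type*} [Finite α] {R : List ℕ → Set α} {f : List ℕ → Bool} {L : Wl} {X : Set α}
    (hd : L.Pairwise fun r r' => ∀ q ∈ R r, q ∉ R r') (hc : ∀ q ∈ X, ∃ r ∈ L, q ∈ R r)
    (hp : ∀ r ∈ L, Odd (X ∩ R r).ncard ↔ f r = true) : Odd X.ncard ↔ par f L = true := by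
  induction L generalizing X with
  | nil =>
    rw [Set.eq_empty_of_forall_notMem (s := X) fun q h => by simpa using hc q h]
    simp [par]
  | cons r L ih =>
    obtain ⟨d1, d2⟩ := List.pairwise_cons.1 hd
    rw [par_cons, ← hp r List.mem_cons_self, ← ih (X := X \ R r) d2 (fun q h => ?_) (fun r' h => ?_),
      ← Set.ncard_inter_add_ncard_sdiff_eq_ncard X (R r), Nat.odd_add, Nat.not_odd_iff_even]
    · obtain ⟨r', a, b⟩ := hc q h.1
      exact ⟨r', (List.mem_cons.1 a).resolve_left fun e => h.2 (e ▸ b), b⟩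
    · rw [← hp r' (List.mem_cons_of_mem _ h)]
      congr! 2
      exact Set.ext fun q => ⟨fun k => ⟨k.1.1, k.2⟩, fun k => ⟨⟨k.1, fun e => d1 r' h q e k.2⟩, k.2⟩⟩

variable (T : Tm F p el N M)

/-- the cosets on which `t` has a conjugate in the class of the row -/
def XR (r : List ℕ) : Set (G ⧸ T.md.K) := {q | ∃ x, bt (n1 r 2) x = true ∧ q.out⁻¹ * el 2 * q.out = el x}
/-- the cosets fixed by `S₁` -/
def Fx (q : G ⧸ T.md.K) : Prop := ∀ c ∈ T.S1, c • q = q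

variable {T} (R : Rw (HL F 0) el N r)
include R

theorem xr_mk : (g : G ⧸ T.md.K) ∈ XR T r ↔ ∃ x, bt (n1 r 2) x = true ∧ g⁻¹ * el 2 * g = el x := by
  have k : ∀ (g : G) (s : T.md.K), (∃ x, bt (n1 r 2) x = true ∧ g⁻¹ * el 2 * g = el x) →
      ∃ x, bt (n1 r 2) x = true ∧ (g * s)⁻¹ * el 2 * (g * s) = el x := fun g s ⟨x, a, b⟩ => by
    obtain ⟨y, hy, e⟩ := T.md.K.mul_mem (T.md.K.mul_mem (T.md.K.inv_mem s.2) (T.md.mem (R.blt a))) s.2
    exact ⟨y, R.step T a hy ⟨(s : G)⁻¹, ⟨T.md.K.inv_mem s.2, hl0⟩, by rw [e, inv_inv]⟩, by rw [e, ← b]; group⟩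
  obtain ⟨s, hs⟩ := QuotientGroup.mk_out_eq_mul T.md.K g
  change (∃ x, _) ↔ _
  rw [hs]
  exact ⟨fun h => by simpa using k _ s⁻¹ h, k g s⟩

theorem xr_rep {q : G ⧸ T.md.K} (h : q ∈ XR T r) : ∃ g : G, (g : G ⧸ T.md.K) = q ∧ g⁻¹ * el 2 * g = el (h0 r) := by
  obtain ⟨x, a, b⟩ := h
  obtain ⟨k, hk, e⟩ := R.kj T a
  exact ⟨q.out * k, by rw [QuotientGroup.mk_mul_of_mem _ hk.1]; exact q.out_eq, by
    rw [mul_inv_rev, mul_assoc, mul_assoc, ← mul_assoc q.out⁻¹, ← mul_assoc (q.out⁻¹ * _), b, ← e]; group⟩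

theorem xr_inv (hc : c ∈ C[el 2]) {q : G ⧸ T.md.K} (h : q ∈ XR T r) : c • q ∈ XR T r := by
  obtain ⟨x, a, b⟩ := h
  rw [smul_eq, xr_mk R]
  refine ⟨x, a, ?_⟩
  calc _ = q.out⁻¹ * (c⁻¹ * (el 2 * c)) * q.out := by group
    _ = _ := by rw [← mem_cent1.1 hc, ← b]; group

theorem xr_card (h : IsConj (el 2) (el (h0 r))) : (XR T r).ncard * n1 r 1 = Nat.card C[el 2] := by
  obtain ⟨g, e⟩ := isConj_iff.1 h.symm
  have e' : g⁻¹ * el 2 * g = el (h0 r) := by rw [← e]; group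
  have a : XR T r = orbit C[el 2] (g : G ⧸ T.md.K) := Set.ext fun q => ⟨fun hq => by
    obtain ⟨g', rfl, b⟩ := xr_rep R hq
    refine ⟨⟨g' * g⁻¹, mem_cent1.2 ?_⟩, ?_⟩
    · calc _ = g' * (g⁻¹ * el 2 * g) * g⁻¹ := by group
        _ = _ := by rw [e', ← b]; group
    · change ((g' * g⁻¹ * g : G) : G ⧸ T.md.K) = _
      rw [inv_mul_cancel_right], fun ⟨c, hd⟩ => hd ▸ xr_inv R c.2 ((xr_mk R).2 ⟨_, R.self T, e'⟩)⟩
  have b : Nat.card (stabilizer C[el 2] (g : G ⧸ T.md.K)) = n1 r 1 := by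
    rw [R.sz, T.cz_eq, show HL F 0 = ⊤ from if_pos rfl, inf_top_eq, ← card_cj g, cj_inf, cj_cent1, e]
    refine Nat.card_congr ⟨fun c => ⟨c.1.1, mem_cj.2 ?_, c.1.2⟩, fun c => ⟨⟨c.1, c.2.2⟩, ?_⟩, fun _ => rfl, fun _ => rfl⟩
    · have : ((c.1.1 * g : G) : G ⧸ T.md.K) = g := c.2
      rw [mul_assoc]; exact QuotientGroup.eq.1 this.symm
    · change ((c.1 * g : G) : G ⧸ T.md.K) = g
      exact (QuotientGroup.eq.2 (mul_assoc g⁻¹ c.1 g ▸ mem_cj.1 c.2.1)).symm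
  rw [a, ← b, ← Nat.card_coe_set_eq, ← Nat.card_prod]
  exact Nat.card_congr (orbitProdStabilizerEquivGroup _ _)

theorem odd_of {P : G ⧸ T.md.K → Prop} (h : IsConj (el 2) (el (h0 r))) (e : n1 r 1 = s1 p)
    (k : ∀ q ∈ XR T r, Fx T q → P q) : Odd ({q | P q ∧ Fx T q} ∩ XR T r).ncard := by
  have a : ¬ Even (XR T r).ncard := fun a => T.lk.syl (by
    rw [← xr_card (T := T) R h, e]; exact Nat.mul_dvd_mul_right a.two_dvd _)
  rw [par_fix (T.pgl (T.Kn_le (h := T.sd))) fun c hc q hq => xr_inv R (T.S1_le hc) hq, Nat.not_even_iff_odd] at a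
  convert a using 2
  exact Set.ext fun q => ⟨fun b => ⟨b.2, b.1.2⟩, fun b => ⟨⟨k q b.1 b.2, b.2⟩, b.1⟩⟩

/-- a representative of a fixed coset -/
theorem fx_rep {q : G ⧸ T.md.K} (h : q ∈ XR T r) (k : Fx T q) : ∃ g : G, (g : G ⧸ T.md.K) = q ∧
    g⁻¹ * el 2 * g = el (h0 r) ∧ T.md.K ⊓ C[el (h0 r)] = H19.cj g⁻¹ T.S1 := by
  obtain ⟨g, rfl, e⟩ := xr_rep R h
  have a := T.sylc (g := g⁻¹) (w := el (h0 r)) (by rw [inv_inv, e])
  refine ⟨g, rfl, e, a.eq_of_le (T.pgl inf_le_left) (le_inf (H25.cj_le.2 fun c hc => ?_) a.1) inf_le_right⟩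
  have : ((c * g : G) : G ⧸ T.md.K) = g := k c hc
  rw [inv_inv, mul_assoc]; exact QuotientGroup.eq.1 this.symm

theorem even_of {P : G ⧸ T.md.K → Prop} (nb : ℕ) (hn : ∀ y, bt nb y = true → y < N ∧ ¬ IsConj (el 2) (el y))
    (k : rel p nb r = true → ∀ q ∈ XR T r, Fx T q → ¬ P q) : ¬ Odd ({q | P q ∧ Fx T q} ∩ XR T r).ncard := by
  rw [Set.eq_empty_of_forall_notMem (s := _ ∩ _) fun q b => k ?_ q b.2 b.1.2 b.1.1]
  · simp
  obtain ⟨g, -, e, a⟩ := fx_rep R b.2 b.1.2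
  have c : IsConj (el 2) (el (h0 r)) := isConj_iff.2 ⟨g⁻¹, by rw [inv_inv, e]⟩
  simp only [rel, an_iff, Nat.beq_eq, nt_iff]
  refine ⟨?_, ?_, fun d => T.no nb hn R.lt d c⟩
  · rw [R.sz, T.cz_eq, show HL F 0 = ⊤ from if_pos rfl, inf_top_eq, a, card_cj, T.card_Kn]
  · rw [R.od, ← e, ← T.oG_t, ← oG_cj (g := g⁻¹) (g' := el 2), inv_inv]

theorem yes_cj (yb : ℕ) (hy : ∀ y, bt yb y = true → y < N ∧ IsConj (el 2) (el y)) (h : yes yb r = true) :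
    IsConj (el 2) (el (h0 r)) :=
  (oo_iff.1 h).elim (fun a => (hy _ a).2) fun a => (R.cj a).isConj.symm

omit R
theorem rel_sz {nb : ℕ} (h : rel p nb r = true) : n1 r 1 = s1 p := Nat.beq_eq.mp (an_iff.1 h).1

theorem cnt_par (B : Tb (HL F 0) el N co ct) (hc : 0 < co) {P : G ⧸ T.md.K → Prop} {f : List ℕ → Bool}
    (hp : ∀ r ∈ ct, Odd ({q | P q ∧ Fx T q} ∩ XR T r).ncard ↔ f r = true) :
    Odd {q | P q ∧ Fx T q}.ncard ↔ par f ct = true := by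
  refine par_card (R := XR T) ((B.dj T).imp_of_mem ?_) (fun q h => ?_) hp
  · rintro r r' a b k q ⟨x, c, d⟩ ⟨y, e, j⟩
    refine k x c ?_
    rwa [T.md.inj ((B.rw r a).blt c) ((B.rw r' b).blt e) (d.symm.trans j)]
  · obtain ⟨x, a, b⟩ := (fx _ q).1 (h.2 (el 2) ⟨2, (show 2 < 32 by decide).trans_le (s32 p), rfl⟩)
    obtain ⟨r, c, d⟩ := B.cov hc x a hl0 (by
      obtain ⟨k, rfl⟩ := Nat.exists_eq_succ_of_ne_zero hc.ne'
      have : el x ^ 2 = 1 := by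
        rw [b, sq]
        calc _ = q.out⁻¹ * (el 2 * el 2) * q.out := by group
          _ = 1 := by rw [T.tt]; group
      rw [pow_succ', pow_mul, this, one_pow])
    exact ⟨r, c, x, d, b.symm⟩

/-- the character on `K` -/
theorem chi0 {c : ℕ} (h : hmK p 0 N M c = true) : ∃ ϕ : T.md.K →* ℤˣ, ∀ x < N, ∀ k, ϕ ⟨el x, k⟩ = sgn (chi c x) :=
  let ⟨ψ, a⟩ := T.chi h
  ⟨ψ.comp (inclusion (le_inf le_rfl fun _ _ => hl0)), fun x b _ => a x b _⟩

theorem tv2 (ϕ : T.md.K →* ℤˣ) (h : g ∈ F) (k : g * g = 1) : Even {q : G ⧸ T.md.K | W ϕ g q.out}.ncard := by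
  refine tv (n := 1) (by rw [pow_one, sq, k]) (T.nohom (l := 0) ((MonoidHom.transfer ϕ).comp (HL F 0).subtype) h)
    fun j hj c ⟨a, b⟩ => b ?_
  obtain ⟨i, rfl⟩ := Nat.exists_eq_succ_of_ne_zero hj.ne'
  rw [← map_one ϕ]; congr 1; ext
  simp [pow_succ', pow_mul, k]

end H3.HT
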