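import Mathlib

/-! Størmer's theorem for the primes 2, 3, 5, 7. -/

open Pell

namespace H3.IX

theorem y1_dvd {D a b : ℤ} (hb : 0 < b) (ha : 1 < a) (h : a ^ 2 = D * b ^ 2 + 1)
    (hm : ∀ x y : ℤ, 0 < y → y < b → x ^ 2 ≠ D * y ^ 2 + 1) :
    ∀ (Y : ℕ) (x : ℤ), 0 ≤ x → x ^ 2 = D * Y ^ 2 + 1 → b ∣ Y := by
  intro Y
  induction Y using Nat.strong_induction_on with
  | _ Y ih =>
  intro x hx e
  rcases Nat.eq_zero_or_pos Y with rfl | hY
  · simp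
  have hY' : (0 : ℤ) < Y := by exact_mod_cast hY
  have hbY : b ≤ Y := le_of_not_gt fun l => hm x Y hY' l e
  have k1 : (x * b) ^ 2 = Y ^ 2 * (a ^ 2 - 1) + b ^ 2 := by rw [mul_pow, e, h]; ring
  have k2 : Y * (a - 1) < x * b := by
    refine lt_of_pow_lt_pow_left₀ 2 (by positivity) ?_
    rw [k1]; nlinarith [mul_pos hY' hY', mul_pos hb hb]
  have k3 : x * b < Y * (a + 1) := by
    refine lt_of_pow_lt_pow_left₀ 2 (by positivity) ?_
    rw [k1]; nlinarith [mul_pos hY' hY', mul_self_le_mul_self hb.le hbY]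
  have k4 := ih (Y * a - x * b).natAbs (by zify; rw [abs_lt]; constructor <;> linarith)
    |x * a - D * Y * b| (abs_nonneg _) (by
      rw [sq_abs, Int.natCast_natAbs, sq_abs]
      linear_combination (a ^ 2 - D * b ^ 2) * e + h)
  rw [Int.natCast_natAbs, dvd_abs] at k4
  have k5 : b ∣ Y * a := by simpa using k4.add (dvd_mul_left b x)
  exact (show IsCoprime b a from ⟨-D * b, a, by linear_combination h⟩).dvd_of_dvd_mul_right k5

theorem yn_gcd {a q : ℕ} (a1 : 1 < a) (hq : q.Prime) (m n : ℕ) :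
    q ∣ yn a1 m → q ∣ yn a1 n → q ∣ yn a1 (m.gcd n) := by
  induction m, n using Nat.gcd.induction with
  | H0 n => simp
  | H1 m n hm ih =>
    intro h1 h2
    rw [Nat.gcd_rec]
    refine ih ?_ h1
    have h3 := h1.trans (y_mul_dvd a1 m (n / m))
    rw [← Nat.mod_add_div n m, yn_add] at h2
    exact (hq.dvd_mul.1 ((Nat.dvd_add_right (h3.mul_left _)).1 h2)).resolve_right fun h4 =>
      hq.one_lt.ne' (Nat.eq_one_of_dvd_coprimes (xy_coprime a1 _) h4 h3)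

def strip : ℕ → ℕ → ℕ
  | 0, N => N
  | f + 1, N => if N.gcd 210 = 1 then N else strip f (N / N.gcd 210)

/-- certificate that `N` is not `7`-smooth -/
def ns (N : ℕ) : Bool := N % strip 99 N == 0 && (strip 99 N).gcd 210 == 1 && strip 99 N != 1

theorem ns_not {N j : ℕ} (h : ns N = true) : ¬ N ∣ 210 ^ j := fun e => by
  simp only [ns, Bool.and_eq_true, beq_iff_eq, bne_iff_ne] at h
  exact h.2 (Nat.eq_one_of_dvd_coprimes (Nat.Coprime.pow_right j h.1.2) dvd_rfl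
    ((Nat.dvd_of_mod_eq_zero h.1.1).trans e))

theorem prime_210 {q j : ℕ} (hq : q.Prime) (h : q ∣ 210 ^ j) : q ∈ [2, 3, 5, 7] := by
  have h1 := hq.dvd_of_dvd_pow h
  have h2 := Nat.le_of_dvd (by norm_num) h1
  revert h1 hq
  clear h
  revert q
  decide +kernel

theorem idx_le {a j k : ℕ} (a1 : 1 < a) (hk : 0 < k) (h : yn a1 k ∣ 210 ^ j)
    (h1 : ∀ i ∈ [5, 6, 7, 8, 9], ns (yn a1 i) = true)
    (h2 : ∀ q ∈ [2, 3, 5, 7], ∃ r ∈ [2, 3, 4, 5, 7], q ∣ yn a1 r) : k ∈ [1, 2, 3, 4] := by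
  have k1 : ∀ i ∈ [5, 6, 7, 8, 9], ¬ i ∣ k := fun i hi e =>
    ns_not (h1 i hi) (((y_dvd_iff a1 _ _).2 e).trans h)
  have k2 : ∀ l, l.Prime → l ∣ k → l = 2 ∨ l = 3 := fun l hl e => by
    by_contra hn
    have l5 : l ≠ 5 := fun e' => k1 5 (by simp) (e' ▸ e)
    have l7 : l ≠ 7 := fun e' => k1 7 (by simp) (e' ▸ e)
    obtain ⟨q, hq, e1⟩ := Nat.exists_prime_and_dvd (n := yn a1 l)
      (by have := hl.two_le.trans (yn_ge_n a1 l); omega)
    obtain ⟨r, hr, e2⟩ := h2 q (prime_210 hq ((e1.trans ((y_dvd_iff a1 _ _).2 e)).trans h))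
    have e3 := yn_gcd a1 hq l r e1 e2
    have e4 : l.Coprime r := by
      refine hl.coprime_iff_not_dvd.2 fun e5 => ?_
      have e6 : l ∈ [2, 3, 5, 7] := prime_210 (j := 2) hl (e5.trans (by clear * - hr; revert r; decide))
      simp_all
    rw [e4, yn_one] at e3
    exact hq.one_lt.ne' (Nat.dvd_one.1 e3)
  have k3 : k ∣ 12 := by
    refine (Nat.dvd_iff_prime_pow_dvd_dvd 12 k).2 fun l i hl e => ?_
    rcases i with _ | i
    · simp
    rcases k2 l hl ((dvd_pow_self l i.succ_ne_zero).trans e) with rfl | rfl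
    · have : i + 1 ≤ 2 := le_of_not_gt fun l => k1 8 (by simp) ((pow_dvd_pow 2 l).trans e)
      exact (pow_dvd_pow 2 this).trans (by norm_num)
    · have : i + 1 ≤ 1 := le_of_not_gt fun l => k1 9 (by simp) ((pow_dvd_pow 3 l).trans e)
      exact (pow_dvd_pow 3 this).trans (by norm_num)
  have k4 := k1 6 (by simp)
  have := Nat.le_of_dvd (by norm_num) k3
  interval_cases k <;> simp_all

def LS : List ℕ := [1, 2, 3, 4, 5, 6, 7, 8, 9, 14, 15, 20, 24, 27, 35, 48, 49, 63, 80, 125, 224, 2400, 4374]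

theorem pell_case {D a b n Y j : ℕ} (a1 : 1 < a) (hb : 0 < b) (h : a ^ 2 = D * b ^ 2 + 1)
    (hm : ∀ y < b, ∀ x < a, 0 < y → x ^ 2 ≠ D * y ^ 2 + 1)
    (h1 : ∀ i ∈ [5, 6, 7, 8, 9], ns (yn a1 i) = true)
    (h2 : ∀ q ∈ [2, 3, 5, 7], ∃ r ∈ [2, 3, 4, 5, 7], q ∣ yn a1 r)
    (h3 : ∀ i ∈ [1, 2, 3, 4], xn a1 i % 2 = 1 → ns (yn a1 i) = true ∨ xn a1 i / 2 ∈ LS)
    (hn : 0 < n) (e : 4 * (n * (n + 1)) = D * Y ^ 2) (hY : Y ∣ 210 ^ j) : n ∈ LS := by
  have e1 : (2 * n + 1) ^ 2 = D * Y ^ 2 + 1 := by rw [← e]; ring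
  obtain ⟨Z, rfl⟩ : b ∣ Y := by
    refine Int.natCast_dvd_natCast.1 (y1_dvd (D := D) (a := a) (by exact_mod_cast hb) (by exact_mod_cast a1)
      (by exact_mod_cast h) (fun x y y0 yb e2 => ?_) Y (2 * n + 1) (by positivity) (by exact_mod_cast e1))
    lift y to ℕ using y0.le
    rw [← sq_abs x] at e2
    lift |x| to ℕ using abs_nonneg x with x
    have yb : y < b := by exact_mod_cast yb
    have e2 : x ^ 2 = D * y ^ 2 + 1 := by exact_mod_cast e2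
    refine hm y yb x (lt_of_pow_lt_pow_left₀ 2 (Nat.zero_le _) ?_) (by exact_mod_cast y0) e2
    have : 0 < D := Nat.pos_of_ne_zero fun e3 => by rw [e3] at h; nlinarith
    rw [e2, h]; gcongr
  obtain ⟨k, k1, k2⟩ := eq_pell a1 (x := 2 * n + 1) (y := Z) (by
    change _ - (a * a - 1) * Z * Z = 1
    rw [← sq, ← sq, e1, h, Nat.add_sub_cancel, mul_pow, show D * b ^ 2 * Z * Z = D * (b ^ 2 * Z ^ 2) by ring,
      Nat.add_sub_cancel_left])
  have k3 : yn a1 k ∣ 210 ^ j := k2 ▸ (dvd_mul_left Z b).trans hY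
  have := (h3 k (idx_le a1 (Nat.pos_of_ne_zero fun e2 => by rw [e2, xn_zero] at k1; omega)
    k3 h1 h2) (by omega)).resolve_left fun e => ns_not e k3
  rwa [← k1, show (2 * n + 1) / 2 = n by omega] at this

theorem smooth_eq {N j : ℕ} (h : N ∣ 210 ^ j) : ∃ a b c d, N = 2 ^ a * 3 ^ b * 5 ^ c * 7 ^ d := by
  rw [show 210 = 2 * 3 * 5 * 7 by rfl, mul_pow, mul_pow, mul_pow] at h
  obtain ⟨u, v, h1, h2, rfl⟩ := (Nat.dvd_mul ..).1 h
  obtain ⟨u', w, h5, h3, rfl⟩ := (Nat.dvd_mul ..).1 h1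
  obtain ⟨u'', z, h6, h4, rfl⟩ := (Nat.dvd_mul ..).1 h5
  obtain ⟨a, -, rfl⟩ := (Nat.dvd_prime_pow Nat.prime_two).1 h6
  obtain ⟨b, -, rfl⟩ := (Nat.dvd_prime_pow Nat.prime_three).1 h4
  obtain ⟨c, -, rfl⟩ := (Nat.dvd_prime_pow Nat.prime_five).1 h3
  obtain ⟨d, -, rfl⟩ := (Nat.dvd_prime_pow (by norm_num)).1 h2
  exact ⟨a, b, c, d, rfl⟩

theorem stormer {n j : ℕ} (hn : 0 < n) (h : n * (n + 1) ∣ 210 ^ j) : n ∈ LS := by
  have h4 : 4 * (n * (n + 1)) ∣ 210 ^ (2 + j) := pow_add 210 2 j ▸ mul_dvd_mul (by norm_num) h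
  obtain ⟨a, b, c, d, e⟩ := smooth_eq h4
  set Y := 2 ^ (a / 2) * 3 ^ (b / 2) * 5 ^ (c / 2) * 7 ^ (d / 2)
  have e1 : 4 * (n * (n + 1)) = 2 ^ (a % 2) * 3 ^ (b % 2) * 5 ^ (c % 2) * 7 ^ (d % 2) * Y ^ 2 := by
    rw [e]
    conv_lhs => rw [← Nat.mod_add_div a 2, ← Nat.mod_add_div b 2, ← Nat.mod_add_div c 2, ← Nat.mod_add_div d 2]
    simp only [Y]; ring
  have hY : Y ∣ 210 ^ (2 + j) := ((dvd_pow_self Y two_ne_zero).mul_left _).trans (e1 ▸ h4)
  have k : ∀ D a b, ∀ a1 : 1 < a, (0 < b ∧ a ^ 2 = D * b ^ 2 + 1 ∧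
      (∀ y < b, ∀ x < a, 0 < y → x ^ 2 ≠ D * y ^ 2 + 1) ∧ (∀ i ∈ [5, 6, 7, 8, 9], ns (yn a1 i) = true) ∧
      (∀ q ∈ [2, 3, 5, 7], ∃ r ∈ [2, 3, 4, 5, 7], q ∣ yn a1 r) ∧
      (∀ i ∈ [1, 2, 3, 4], xn a1 i % 2 = 1 → ns (yn a1 i) = true ∨ xn a1 i / 2 ∈ LS)) → 4 * (n * (n + 1)) = D * Y ^ 2 → n ∈ LS :=
    fun D a b a1 ⟨h1, h2, h3, h4, h5, h6⟩ e => pell_case a1 h1 h2 h3 h4 h5 h6 hn e hY
  rcases Nat.mod_two_eq_zero_or_one a with ha | ha <;> rcases Nat.mod_two_eq_zero_or_one b with hb | hb <;>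
    rcases Nat.mod_two_eq_zero_or_one c with hc | hc <;> rcases Nat.mod_two_eq_zero_or_one d with hd | hd <;>
    rw [ha, hb, hc, hd] at e1
  · have : (2 * n) ^ 2 < Y ^ 2 := by nlinarith
    have : Y ^ 2 < (2 * n + 1) ^ 2 := by nlinarith
    have := lt_of_pow_lt_pow_left₀ 2 (Nat.zero_le _) this
    have := lt_of_pow_lt_pow_left₀ 2 (Nat.zero_le _) ‹(2 * n) ^ 2 < _›
    omega
  · exact k _ 8 3 (by norm_num) (by decide +kernel) e1
  · exact k _ 9 4 (by norm_num) (by decide +kernel) e1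
  · exact k _ 6 1 (by norm_num) (by decide +kernel) e1
  · exact k _ 2 1 (by norm_num) (by decide +kernel) e1
  · exact k _ 55 12 (by norm_num) (by decide +kernel) e1
  · exact k _ 4 1 (by norm_num) (by decide +kernel) e1
  · exact k _ 41 4 (by norm_num) (by decide +kernel) e1
  · exact k _ 3 2 (by norm_num) (by decide +kernel) e1
  · exact k _ 15 4 (by norm_num) (by decide +kernel) e1
  · exact k _ 19 6 (by norm_num) (by decide +kernel) e1
  · exact k _ 251 30 (by norm_num) (by decide +kernel) e1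
  · exact k _ 5 2 (by norm_num) (by decide +kernel) e1
  · exact k _ 13 2 (by norm_num) (by decide +kernel) e1
  · exact k _ 11 2 (by norm_num) (by decide +kernel) e1
  · exact k _ 29 2 (by norm_num) (by decide +kernel) e1

end H3.IX
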