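import Cfsg.Agent.H19.Amb5

/-! Sylow 2-subgroups of order at most 32 in groups with one class of involutions. -/

set_option linter.unusedSectionVars false

open Cfsg Subgroup H19

namespace H3.IX

variable {G : Type*} [Group G] [Finite G] {A E K M S X Y : Subgroup G} {a c g s x y : G}

theorem cent_bd (h : ∀ x ∈ X, x * y * x⁻¹ * y⁻¹ ∈ Y) : #X ≤ #(X ⊓ C[y]) * #Y := by
  rw [inf_comm, ← card_inf_mul_relIndex C[y] X]
  refine Nat.mul_le_mul_left _ (Nat.card_le_card_of_injective (fun q : X ⧸ (C[y]).subgroupOf X =>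
    (⟨_, h _ q.out.2⟩ : Y)) fun a b e => ?_)
  rw [← a.out_eq', ← b.out_eq', QuotientGroup.eq]
  have e' := mul_right_cancel (congrArg Subtype.val e)
  refine mem_cent1.2 ?_
  change (a.out : G)⁻¹ * b.out * y = y * ((a.out : G)⁻¹ * b.out)
  generalize (a.out : G) = x at e' ⊢
  generalize (b.out : G) = x' at e' ⊢
  calc x⁻¹ * x' * y = x⁻¹ * (x' * y * x'⁻¹) * x' := by group
    _ = y * (x⁻¹ * x') := by rw [← e']; group

/-- index at most two -/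
def I2 (A S : Subgroup G) : Prop := A ≤ S ∧ ∀ x ∈ S, ∀ y ∈ S, x ∉ A → y ∉ A → x * y ∈ A

/-- class at most two -/
def Cl2 (S : Subgroup G) : Prop := ∀ x ∈ S, ∀ y ∈ S, x * y * x⁻¹ * y⁻¹ ∈ C(S)

theorem I2.refl (A : Subgroup G) : I2 A A := ⟨le_rfl, fun _ h _ _ h' => (h' h).elim⟩

theorem I2.of_card (h : A ≤ S) (e : #S ≤ 2 * #A) : I2 A S := by
  refine ⟨h, fun x hx y hy x1 y1 => ?_⟩
  have k := card_mul_relIndex h
  have k1 := relIndex_pos A S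
  have k2 : A.relIndex S ≠ 1 := fun e => x1 (relIndex_eq_one.1 e hx)
  have k3 : A.relIndex S = 2 := by
    have := Nat.le_of_mul_le_mul_left (k.trans_le (mul_comm 2 _ ▸ e)) (card_pos A); omega
  exact (mul_mem_iff_of_index_two k3 (a := ⟨x, hx⟩) (b := ⟨y, hy⟩)).2 (iff_of_false x1 y1)

theorem I2.mul (h : I2 A S) (hx : x ∈ S) (hy : y ∈ S) : x * y ∈ A ↔ (x ∈ A ↔ y ∈ A) := by
  by_cases x1 : x ∈ A
  · simp [x1, A.mul_mem_cancel_left x1]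
  by_cases y1 : y ∈ A
  · simp [x1, y1, A.mul_mem_cancel_right y1]
  · simp [x1, y1, h.2 x hx y hy x1 y1]

theorem I2.conj (h : I2 A S) (hs : s ∈ S) (ha : a ∈ A) : s * a * s⁻¹ ∈ A := by
  rw [h.mul (mul_mem hs (h.1 ha)) (inv_mem hs), h.mul hs (h.1 ha), inv_mem_iff]; tauto

theorem I2.comm (h : I2 A S) (hx : x ∈ S) (hy : y ∈ S) : x * y * x⁻¹ * y⁻¹ ∈ A := by
  rw [h.mul (mul_mem (mul_mem hx hy) (inv_mem hx)) (inv_mem hy), h.mul (mul_mem hx hy) (inv_mem hx), h.mul hx hy,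
    inv_mem_iff, inv_mem_iff]; tauto

theorem I2.ind (h : I2 M S) (hM : Ab M) {P : G → Prop} (P1 : P 1) (Pi : ∀ c, P c → P c⁻¹)
    (hP : ∀ a ∈ M, ∀ s ∈ S, s ∉ M → P (a * s * a⁻¹ * s⁻¹)) : ∀ x ∈ S, ∀ y ∈ S, P (x * y * x⁻¹ * y⁻¹) := by
  intro x hx y hy
  by_cases x1 : x ∈ M <;> by_cases y1 : y ∈ M
  · rwa [mul_comm_of_comm hM x1 y1, mul_inv_cancel_right, mul_inv_cancel]
  · exact hP x x1 y hy y1
  · convert Pi _ (hP y y1 x hx x1) using 1; group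
  · convert hP _ (h.2 x hx y⁻¹ (inv_mem hy) x1 (mt inv_mem_iff.1 y1)) y hy y1 using 1; group

theorem ab_of_sq (hE : ∀ e ∈ E, e * e = 1) : Ab E := comm_iff_le_cent.2 fun a ha => mem_cent.2 fun b hb => by
  rw [← inv_eq_of_mul_eq_one_right (hE _ (mul_mem hb ha)), mul_inv_rev, inv_eq_of_mul_eq_one_right (hE a ha),
    inv_eq_of_mul_eq_one_right (hE b hb)]

theorem ab2 (h1 : I2 E A) (h2 : I2 A S) (hE : ∀ e ∈ E, e * e = 1) (hA : Ab A) : Cl2 S := by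
  refine h2.ind hA (P := (· ∈ C(S))) (one_mem _) (fun _ => inv_mem) fun a ha s hs s1 => ?_
  have hb := h2.conj hs (inv_mem ha)
  have e : a * s * a⁻¹ * s⁻¹ = a * (s * a⁻¹ * s⁻¹) := by group
  have k : ∀ u ∈ A, ∀ v ∈ A, u * u = 1 → v * v = 1 → u * v * (u * v) = 1 := fun u hu v hv u1 v1 => by
    rw [mul_assoc, ← mul_assoc v, mul_comm_of_comm hA hv hu, mul_assoc, v1, mul_one, u1]
  have k1 : a * a = 1 ↔ s * a⁻¹ * s⁻¹ * (s * a⁻¹ * s⁻¹) = 1 := by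
    rw [conj_mul, ← mul_inv_rev, conj_eq_one_iff, inv_eq_one]
  have k2 : a * (s * a⁻¹ * s⁻¹) * (a * (s * a⁻¹ * s⁻¹)) = 1 := by
    by_cases a1 : a * a = 1
    · exact k _ ha _ hb a1 (k1.1 a1)
    · exact hE _ (h1.2 _ ha _ hb (fun e => a1 (hE _ e)) fun e => a1 (k1.2 (hE _ e)))
  have k3 : s * (a * (s * a⁻¹ * s⁻¹)) = a * (s * a⁻¹ * s⁻¹) * s := by
    conv_rhs => rw [← inv_eq_of_mul_eq_one_right k2]
    calc _ = s * a * s⁻¹ * (s * s * a⁻¹) * s⁻¹ := by group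
      _ = _ := by rw [mul_comm_of_comm hA (h2.2 s hs s hs s1 s1) (inv_mem ha)]; group
  rw [e]
  refine mem_cent.2 fun z hz => ?_
  by_cases z1 : z ∈ A
  · exact mul_comm_of_comm hA z1 (mul_mem ha hb)
  · have := mul_comm_of_comm hA (h2.2 z hz _ (inv_mem hs) z1 (mt inv_mem_iff.1 s1)) (mul_mem ha hb)
    calc _ = z * s⁻¹ * (s * (a * (s * a⁻¹ * s⁻¹))) := by group
      _ = _ := by rw [k3, ← mul_assoc, this]; group

structure Tr (E M S : Subgroup G) : Prop where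
  l1 : E ≤ M
  l2 : M ≤ S
  c1 : #E = 8
  c2 : #M = 16
  c3 : #S = 32
  sq : ∀ e ∈ E, e * e = 1

namespace Tr

variable (h : Tr E M S)
include h

theorem iE : I2 E M := .of_card h.l1 (by rw [h.c1, h.c2])
theorem iM : I2 M S := .of_card h.l2 (by rw [h.c3, h.c2])
theorem aE : Ab E := ab_of_sq h.sq
theorem cl : Cl2 M := ab2 (.refl E) h.iE h.sq h.aE

theorem J (l : cj g M ≤ S) : Tr (cj g E) (cj g M) S :=
  ⟨cj_mono g h.l1, l, by simp [h.c1], by simp [h.c2], h.c3, fun e he => by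
    obtain ⟨y, hy, rfl⟩ := mem_cj'.1 he
    rw [conj_mul, h.sq y hy, mul_one, mul_inv_cancel]⟩

theorem cen1 (hx : x ∈ M) (x1 : x ∉ E) (ha : a ∈ E) (e : a ∈ C[x]) : a ∈ C(M) := mem_cent.2 fun z hz => by
  by_cases z1 : z ∈ E
  · exact mul_comm_of_comm h.aE z1 ha
  · have := mul_comm_of_comm h.aE (h.iE.2 z hz _ (inv_mem hx) z1 (mt inv_mem_iff.1 x1)) ha
    calc _ = z * x⁻¹ * (x * a) := by group
      _ = _ := by rw [← mem_cent1.1 e, ← mul_assoc, this]; group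

theorem exm : ∃ m ∈ M, m ∉ E := SetLike.not_le_iff_exists.1 fun l => by
  have := card_le l
  rw [h.c1, h.c2] at this; omega

theorem four : 4 ≤ #(E ⊓ C(M)) := by
  obtain ⟨m, m1, m2⟩ := h.exm
  have k := cent_bd (X := E) (y := m) (Y := E ⊓ C(M)) fun x hx =>
    ⟨h.iE.comm (h.l1 hx) m1, h.cl x (h.l1 hx) m m1⟩
  have k1 := card_le (show E ⊓ C[m] ≤ E ⊓ C(M) from fun a ha => ⟨ha.1, h.cen1 m1 m2 ha.1 ha.2⟩)
  have k2 := card_dvd (inf_le_left : E ⊓ C(M) ≤ E)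
  rw [h.c1] at k k2
  have k3 : 8 ≤ #(E ⊓ C(M)) * #(E ⊓ C(M)) := k.trans (Nat.mul_le_mul_right _ k1)
  generalize #(E ⊓ C(M)) = r at k2 k3
  by_contra! l
  interval_cases r <;> omega

theorem two : ∃ c, ∀ x ∈ M, ∀ y ∈ M, x * y * x⁻¹ * y⁻¹ = 1 ∨ x * y * x⁻¹ * y⁻¹ = c := by
  obtain ⟨m, m1, m2⟩ := h.exm
  have i : I2 (E ⊓ C(M)) E := .of_card inf_le_left (by have := h.four; rw [h.c1]; omega)
  by_cases e : E ≤ C(M)
  · exact ⟨1, h.iE.ind h.aE (P := fun c => c = 1 ∨ c = 1) (by simp) (by simp) fun a ha s hs _ => by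
      simp [← mem_cent.1 (e ha) s hs]⟩
  obtain ⟨b, b1, b2⟩ := SetLike.not_le_iff_exists.1 e
  refine ⟨b * m * b⁻¹ * m⁻¹, h.iE.ind h.aE (P := fun c => c = 1 ∨ c = b * m * b⁻¹ * m⁻¹) (by simp) ?_
    fun a ha s hs s1 => ?_⟩
  · rintro _ (rfl | rfl)
    · simp
    · exact .inr (inv_eq_of_mul_eq_one_right (h.sq _ (h.iE.comm (h.l1 b1) m1)))
  refine or_iff_not_imp_left.2 fun e1 => ?_
  have k1 := mem_cent.1 (i.2 _ (inv_mem b1) a ha (fun e => b2 (inv_mem_iff.1 e.2)) fun e => e1 (by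
    simp [← mem_cent.1 e.2 s hs])).2 s hs
  have k2 := mul_comm_of_comm h.aE (h.iE.2 _ (inv_mem m1) s hs (mt inv_mem_iff.1 m2) s1) (inv_mem b1)
  calc _ = b * (b⁻¹ * a * s) * a⁻¹ * s⁻¹ := by group
    _ = b * m * (m⁻¹ * s * b⁻¹) * s⁻¹ := by rw [← k1]; group
    _ = _ := by rw [k2]; group

theorem uniq {x' y' : G} (hx : x ∈ M) (hy : y ∈ M) (hx' : x' ∈ M) (hy' : y' ∈ M) (e : x * y * x⁻¹ * y⁻¹ ≠ 1)
    (e' : x' * y' * x'⁻¹ * y'⁻¹ ≠ 1) : x' * y' * x'⁻¹ * y'⁻¹ = x * y * x⁻¹ * y⁻¹ :=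
  let ⟨_, hc⟩ := h.two
  ((hc _ hx' _ hy').resolve_left e').trans ((hc _ hx _ hy).resolve_left e).symm

omit h in
theorem cc (g x y : G) : g * x * g⁻¹ * (g * y * g⁻¹) * (g * x * g⁻¹)⁻¹ * (g * y * g⁻¹)⁻¹ =
    g * (x * y * x⁻¹ * y⁻¹) * g⁻¹ := by group

theorem cen (hx : x ∈ M) (hy : y ∈ M) : x * y * x⁻¹ * y⁻¹ ∈ C(S) := mem_cent.2 fun s hs => by
  by_cases e : x * y * x⁻¹ * y⁻¹ = 1
  · simp [e]
  have := h.uniq hx hy (h.iM.conj hs hx) (h.iM.conj hs hy) e (by rwa [cc, Ne, conj_eq_one_iff])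
  rw [cc] at this
  exact mul_inv_eq_iff_eq_mul.1 this

theorem zE (hc : ¬ Cl2 S) (h1 : a ∈ S) (h2 : a ∈ C(S)) (h3 : a * a = 1) : a ∈ E := by_contra fun e => hc (by
  have n : zpowers a ≤ C(E) := zpowers_le.2 (cent_mono (h.l1.trans h.l2) h2)
  have k : ∀ x ∈ E ⊔ zpowers a, x * x = 1 := fun x hx => by
    obtain ⟨u, hu, v, hv, rfl⟩ := (mem_sup_of_norm (norms_of_cents n)).1 hx
    rw [mul_assoc, ← mul_assoc v, ← mem_cent.1 (n hv) u hu, mul_assoc, ← mul_assoc, h.sq u hu, one_mul]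
    obtain ⟨i, rfl⟩ := mem_zpowers_iff.1 hv
    rw [← (Commute.refl a).mul_zpow, h3, one_zpow]
  have l : E < E ⊔ zpowers a := lt_of_le_of_ne le_sup_left fun e' => e (e' ▸ mem_sup_right (mem_zpowers a))
  have k1 := card_lt l
  obtain ⟨r, k2⟩ := card_dvd l.le
  refine ab2 (.refl _) (.of_card (sup_le (h.l1.trans h.l2) (zpowers_le.2 h1)) ?_) k (ab_of_sq k)
  rw [h.c1] at k1 k2
  rw [h.c3]; omega)

theorem main (hS : Syl 2 S ⊤) (ho : ∀ t u : G, orderOf t = 2 → orderOf u = 2 → IsConj t u) : Cl2 S := by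
  by_contra hc
  have na : ¬ M ≤ C(M) := fun e => hc (ab2 h.iE h.iM h.sq (comm_iff_le_cent.2 e))
  obtain ⟨x, hx, y, hy, e⟩ : ∃ x ∈ M, ∃ y ∈ M, x * y * x⁻¹ * y⁻¹ ≠ 1 := by
    by_contra! k
    exact na fun a ha => mem_cent.2 fun b hb => by simpa [mul_inv_eq_iff_eq_mul] using k b hb a ha
  have c1 := h.cen hx hy
  have c2 := h.iE.comm hx hy
  have kJ : ∀ g, cj g M ≤ S → g * (x * y * x⁻¹ * y⁻¹) * g⁻¹ ∈ C(S) := fun g l =>
    cc g x y ▸ (h.J l).cen (conj_mem_cj.2 hx) (conj_mem_cj.2 hy)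
  have kN : ∀ g g' : G, g ∈ N(S) → cj g' M ≤ cj g M → g' * (x * y * x⁻¹ * y⁻¹) * g'⁻¹ =
      g * (x * y * x⁻¹ * y⁻¹) * g⁻¹ := fun g g' hg l => by
    rw [← cc, ← cc]
    exact (h.J (cj_le_of_mem_norm hg h.l2)).uniq (conj_mem_cj.2 hx) (conj_mem_cj.2 hy) (l (conj_mem_cj.2 hx))
      (l (conj_mem_cj.2 hy)) (by rwa [cc, Ne, conj_eq_one_iff]) (by rwa [cc, Ne, conj_eq_one_iff])
  have nE : ¬ E ≤ C(M) := fun l => e (h.iE.ind h.aE (P := (· = 1)) rfl (by simp)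
    (fun a ha s hs _ => by simp [← mem_cent.1 (l ha) s hs]) x hx y hy)
  generalize x * y * x⁻¹ * y⁻¹ = c at e c1 c2 kJ kN
  have o : ∀ u : G, u * u = 1 → u ≠ 1 → ∃ g, g * u * g⁻¹ = c := fun u u1 u2 => isConj_iff.1
    (ho u c (orderOf_eq_prime (by rwa [pow_two]) u2) (orderOf_eq_prime (by rw [pow_two, h.sq c c2]) e))
  have sc : Syl 2 S C[c] := hS.of_le (le_cent1_iff.2 c1) le_top
  by_cases hz : ∀ z ∈ S, z ∈ C(S) → z * z = 1 → z ≠ 1 → z = c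
  · obtain ⟨u, u1, u2⟩ := SetLike.not_le_iff_exists.1 (show ¬ E ⊓ C(M) ≤ zpowers c from fun l => by
      have := h.four.trans (card_le l)
      rw [Nat.card_zpowers, orderOf_eq_prime (p := 2) (by rw [pow_two, h.sq c c2]) e] at this
      omega)
    obtain ⟨g, hg⟩ := o u (h.sq u u1.1) fun e => u2 (e ▸ one_mem _)
    obtain ⟨b, hb, l⟩ := sc.scj_le (K := cj g M) (hg ▸ cj_cent1 g u ▸ cj_mono g (le_cent1_iff.2 u1.2))
      ((hS.pi.of_le h.l2).J g)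
    rw [cj_cj] at l
    have k := hz _ (l (conj_mem_cj.2 (h.l1 c2))) (kJ _ l) (by rw [conj_mul, h.sq c c2]; simp)
      (by rwa [Ne, conj_eq_one_iff])
    have k1 : b * g * u * (b * g)⁻¹ = c := by
      rw [← mul_inv_cancel_right c b, ← mem_cent1.1 hb, ← hg]; group
    exact u2 (mul_left_cancel (mul_right_cancel (k.trans k1.symm)) ▸ mem_zpowers c)
  push Not at hz
  obtain ⟨z, z1, z2, z3, z4, z5⟩ := hz
  have z6 := h.zE hc z1 z2 z3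
  have B : ∀ u ∈ E, u ∈ C(S) → u ≠ 1 → ∃ n ∈ N(S), n * c * n⁻¹ = u := fun u u1 u2 u3 => by
    obtain ⟨g, hg⟩ := o u (h.sq u u1) u3
    obtain ⟨b, hb, l⟩ := ((hS.Jtop g).of_le (K := C[c]) (hg ▸ cj_cent1 g u ▸ cj_mono g (le_cent1_iff.2 u2))
      le_top).sconj sc
    refine ⟨(b * g)⁻¹, inv_mem (mem_norm_iff_cj.2 (by rw [cj_mul, l])), ?_⟩
    rw [← mul_inv_cancel_right c b, ← mem_cent1.1 hb, ← hg]; group
  have cz : c * z ≠ 1 := fun e => z5 (mul_left_cancel (e.trans (h.sq c c2).symm))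
  obtain ⟨n, n1, n2⟩ := B z z6 z2 z4
  obtain ⟨m, m1, m2⟩ := B _ (mul_mem c2 z6) (mul_mem c1 z2) cz
  have hn := h.J (cj_le_of_mem_norm n1 h.l2)
  have hm := h.J (cj_le_of_mem_norm m1 h.l2)
  have d1 : ¬ M ≤ cj n M := fun l => z5 (by simpa [n2] using (kN n 1 n1 (by simpa using l)).symm)
  have d2 : ¬ M ≤ cj m M := fun l => z4 (by simpa [m2] using (kN m 1 m1 (by simpa using l)).symm)
  have d3 : ¬ cj n M ≤ cj m M := fun l => e (by simpa [m2, n2] using (kN m n m1 l).symm)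
  have v1 : #(E ⊓ C(M)) ≤ 4 := by
    have l : E ⊓ C(M) < E := inf_lt_left.2 nE
    have k1 := card_lt l
    have k2 := card_dvd l.le
    rw [h.c1] at k1 k2
    generalize #(E ⊓ C(M)) = r at k1 k2
    interval_cases r <;> omega
  have v2 : 4 ≤ #(E ⊓ C(S)) := by
    have k : ({1, c, z, c * z} : Set G).ncard = 4 := by
      rw [Set.ncard_insert_of_notMem, Set.ncard_insert_of_notMem, Set.ncard_pair] <;>
        simp [e, z4, z5.symm, e.symm, z4.symm, cz.symm]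
    rw [← k]
    refine Set.ncard_le_ncard (t := SetLike.coe (E ⊓ C(S))) ?_
    rintro _ (rfl | rfl | rfl | rfl)
    exacts [one_mem _, ⟨c2, c1⟩, ⟨z6, z2⟩, ⟨mul_mem c2 z6, mul_mem c1 z2⟩]
  have v3 : E ⊓ C(S) = E ⊓ C(M) := by
    have l : E ⊓ C(S) ≤ E ⊓ C(M) := inf_le_inf_left _ (cent_mono h.l2)
    exact eq_of_le_of_card_eq l ((card_le l).antisymm (by omega))
  have s0 : ∀ w ∈ M, w * w ∈ C(S) := fun w hw => by
    by_cases w1 : w ∈ E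
    · rw [h.sq w w1]; exact one_mem _
    · have := h.iE.2 w hw w hw w1 w1
      exact (v3.ge ⟨this, h.cen1 hw w1 this (mem_cent1.2 (mul_assoc ..))⟩).2
  have s1 : ∀ g ∈ N(S), ∀ w ∈ cj g M, w * w ∈ C(S) := fun g hg w hw => by
    obtain ⟨y, hy, rfl⟩ := mem_cj'.1 hw
    rw [conj_mul]
    exact conj_mem_of_norm (norm_le_norm_cent S hg) (s0 y hy)
  by_cases cov : ∀ s ∈ S, s ∈ M ∨ s ∈ cj n M ∨ s ∈ cj m M
  · have s2 : ∀ w ∈ S, w * w ∈ C(S) := fun w hw => by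
      rcases cov w hw with k | k | k
      exacts [s0 w k, s1 n n1 w k, s1 m m1 w k]
    refine hc fun a ha b hb => ?_
    convert mul_mem (mul_mem (s2 a ha) (s2 _ (mul_mem (inv_mem ha) hb))) (inv_mem (s2 b hb)) using 1
    group
  push Not at cov
  obtain ⟨s, hs, t1, t2, t3⟩ := cov
  have l1 : M ⊓ cj n M ⊓ cj m M < M ⊓ cj n M := inf_lt_left.2 fun l => by
    obtain ⟨a, a1, a2⟩ := SetLike.not_le_iff_exists.1 d2
    obtain ⟨b, b1, b2⟩ := SetLike.not_le_iff_exists.1 d3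
    have a3 : a ∉ cj n M := fun e => a2 (l ⟨a1, e⟩)
    have b3 : b ∉ M := fun e => b2 (l ⟨e, b1⟩)
    have k := fun {K} (i : I2 K S) => (i.mul (mul_mem (h.l2 a1) hs) (hn.l2 b1)).trans
      (iff_congr (i.mul (h.l2 a1) hs) .rfl)
    have := (k hm.iM).1 (l ⟨(k h.iM).2 (by tauto), (k hn.iM).2 (by tauto)⟩)
    tauto
  have l2 : M ⊓ cj n M < M := inf_lt_left.2 d1
  have l3 : E ⊓ C(S) ≤ M ⊓ cj n M ⊓ cj m M := fun a ha =>
    have k := h.l2 (h.l1 ha.1)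
    ⟨⟨h.l1 ha.1, hn.l1 (hn.zE hc k ha.2 (h.sq a ha.1))⟩, hm.l1 (hm.zE hc k ha.2 (h.sq a ha.1))⟩
  have k1 := card_lt l1
  obtain ⟨r1, k2⟩ := card_dvd l1.le
  have k3 := card_lt l2
  obtain ⟨r2, k4⟩ := card_dvd l2.le
  have k5 : E ⊓ C(S) = M ⊓ cj n M ⊓ cj m M := eq_of_le_of_card_eq l3 ((card_le l3).antisymm (by
    rw [h.c2] at k3 k4
    rcases r1 with _ | _ | r1 <;> rcases r2 with _ | _ | r2 <;> nlinarith))
  exact hc fun a ha b hb => (k5.ge ⟨⟨h.iM.comm ha hb, hn.iM.comm ha hb⟩, hm.iM.comm ha hb⟩).2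

end Tr

theorem cl2 (hS : Syl 2 S ⊤) (h32 : #S ∣ 32) (ho : ∀ t u : G, orderOf t = 2 → orderOf u = 2 → IsConj t u)
    (hE : E ≤ S) (h8 : #E = 8) (sq : ∀ e ∈ E, e * e = 1) : Cl2 S := by
  by_cases e : #S ≤ 16
  · exact ab2 (.refl E) (.of_card hE (by omega)) sq (ab_of_sq sq)
  have e1 : #S = 32 := by
    have := Nat.le_of_dvd (by norm_num) h32
    generalize #S = r at *
    interval_cases r <;> omega
  obtain ⟨M, l1, l2, c⟩ := hS.pi.exists_between Nat.prime_two (k := 4) hE (by omega) (by omega)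
  exact Tr.main ⟨l1, l2, h8, c, e1, sq⟩ hS ho

end H3.IX
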