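import Cfsg.Agent.H3.JA1

/-! Simple groups of order 50232960: numerical checks. -/

namespace H3.JA
open H13 H13.BK

def F : List (ℕ × ℕ) := [(2, 7), (3, 5), (5, 1), (17, 1), (19, 1)]
def D : List ℕ :=
  [6885, 6840, 6528, 6480, 6460, 6156, 6120, 6080, 5814, 5760, 5508, 5472, 5440, 5184, 5168, 5130, 4896, 4860,
  4845, 4617, 4590, 4560, 4320, 4131, 4104, 4080, 3888, 3876, 3672, 3648, 3456, 3420, 3264, 3240, 3230, 3078,
  3060, 3040, 2907, 2880, 2754, 2736, 2720, 2592, 2584, 2565, 2448, 2432, 2430, 2295, 2280, 2176, 2160, 2052,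
  2040, 1944, 1938, 1920, 1836, 1824, 1728, 1710, 1632, 1620, 1615, 1539, 1530, 1520, 1440, 1377, 1368, 1360,
  1296, 1292, 1224, 1216, 1215, 1152, 1140, 1088, 1080, 1026, 1020, 972, 969, 960, 918, 912, 864, 855, 816, 810,
  765, 760, 720, 684, 680, 648, 646, 640, 612, 608, 576, 570, 544, 540, 513, 510, 486, 480, 459, 456, 432, 408,
  405, 384, 380, 360, 342, 340, 324, 323, 320, 306, 304, 288, 285, 272, 270, 255, 243, 240, 228, 216, 204, 192,
  190, 180, 171, 170, 162, 160, 153, 152, 144, 136, 135, 128, 120, 114, 108, 102, 96, 95, 90, 85, 81, 80, 76,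
  72, 68, 64, 60, 57, 54, 51, 48, 45, 40, 38, 36, 34, 32, 30, 27, 24, 20, 19, 18, 17, 16, 15, 12, 10, 9, 8, 6,
  5, 4, 3, 2, 1]

theorem r19 : chk 50232960 19 F D (fun e c => e != 9 || c != 1) (fun _ => true) (fun _ _ _ _ => true) [] = true := by
  decide +kernel

theorem r17 : chk 50232960 17 F D (fun e c => c % 19 != 0 && (e != 8 || c != 1)) (res 19 9)
    (fun e c l s => wrel 19 9 l s && (e != 16 || c != 9 || l.count (-1920) != 1)) [] = true := by
  decide +kernel

theorem r17v : ∀ k ∈ [2, 4, 8, 16], ∀ m ∈ divs F, m % 17 = 1 → m % 19 ≠ 0 → 50232960 % (153 * k * m) = 0 →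
    cand 51 (fun d y => y.natAbs ^ 2 ≤ 153 * k * m && ((50232960 / (153 * k * m) : ℕ) * y) % d == 0) 1920 = [] := by
  decide +kernel

theorem m17 : chk 50232960 17 F D (fun e c => e == 8 && c == 1) (res 19 9) (fun _ _ l s => wrel 19 9 l s &&
    ([76, 171, 324, 2736].any (nb 50232960 17 8 2 7 l s) || [76, 171, 2736].any (nb 50232960 17 8 3 5 l s))) [] =
    true := by
  decide +kernel

theorem m19 : chk 50232960 19 F D (fun e c => e == 9 && c == 1) (res 17 8) (fun _ _ l s => wrel 17 8 l s &&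
    nb 50232960 19 9 3 5 l s 816) [] = true := by
  decide +kernel

theorem m19' : chk 50232960 19 F D (fun e c => e == 9 && c == 1) (fun d => res 17 8 d && d != 1215)
    (fun _ _ l s => wrel 17 8 l s && nb 50232960 19 9 2 7 l s 816) [] = true := by
  decide +kernel

/-- conditions from the central characters -/
def ok23 (l : List ℤ) (I : ℕ) (d : ℕ) (y : ℤ) : Bool :=
  (!([76, 171, 324, 2736].contains d || d == 816 && l.contains 76) || (I * y / d - I) % 2 == 0) &&
  (!([76, 171, 2736, 816].contains d) || (I * y / d - I) % 3 == 0)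

def A : List ℤ := [76, 76, 816, -969]
def B : List ℤ := [-324, 646, 646, -969]
def Q5 : List (ℕ × ℕ × List ℤ) := [(2, 6, [-324]), (4, 3, [-324, -969, -2584, 3876]), (4, 3, B),
  (4, 3, [76, 76, 171, -324]), (4, 3, A), (4, 3, [171, -324, -2584, 2736]), (4, 3, [816, -969, -2584, 2736]),
  (4, 18, A), (4, 18, [816, -969, -2584, 2736]), (4, 48, [-324, -969, -2584, 3876]), (4, 48, B),
  (4, 48, [76, 76, 171, -324]), (4, 108, A)]

theorem r5 : chk 50232960 5 F D (fun _ c => c % 19 != 0 && c % 17 != 0) (fun d => res 19 9 d && res 17 8 d)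
    (fun _ c l s => wrel 19 9 l s && wrel 17 8 l s &&
      l.all fun u => ok23 l (50232960 / (5 * c)) u.natAbs u.sign) Q5 = true := by
  decide +kernel

/-- the column of an involution with centralizer of order `C` -/
def cz (r : ℕ × ℕ × List ℤ) (C : ℕ) (pr : ℕ → ℤ → Bool) (P : ℕ → Bool) : Bool :=
  (C % 5 == 0 && r.2.1 % 2 != 0) || col 50232960 (50232960 / C) (50232960 / C) 1 4
    (fun d y => y.natAbs ^ 2 ≤ C && ((50232960 / C : ℕ) * y) % d == 0 && ok23 r.2.2 (50232960 / C) d y &&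
      (C % 5 != 0 || (d - y) % 5 == 0) && pr d y) r.2.2 (if r.1 + 1 = 5 then 0 else (5 - 1) / r.1)
    fun _ V _ _ w => (List.range (r.2.1 + 1)).all fun J =>
      5 * r.2.1 * (w - V ^ 2 * (50232960 / (1 + r.2.2.sum))) != (5 * J * C) ^ 2 || P J

theorem rz : ∀ r ∈ Q5, r = (4, 48, B) ∨ r = (4, 108, A) ∨ ∀ C ∈ divs [(2, 7), (3, 5), (5, 1)], C % 128 = 0 →
    cz r C (fun _ _ => true) (fun J => r.1 == 2 && C == 1920 || r.2.1 == 3 && J == 2 ||
      r == (4, 18, A) && J * C == 17280) = true := by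
  decide +kernel

theorem rt : ∀ r ∈ [(4, 48, B), (4, 108, A)], ∀ C ∈ divs [(2, 7), (3, 5), (5, 1)], C % 8 = 0 →
    cz r C (fun d y => 17 * y.natAbs ≤ d + wt 17 8 d) (fun _ => r.2.1 == 108 && C == 10368) = true := by
  decide +kernel

theorem r76 : chk 50232960 17 F D (fun e c => e == 8 && c == 1) (res 19 9) (fun _ _ l s => wrel 19 9 l s &&
    (s == -76 || s == 76 && 17 * 10368 ^ 2 ≤ 50232960 + (l.map fun u =>
      if 0 < u then ((u + 16) / 17) ^ 2 * (50232960 / u) else 0).sum)) [] = true := by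
  decide +kernel

end H3.JA
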