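/-
Simple groups with few conjugacy classes, IV: the possible element orders.
-/
import Cfsg.Agent.H3.KC3

set_option autoImplicit false

noncomputable section
namespace H3.KC
open Finset

local notation "cnd[" α "]" b:max x:max y:max => Bool.rec (motive := fun _ => α) y x b
local notation "bor" a:max b:arg => Bool.rec (motive := fun _ => Bool) b true a
local notation "bnd" a:max b:arg => Bool.rec (motive := fun _ => Bool) false b a
local notation "bnt" a:max => Bool.rec (motive := fun _ => Bool) true false a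
local notation "dvb" a:max b:max => Nat.beq (Nat.mod b a) (nat_lit 0)

/-- powers of two modulo `n` -/
def pw (n f : ℕ) : ℕ → ℕ :=
  Nat.rec (motive := fun _ => ℕ → ℕ) (fun _ => nat_lit 1) (fun _ ih e => cnd[ℕ] (Nat.beq e (nat_lit 0)) (nat_lit 1)
    (frc (ih (Nat.div e (nat_lit 2))) fun h =>
      Nat.mod (Nat.mul (Nat.mul h h) (Nat.succ (Nat.mod e (nat_lit 2)))) n)) f

theorem pw_eq (n : ℕ) : ∀ f e, e < 2 ^ f → pw n f e ≡ 2 ^ e [MOD n]
  | 0, e, h => by obtain rfl : e = 0 := by simpa using h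
                  rfl
  | f + 1, e, h => by
    have : pw n (f + 1) e = Bool.rec (motive := fun _ => ℕ) (frc (pw n f (e / 2)) fun h => h * h * (e % 2 + 1) % n) 1
      (Nat.beq e (nat_lit 0)) := rfl
    rw [this, recN, frc_eq]
    split_ifs with a
    · obtain rfl : e = 0 := (beq_iff _ _).1 a
      rfl
    · have k := pw_eq n f (e / 2) (by omega)
      refine (Nat.mod_modEq _ _).trans (((k.mul k).mul_right _).trans ?_)
      have : e % 2 + 1 = 2 ^ (e % 2) := by rcases Nat.mod_two_eq_zero_or_one e with b | b <;> simp [b]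
      rw [this, ← pow_add, ← pow_add, show e / 2 + e / 2 + e % 2 = e by omega]

/-- a proof of compositeness of a number `> 3` -/
def cmp (d : ℕ) : Bool := bor (dvb (nat_lit 2) d) (bor (dvb (nat_lit 3) d) (bnd (Nat.ble d (nat_lit 1099511627776))
  (bnt (Nat.beq (pw d (nat_lit 40) (Nat.pred d)) (nat_lit 1)))))

theorem cmp_sound {d : ℕ} (h : cmp d = true) (h3 : 3 < d) : ¬ d.Prime := fun hp => by
  simp only [cmp, bor_e, bnd_e, bnt_e] at h
  simp only [or_t, and_t, not_t, beq_iff, ble_iff, mod_zero_iff] at h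
  have a : ¬ 2 ∣ d := fun e => by have := (Nat.prime_dvd_prime_iff_eq Nat.prime_two hp).1 e; omega
  have h := h a fun e => by have := (Nat.prime_dvd_prime_iff_eq Nat.prime_three hp).1 e; omega
  have b := (pw_eq d 40 d.pred (by simp; omega)).trans (Nat.totient_prime hp ▸
    Nat.ModEq.pow_totient ((Nat.Prime.coprime_iff_not_dvd Nat.prime_two).2 a))
  refine h.2 ?_
  have c : pw d 40 d.pred < d := by
    have : pw d 40 d.pred = Bool.rec (motive := fun _ => ℕ) (frc (pw d 39 (d.pred / 2)) fun h =>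
      h * h * (d.pred % 2 + 1) % d) 1 (Nat.beq d.pred (nat_lit 0)) := rfl
    rw [this, recN, frc_eq]
    split_ifs
    exacts [by omega, Nat.mod_lt _ (by omega)]
  rwa [Nat.ModEq, Nat.mod_eq_of_lt c, Nat.mod_eq_of_lt (by omega)] at b

/-- all of `1, …, s` -/
def upK (f : ℕ → Bool) (s : ℕ) : Bool :=
  Nat.rec (motive := fun _ => Bool) true (fun k ih => bnd (f (Nat.succ k)) ih) s

theorem upK_sound {f : ℕ → Bool} : ∀ s, upK f s = true → ∀ k, 0 < k → k ≤ s → f k = true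
  | 0, _, _, _, _ => by omega
  | s + 1, h, k, a, b => by
    have : upK f (s + 1) = Bool.rec (motive := fun _ => Bool) false (upK f s) (f (s + 1)) := rfl
    rw [this, bnd_e, and_t] at h
    rcases b.lt_or_eq with b | rfl
    exacts [upK_sound s h.2 k a (by omega), h.1]

/-- the test of the divisors -/
def dvs (a d : ℕ) (cur l : List ℕ) : Bool :=
  List.rec (motive := fun _ => Bool) true
    (fun q _ ih => bnd (bor (bnt (dvb q d)) (bnd (Nat.ble a q) (memL (Nat.div d q) cur))) ih) l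

theorem dvs_of {a d : ℕ} {cur : List ℕ} : ∀ l : List ℕ, (∀ q ∈ l, q ∣ d → a ≤ q ∧ d / q ∈ cur) → dvs a d cur l = true
  | [], _ => rfl
  | q :: l, h => by
    have : dvs a d cur (q :: l) = bnd (bor (bnt (dvb q d)) (bnd (Nat.ble a q) (memL (Nat.div d q) cur)))
      (dvs a d cur l) := rfl
    rw [this, bnd_e, and_t]
    refine ⟨?_, dvs_of l fun _ e => h _ (by simp [e])⟩
    simp only [bor_e, bnd_e, bnt_e]
    simp only [or_t, and_t, not_t, beq_iff, ble_iff, mod_zero_iff, memL_iff, not_not]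
    exact h q (by simp)

/-- a composite candidate -/
def rc1 (M : List ℕ) (ih : List ℕ → ℕ → ℕ → Bool) (cur : List ℕ) (last s a b : ℕ) : Bool :=
  frc (Nat.mul a b) fun d => bor (Nat.ble d last) (cnd[Bool] (dvs a d cur cur)
    (bnd (memL d M) (ih (d :: cur) d (Nat.pred s))) true)
/-- a prime candidate -/
def rc2 (M : List ℕ) (ih : List ℕ → ℕ → ℕ → Bool) (cur : List ℕ) (last s a k : ℕ) : Bool :=
  frc (Nat.succ (Nat.mul a k)) fun d => bor (Nat.ble d last) (bor (cmp d)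
    (bnd (memL d M) (frc (Nat.sub s k) (ih (d :: cur) d))))
/-- one step -/
def rc3 (M : List ℕ) (ih : List ℕ → ℕ → ℕ → Bool) (cur : List ℕ) (last s : ℕ) : Bool :=
  bor (Nat.beq s (nat_lit 0)) (bnd (allL (fun a => allL (rc1 M ih cur last s a) cur) cur)
    (allL (fun a => upK (rc2 M ih cur last s a) s) (nat_lit 1 :: cur)))
/-- the search for the possible orders -/
def rch (M : List ℕ) (f : ℕ) : List ℕ → ℕ → ℕ → Bool :=
  Nat.rec (motive := fun _ => List ℕ → ℕ → ℕ → Bool) (fun _ _ _ => true) (fun _ ih => rc3 M ih) f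

namespace CD
variable {D : CD} (h : D.Ok)
include h

theorem Ok.rch {M : List ℕ} : ∀ (f : ℕ) (cur : List ℕ) (last s : ℕ), rch M f cur last s = true → 3 ≤ last → s ≤ f →
    (∀ d, d ∈ cur ↔ D.Fut 0 d ∧ d ≤ last) → #{j ∈ range D.m | last < D.o j} ≤ s →
    ∀ j < D.m, last < D.o j → D.o j ∈ M := by
  intro f
  induction f with
  | zero => exact fun _ _ _ _ _ a _ b j c d => by have := (card_pos.2 ⟨j, by simp [c, d]⟩).trans_le b; omega
  | succ f ih =>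
    intro cur last s H h3 hs hc hn j hj hl
    obtain ⟨i, hi, hm⟩ := exists_min_image {j ∈ range D.m | last < D.o j} D.o ⟨j, by simp [hj, hl]⟩
    simp only [mem_filter, mem_range] at hi hm
    have k0 : #{j ∈ range D.m | D.o i < D.o j} + D.mult (D.o i) ≤ s := by
      rw [mult, ← card_union_of_disjoint (disjoint_filter.2 fun _ _ a b => by omega)]
      refine (card_le_card fun u hu => ?_).trans hn
      simp only [mem_union, mem_filter, mem_range] at hu ⊢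
      omega
    have k1 : 0 < D.mult (D.o i) := card_pos.2 ⟨i, by simp [hi.1]⟩
    have k2 : ∀ d, D.Fut 0 d → d < D.o i → d ∈ cur := fun d a b => (hc d).2 ⟨a, by
      obtain ⟨u, -, c, rfl⟩ := a
      by_contra e
      have := hm u ⟨c, by omega⟩
      omega⟩
    have k3 : ∀ d, d ∣ D.o i → 1 < d → d < D.o i → d ∈ cur := fun d a b c =>
      k2 d ⟨_, Nat.zero_le _, (h.par i hi.1 d a b c).2.1, (h.par i hi.1 d a b c).2.2.1⟩ c
    have key : ∀ s', s ≤ s' + D.mult (D.o i) → s' < s → D.o i ∈ M → KC.rch M f (D.o i :: cur) (D.o i) s' = true →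
        D.o j ∈ M := fun s' a b c d => by
      rcases (hm j ⟨hj, hl⟩).lt_or_eq with e | e
      · refine ih _ _ _ d (by omega) (by omega) (fun u => ?_) ?_ j hj e
        · rw [List.mem_cons]
          refine ⟨fun v => v.elim (fun v => ⟨⟨i, Nat.zero_le _, hi.1, v.symm⟩, v.le⟩) fun v =>
            ⟨((hc u).1 v).1, by have := ((hc u).1 v).2; omega⟩, fun v => ?_⟩
          exact v.2.eq_or_lt.imp id (k2 u v.1)
        · omega
      · exact e ▸ c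
    change rc3 M (KC.rch M f) cur last s = true at H
    simp only [rc3, bor_e, bnd_e] at H
    simp only [or_t, and_t, beq_iff, allL_iff] at H
    replace H := H (by omega)
    have o1 := h.o1 i hi.1
    by_cases hp : (D.o i).Prime
    · obtain ⟨a, k, b, c, d⟩ := h.prm i hi.1 hp
      have k4 : 0 < k := Nat.pos_of_ne_zero (by rintro rfl; omega)
      have := upK_sound _ (H.2 a (List.mem_cons.2 (b.imp id fun ⟨u, e, g⟩ => k2 a ⟨u, Nat.zero_le _, e, g⟩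
        (by nlinarith)))) k k4 (by omega)
      simp only [rc2, bor_e, bnd_e, frc_eq] at this
      simp only [or_t, and_t, ble_iff, memL_iff, Nat.mul_eq, Nat.succ_eq_add_one, c] at this
      have := this (by omega) fun e => cmp_sound e (by omega) hp
      exact key _ (by simp; omega) (by simp; omega) this.1 this.2
    · have a1 := Nat.minFac_prime o1.ne'
      have a2 := Nat.minFac_dvd (D.o i)
      have a3 : (D.o i).minFac < D.o i := (Nat.not_prime_iff_minFac_lt o1).1 hp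
      have a4 : ∀ q, q ∣ D.o i → 1 < q → q < D.o i → D.o i / q ∈ cur := fun q a b c =>
        k3 _ (Nat.div_dvd_of_dvd a) ((Nat.lt_div_iff_mul_lt' a 1).2 (by omega)) (Nat.div_lt_self (by omega) b)
      have := H.1 _ (k3 _ a2 a1.one_lt a3) _ (a4 _ a2 a1.one_lt a3)
      simp only [rc1, bor_e, bnd_e, frc_eq, Nat.mul_eq, Nat.mul_div_cancel' a2] at this
      simp only [or_t, and_t, cnd_t, ble_iff, memL_iff] at this
      have := (this (by omega)).1 (dvs_of _ fun q a b => by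
        obtain ⟨⟨u, -, c, rfl⟩, d⟩ := (hc q).1 a
        exact ⟨Nat.minFac_le_of_dvd (h.o1 u c) b, a4 _ b (h.o1 u c) (by omega)⟩)
      exact key _ (by simp; omega) (by simp; omega) this.1 this.2

end CD

/-- the table of the possible orders -/
def T0 : List E := [
  ⟨nat_lit 2, nat_lit 0, [], [], [(nat_lit 2, nat_lit 1)], true, true⟩, ⟨nat_lit 3, nat_lit 0, [], [], [(nat_lit 3, nat_lit 1)], true, false⟩, ⟨nat_lit 4, nat_lit 1, [], [nat_lit 2], [(nat_lit 2, nat_lit 2)], false, true⟩,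
  ⟨nat_lit 5, nat_lit 0, [], [], [(nat_lit 5, nat_lit 1)], true, false⟩, ⟨nat_lit 6, nat_lit 2, [(nat_lit 2, nat_lit 3), (nat_lit 3, nat_lit 2)], [nat_lit 2, nat_lit 3], [(nat_lit 2, nat_lit 1), (nat_lit 3, nat_lit 1)], false, false⟩,
  ⟨nat_lit 7, nat_lit 0, [], [], [(nat_lit 7, nat_lit 1)], true, false⟩, ⟨nat_lit 8, nat_lit 2, [], [nat_lit 2, nat_lit 4], [(nat_lit 2, nat_lit 3)], false, true⟩,
  ⟨nat_lit 9, nat_lit 1, [], [nat_lit 3], [(nat_lit 3, nat_lit 2)], false, false⟩, ⟨nat_lit 10, nat_lit 2, [(nat_lit 2, nat_lit 5), (nat_lit 5, nat_lit 2)], [nat_lit 2, nat_lit 5], [(nat_lit 2, nat_lit 1), (nat_lit 5, nat_lit 1)], false, false⟩,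
  ⟨nat_lit 11, nat_lit 0, [], [], [(nat_lit 11, nat_lit 1)], true, false⟩, ⟨nat_lit 12, nat_lit 4, [(nat_lit 3, nat_lit 0), (nat_lit 4, nat_lit 3)], [nat_lit 2, nat_lit 3, nat_lit 4, nat_lit 6], [(nat_lit 2, nat_lit 2), (nat_lit 3, nat_lit 1)], false, false⟩,
  ⟨nat_lit 13, nat_lit 0, [], [], [(nat_lit 13, nat_lit 1)], true, false⟩, ⟨nat_lit 14, nat_lit 2, [(nat_lit 2, nat_lit 7), (nat_lit 7, nat_lit 2)], [nat_lit 2, nat_lit 7], [(nat_lit 2, nat_lit 1), (nat_lit 7, nat_lit 1)], false, false⟩,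
  ⟨nat_lit 15, nat_lit 2, [(nat_lit 3, nat_lit 5), (nat_lit 5, nat_lit 3)], [nat_lit 3, nat_lit 5], [(nat_lit 3, nat_lit 1), (nat_lit 5, nat_lit 1)], false, false⟩, ⟨nat_lit 16, nat_lit 3, [], [nat_lit 2, nat_lit 4, nat_lit 8], [(nat_lit 2, nat_lit 4)], false, true⟩,
  ⟨nat_lit 17, nat_lit 0, [], [], [(nat_lit 17, nat_lit 1)], true, false⟩, ⟨nat_lit 18, nat_lit 4, [(nat_lit 2, nat_lit 0), (nat_lit 9, nat_lit 2)], [nat_lit 2, nat_lit 3, nat_lit 6, nat_lit 9], [(nat_lit 2, nat_lit 1), (nat_lit 3, nat_lit 2)], false, false⟩,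
  ⟨nat_lit 19, nat_lit 0, [], [], [(nat_lit 19, nat_lit 1)], true, false⟩, ⟨nat_lit 20, nat_lit 4, [(nat_lit 4, nat_lit 5), (nat_lit 5, nat_lit 0)], [nat_lit 2, nat_lit 4, nat_lit 5, nat_lit 10], [(nat_lit 2, nat_lit 2), (nat_lit 5, nat_lit 1)], false, false⟩,
  ⟨nat_lit 21, nat_lit 2, [(nat_lit 3, nat_lit 7), (nat_lit 7, nat_lit 3)], [nat_lit 3, nat_lit 7], [(nat_lit 3, nat_lit 1), (nat_lit 7, nat_lit 1)], false, false⟩,
  ⟨nat_lit 22, nat_lit 2, [(nat_lit 2, nat_lit 11), (nat_lit 11, nat_lit 2)], [nat_lit 2, nat_lit 11], [(nat_lit 2, nat_lit 1), (nat_lit 11, nat_lit 1)], false, false⟩, ⟨nat_lit 23, nat_lit 0, [], [], [(nat_lit 23, nat_lit 1)], true, false⟩,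
  ⟨nat_lit 24, nat_lit 6, [(nat_lit 3, nat_lit 0), (nat_lit 8, nat_lit 3)], [nat_lit 2, nat_lit 3, nat_lit 4, nat_lit 6, nat_lit 8, nat_lit 12], [(nat_lit 2, nat_lit 3), (nat_lit 3, nat_lit 1)], false, false⟩,
  ⟨nat_lit 25, nat_lit 1, [], [nat_lit 5], [(nat_lit 5, nat_lit 2)], false, false⟩, ⟨nat_lit 26, nat_lit 2, [(nat_lit 2, nat_lit 13), (nat_lit 13, nat_lit 2)], [nat_lit 2, nat_lit 13], [(nat_lit 2, nat_lit 1), (nat_lit 13, nat_lit 1)], false, false⟩,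
  ⟨nat_lit 27, nat_lit 2, [], [nat_lit 3, nat_lit 9], [(nat_lit 3, nat_lit 3)], false, false⟩,
  ⟨nat_lit 28, nat_lit 4, [(nat_lit 4, nat_lit 7), (nat_lit 7, nat_lit 0)], [nat_lit 2, nat_lit 4, nat_lit 7, nat_lit 14], [(nat_lit 2, nat_lit 2), (nat_lit 7, nat_lit 1)], false, false⟩, ⟨nat_lit 29, nat_lit 0, [], [], [(nat_lit 29, nat_lit 1)], true, false⟩,
  ⟨nat_lit 30, nat_lit 6, [(nat_lit 2, nat_lit 0), (nat_lit 3, nat_lit 0), (nat_lit 5, nat_lit 0), (nat_lit 6, nat_lit 5), (nat_lit 10, nat_lit 3), (nat_lit 15, nat_lit 2)], [nat_lit 2, nat_lit 3, nat_lit 5, nat_lit 6, nat_lit 10, nat_lit 15], [(nat_lit 2, nat_lit 1), (nat_lit 3, nat_lit 1), (nat_lit 5, nat_lit 1)], false, false⟩,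
  ⟨nat_lit 31, nat_lit 0, [], [], [(nat_lit 31, nat_lit 1)], true, false⟩, ⟨nat_lit 32, nat_lit 4, [], [nat_lit 2, nat_lit 4, nat_lit 8, nat_lit 16], [(nat_lit 2, nat_lit 5)], false, true⟩,
  ⟨nat_lit 33, nat_lit 2, [(nat_lit 3, nat_lit 11), (nat_lit 11, nat_lit 3)], [nat_lit 3, nat_lit 11], [(nat_lit 3, nat_lit 1), (nat_lit 11, nat_lit 1)], false, false⟩,
  ⟨nat_lit 34, nat_lit 2, [(nat_lit 2, nat_lit 17), (nat_lit 17, nat_lit 2)], [nat_lit 2, nat_lit 17], [(nat_lit 2, nat_lit 1), (nat_lit 17, nat_lit 1)], false, false⟩,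
  ⟨nat_lit 35, nat_lit 2, [(nat_lit 5, nat_lit 7), (nat_lit 7, nat_lit 5)], [nat_lit 5, nat_lit 7], [(nat_lit 5, nat_lit 1), (nat_lit 7, nat_lit 1)], false, false⟩,
  ⟨nat_lit 36, nat_lit 7, [(nat_lit 4, nat_lit 0), (nat_lit 9, nat_lit 0)], [nat_lit 2, nat_lit 3, nat_lit 4, nat_lit 6, nat_lit 9, nat_lit 12, nat_lit 18], [(nat_lit 2, nat_lit 2), (nat_lit 3, nat_lit 2)], false, false⟩,
  ⟨nat_lit 37, nat_lit 0, [], [], [(nat_lit 37, nat_lit 1)], true, false⟩, ⟨nat_lit 38, nat_lit 2, [(nat_lit 2, nat_lit 19), (nat_lit 19, nat_lit 2)], [nat_lit 2, nat_lit 19], [(nat_lit 2, nat_lit 1), (nat_lit 19, nat_lit 1)], false, false⟩,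
  ⟨nat_lit 39, nat_lit 2, [(nat_lit 3, nat_lit 13), (nat_lit 13, nat_lit 3)], [nat_lit 3, nat_lit 13], [(nat_lit 3, nat_lit 1), (nat_lit 13, nat_lit 1)], false, false⟩,
  ⟨nat_lit 40, nat_lit 6, [(nat_lit 5, nat_lit 0), (nat_lit 8, nat_lit 5)], [nat_lit 2, nat_lit 4, nat_lit 5, nat_lit 8, nat_lit 10, nat_lit 20], [(nat_lit 2, nat_lit 3), (nat_lit 5, nat_lit 1)], false, false⟩,
  ⟨nat_lit 41, nat_lit 0, [], [], [(nat_lit 41, nat_lit 1)], true, false⟩,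
  ⟨nat_lit 42, nat_lit 6, [(nat_lit 2, nat_lit 0), (nat_lit 3, nat_lit 0), (nat_lit 6, nat_lit 7), (nat_lit 7, nat_lit 0), (nat_lit 14, nat_lit 3), (nat_lit 21, nat_lit 2)], [nat_lit 2, nat_lit 3, nat_lit 6, nat_lit 7, nat_lit 14, nat_lit 21], [(nat_lit 2, nat_lit 1), (nat_lit 3, nat_lit 1), (nat_lit 7, nat_lit 1)], false, false⟩,
  ⟨nat_lit 43, nat_lit 0, [], [], [(nat_lit 43, nat_lit 1)], true, false⟩,
  ⟨nat_lit 44, nat_lit 4, [(nat_lit 4, nat_lit 11), (nat_lit 11, nat_lit 0)], [nat_lit 2, nat_lit 4, nat_lit 11, nat_lit 22], [(nat_lit 2, nat_lit 2), (nat_lit 11, nat_lit 1)], false, false⟩,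
  ⟨nat_lit 45, nat_lit 4, [(nat_lit 5, nat_lit 0), (nat_lit 9, nat_lit 5)], [nat_lit 3, nat_lit 5, nat_lit 9, nat_lit 15], [(nat_lit 3, nat_lit 2), (nat_lit 5, nat_lit 1)], false, false⟩,
  ⟨nat_lit 46, nat_lit 2, [(nat_lit 2, nat_lit 23), (nat_lit 23, nat_lit 2)], [nat_lit 2, nat_lit 23], [(nat_lit 2, nat_lit 1), (nat_lit 23, nat_lit 1)], false, false⟩, ⟨nat_lit 47, nat_lit 0, [], [], [(nat_lit 47, nat_lit 1)], true, false⟩,
  ⟨nat_lit 48, nat_lit 8, [(nat_lit 3, nat_lit 0), (nat_lit 16, nat_lit 3)], [nat_lit 2, nat_lit 3, nat_lit 4, nat_lit 6, nat_lit 8, nat_lit 12, nat_lit 16, nat_lit 24], [(nat_lit 2, nat_lit 4), (nat_lit 3, nat_lit 1)], false, false⟩,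
  ⟨nat_lit 49, nat_lit 1, [], [nat_lit 7], [(nat_lit 7, nat_lit 2)], false, false⟩,
  ⟨nat_lit 50, nat_lit 4, [(nat_lit 2, nat_lit 0), (nat_lit 25, nat_lit 2)], [nat_lit 2, nat_lit 5, nat_lit 10, nat_lit 25], [(nat_lit 2, nat_lit 1), (nat_lit 5, nat_lit 2)], false, false⟩,
  ⟨nat_lit 51, nat_lit 2, [(nat_lit 3, nat_lit 17), (nat_lit 17, nat_lit 3)], [nat_lit 3, nat_lit 17], [(nat_lit 3, nat_lit 1), (nat_lit 17, nat_lit 1)], false, false⟩,
  ⟨nat_lit 52, nat_lit 4, [(nat_lit 4, nat_lit 13), (nat_lit 13, nat_lit 0)], [nat_lit 2, nat_lit 4, nat_lit 13, nat_lit 26], [(nat_lit 2, nat_lit 2), (nat_lit 13, nat_lit 1)], false, false⟩,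
  ⟨nat_lit 53, nat_lit 0, [], [], [(nat_lit 53, nat_lit 1)], true, false⟩,
  ⟨nat_lit 54, nat_lit 6, [(nat_lit 2, nat_lit 0), (nat_lit 27, nat_lit 2)], [nat_lit 2, nat_lit 3, nat_lit 6, nat_lit 9, nat_lit 18, nat_lit 27], [(nat_lit 2, nat_lit 1), (nat_lit 3, nat_lit 3)], false, false⟩,
  ⟨nat_lit 55, nat_lit 2, [(nat_lit 5, nat_lit 11), (nat_lit 11, nat_lit 5)], [nat_lit 5, nat_lit 11], [(nat_lit 5, nat_lit 1), (nat_lit 11, nat_lit 1)], false, false⟩,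
  ⟨nat_lit 56, nat_lit 6, [(nat_lit 7, nat_lit 0), (nat_lit 8, nat_lit 7)], [nat_lit 2, nat_lit 4, nat_lit 7, nat_lit 8, nat_lit 14, nat_lit 28], [(nat_lit 2, nat_lit 3), (nat_lit 7, nat_lit 1)], false, false⟩,
  ⟨nat_lit 57, nat_lit 2, [(nat_lit 3, nat_lit 19), (nat_lit 19, nat_lit 3)], [nat_lit 3, nat_lit 19], [(nat_lit 3, nat_lit 1), (nat_lit 19, nat_lit 1)], false, false⟩,
  ⟨nat_lit 58, nat_lit 2, [(nat_lit 2, nat_lit 29), (nat_lit 29, nat_lit 2)], [nat_lit 2, nat_lit 29], [(nat_lit 2, nat_lit 1), (nat_lit 29, nat_lit 1)], false, false⟩, ⟨nat_lit 59, nat_lit 0, [], [], [(nat_lit 59, nat_lit 1)], true, false⟩,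
  ⟨nat_lit 61, nat_lit 0, [], [], [(nat_lit 61, nat_lit 1)], true, false⟩, ⟨nat_lit 62, nat_lit 2, [(nat_lit 2, nat_lit 31), (nat_lit 31, nat_lit 2)], [nat_lit 2, nat_lit 31], [(nat_lit 2, nat_lit 1), (nat_lit 31, nat_lit 1)], false, false⟩,
  ⟨nat_lit 63, nat_lit 4, [(nat_lit 7, nat_lit 0), (nat_lit 9, nat_lit 7)], [nat_lit 3, nat_lit 7, nat_lit 9, nat_lit 21], [(nat_lit 3, nat_lit 2), (nat_lit 7, nat_lit 1)], false, false⟩,
  ⟨nat_lit 64, nat_lit 5, [], [nat_lit 2, nat_lit 4, nat_lit 8, nat_lit 16, nat_lit 32], [(nat_lit 2, nat_lit 6)], false, true⟩,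
  ⟨nat_lit 65, nat_lit 2, [(nat_lit 5, nat_lit 13), (nat_lit 13, nat_lit 5)], [nat_lit 5, nat_lit 13], [(nat_lit 5, nat_lit 1), (nat_lit 13, nat_lit 1)], false, false⟩,
  ⟨nat_lit 66, nat_lit 6, [(nat_lit 2, nat_lit 0), (nat_lit 3, nat_lit 0), (nat_lit 6, nat_lit 11), (nat_lit 11, nat_lit 0), (nat_lit 22, nat_lit 3), (nat_lit 33, nat_lit 2)], [nat_lit 2, nat_lit 3, nat_lit 6, nat_lit 11, nat_lit 22, nat_lit 33], [(nat_lit 2, nat_lit 1), (nat_lit 3, nat_lit 1), (nat_lit 11, nat_lit 1)], false, false⟩,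
  ⟨nat_lit 67, nat_lit 0, [], [], [(nat_lit 67, nat_lit 1)], true, false⟩,
  ⟨nat_lit 68, nat_lit 4, [(nat_lit 4, nat_lit 17), (nat_lit 17, nat_lit 0)], [nat_lit 2, nat_lit 4, nat_lit 17, nat_lit 34], [(nat_lit 2, nat_lit 2), (nat_lit 17, nat_lit 1)], false, false⟩,
  ⟨nat_lit 69, nat_lit 2, [(nat_lit 3, nat_lit 23), (nat_lit 23, nat_lit 3)], [nat_lit 3, nat_lit 23], [(nat_lit 3, nat_lit 1), (nat_lit 23, nat_lit 1)], false, false⟩,
  ⟨nat_lit 70, nat_lit 6, [(nat_lit 2, nat_lit 0), (nat_lit 5, nat_lit 0), (nat_lit 7, nat_lit 0), (nat_lit 10, nat_lit 7), (nat_lit 14, nat_lit 5), (nat_lit 35, nat_lit 2)], [nat_lit 2, nat_lit 5, nat_lit 7, nat_lit 10, nat_lit 14, nat_lit 35], [(nat_lit 2, nat_lit 1), (nat_lit 5, nat_lit 1), (nat_lit 7, nat_lit 1)], false, false⟩,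
  ⟨nat_lit 71, nat_lit 0, [], [], [(nat_lit 71, nat_lit 1)], true, false⟩, ⟨nat_lit 73, nat_lit 0, [], [], [(nat_lit 73, nat_lit 1)], true, false⟩,
  ⟨nat_lit 74, nat_lit 2, [(nat_lit 2, nat_lit 37), (nat_lit 37, nat_lit 2)], [nat_lit 2, nat_lit 37], [(nat_lit 2, nat_lit 1), (nat_lit 37, nat_lit 1)], false, false⟩,
  ⟨nat_lit 75, nat_lit 4, [(nat_lit 3, nat_lit 0), (nat_lit 25, nat_lit 3)], [nat_lit 3, nat_lit 5, nat_lit 15, nat_lit 25], [(nat_lit 3, nat_lit 1), (nat_lit 5, nat_lit 2)], false, false⟩,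
  ⟨nat_lit 76, nat_lit 4, [(nat_lit 4, nat_lit 19), (nat_lit 19, nat_lit 0)], [nat_lit 2, nat_lit 4, nat_lit 19, nat_lit 38], [(nat_lit 2, nat_lit 2), (nat_lit 19, nat_lit 1)], false, false⟩,
  ⟨nat_lit 77, nat_lit 2, [(nat_lit 7, nat_lit 11), (nat_lit 11, nat_lit 7)], [nat_lit 7, nat_lit 11], [(nat_lit 7, nat_lit 1), (nat_lit 11, nat_lit 1)], false, false⟩,
  ⟨nat_lit 78, nat_lit 6, [(nat_lit 2, nat_lit 0), (nat_lit 3, nat_lit 0), (nat_lit 6, nat_lit 13), (nat_lit 13, nat_lit 0), (nat_lit 26, nat_lit 3), (nat_lit 39, nat_lit 2)], [nat_lit 2, nat_lit 3, nat_lit 6, nat_lit 13, nat_lit 26, nat_lit 39], [(nat_lit 2, nat_lit 1), (nat_lit 3, nat_lit 1), (nat_lit 13, nat_lit 1)], false, false⟩,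
  ⟨nat_lit 79, nat_lit 0, [], [], [(nat_lit 79, nat_lit 1)], true, false⟩,
  ⟨nat_lit 80, nat_lit 8, [(nat_lit 5, nat_lit 0), (nat_lit 16, nat_lit 5)], [nat_lit 2, nat_lit 4, nat_lit 5, nat_lit 8, nat_lit 10, nat_lit 16, nat_lit 20, nat_lit 40], [(nat_lit 2, nat_lit 4), (nat_lit 5, nat_lit 1)], false, false⟩,
  ⟨nat_lit 81, nat_lit 3, [], [nat_lit 3, nat_lit 9, nat_lit 27], [(nat_lit 3, nat_lit 4)], false, false⟩,
  ⟨nat_lit 82, nat_lit 2, [(nat_lit 2, nat_lit 41), (nat_lit 41, nat_lit 2)], [nat_lit 2, nat_lit 41], [(nat_lit 2, nat_lit 1), (nat_lit 41, nat_lit 1)], false, false⟩, ⟨nat_lit 83, nat_lit 0, [], [], [(nat_lit 83, nat_lit 1)], true, false⟩,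
  ⟨nat_lit 85, nat_lit 2, [(nat_lit 5, nat_lit 17), (nat_lit 17, nat_lit 5)], [nat_lit 5, nat_lit 17], [(nat_lit 5, nat_lit 1), (nat_lit 17, nat_lit 1)], false, false⟩,
  ⟨nat_lit 86, nat_lit 2, [(nat_lit 2, nat_lit 43), (nat_lit 43, nat_lit 2)], [nat_lit 2, nat_lit 43], [(nat_lit 2, nat_lit 1), (nat_lit 43, nat_lit 1)], false, false⟩,
  ⟨nat_lit 87, nat_lit 2, [(nat_lit 3, nat_lit 29), (nat_lit 29, nat_lit 3)], [nat_lit 3, nat_lit 29], [(nat_lit 3, nat_lit 1), (nat_lit 29, nat_lit 1)], false, false⟩,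
  ⟨nat_lit 88, nat_lit 6, [(nat_lit 8, nat_lit 11), (nat_lit 11, nat_lit 0)], [nat_lit 2, nat_lit 4, nat_lit 8, nat_lit 11, nat_lit 22, nat_lit 44], [(nat_lit 2, nat_lit 3), (nat_lit 11, nat_lit 1)], false, false⟩,
  ⟨nat_lit 89, nat_lit 0, [], [], [(nat_lit 89, nat_lit 1)], true, false⟩, ⟨nat_lit 91, nat_lit 2, [(nat_lit 7, nat_lit 13), (nat_lit 13, nat_lit 7)], [nat_lit 7, nat_lit 13], [(nat_lit 7, nat_lit 1), (nat_lit 13, nat_lit 1)], false, false⟩,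
  ⟨nat_lit 92, nat_lit 4, [(nat_lit 4, nat_lit 23), (nat_lit 23, nat_lit 0)], [nat_lit 2, nat_lit 4, nat_lit 23, nat_lit 46], [(nat_lit 2, nat_lit 2), (nat_lit 23, nat_lit 1)], false, false⟩,
  ⟨nat_lit 93, nat_lit 2, [(nat_lit 3, nat_lit 31), (nat_lit 31, nat_lit 3)], [nat_lit 3, nat_lit 31], [(nat_lit 3, nat_lit 1), (nat_lit 31, nat_lit 1)], false, false⟩,
  ⟨nat_lit 95, nat_lit 2, [(nat_lit 5, nat_lit 19), (nat_lit 19, nat_lit 5)], [nat_lit 5, nat_lit 19], [(nat_lit 5, nat_lit 1), (nat_lit 19, nat_lit 1)], false, false⟩, ⟨nat_lit 97, nat_lit 0, [], [], [(nat_lit 97, nat_lit 1)], true, false⟩,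
  ⟨nat_lit 98, nat_lit 4, [(nat_lit 2, nat_lit 0), (nat_lit 49, nat_lit 2)], [nat_lit 2, nat_lit 7, nat_lit 14, nat_lit 49], [(nat_lit 2, nat_lit 1), (nat_lit 7, nat_lit 2)], false, false⟩,
  ⟨nat_lit 99, nat_lit 4, [(nat_lit 9, nat_lit 11), (nat_lit 11, nat_lit 0)], [nat_lit 3, nat_lit 9, nat_lit 11, nat_lit 33], [(nat_lit 3, nat_lit 2), (nat_lit 11, nat_lit 1)], false, false⟩,
  ⟨nat_lit 100, nat_lit 7, [(nat_lit 4, nat_lit 0), (nat_lit 25, nat_lit 0)], [nat_lit 2, nat_lit 4, nat_lit 5, nat_lit 10, nat_lit 20, nat_lit 25, nat_lit 50], [(nat_lit 2, nat_lit 2), (nat_lit 5, nat_lit 2)], false, false⟩,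
  ⟨nat_lit 101, nat_lit 0, [], [], [(nat_lit 101, nat_lit 1)], true, false⟩,
  ⟨nat_lit 102, nat_lit 6, [(nat_lit 2, nat_lit 0), (nat_lit 3, nat_lit 0), (nat_lit 6, nat_lit 17), (nat_lit 17, nat_lit 0), (nat_lit 34, nat_lit 3), (nat_lit 51, nat_lit 2)], [nat_lit 2, nat_lit 3, nat_lit 6, nat_lit 17, nat_lit 34, nat_lit 51], [(nat_lit 2, nat_lit 1), (nat_lit 3, nat_lit 1), (nat_lit 17, nat_lit 1)], false, false⟩,
  ⟨nat_lit 103, nat_lit 0, [], [], [(nat_lit 103, nat_lit 1)], true, false⟩,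
  ⟨nat_lit 104, nat_lit 6, [(nat_lit 8, nat_lit 13), (nat_lit 13, nat_lit 0)], [nat_lit 2, nat_lit 4, nat_lit 8, nat_lit 13, nat_lit 26, nat_lit 52], [(nat_lit 2, nat_lit 3), (nat_lit 13, nat_lit 1)], false, false⟩,
  ⟨nat_lit 105, nat_lit 6, [(nat_lit 3, nat_lit 0), (nat_lit 5, nat_lit 0), (nat_lit 7, nat_lit 0), (nat_lit 15, nat_lit 7), (nat_lit 21, nat_lit 5), (nat_lit 35, nat_lit 3)], [nat_lit 3, nat_lit 5, nat_lit 7, nat_lit 15, nat_lit 21, nat_lit 35], [(nat_lit 3, nat_lit 1), (nat_lit 5, nat_lit 1), (nat_lit 7, nat_lit 1)], false, false⟩,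
  ⟨nat_lit 106, nat_lit 2, [(nat_lit 2, nat_lit 53), (nat_lit 53, nat_lit 2)], [nat_lit 2, nat_lit 53], [(nat_lit 2, nat_lit 1), (nat_lit 53, nat_lit 1)], false, false⟩, ⟨nat_lit 107, nat_lit 0, [], [], [(nat_lit 107, nat_lit 1)], true, false⟩,
  ⟨nat_lit 109, nat_lit 0, [], [], [(nat_lit 109, nat_lit 1)], true, false⟩,
  ⟨nat_lit 110, nat_lit 6, [(nat_lit 2, nat_lit 0), (nat_lit 5, nat_lit 0), (nat_lit 10, nat_lit 11), (nat_lit 11, nat_lit 0), (nat_lit 22, nat_lit 5), (nat_lit 55, nat_lit 2)], [nat_lit 2, nat_lit 5, nat_lit 10, nat_lit 11, nat_lit 22, nat_lit 55], [(nat_lit 2, nat_lit 1), (nat_lit 5, nat_lit 1), (nat_lit 11, nat_lit 1)], false, false⟩,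
  ⟨nat_lit 111, nat_lit 2, [(nat_lit 3, nat_lit 37), (nat_lit 37, nat_lit 3)], [nat_lit 3, nat_lit 37], [(nat_lit 3, nat_lit 1), (nat_lit 37, nat_lit 1)], false, false⟩,
  ⟨nat_lit 114, nat_lit 6, [(nat_lit 2, nat_lit 0), (nat_lit 3, nat_lit 0), (nat_lit 6, nat_lit 19), (nat_lit 19, nat_lit 0), (nat_lit 38, nat_lit 3), (nat_lit 57, nat_lit 2)], [nat_lit 2, nat_lit 3, nat_lit 6, nat_lit 19, nat_lit 38, nat_lit 57], [(nat_lit 2, nat_lit 1), (nat_lit 3, nat_lit 1), (nat_lit 19, nat_lit 1)], false, false⟩,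
  ⟨nat_lit 115, nat_lit 2, [(nat_lit 5, nat_lit 23), (nat_lit 23, nat_lit 5)], [nat_lit 5, nat_lit 23], [(nat_lit 5, nat_lit 1), (nat_lit 23, nat_lit 1)], false, false⟩,
  ⟨nat_lit 116, nat_lit 4, [(nat_lit 4, nat_lit 29), (nat_lit 29, nat_lit 0)], [nat_lit 2, nat_lit 4, nat_lit 29, nat_lit 58], [(nat_lit 2, nat_lit 2), (nat_lit 29, nat_lit 1)], false, false⟩,
  ⟨nat_lit 117, nat_lit 4, [(nat_lit 9, nat_lit 13), (nat_lit 13, nat_lit 0)], [nat_lit 3, nat_lit 9, nat_lit 13, nat_lit 39], [(nat_lit 3, nat_lit 2), (nat_lit 13, nat_lit 1)], false, false⟩,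
  ⟨nat_lit 118, nat_lit 2, [(nat_lit 2, nat_lit 59), (nat_lit 59, nat_lit 2)], [nat_lit 2, nat_lit 59], [(nat_lit 2, nat_lit 1), (nat_lit 59, nat_lit 1)], false, false⟩,
  ⟨nat_lit 119, nat_lit 2, [(nat_lit 7, nat_lit 17), (nat_lit 17, nat_lit 7)], [nat_lit 7, nat_lit 17], [(nat_lit 7, nat_lit 1), (nat_lit 17, nat_lit 1)], false, false⟩, ⟨nat_lit 121, nat_lit 1, [], [nat_lit 11], [(nat_lit 11, nat_lit 2)], false, false⟩,
  ⟨nat_lit 122, nat_lit 2, [(nat_lit 2, nat_lit 61), (nat_lit 61, nat_lit 2)], [nat_lit 2, nat_lit 61], [(nat_lit 2, nat_lit 1), (nat_lit 61, nat_lit 1)], false, false⟩,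
  ⟨nat_lit 123, nat_lit 2, [(nat_lit 3, nat_lit 41), (nat_lit 41, nat_lit 3)], [nat_lit 3, nat_lit 41], [(nat_lit 3, nat_lit 1), (nat_lit 41, nat_lit 1)], false, false⟩,
  ⟨nat_lit 124, nat_lit 4, [(nat_lit 4, nat_lit 31), (nat_lit 31, nat_lit 0)], [nat_lit 2, nat_lit 4, nat_lit 31, nat_lit 62], [(nat_lit 2, nat_lit 2), (nat_lit 31, nat_lit 1)], false, false⟩,
  ⟨nat_lit 125, nat_lit 2, [], [nat_lit 5, nat_lit 25], [(nat_lit 5, nat_lit 3)], false, false⟩, ⟨nat_lit 127, nat_lit 0, [], [], [(nat_lit 127, nat_lit 1)], true, false⟩,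
  ⟨nat_lit 128, nat_lit 6, [], [nat_lit 2, nat_lit 4, nat_lit 8, nat_lit 16, nat_lit 32, nat_lit 64], [(nat_lit 2, nat_lit 7)], false, true⟩,
  ⟨nat_lit 129, nat_lit 2, [(nat_lit 3, nat_lit 43), (nat_lit 43, nat_lit 3)], [nat_lit 3, nat_lit 43], [(nat_lit 3, nat_lit 1), (nat_lit 43, nat_lit 1)], false, false⟩, ⟨nat_lit 131, nat_lit 0, [], [], [(nat_lit 131, nat_lit 1)], true, false⟩,
  ⟨nat_lit 133, nat_lit 2, [(nat_lit 7, nat_lit 19), (nat_lit 19, nat_lit 7)], [nat_lit 7, nat_lit 19], [(nat_lit 7, nat_lit 1), (nat_lit 19, nat_lit 1)], false, false⟩,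
  ⟨nat_lit 134, nat_lit 2, [(nat_lit 2, nat_lit 67), (nat_lit 67, nat_lit 2)], [nat_lit 2, nat_lit 67], [(nat_lit 2, nat_lit 1), (nat_lit 67, nat_lit 1)], false, false⟩,
  ⟨nat_lit 135, nat_lit 6, [(nat_lit 5, nat_lit 0), (nat_lit 27, nat_lit 5)], [nat_lit 3, nat_lit 5, nat_lit 9, nat_lit 15, nat_lit 27, nat_lit 45], [(nat_lit 3, nat_lit 3), (nat_lit 5, nat_lit 1)], false, false⟩,
  ⟨nat_lit 136, nat_lit 6, [(nat_lit 8, nat_lit 17), (nat_lit 17, nat_lit 0)], [nat_lit 2, nat_lit 4, nat_lit 8, nat_lit 17, nat_lit 34, nat_lit 68], [(nat_lit 2, nat_lit 3), (nat_lit 17, nat_lit 1)], false, false⟩,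
  ⟨nat_lit 137, nat_lit 0, [], [], [(nat_lit 137, nat_lit 1)], true, false⟩, ⟨nat_lit 142, nat_lit 2, [(nat_lit 2, nat_lit 71), (nat_lit 71, nat_lit 2)], [nat_lit 2, nat_lit 71], [(nat_lit 2, nat_lit 1), (nat_lit 71, nat_lit 1)], false, false⟩,
  ⟨nat_lit 143, nat_lit 2, [(nat_lit 11, nat_lit 13), (nat_lit 13, nat_lit 11)], [nat_lit 11, nat_lit 13], [(nat_lit 11, nat_lit 1), (nat_lit 13, nat_lit 1)], false, false⟩,
  ⟨nat_lit 145, nat_lit 2, [(nat_lit 5, nat_lit 29), (nat_lit 29, nat_lit 5)], [nat_lit 5, nat_lit 29], [(nat_lit 5, nat_lit 1), (nat_lit 29, nat_lit 1)], false, false⟩,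
  ⟨nat_lit 146, nat_lit 2, [(nat_lit 2, nat_lit 73), (nat_lit 73, nat_lit 2)], [nat_lit 2, nat_lit 73], [(nat_lit 2, nat_lit 1), (nat_lit 73, nat_lit 1)], false, false⟩,
  ⟨nat_lit 147, nat_lit 4, [(nat_lit 3, nat_lit 0), (nat_lit 49, nat_lit 3)], [nat_lit 3, nat_lit 7, nat_lit 21, nat_lit 49], [(nat_lit 3, nat_lit 1), (nat_lit 7, nat_lit 2)], false, false⟩,
  ⟨nat_lit 148, nat_lit 4, [(nat_lit 4, nat_lit 37), (nat_lit 37, nat_lit 0)], [nat_lit 2, nat_lit 4, nat_lit 37, nat_lit 74], [(nat_lit 2, nat_lit 2), (nat_lit 37, nat_lit 1)], false, false⟩,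
  ⟨nat_lit 149, nat_lit 0, [], [], [(nat_lit 149, nat_lit 1)], true, false⟩, ⟨nat_lit 151, nat_lit 0, [], [], [(nat_lit 151, nat_lit 1)], true, false⟩,
  ⟨nat_lit 152, nat_lit 6, [(nat_lit 8, nat_lit 19), (nat_lit 19, nat_lit 0)], [nat_lit 2, nat_lit 4, nat_lit 8, nat_lit 19, nat_lit 38, nat_lit 76], [(nat_lit 2, nat_lit 3), (nat_lit 19, nat_lit 1)], false, false⟩,
  ⟨nat_lit 153, nat_lit 4, [(nat_lit 9, nat_lit 17), (nat_lit 17, nat_lit 0)], [nat_lit 3, nat_lit 9, nat_lit 17, nat_lit 51], [(nat_lit 3, nat_lit 2), (nat_lit 17, nat_lit 1)], false, false⟩,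
  ⟨nat_lit 155, nat_lit 2, [(nat_lit 5, nat_lit 31), (nat_lit 31, nat_lit 5)], [nat_lit 5, nat_lit 31], [(nat_lit 5, nat_lit 1), (nat_lit 31, nat_lit 1)], false, false⟩, ⟨nat_lit 157, nat_lit 0, [], [], [(nat_lit 157, nat_lit 1)], true, false⟩,
  ⟨nat_lit 158, nat_lit 2, [(nat_lit 2, nat_lit 79), (nat_lit 79, nat_lit 2)], [nat_lit 2, nat_lit 79], [(nat_lit 2, nat_lit 1), (nat_lit 79, nat_lit 1)], false, false⟩,
  ⟨nat_lit 159, nat_lit 2, [(nat_lit 3, nat_lit 53), (nat_lit 53, nat_lit 3)], [nat_lit 3, nat_lit 53], [(nat_lit 3, nat_lit 1), (nat_lit 53, nat_lit 1)], false, false⟩,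
  ⟨nat_lit 162, nat_lit 8, [(nat_lit 2, nat_lit 0), (nat_lit 81, nat_lit 2)], [nat_lit 2, nat_lit 3, nat_lit 6, nat_lit 9, nat_lit 18, nat_lit 27, nat_lit 54, nat_lit 81], [(nat_lit 2, nat_lit 1), (nat_lit 3, nat_lit 4)], false, false⟩,
  ⟨nat_lit 163, nat_lit 0, [], [], [(nat_lit 163, nat_lit 1)], true, false⟩,
  ⟨nat_lit 164, nat_lit 4, [(nat_lit 4, nat_lit 41), (nat_lit 41, nat_lit 0)], [nat_lit 2, nat_lit 4, nat_lit 41, nat_lit 82], [(nat_lit 2, nat_lit 2), (nat_lit 41, nat_lit 1)], false, false⟩,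
  ⟨nat_lit 165, nat_lit 6, [(nat_lit 3, nat_lit 0), (nat_lit 5, nat_lit 0), (nat_lit 11, nat_lit 0), (nat_lit 15, nat_lit 11), (nat_lit 33, nat_lit 5), (nat_lit 55, nat_lit 3)], [nat_lit 3, nat_lit 5, nat_lit 11, nat_lit 15, nat_lit 33, nat_lit 55], [(nat_lit 3, nat_lit 1), (nat_lit 5, nat_lit 1), (nat_lit 11, nat_lit 1)], false, false⟩,
  ⟨nat_lit 169, nat_lit 1, [], [nat_lit 13], [(nat_lit 13, nat_lit 2)], false, false⟩,
  ⟨nat_lit 171, nat_lit 4, [(nat_lit 9, nat_lit 19), (nat_lit 19, nat_lit 0)], [nat_lit 3, nat_lit 9, nat_lit 19, nat_lit 57], [(nat_lit 3, nat_lit 2), (nat_lit 19, nat_lit 1)], false, false⟩,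
  ⟨nat_lit 172, nat_lit 4, [(nat_lit 4, nat_lit 43), (nat_lit 43, nat_lit 0)], [nat_lit 2, nat_lit 4, nat_lit 43, nat_lit 86], [(nat_lit 2, nat_lit 2), (nat_lit 43, nat_lit 1)], false, false⟩,
  ⟨nat_lit 173, nat_lit 0, [], [], [(nat_lit 173, nat_lit 1)], true, false⟩,
  ⟨nat_lit 174, nat_lit 6, [(nat_lit 2, nat_lit 0), (nat_lit 3, nat_lit 0), (nat_lit 6, nat_lit 29), (nat_lit 29, nat_lit 0), (nat_lit 58, nat_lit 3), (nat_lit 87, nat_lit 2)], [nat_lit 2, nat_lit 3, nat_lit 6, nat_lit 29, nat_lit 58, nat_lit 87], [(nat_lit 2, nat_lit 1), (nat_lit 3, nat_lit 1), (nat_lit 29, nat_lit 1)], false, false⟩,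
  ⟨nat_lit 175, nat_lit 4, [(nat_lit 7, nat_lit 0), (nat_lit 25, nat_lit 7)], [nat_lit 5, nat_lit 7, nat_lit 25, nat_lit 35], [(nat_lit 5, nat_lit 2), (nat_lit 7, nat_lit 1)], false, false⟩,
  ⟨nat_lit 177, nat_lit 2, [(nat_lit 3, nat_lit 59), (nat_lit 59, nat_lit 3)], [nat_lit 3, nat_lit 59], [(nat_lit 3, nat_lit 1), (nat_lit 59, nat_lit 1)], false, false⟩,
  ⟨nat_lit 182, nat_lit 6, [(nat_lit 2, nat_lit 0), (nat_lit 7, nat_lit 0), (nat_lit 13, nat_lit 0), (nat_lit 14, nat_lit 13), (nat_lit 26, nat_lit 7), (nat_lit 91, nat_lit 2)], [nat_lit 2, nat_lit 7, nat_lit 13, nat_lit 14, nat_lit 26, nat_lit 91], [(nat_lit 2, nat_lit 1), (nat_lit 7, nat_lit 1), (nat_lit 13, nat_lit 1)], false, false⟩,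
  ⟨nat_lit 183, nat_lit 2, [(nat_lit 3, nat_lit 61), (nat_lit 61, nat_lit 3)], [nat_lit 3, nat_lit 61], [(nat_lit 3, nat_lit 1), (nat_lit 61, nat_lit 1)], false, false⟩,
  ⟨nat_lit 185, nat_lit 2, [(nat_lit 5, nat_lit 37), (nat_lit 37, nat_lit 5)], [nat_lit 5, nat_lit 37], [(nat_lit 5, nat_lit 1), (nat_lit 37, nat_lit 1)], false, false⟩,
  ⟨nat_lit 187, nat_lit 2, [(nat_lit 11, nat_lit 17), (nat_lit 17, nat_lit 11)], [nat_lit 11, nat_lit 17], [(nat_lit 11, nat_lit 1), (nat_lit 17, nat_lit 1)], false, false⟩,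
  ⟨nat_lit 189, nat_lit 6, [(nat_lit 7, nat_lit 0), (nat_lit 27, nat_lit 7)], [nat_lit 3, nat_lit 7, nat_lit 9, nat_lit 21, nat_lit 27, nat_lit 63], [(nat_lit 3, nat_lit 3), (nat_lit 7, nat_lit 1)], false, false⟩,
  ⟨nat_lit 191, nat_lit 0, [], [], [(nat_lit 191, nat_lit 1)], true, false⟩, ⟨nat_lit 193, nat_lit 0, [], [], [(nat_lit 193, nat_lit 1)], true, false⟩,
  ⟨nat_lit 194, nat_lit 2, [(nat_lit 2, nat_lit 97), (nat_lit 97, nat_lit 2)], [nat_lit 2, nat_lit 97], [(nat_lit 2, nat_lit 1), (nat_lit 97, nat_lit 1)], false, false⟩,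
  ⟨nat_lit 196, nat_lit 7, [(nat_lit 4, nat_lit 0), (nat_lit 49, nat_lit 0)], [nat_lit 2, nat_lit 4, nat_lit 7, nat_lit 14, nat_lit 28, nat_lit 49, nat_lit 98], [(nat_lit 2, nat_lit 2), (nat_lit 7, nat_lit 2)], false, false⟩,
  ⟨nat_lit 197, nat_lit 0, [], [], [(nat_lit 197, nat_lit 1)], true, false⟩, ⟨nat_lit 201, nat_lit 2, [(nat_lit 3, nat_lit 67), (nat_lit 67, nat_lit 3)], [nat_lit 3, nat_lit 67], [(nat_lit 3, nat_lit 1), (nat_lit 67, nat_lit 1)], false, false⟩,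
  ⟨nat_lit 202, nat_lit 2, [(nat_lit 2, nat_lit 101), (nat_lit 101, nat_lit 2)], [nat_lit 2, nat_lit 101], [(nat_lit 2, nat_lit 1), (nat_lit 101, nat_lit 1)], false, false⟩,
  ⟨nat_lit 203, nat_lit 2, [(nat_lit 7, nat_lit 29), (nat_lit 29, nat_lit 7)], [nat_lit 7, nat_lit 29], [(nat_lit 7, nat_lit 1), (nat_lit 29, nat_lit 1)], false, false⟩,
  ⟨nat_lit 205, nat_lit 2, [(nat_lit 5, nat_lit 41), (nat_lit 41, nat_lit 5)], [nat_lit 5, nat_lit 41], [(nat_lit 5, nat_lit 1), (nat_lit 41, nat_lit 1)], false, false⟩,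
  ⟨nat_lit 206, nat_lit 2, [(nat_lit 2, nat_lit 103), (nat_lit 103, nat_lit 2)], [nat_lit 2, nat_lit 103], [(nat_lit 2, nat_lit 1), (nat_lit 103, nat_lit 1)], false, false⟩,
  ⟨nat_lit 209, nat_lit 2, [(nat_lit 11, nat_lit 19), (nat_lit 19, nat_lit 11)], [nat_lit 11, nat_lit 19], [(nat_lit 11, nat_lit 1), (nat_lit 19, nat_lit 1)], false, false⟩,
  ⟨nat_lit 213, nat_lit 2, [(nat_lit 3, nat_lit 71), (nat_lit 71, nat_lit 3)], [nat_lit 3, nat_lit 71], [(nat_lit 3, nat_lit 1), (nat_lit 71, nat_lit 1)], false, false⟩,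
  ⟨nat_lit 215, nat_lit 2, [(nat_lit 5, nat_lit 43), (nat_lit 43, nat_lit 5)], [nat_lit 5, nat_lit 43], [(nat_lit 5, nat_lit 1), (nat_lit 43, nat_lit 1)], false, false⟩,
  ⟨nat_lit 217, nat_lit 2, [(nat_lit 7, nat_lit 31), (nat_lit 31, nat_lit 7)], [nat_lit 7, nat_lit 31], [(nat_lit 7, nat_lit 1), (nat_lit 31, nat_lit 1)], false, false⟩,
  ⟨nat_lit 218, nat_lit 2, [(nat_lit 2, nat_lit 109), (nat_lit 109, nat_lit 2)], [nat_lit 2, nat_lit 109], [(nat_lit 2, nat_lit 1), (nat_lit 109, nat_lit 1)], false, false⟩,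
  ⟨nat_lit 219, nat_lit 2, [(nat_lit 3, nat_lit 73), (nat_lit 73, nat_lit 3)], [nat_lit 3, nat_lit 73], [(nat_lit 3, nat_lit 1), (nat_lit 73, nat_lit 1)], false, false⟩,
  ⟨nat_lit 221, nat_lit 2, [(nat_lit 13, nat_lit 17), (nat_lit 17, nat_lit 13)], [nat_lit 13, nat_lit 17], [(nat_lit 13, nat_lit 1), (nat_lit 17, nat_lit 1)], false, false⟩,
  ⟨nat_lit 222, nat_lit 6, [(nat_lit 2, nat_lit 0), (nat_lit 3, nat_lit 0), (nat_lit 6, nat_lit 37), (nat_lit 37, nat_lit 0), (nat_lit 74, nat_lit 3), (nat_lit 111, nat_lit 2)], [nat_lit 2, nat_lit 3, nat_lit 6, nat_lit 37, nat_lit 74, nat_lit 111], [(nat_lit 2, nat_lit 1), (nat_lit 3, nat_lit 1), (nat_lit 37, nat_lit 1)], false, false⟩,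
  ⟨nat_lit 223, nat_lit 0, [], [], [(nat_lit 223, nat_lit 1)], true, false⟩,
  ⟨nat_lit 225, nat_lit 7, [(nat_lit 9, nat_lit 0), (nat_lit 25, nat_lit 0)], [nat_lit 3, nat_lit 5, nat_lit 9, nat_lit 15, nat_lit 25, nat_lit 45, nat_lit 75], [(nat_lit 3, nat_lit 2), (nat_lit 5, nat_lit 2)], false, false⟩,
  ⟨nat_lit 229, nat_lit 0, [], [], [(nat_lit 229, nat_lit 1)], true, false⟩, ⟨nat_lit 237, nat_lit 2, [(nat_lit 3, nat_lit 79), (nat_lit 79, nat_lit 3)], [nat_lit 3, nat_lit 79], [(nat_lit 3, nat_lit 1), (nat_lit 79, nat_lit 1)], false, false⟩,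
  ⟨nat_lit 242, nat_lit 4, [(nat_lit 2, nat_lit 0), (nat_lit 121, nat_lit 2)], [nat_lit 2, nat_lit 11, nat_lit 22, nat_lit 121], [(nat_lit 2, nat_lit 1), (nat_lit 11, nat_lit 2)], false, false⟩,
  ⟨nat_lit 243, nat_lit 4, [], [nat_lit 3, nat_lit 9, nat_lit 27, nat_lit 81], [(nat_lit 3, nat_lit 5)], false, false⟩,
  ⟨nat_lit 245, nat_lit 4, [(nat_lit 5, nat_lit 0), (nat_lit 49, nat_lit 5)], [nat_lit 5, nat_lit 7, nat_lit 35, nat_lit 49], [(nat_lit 5, nat_lit 1), (nat_lit 7, nat_lit 2)], false, false⟩,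
  ⟨nat_lit 247, nat_lit 2, [(nat_lit 13, nat_lit 19), (nat_lit 19, nat_lit 13)], [nat_lit 13, nat_lit 19], [(nat_lit 13, nat_lit 1), (nat_lit 19, nat_lit 1)], false, false⟩,
  ⟨nat_lit 250, nat_lit 6, [(nat_lit 2, nat_lit 0), (nat_lit 125, nat_lit 2)], [nat_lit 2, nat_lit 5, nat_lit 10, nat_lit 25, nat_lit 50, nat_lit 125], [(nat_lit 2, nat_lit 1), (nat_lit 5, nat_lit 3)], false, false⟩,
  ⟨nat_lit 251, nat_lit 0, [], [], [(nat_lit 251, nat_lit 1)], true, false⟩,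
  ⟨nat_lit 253, nat_lit 2, [(nat_lit 11, nat_lit 23), (nat_lit 23, nat_lit 11)], [nat_lit 11, nat_lit 23], [(nat_lit 11, nat_lit 1), (nat_lit 23, nat_lit 1)], false, false⟩,
  ⟨nat_lit 254, nat_lit 2, [(nat_lit 2, nat_lit 127), (nat_lit 127, nat_lit 2)], [nat_lit 2, nat_lit 127], [(nat_lit 2, nat_lit 1), (nat_lit 127, nat_lit 1)], false, false⟩,
  ⟨nat_lit 256, nat_lit 7, [], [nat_lit 2, nat_lit 4, nat_lit 8, nat_lit 16, nat_lit 32, nat_lit 64, nat_lit 128], [(nat_lit 2, nat_lit 8)], false, true⟩, ⟨nat_lit 257, nat_lit 0, [], [], [(nat_lit 257, nat_lit 1)], true, false⟩,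
  ⟨nat_lit 258, nat_lit 6, [(nat_lit 2, nat_lit 0), (nat_lit 3, nat_lit 0), (nat_lit 6, nat_lit 43), (nat_lit 43, nat_lit 0), (nat_lit 86, nat_lit 3), (nat_lit 129, nat_lit 2)], [nat_lit 2, nat_lit 3, nat_lit 6, nat_lit 43, nat_lit 86, nat_lit 129], [(nat_lit 2, nat_lit 1), (nat_lit 3, nat_lit 1), (nat_lit 43, nat_lit 1)], false, false⟩,
  ⟨nat_lit 259, nat_lit 2, [(nat_lit 7, nat_lit 37), (nat_lit 37, nat_lit 7)], [nat_lit 7, nat_lit 37], [(nat_lit 7, nat_lit 1), (nat_lit 37, nat_lit 1)], false, false⟩,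
  ⟨nat_lit 261, nat_lit 4, [(nat_lit 9, nat_lit 29), (nat_lit 29, nat_lit 0)], [nat_lit 3, nat_lit 9, nat_lit 29, nat_lit 87], [(nat_lit 3, nat_lit 2), (nat_lit 29, nat_lit 1)], false, false⟩,
  ⟨nat_lit 272, nat_lit 8, [(nat_lit 16, nat_lit 17), (nat_lit 17, nat_lit 0)], [nat_lit 2, nat_lit 4, nat_lit 8, nat_lit 16, nat_lit 17, nat_lit 34, nat_lit 68, nat_lit 136], [(nat_lit 2, nat_lit 4), (nat_lit 17, nat_lit 1)], false, false⟩,
  ⟨nat_lit 273, nat_lit 6, [(nat_lit 3, nat_lit 0), (nat_lit 7, nat_lit 0), (nat_lit 13, nat_lit 0), (nat_lit 21, nat_lit 13), (nat_lit 39, nat_lit 7), (nat_lit 91, nat_lit 3)], [nat_lit 3, nat_lit 7, nat_lit 13, nat_lit 21, nat_lit 39, nat_lit 91], [(nat_lit 3, nat_lit 1), (nat_lit 7, nat_lit 1), (nat_lit 13, nat_lit 1)], false, false⟩,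
  ⟨nat_lit 275, nat_lit 4, [(nat_lit 11, nat_lit 0), (nat_lit 25, nat_lit 11)], [nat_lit 5, nat_lit 11, nat_lit 25, nat_lit 55], [(nat_lit 5, nat_lit 2), (nat_lit 11, nat_lit 1)], false, false⟩,
  ⟨nat_lit 279, nat_lit 4, [(nat_lit 9, nat_lit 31), (nat_lit 31, nat_lit 0)], [nat_lit 3, nat_lit 9, nat_lit 31, nat_lit 93], [(nat_lit 3, nat_lit 2), (nat_lit 31, nat_lit 1)], false, false⟩,
  ⟨nat_lit 289, nat_lit 1, [], [nat_lit 17], [(nat_lit 17, nat_lit 2)], false, false⟩, ⟨nat_lit 291, nat_lit 2, [(nat_lit 3, nat_lit 97), (nat_lit 97, nat_lit 3)], [nat_lit 3, nat_lit 97], [(nat_lit 3, nat_lit 1), (nat_lit 97, nat_lit 1)], false, false⟩,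
  ⟨nat_lit 301, nat_lit 2, [(nat_lit 7, nat_lit 43), (nat_lit 43, nat_lit 7)], [nat_lit 7, nat_lit 43], [(nat_lit 7, nat_lit 1), (nat_lit 43, nat_lit 1)], false, false⟩,
  ⟨nat_lit 302, nat_lit 2, [(nat_lit 2, nat_lit 151), (nat_lit 151, nat_lit 2)], [nat_lit 2, nat_lit 151], [(nat_lit 2, nat_lit 1), (nat_lit 151, nat_lit 1)], false, false⟩,
  ⟨nat_lit 303, nat_lit 2, [(nat_lit 3, nat_lit 101), (nat_lit 101, nat_lit 3)], [nat_lit 3, nat_lit 101], [(nat_lit 3, nat_lit 1), (nat_lit 101, nat_lit 1)], false, false⟩,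
  ⟨nat_lit 305, nat_lit 2, [(nat_lit 5, nat_lit 61), (nat_lit 61, nat_lit 5)], [nat_lit 5, nat_lit 61], [(nat_lit 5, nat_lit 1), (nat_lit 61, nat_lit 1)], false, false⟩,
  ⟨nat_lit 309, nat_lit 2, [(nat_lit 3, nat_lit 103), (nat_lit 103, nat_lit 3)], [nat_lit 3, nat_lit 103], [(nat_lit 3, nat_lit 1), (nat_lit 103, nat_lit 1)], false, false⟩,
  ⟨nat_lit 311, nat_lit 0, [], [], [(nat_lit 311, nat_lit 1)], true, false⟩,
  ⟨nat_lit 323, nat_lit 2, [(nat_lit 17, nat_lit 19), (nat_lit 19, nat_lit 17)], [nat_lit 17, nat_lit 19], [(nat_lit 17, nat_lit 1), (nat_lit 19, nat_lit 1)], false, false⟩,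
  ⟨nat_lit 325, nat_lit 4, [(nat_lit 13, nat_lit 0), (nat_lit 25, nat_lit 13)], [nat_lit 5, nat_lit 13, nat_lit 25, nat_lit 65], [(nat_lit 5, nat_lit 2), (nat_lit 13, nat_lit 1)], false, false⟩,
  ⟨nat_lit 326, nat_lit 2, [(nat_lit 2, nat_lit 163), (nat_lit 163, nat_lit 2)], [nat_lit 2, nat_lit 163], [(nat_lit 2, nat_lit 1), (nat_lit 163, nat_lit 1)], false, false⟩,
  ⟨nat_lit 327, nat_lit 2, [(nat_lit 3, nat_lit 109), (nat_lit 109, nat_lit 3)], [nat_lit 3, nat_lit 109], [(nat_lit 3, nat_lit 1), (nat_lit 109, nat_lit 1)], false, false⟩,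
  ⟨nat_lit 333, nat_lit 4, [(nat_lit 9, nat_lit 37), (nat_lit 37, nat_lit 0)], [nat_lit 3, nat_lit 9, nat_lit 37, nat_lit 111], [(nat_lit 3, nat_lit 2), (nat_lit 37, nat_lit 1)], false, false⟩,
  ⟨nat_lit 335, nat_lit 2, [(nat_lit 5, nat_lit 67), (nat_lit 67, nat_lit 5)], [nat_lit 5, nat_lit 67], [(nat_lit 5, nat_lit 1), (nat_lit 67, nat_lit 1)], false, false⟩,
  ⟨nat_lit 338, nat_lit 4, [(nat_lit 2, nat_lit 0), (nat_lit 169, nat_lit 2)], [nat_lit 2, nat_lit 13, nat_lit 26, nat_lit 169], [(nat_lit 2, nat_lit 1), (nat_lit 13, nat_lit 2)], false, false⟩,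
  ⟨nat_lit 341, nat_lit 2, [(nat_lit 11, nat_lit 31), (nat_lit 31, nat_lit 11)], [nat_lit 11, nat_lit 31], [(nat_lit 11, nat_lit 1), (nat_lit 31, nat_lit 1)], false, false⟩,
  ⟨nat_lit 343, nat_lit 2, [], [nat_lit 7, nat_lit 49], [(nat_lit 7, nat_lit 3)], false, false⟩,
  ⟨nat_lit 351, nat_lit 6, [(nat_lit 13, nat_lit 0), (nat_lit 27, nat_lit 13)], [nat_lit 3, nat_lit 9, nat_lit 13, nat_lit 27, nat_lit 39, nat_lit 117], [(nat_lit 3, nat_lit 3), (nat_lit 13, nat_lit 1)], false, false⟩,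
  ⟨nat_lit 355, nat_lit 2, [(nat_lit 5, nat_lit 71), (nat_lit 71, nat_lit 5)], [nat_lit 5, nat_lit 71], [(nat_lit 5, nat_lit 1), (nat_lit 71, nat_lit 1)], false, false⟩, ⟨nat_lit 361, nat_lit 1, [], [nat_lit 19], [(nat_lit 19, nat_lit 2)], false, false⟩,
  ⟨nat_lit 363, nat_lit 4, [(nat_lit 3, nat_lit 0), (nat_lit 121, nat_lit 3)], [nat_lit 3, nat_lit 11, nat_lit 33, nat_lit 121], [(nat_lit 3, nat_lit 1), (nat_lit 11, nat_lit 2)], false, false⟩,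
  ⟨nat_lit 371, nat_lit 2, [(nat_lit 7, nat_lit 53), (nat_lit 53, nat_lit 7)], [nat_lit 7, nat_lit 53], [(nat_lit 7, nat_lit 1), (nat_lit 53, nat_lit 1)], false, false⟩,
  ⟨nat_lit 375, nat_lit 6, [(nat_lit 3, nat_lit 0), (nat_lit 125, nat_lit 3)], [nat_lit 3, nat_lit 5, nat_lit 15, nat_lit 25, nat_lit 75, nat_lit 125], [(nat_lit 3, nat_lit 1), (nat_lit 5, nat_lit 3)], false, false⟩,
  ⟨nat_lit 377, nat_lit 2, [(nat_lit 13, nat_lit 29), (nat_lit 29, nat_lit 13)], [nat_lit 13, nat_lit 29], [(nat_lit 13, nat_lit 1), (nat_lit 29, nat_lit 1)], false, false⟩,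
  ⟨nat_lit 381, nat_lit 2, [(nat_lit 3, nat_lit 127), (nat_lit 127, nat_lit 3)], [nat_lit 3, nat_lit 127], [(nat_lit 3, nat_lit 1), (nat_lit 127, nat_lit 1)], false, false⟩,
  ⟨nat_lit 387, nat_lit 4, [(nat_lit 9, nat_lit 43), (nat_lit 43, nat_lit 0)], [nat_lit 3, nat_lit 9, nat_lit 43, nat_lit 129], [(nat_lit 3, nat_lit 2), (nat_lit 43, nat_lit 1)], false, false⟩,
  ⟨nat_lit 394, nat_lit 2, [(nat_lit 2, nat_lit 197), (nat_lit 197, nat_lit 2)], [nat_lit 2, nat_lit 197], [(nat_lit 2, nat_lit 1), (nat_lit 197, nat_lit 1)], false, false⟩,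
  ⟨nat_lit 406, nat_lit 6, [(nat_lit 2, nat_lit 0), (nat_lit 7, nat_lit 0), (nat_lit 14, nat_lit 29), (nat_lit 29, nat_lit 0), (nat_lit 58, nat_lit 7), (nat_lit 203, nat_lit 2)], [nat_lit 2, nat_lit 7, nat_lit 14, nat_lit 29, nat_lit 58, nat_lit 203], [(nat_lit 2, nat_lit 1), (nat_lit 7, nat_lit 1), (nat_lit 29, nat_lit 1)], false, false⟩,
  ⟨nat_lit 413, nat_lit 2, [(nat_lit 7, nat_lit 59), (nat_lit 59, nat_lit 7)], [nat_lit 7, nat_lit 59], [(nat_lit 7, nat_lit 1), (nat_lit 59, nat_lit 1)], false, false⟩,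
  ⟨nat_lit 425, nat_lit 4, [(nat_lit 17, nat_lit 0), (nat_lit 25, nat_lit 17)], [nat_lit 5, nat_lit 17, nat_lit 25, nat_lit 85], [(nat_lit 5, nat_lit 2), (nat_lit 17, nat_lit 1)], false, false⟩,
  ⟨nat_lit 441, nat_lit 7, [(nat_lit 9, nat_lit 0), (nat_lit 49, nat_lit 0)], [nat_lit 3, nat_lit 7, nat_lit 9, nat_lit 21, nat_lit 49, nat_lit 63, nat_lit 147], [(nat_lit 3, nat_lit 2), (nat_lit 7, nat_lit 2)], false, false⟩,
  ⟨nat_lit 451, nat_lit 2, [(nat_lit 11, nat_lit 41), (nat_lit 41, nat_lit 11)], [nat_lit 11, nat_lit 41], [(nat_lit 11, nat_lit 1), (nat_lit 41, nat_lit 1)], false, false⟩,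
  ⟨nat_lit 453, nat_lit 2, [(nat_lit 3, nat_lit 151), (nat_lit 151, nat_lit 3)], [nat_lit 3, nat_lit 151], [(nat_lit 3, nat_lit 1), (nat_lit 151, nat_lit 1)], false, false⟩,
  ⟨nat_lit 465, nat_lit 6, [(nat_lit 3, nat_lit 0), (nat_lit 5, nat_lit 0), (nat_lit 15, nat_lit 31), (nat_lit 31, nat_lit 0), (nat_lit 93, nat_lit 5), (nat_lit 155, nat_lit 3)], [nat_lit 3, nat_lit 5, nat_lit 15, nat_lit 31, nat_lit 93, nat_lit 155], [(nat_lit 3, nat_lit 1), (nat_lit 5, nat_lit 1), (nat_lit 31, nat_lit 1)], false, false⟩,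
  ⟨nat_lit 475, nat_lit 4, [(nat_lit 19, nat_lit 0), (nat_lit 25, nat_lit 19)], [nat_lit 5, nat_lit 19, nat_lit 25, nat_lit 95], [(nat_lit 5, nat_lit 2), (nat_lit 19, nat_lit 1)], false, false⟩,
  ⟨nat_lit 481, nat_lit 2, [(nat_lit 13, nat_lit 37), (nat_lit 37, nat_lit 13)], [nat_lit 13, nat_lit 37], [(nat_lit 13, nat_lit 1), (nat_lit 37, nat_lit 1)], false, false⟩,
  ⟨nat_lit 487, nat_lit 0, [], [], [(nat_lit 487, nat_lit 1)], true, false⟩,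
  ⟨nat_lit 489, nat_lit 2, [(nat_lit 3, nat_lit 163), (nat_lit 163, nat_lit 3)], [nat_lit 3, nat_lit 163], [(nat_lit 3, nat_lit 1), (nat_lit 163, nat_lit 1)], false, false⟩,
  ⟨nat_lit 497, nat_lit 2, [(nat_lit 7, nat_lit 71), (nat_lit 71, nat_lit 7)], [nat_lit 7, nat_lit 71], [(nat_lit 7, nat_lit 1), (nat_lit 71, nat_lit 1)], false, false⟩,
  ⟨nat_lit 502, nat_lit 2, [(nat_lit 2, nat_lit 251), (nat_lit 251, nat_lit 2)], [nat_lit 2, nat_lit 251], [(nat_lit 2, nat_lit 1), (nat_lit 251, nat_lit 1)], false, false⟩,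
  ⟨nat_lit 503, nat_lit 0, [], [], [(nat_lit 503, nat_lit 1)], true, false⟩,
  ⟨nat_lit 505, nat_lit 2, [(nat_lit 5, nat_lit 101), (nat_lit 101, nat_lit 5)], [nat_lit 5, nat_lit 101], [(nat_lit 5, nat_lit 1), (nat_lit 101, nat_lit 1)], false, false⟩,
  ⟨nat_lit 507, nat_lit 4, [(nat_lit 3, nat_lit 0), (nat_lit 169, nat_lit 3)], [nat_lit 3, nat_lit 13, nat_lit 39, nat_lit 169], [(nat_lit 3, nat_lit 1), (nat_lit 13, nat_lit 2)], false, false⟩,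
  ⟨nat_lit 512, nat_lit 8, [], [nat_lit 2, nat_lit 4, nat_lit 8, nat_lit 16, nat_lit 32, nat_lit 64, nat_lit 128, nat_lit 256], [(nat_lit 2, nat_lit 9)], false, true⟩,
  ⟨nat_lit 513, nat_lit 6, [(nat_lit 19, nat_lit 0), (nat_lit 27, nat_lit 19)], [nat_lit 3, nat_lit 9, nat_lit 19, nat_lit 27, nat_lit 57, nat_lit 171], [(nat_lit 3, nat_lit 3), (nat_lit 19, nat_lit 1)], false, false⟩,
  ⟨nat_lit 529, nat_lit 1, [], [nat_lit 23], [(nat_lit 23, nat_lit 2)], false, false⟩, ⟨nat_lit 553, nat_lit 2, [(nat_lit 7, nat_lit 79), (nat_lit 79, nat_lit 7)], [nat_lit 7, nat_lit 79], [(nat_lit 7, nat_lit 1), (nat_lit 79, nat_lit 1)], false, false⟩,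
  ⟨nat_lit 559, nat_lit 2, [(nat_lit 13, nat_lit 43), (nat_lit 43, nat_lit 13)], [nat_lit 13, nat_lit 43], [(nat_lit 13, nat_lit 1), (nat_lit 43, nat_lit 1)], false, false⟩,
  ⟨nat_lit 578, nat_lit 4, [(nat_lit 2, nat_lit 0), (nat_lit 289, nat_lit 2)], [nat_lit 2, nat_lit 17, nat_lit 34, nat_lit 289], [(nat_lit 2, nat_lit 1), (nat_lit 17, nat_lit 2)], false, false⟩,
  ⟨nat_lit 591, nat_lit 2, [(nat_lit 3, nat_lit 197), (nat_lit 197, nat_lit 3)], [nat_lit 3, nat_lit 197], [(nat_lit 3, nat_lit 1), (nat_lit 197, nat_lit 1)], false, false⟩,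
  ⟨nat_lit 605, nat_lit 4, [(nat_lit 5, nat_lit 0), (nat_lit 121, nat_lit 5)], [nat_lit 5, nat_lit 11, nat_lit 55, nat_lit 121], [(nat_lit 5, nat_lit 1), (nat_lit 11, nat_lit 2)], false, false⟩,
  ⟨nat_lit 625, nat_lit 3, [], [nat_lit 5, nat_lit 25, nat_lit 125], [(nat_lit 5, nat_lit 4)], false, false⟩,
  ⟨nat_lit 637, nat_lit 4, [(nat_lit 13, nat_lit 0), (nat_lit 49, nat_lit 13)], [nat_lit 7, nat_lit 13, nat_lit 49, nat_lit 91], [(nat_lit 7, nat_lit 2), (nat_lit 13, nat_lit 1)], false, false⟩,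
  ⟨nat_lit 652, nat_lit 4, [(nat_lit 4, nat_lit 163), (nat_lit 163, nat_lit 0)], [nat_lit 2, nat_lit 4, nat_lit 163, nat_lit 326], [(nat_lit 2, nat_lit 2), (nat_lit 163, nat_lit 1)], false, false⟩,
  ⟨nat_lit 653, nat_lit 0, [], [], [(nat_lit 653, nat_lit 1)], true, false⟩, ⟨nat_lit 677, nat_lit 0, [], [], [(nat_lit 677, nat_lit 1)], true, false⟩,
  ⟨nat_lit 686, nat_lit 6, [(nat_lit 2, nat_lit 0), (nat_lit 343, nat_lit 2)], [nat_lit 2, nat_lit 7, nat_lit 14, nat_lit 49, nat_lit 98, nat_lit 343], [(nat_lit 2, nat_lit 1), (nat_lit 7, nat_lit 3)], false, false⟩,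
  ⟨nat_lit 689, nat_lit 2, [(nat_lit 13, nat_lit 53), (nat_lit 53, nat_lit 13)], [nat_lit 13, nat_lit 53], [(nat_lit 13, nat_lit 1), (nat_lit 53, nat_lit 1)], false, false⟩,
  ⟨nat_lit 703, nat_lit 2, [(nat_lit 19, nat_lit 37), (nat_lit 37, nat_lit 19)], [nat_lit 19, nat_lit 37], [(nat_lit 19, nat_lit 1), (nat_lit 37, nat_lit 1)], false, false⟩,
  ⟨nat_lit 722, nat_lit 4, [(nat_lit 2, nat_lit 0), (nat_lit 361, nat_lit 2)], [nat_lit 2, nat_lit 19, nat_lit 38, nat_lit 361], [(nat_lit 2, nat_lit 1), (nat_lit 19, nat_lit 2)], false, false⟩,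
  ⟨nat_lit 729, nat_lit 5, [], [nat_lit 3, nat_lit 9, nat_lit 27, nat_lit 81, nat_lit 243], [(nat_lit 3, nat_lit 6)], false, false⟩,
  ⟨nat_lit 737, nat_lit 2, [(nat_lit 11, nat_lit 67), (nat_lit 67, nat_lit 11)], [nat_lit 11, nat_lit 67], [(nat_lit 11, nat_lit 1), (nat_lit 67, nat_lit 1)], false, false⟩,
  ⟨nat_lit 753, nat_lit 2, [(nat_lit 3, nat_lit 251), (nat_lit 251, nat_lit 3)], [nat_lit 3, nat_lit 251], [(nat_lit 3, nat_lit 1), (nat_lit 251, nat_lit 1)], false, false⟩,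
  ⟨nat_lit 755, nat_lit 2, [(nat_lit 5, nat_lit 151), (nat_lit 151, nat_lit 5)], [nat_lit 5, nat_lit 151], [(nat_lit 5, nat_lit 1), (nat_lit 151, nat_lit 1)], false, false⟩,
  ⟨nat_lit 775, nat_lit 4, [(nat_lit 25, nat_lit 31), (nat_lit 31, nat_lit 0)], [nat_lit 5, nat_lit 25, nat_lit 31, nat_lit 155], [(nat_lit 5, nat_lit 2), (nat_lit 31, nat_lit 1)], false, false⟩,
  ⟨nat_lit 815, nat_lit 2, [(nat_lit 5, nat_lit 163), (nat_lit 163, nat_lit 5)], [nat_lit 5, nat_lit 163], [(nat_lit 5, nat_lit 1), (nat_lit 163, nat_lit 1)], false, false⟩,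
  ⟨nat_lit 841, nat_lit 1, [], [nat_lit 29], [(nat_lit 29, nat_lit 2)], false, false⟩,
  ⟨nat_lit 845, nat_lit 4, [(nat_lit 5, nat_lit 0), (nat_lit 169, nat_lit 5)], [nat_lit 5, nat_lit 13, nat_lit 65, nat_lit 169], [(nat_lit 5, nat_lit 1), (nat_lit 13, nat_lit 2)], false, false⟩,
  ⟨nat_lit 867, nat_lit 4, [(nat_lit 3, nat_lit 0), (nat_lit 289, nat_lit 3)], [nat_lit 3, nat_lit 17, nat_lit 51, nat_lit 289], [(nat_lit 3, nat_lit 1), (nat_lit 17, nat_lit 2)], false, false⟩,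
  ⟨nat_lit 889, nat_lit 2, [(nat_lit 7, nat_lit 127), (nat_lit 127, nat_lit 7)], [nat_lit 7, nat_lit 127], [(nat_lit 7, nat_lit 1), (nat_lit 127, nat_lit 1)], false, false⟩,
  ⟨nat_lit 903, nat_lit 6, [(nat_lit 3, nat_lit 0), (nat_lit 7, nat_lit 0), (nat_lit 21, nat_lit 43), (nat_lit 43, nat_lit 0), (nat_lit 129, nat_lit 7), (nat_lit 301, nat_lit 3)], [nat_lit 3, nat_lit 7, nat_lit 21, nat_lit 43, nat_lit 129, nat_lit 301], [(nat_lit 3, nat_lit 1), (nat_lit 7, nat_lit 1), (nat_lit 43, nat_lit 1)], false, false⟩,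
  ⟨nat_lit 931, nat_lit 4, [(nat_lit 19, nat_lit 0), (nat_lit 49, nat_lit 19)], [nat_lit 7, nat_lit 19, nat_lit 49, nat_lit 133], [(nat_lit 7, nat_lit 2), (nat_lit 19, nat_lit 1)], false, false⟩,
  ⟨nat_lit 961, nat_lit 1, [], [nat_lit 31], [(nat_lit 31, nat_lit 2)], false, false⟩,
  ⟨nat_lit 974, nat_lit 2, [(nat_lit 2, nat_lit 487), (nat_lit 487, nat_lit 2)], [nat_lit 2, nat_lit 487], [(nat_lit 2, nat_lit 1), (nat_lit 487, nat_lit 1)], false, false⟩,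
  ⟨nat_lit 981, nat_lit 4, [(nat_lit 9, nat_lit 109), (nat_lit 109, nat_lit 0)], [nat_lit 3, nat_lit 9, nat_lit 109, nat_lit 327], [(nat_lit 3, nat_lit 2), (nat_lit 109, nat_lit 1)], false, false⟩,
  ⟨nat_lit 1004, nat_lit 4, [(nat_lit 4, nat_lit 251), (nat_lit 251, nat_lit 0)], [nat_lit 2, nat_lit 4, nat_lit 251, nat_lit 502], [(nat_lit 2, nat_lit 2), (nat_lit 251, nat_lit 1)], false, false⟩,
  ⟨nat_lit 1027, nat_lit 2, [(nat_lit 13, nat_lit 79), (nat_lit 79, nat_lit 13)], [nat_lit 13, nat_lit 79], [(nat_lit 13, nat_lit 1), (nat_lit 79, nat_lit 1)], false, false⟩,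
  ⟨nat_lit 1029, nat_lit 6, [(nat_lit 3, nat_lit 0), (nat_lit 343, nat_lit 3)], [nat_lit 3, nat_lit 7, nat_lit 21, nat_lit 49, nat_lit 147, nat_lit 343], [(nat_lit 3, nat_lit 1), (nat_lit 7, nat_lit 3)], false, false⟩,
  ⟨nat_lit 1083, nat_lit 4, [(nat_lit 3, nat_lit 0), (nat_lit 361, nat_lit 3)], [nat_lit 3, nat_lit 19, nat_lit 57, nat_lit 361], [(nat_lit 3, nat_lit 1), (nat_lit 19, nat_lit 2)], false, false⟩,
  ⟨nat_lit 1141, nat_lit 2, [(nat_lit 7, nat_lit 163), (nat_lit 163, nat_lit 7)], [nat_lit 7, nat_lit 163], [(nat_lit 7, nat_lit 1), (nat_lit 163, nat_lit 1)], false, false⟩,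
  ⟨nat_lit 1183, nat_lit 4, [(nat_lit 7, nat_lit 0), (nat_lit 169, nat_lit 7)], [nat_lit 7, nat_lit 13, nat_lit 91, nat_lit 169], [(nat_lit 7, nat_lit 1), (nat_lit 13, nat_lit 2)], false, false⟩,
  ⟨nat_lit 1255, nat_lit 2, [(nat_lit 5, nat_lit 251), (nat_lit 251, nat_lit 5)], [nat_lit 5, nat_lit 251], [(nat_lit 5, nat_lit 1), (nat_lit 251, nat_lit 1)], false, false⟩,
  ⟨nat_lit 1331, nat_lit 2, [], [nat_lit 11, nat_lit 121], [(nat_lit 11, nat_lit 3)], false, false⟩, ⟨nat_lit 1369, nat_lit 1, [], [nat_lit 37], [(nat_lit 37, nat_lit 2)], false, false⟩,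
  ⟨nat_lit 1373, nat_lit 0, [], [], [(nat_lit 1373, nat_lit 1)], true, false⟩,
  ⟨nat_lit 1379, nat_lit 2, [(nat_lit 7, nat_lit 197), (nat_lit 197, nat_lit 7)], [nat_lit 7, nat_lit 197], [(nat_lit 7, nat_lit 1), (nat_lit 197, nat_lit 1)], false, false⟩,
  ⟨nat_lit 1421, nat_lit 4, [(nat_lit 29, nat_lit 0), (nat_lit 49, nat_lit 29)], [nat_lit 7, nat_lit 29, nat_lit 49, nat_lit 203], [(nat_lit 7, nat_lit 2), (nat_lit 29, nat_lit 1)], false, false⟩,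
  ⟨nat_lit 1445, nat_lit 4, [(nat_lit 5, nat_lit 0), (nat_lit 289, nat_lit 5)], [nat_lit 5, nat_lit 17, nat_lit 85, nat_lit 289], [(nat_lit 5, nat_lit 1), (nat_lit 17, nat_lit 2)], false, false⟩,
  ⟨nat_lit 1459, nat_lit 0, [], [], [(nat_lit 1459, nat_lit 1)], true, false⟩,
  ⟨nat_lit 1461, nat_lit 2, [(nat_lit 3, nat_lit 487), (nat_lit 487, nat_lit 3)], [nat_lit 3, nat_lit 487], [(nat_lit 3, nat_lit 1), (nat_lit 487, nat_lit 1)], false, false⟩,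
  ⟨nat_lit 1467, nat_lit 4, [(nat_lit 9, nat_lit 163), (nat_lit 163, nat_lit 0)], [nat_lit 3, nat_lit 9, nat_lit 163, nat_lit 489], [(nat_lit 3, nat_lit 2), (nat_lit 163, nat_lit 1)], false, false⟩,
  ⟨nat_lit 1681, nat_lit 1, [], [nat_lit 41], [(nat_lit 41, nat_lit 2)], false, false⟩,
  ⟨nat_lit 1682, nat_lit 4, [(nat_lit 2, nat_lit 0), (nat_lit 841, nat_lit 2)], [nat_lit 2, nat_lit 29, nat_lit 58, nat_lit 841], [(nat_lit 2, nat_lit 1), (nat_lit 29, nat_lit 2)], false, false⟩,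
  ⟨nat_lit 1711, nat_lit 2, [(nat_lit 29, nat_lit 59), (nat_lit 59, nat_lit 29)], [nat_lit 29, nat_lit 59], [(nat_lit 29, nat_lit 1), (nat_lit 59, nat_lit 1)], false, false⟩,
  ⟨nat_lit 1751, nat_lit 2, [(nat_lit 17, nat_lit 103), (nat_lit 103, nat_lit 17)], [nat_lit 17, nat_lit 103], [(nat_lit 17, nat_lit 1), (nat_lit 103, nat_lit 1)], false, false⟩,
  ⟨nat_lit 1805, nat_lit 4, [(nat_lit 5, nat_lit 0), (nat_lit 361, nat_lit 5)], [nat_lit 5, nat_lit 19, nat_lit 95, nat_lit 361], [(nat_lit 5, nat_lit 1), (nat_lit 19, nat_lit 2)], false, false⟩,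
  ⟨nat_lit 1849, nat_lit 1, [], [nat_lit 43], [(nat_lit 43, nat_lit 2)], false, false⟩,
  ⟨nat_lit 1922, nat_lit 4, [(nat_lit 2, nat_lit 0), (nat_lit 961, nat_lit 2)], [nat_lit 2, nat_lit 31, nat_lit 62, nat_lit 961], [(nat_lit 2, nat_lit 1), (nat_lit 31, nat_lit 2)], false, false⟩,
  ⟨nat_lit 2107, nat_lit 4, [(nat_lit 43, nat_lit 0), (nat_lit 49, nat_lit 43)], [nat_lit 7, nat_lit 43, nat_lit 49, nat_lit 301], [(nat_lit 7, nat_lit 2), (nat_lit 43, nat_lit 1)], false, false⟩,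
  ⟨nat_lit 2187, nat_lit 6, [], [nat_lit 3, nat_lit 9, nat_lit 27, nat_lit 81, nat_lit 243, nat_lit 729], [(nat_lit 3, nat_lit 7)], false, false⟩, ⟨nat_lit 2197, nat_lit 2, [], [nat_lit 13, nat_lit 169], [(nat_lit 13, nat_lit 3)], false, false⟩,
  ⟨nat_lit 2401, nat_lit 3, [], [nat_lit 7, nat_lit 49, nat_lit 343], [(nat_lit 7, nat_lit 4)], false, false⟩,
  ⟨nat_lit 2523, nat_lit 4, [(nat_lit 3, nat_lit 0), (nat_lit 841, nat_lit 3)], [nat_lit 3, nat_lit 29, nat_lit 87, nat_lit 841], [(nat_lit 3, nat_lit 1), (nat_lit 29, nat_lit 2)], false, false⟩,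
  ⟨nat_lit 2527, nat_lit 4, [(nat_lit 7, nat_lit 0), (nat_lit 361, nat_lit 7)], [nat_lit 7, nat_lit 19, nat_lit 133, nat_lit 361], [(nat_lit 7, nat_lit 1), (nat_lit 19, nat_lit 2)], false, false⟩,
  ⟨nat_lit 2663, nat_lit 0, [], [], [(nat_lit 2663, nat_lit 1)], true, false⟩,
  ⟨nat_lit 2738, nat_lit 4, [(nat_lit 2, nat_lit 0), (nat_lit 1369, nat_lit 2)], [nat_lit 2, nat_lit 37, nat_lit 74, nat_lit 1369], [(nat_lit 2, nat_lit 1), (nat_lit 37, nat_lit 2)], false, false⟩,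
  ⟨nat_lit 2809, nat_lit 1, [], [nat_lit 53], [(nat_lit 53, nat_lit 2)], false, false⟩,
  ⟨nat_lit 2883, nat_lit 4, [(nat_lit 3, nat_lit 0), (nat_lit 961, nat_lit 3)], [nat_lit 3, nat_lit 31, nat_lit 93, nat_lit 961], [(nat_lit 3, nat_lit 1), (nat_lit 31, nat_lit 2)], false, false⟩,
  ⟨nat_lit 2918, nat_lit 2, [(nat_lit 2, nat_lit 1459), (nat_lit 1459, nat_lit 2)], [nat_lit 2, nat_lit 1459], [(nat_lit 2, nat_lit 1), (nat_lit 1459, nat_lit 1)], false, false⟩,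
  ⟨nat_lit 3097, nat_lit 2, [(nat_lit 19, nat_lit 163), (nat_lit 163, nat_lit 19)], [nat_lit 19, nat_lit 163], [(nat_lit 19, nat_lit 1), (nat_lit 163, nat_lit 1)], false, false⟩,
  ⟨nat_lit 3125, nat_lit 4, [], [nat_lit 5, nat_lit 25, nat_lit 125, nat_lit 625], [(nat_lit 5, nat_lit 5)], false, false⟩,
  ⟨nat_lit 3249, nat_lit 7, [(nat_lit 9, nat_lit 0), (nat_lit 361, nat_lit 0)], [nat_lit 3, nat_lit 9, nat_lit 19, nat_lit 57, nat_lit 171, nat_lit 361, nat_lit 1083], [(nat_lit 3, nat_lit 2), (nat_lit 19, nat_lit 2)], false, false⟩,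
  ⟨nat_lit 3481, nat_lit 1, [], [nat_lit 59], [(nat_lit 59, nat_lit 2)], false, false⟩,
  ⟨nat_lit 3698, nat_lit 4, [(nat_lit 2, nat_lit 0), (nat_lit 1849, nat_lit 2)], [nat_lit 2, nat_lit 43, nat_lit 86, nat_lit 1849], [(nat_lit 2, nat_lit 1), (nat_lit 43, nat_lit 2)], false, false⟩,
  ⟨nat_lit 3721, nat_lit 1, [], [nat_lit 61], [(nat_lit 61, nat_lit 2)], false, false⟩,
  ⟨nat_lit 4107, nat_lit 4, [(nat_lit 3, nat_lit 0), (nat_lit 1369, nat_lit 3)], [nat_lit 3, nat_lit 37, nat_lit 111, nat_lit 1369], [(nat_lit 3, nat_lit 1), (nat_lit 37, nat_lit 2)], false, false⟩,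
  ⟨nat_lit 4377, nat_lit 2, [(nat_lit 3, nat_lit 1459), (nat_lit 1459, nat_lit 3)], [nat_lit 3, nat_lit 1459], [(nat_lit 3, nat_lit 1), (nat_lit 1459, nat_lit 1)], false, false⟩,
  ⟨nat_lit 4383, nat_lit 4, [(nat_lit 9, nat_lit 487), (nat_lit 487, nat_lit 0)], [nat_lit 3, nat_lit 9, nat_lit 487, nat_lit 1461], [(nat_lit 3, nat_lit 2), (nat_lit 487, nat_lit 1)], false, false⟩,
  ⟨nat_lit 4394, nat_lit 6, [(nat_lit 2, nat_lit 0), (nat_lit 2197, nat_lit 2)], [nat_lit 2, nat_lit 13, nat_lit 26, nat_lit 169, nat_lit 338, nat_lit 2197], [(nat_lit 2, nat_lit 1), (nat_lit 13, nat_lit 3)], false, false⟩,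
  ⟨nat_lit 4401, nat_lit 6, [(nat_lit 27, nat_lit 163), (nat_lit 163, nat_lit 0)], [nat_lit 3, nat_lit 9, nat_lit 27, nat_lit 163, nat_lit 489, nat_lit 1467], [(nat_lit 3, nat_lit 3), (nat_lit 163, nat_lit 1)], false, false⟩,
  ⟨nat_lit 4489, nat_lit 1, [], [nat_lit 67], [(nat_lit 67, nat_lit 2)], false, false⟩,
  ⟨nat_lit 4805, nat_lit 4, [(nat_lit 5, nat_lit 0), (nat_lit 961, nat_lit 5)], [nat_lit 5, nat_lit 31, nat_lit 155, nat_lit 961], [(nat_lit 5, nat_lit 1), (nat_lit 31, nat_lit 2)], false, false⟩,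
  ⟨nat_lit 4913, nat_lit 2, [], [nat_lit 17, nat_lit 289], [(nat_lit 17, nat_lit 3)], false, false⟩, ⟨nat_lit 5041, nat_lit 1, [], [nat_lit 71], [(nat_lit 71, nat_lit 2)], false, false⟩,
  ⟨nat_lit 5329, nat_lit 1, [], [nat_lit 73], [(nat_lit 73, nat_lit 2)], false, false⟩,
  ⟨nat_lit 5547, nat_lit 4, [(nat_lit 3, nat_lit 0), (nat_lit 1849, nat_lit 3)], [nat_lit 3, nat_lit 43, nat_lit 129, nat_lit 1849], [(nat_lit 3, nat_lit 1), (nat_lit 43, nat_lit 2)], false, false⟩,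
  ⟨nat_lit 5887, nat_lit 4, [(nat_lit 7, nat_lit 0), (nat_lit 841, nat_lit 7)], [nat_lit 7, nat_lit 29, nat_lit 203, nat_lit 841], [(nat_lit 7, nat_lit 1), (nat_lit 29, nat_lit 2)], false, false⟩,
  ⟨nat_lit 6241, nat_lit 1, [], [nat_lit 79], [(nat_lit 79, nat_lit 2)], false, false⟩,
  ⟨nat_lit 6275, nat_lit 4, [(nat_lit 25, nat_lit 251), (nat_lit 251, nat_lit 0)], [nat_lit 5, nat_lit 25, nat_lit 251, nat_lit 1255], [(nat_lit 5, nat_lit 2), (nat_lit 251, nat_lit 1)], false, false⟩,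
  ⟨nat_lit 6561, nat_lit 7, [], [nat_lit 3, nat_lit 9, nat_lit 27, nat_lit 81, nat_lit 243, nat_lit 729, nat_lit 2187], [(nat_lit 3, nat_lit 8)], false, false⟩,
  ⟨nat_lit 6591, nat_lit 6, [(nat_lit 3, nat_lit 0), (nat_lit 2197, nat_lit 3)], [nat_lit 3, nat_lit 13, nat_lit 39, nat_lit 169, nat_lit 507, nat_lit 2197], [(nat_lit 3, nat_lit 1), (nat_lit 13, nat_lit 3)], false, false⟩,
  ⟨nat_lit 6859, nat_lit 2, [], [nat_lit 19, nat_lit 361], [(nat_lit 19, nat_lit 3)], false, false⟩, ⟨nat_lit 9409, nat_lit 1, [], [nat_lit 97], [(nat_lit 97, nat_lit 2)], false, false⟩,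
  ⟨nat_lit 10201, nat_lit 1, [], [nat_lit 101], [(nat_lit 101, nat_lit 2)], false, false⟩, ⟨nat_lit 10609, nat_lit 1, [], [nat_lit 103], [(nat_lit 103, nat_lit 2)], false, false⟩,
  ⟨nat_lit 11881, nat_lit 1, [], [nat_lit 109], [(nat_lit 109, nat_lit 2)], false, false⟩, ⟨nat_lit 12167, nat_lit 2, [], [nat_lit 23, nat_lit 529], [(nat_lit 23, nat_lit 3)], false, false⟩,
  ⟨nat_lit 12943, nat_lit 4, [(nat_lit 7, nat_lit 0), (nat_lit 1849, nat_lit 7)], [nat_lit 7, nat_lit 43, nat_lit 301, nat_lit 1849], [(nat_lit 7, nat_lit 1), (nat_lit 43, nat_lit 2)], false, false⟩,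
  ⟨nat_lit 13718, nat_lit 6, [(nat_lit 2, nat_lit 0), (nat_lit 6859, nat_lit 2)], [nat_lit 2, nat_lit 19, nat_lit 38, nat_lit 361, nat_lit 722, nat_lit 6859], [(nat_lit 2, nat_lit 1), (nat_lit 19, nat_lit 3)], false, false⟩,
  ⟨nat_lit 14641, nat_lit 3, [], [nat_lit 11, nat_lit 121, nat_lit 1331], [(nat_lit 11, nat_lit 4)], false, false⟩,
  ⟨nat_lit 15625, nat_lit 5, [], [nat_lit 5, nat_lit 25, nat_lit 125, nat_lit 625, nat_lit 3125], [(nat_lit 5, nat_lit 6)], false, false⟩, ⟨nat_lit 16129, nat_lit 1, [], [nat_lit 127], [(nat_lit 127, nat_lit 2)], false, false⟩,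
  ⟨nat_lit 16807, nat_lit 4, [], [nat_lit 7, nat_lit 49, nat_lit 343, nat_lit 2401], [(nat_lit 7, nat_lit 5)], false, false⟩,
  ⟨nat_lit 19683, nat_lit 8, [], [nat_lit 3, nat_lit 9, nat_lit 27, nat_lit 81, nat_lit 243, nat_lit 729, nat_lit 2187, nat_lit 6561], [(nat_lit 3, nat_lit 9)], false, false⟩,
  ⟨nat_lit 20577, nat_lit 6, [(nat_lit 3, nat_lit 0), (nat_lit 6859, nat_lit 3)], [nat_lit 3, nat_lit 19, nat_lit 57, nat_lit 361, nat_lit 1083, nat_lit 6859], [(nat_lit 3, nat_lit 1), (nat_lit 19, nat_lit 3)], false, false⟩,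
  ⟨nat_lit 22801, nat_lit 1, [], [nat_lit 151], [(nat_lit 151, nat_lit 2)], false, false⟩, ⟨nat_lit 24389, nat_lit 2, [], [nat_lit 29, nat_lit 841], [(nat_lit 29, nat_lit 3)], false, false⟩,
  ⟨nat_lit 26569, nat_lit 1, [], [nat_lit 163], [(nat_lit 163, nat_lit 2)], false, false⟩, ⟨nat_lit 28561, nat_lit 3, [], [nat_lit 13, nat_lit 169, nat_lit 2197], [(nat_lit 13, nat_lit 4)], false, false⟩,
  ⟨nat_lit 29791, nat_lit 2, [], [nat_lit 31, nat_lit 961], [(nat_lit 31, nat_lit 3)], false, false⟩, ⟨nat_lit 38809, nat_lit 1, [], [nat_lit 197], [(nat_lit 197, nat_lit 2)], false, false⟩,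
  ⟨nat_lit 50653, nat_lit 2, [], [nat_lit 37, nat_lit 1369], [(nat_lit 37, nat_lit 3)], false, false⟩,
  ⟨nat_lit 53138, nat_lit 4, [(nat_lit 2, nat_lit 0), (nat_lit 26569, nat_lit 2)], [nat_lit 2, nat_lit 163, nat_lit 326, nat_lit 26569], [(nat_lit 2, nat_lit 1), (nat_lit 163, nat_lit 2)], false, false⟩,
  ⟨nat_lit 63001, nat_lit 1, [], [nat_lit 251], [(nat_lit 251, nat_lit 2)], false, false⟩, ⟨nat_lit 68921, nat_lit 2, [], [nat_lit 41, nat_lit 1681], [(nat_lit 41, nat_lit 3)], false, false⟩,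
  ⟨nat_lit 78125, nat_lit 6, [], [nat_lit 5, nat_lit 25, nat_lit 125, nat_lit 625, nat_lit 3125, nat_lit 15625], [(nat_lit 5, nat_lit 7)], false, false⟩,
  ⟨nat_lit 79507, nat_lit 2, [], [nat_lit 43, nat_lit 1849], [(nat_lit 43, nat_lit 3)], false, false⟩,
  ⟨nat_lit 79707, nat_lit 4, [(nat_lit 3, nat_lit 0), (nat_lit 26569, nat_lit 3)], [nat_lit 3, nat_lit 163, nat_lit 489, nat_lit 26569], [(nat_lit 3, nat_lit 1), (nat_lit 163, nat_lit 2)], false, false⟩,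
  ⟨nat_lit 83521, nat_lit 3, [], [nat_lit 17, nat_lit 289, nat_lit 4913], [(nat_lit 17, nat_lit 4)], false, false⟩,
  ⟨nat_lit 117649, nat_lit 5, [], [nat_lit 7, nat_lit 49, nat_lit 343, nat_lit 2401, nat_lit 16807], [(nat_lit 7, nat_lit 6)], false, false⟩,
  ⟨nat_lit 130321, nat_lit 3, [], [nat_lit 19, nat_lit 361, nat_lit 6859], [(nat_lit 19, nat_lit 4)], false, false⟩, ⟨nat_lit 148877, nat_lit 2, [], [nat_lit 53, nat_lit 2809], [(nat_lit 53, nat_lit 3)], false, false⟩,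
  ⟨nat_lit 161051, nat_lit 4, [], [nat_lit 11, nat_lit 121, nat_lit 1331, nat_lit 14641], [(nat_lit 11, nat_lit 5)], false, false⟩, ⟨nat_lit 237169, nat_lit 1, [], [nat_lit 487], [(nat_lit 487, nat_lit 2)], false, false⟩,
  ⟨nat_lit 371293, nat_lit 4, [], [nat_lit 13, nat_lit 169, nat_lit 2197, nat_lit 28561], [(nat_lit 13, nat_lit 5)], false, false⟩,
  ⟨nat_lit 493039, nat_lit 2, [], [nat_lit 79, nat_lit 6241], [(nat_lit 79, nat_lit 3)], false, false⟩, ⟨nat_lit 707281, nat_lit 3, [], [nat_lit 29, nat_lit 841, nat_lit 24389], [(nat_lit 29, nat_lit 4)], false, false⟩,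
  ⟨nat_lit 823543, nat_lit 6, [], [nat_lit 7, nat_lit 49, nat_lit 343, nat_lit 2401, nat_lit 16807, nat_lit 117649], [(nat_lit 7, nat_lit 7)], false, false⟩,
  ⟨nat_lit 923521, nat_lit 3, [], [nat_lit 31, nat_lit 961, nat_lit 29791], [(nat_lit 31, nat_lit 4)], false, false⟩,
  ⟨nat_lit 1295029, nat_lit 2, [], [nat_lit 109, nat_lit 11881], [(nat_lit 109, nat_lit 3)], false, false⟩,
  ⟨nat_lit 1419857, nat_lit 4, [], [nat_lit 17, nat_lit 289, nat_lit 4913, nat_lit 83521], [(nat_lit 17, nat_lit 5)], false, false⟩,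
  ⟨nat_lit 1874161, nat_lit 3, [], [nat_lit 37, nat_lit 1369, nat_lit 50653], [(nat_lit 37, nat_lit 4)], false, false⟩, ⟨nat_lit 2128681, nat_lit 1, [], [nat_lit 1459], [(nat_lit 1459, nat_lit 2)], false, false⟩,
  ⟨nat_lit 2476099, nat_lit 4, [], [nat_lit 19, nat_lit 361, nat_lit 6859, nat_lit 130321], [(nat_lit 19, nat_lit 5)], false, false⟩,
  ⟨nat_lit 3418801, nat_lit 3, [], [nat_lit 43, nat_lit 1849, nat_lit 79507], [(nat_lit 43, nat_lit 4)], false, false⟩,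
  ⟨nat_lit 4330747, nat_lit 2, [], [nat_lit 163, nat_lit 26569], [(nat_lit 163, nat_lit 3)], false, false⟩,
  ⟨nat_lit 4826809, nat_lit 5, [], [nat_lit 13, nat_lit 169, nat_lit 2197, nat_lit 28561, nat_lit 371293], [(nat_lit 13, nat_lit 6)], false, false⟩,
  ⟨nat_lit 15813251, nat_lit 2, [], [nat_lit 251, nat_lit 63001], [(nat_lit 251, nat_lit 3)], false, false⟩,
  ⟨nat_lit 47045881, nat_lit 5, [], [nat_lit 19, nat_lit 361, nat_lit 6859, nat_lit 130321, nat_lit 2476099], [(nat_lit 19, nat_lit 6)], false, false⟩,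
  ⟨nat_lit 115501303, nat_lit 2, [], [nat_lit 487, nat_lit 237169], [(nat_lit 487, nat_lit 3)], false, false⟩,
  ⟨nat_lit 705911761, nat_lit 3, [], [nat_lit 163, nat_lit 26569, nat_lit 4330747], [(nat_lit 163, nat_lit 4)], false, false⟩]


theorem T0_ok : (T0.all okE && decide (T0.IsChain fun a b => a.o ≤ b.o)) = true := by decide +kernel

theorem T0_rch : rch (T0.map (·.o)) (nat_lit 8) [nat_lit 3, nat_lit 2] (nat_lit 3) (nat_lit 8) = true := by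
  decide +kernel

theorem tab_ok {T : List E} (h : (T.all okE && decide (T.IsChain fun a b => a.o ≤ b.o)) = true) :
    (∀ t ∈ T, t.Ok) ∧ T.Pairwise fun a b => a.o ≤ b.o := by
  rw [Bool.and_eq_true, List.all_eq_true, decide_eq_true_eq] at h
  have : Trans (fun a b : E => a.o ≤ b.o) (fun a b : E => a.o ≤ b.o) fun a b : E => a.o ≤ b.o := ⟨le_trans⟩
  exact ⟨fun t e => okE_sound (h.1 t e), List.isChain_iff_pairwise.1 h.2⟩

theorem CD.Ok.tab0 {D : CD} (h : D.Ok) (h2 : D.Fut 0 2) (h3 : D.Fut 0 3) (j : ℕ) (hj : j < D.m) :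
    ∃ t ∈ T0, t.o = D.o j := by
  refine List.mem_map.1 ?_
  by_cases e : 3 < D.o j
  · refine h.rch 8 _ 3 8 T0_rch le_rfl le_rfl (fun d => ⟨fun a => ?_, fun ⟨⟨u, _, a, b⟩, c⟩ => ?_⟩) ?_ j hj e
    · simp only [List.mem_cons, List.not_mem_nil, or_false] at a
      rcases a with rfl | rfl
      exacts [⟨h3, le_rfl⟩, ⟨h2, by decide⟩]
    · have := h.o1 u a
      simp only [List.mem_cons, List.not_mem_nil, or_false]
      omega
    · obtain ⟨u, -, a, b⟩ := h2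
      obtain ⟨v, -, c, d⟩ := h3
      have : {j ∈ range D.m | 3 < D.o j} ⊆ ((range D.m).erase u).erase v := fun w e => by
        simp only [mem_filter, mem_erase] at e ⊢
        exact ⟨by rintro rfl; omega, by rintro rfl; omega, e.1⟩
      have := card_le_card this
      rw [card_erase_of_mem (by simp only [mem_erase, mem_range]; exact ⟨by rintro rfl; omega, c⟩),
        card_erase_of_mem (mem_range.2 a), card_range] at this
      have := h.m_le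
      omega
  · have := h.o1 j hj
    have : D.o j = 2 ∨ D.o j = 3 := by omega
    rcases this with a | a <;> rw [a] <;> decide +kernel

/-- the orders that survive -/
def acc0 (N : ℕ) (pl : List (ℕ × ℕ)) : Bool :=
  memL N [7920, 12960, 13440, 16320, 21504, 86016, 92160] || (N == 87360 && pl.contains (5, 5))
/-- the parameters of the main search -/
def P0 (s : ℕ) : Pm := ⟨T0, nat_lit 8, nat_lit 6048, nat_lit 0, true, acc0, nat_lit 4, nat_lit 29, s⟩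
/-- a part of the main search -/
def R0 (s : ℕ) : Bool := run (P0 s) (nat_lit 5) [nat_lit 2, nat_lit 3, nat_lit 6]

end H3.KC
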