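import Cfsg.Agent.H24.ClassCount
import Cfsg.Agent.H6.BS15

/-! Class numbers of sections I: basic bounds. -/

set_option autoImplicit false
set_option linter.unusedSectionVars false

open Subgroup

namespace H3.KL

universe u

noncomputable abbrev k (X : Type*) [Group X] : ℕ := Nat.card (ConjClasses X)

section Basic
variable {X Y : Type*} [Group X] [Group Y]

theorem k_surj [Finite X] (f : X →* Y) (hf : Function.Surjective f) : k Y ≤ k X :=
  Nat.card_le_card_of_surjective _ (ConjClasses.map_surjective hf)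

theorem k_le_card [Finite X] : k X ≤ Nat.card X :=
  Nat.card_le_card_of_surjective _ ConjClasses.mk_surjective

theorem k_le_mul [Finite X] (N : Subgroup X) [N.Normal] : k X ≤ k N * k (X ⧸ N) := by
  simpa only [H24.kPi_univ] using H24.kPi_le_mul Set.univ N

theorem k_wt [Fintype X] (n : ℕ) (w : X → ℕ)
    (h : ∀ g : X, n ≤ w g * (centralizer ({g} : Set X)).index) : n * k X ≤ ∑ g, w g := by
  refine Nat.le_of_mul_le_mul_right ?_ (Nat.card_pos (α := X))
  rw [mul_assoc, H24.card_classes_mul_card', Finset.mul_sum, Finset.sum_mul]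
  refine Finset.sum_le_sum fun g _ => ?_
  rw [← (centralizer ({g} : Set X)).index_mul_card, ← mul_assoc]
  exact Nat.mul_le_mul_right _ (h g)

theorem sum_ind [Fintype X] (H : Subgroup X) [DecidablePred (· ∈ H)] :
    ∑ g : X, (if g ∈ H then 1 else 0) = Nat.card H := by
  rw [Finset.sum_boole, Nat.card_eq_fintype_card, Fintype.card_subtype]; rfl

theorem two_le_index [Finite X] {H : Subgroup X} (h : H ≠ ⊤) : 2 ≤ H.index := by
  have h1 : H.index ≠ 0 := index_ne_zero_of_finite
  have h2 : H.index ≠ 1 := fun e => h (index_eq_one.1 e)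
  omega

theorem cent_ne_top {g : X} (h : g ∉ center X) : centralizer ({g} : Set X) ≠ ⊤ := fun e =>
  h (mem_center_iff.2 fun x => mem_centralizer_singleton_iff.1 (e ▸ mem_top x))

theorem five_eighths [Finite X] (h : ¬ ∀ a b : X, a * b = b * a) : 8 * k X ≤ 5 * Nat.card X := by
  classical
  have := Fintype.ofFinite X
  have h1 := k_wt (X := X) 2 (fun g => 1 + if g ∈ center X then 1 else 0) fun g => by
    have h0 : 0 < (centralizer ({g} : Set X)).index := Nat.pos_of_ne_zero index_ne_zero_of_finite
    split_ifs with hg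
    · omega
    · have := two_le_index (cent_ne_top hg); omega
  rw [Finset.sum_add_distrib, sum_ind, Finset.sum_const, Finset.card_univ, smul_eq_mul, mul_one,
    ← Nat.card_eq_fintype_card] at h1
  push Not at h
  obtain ⟨a, b, hab⟩ := h
  have ha : a ∉ center X := fun e => hab (mem_center_iff.1 e b).symm
  have h2 := two_le_index (cent_ne_top ha)
  have h3 : center X ≤ centralizer ({a} : Set X) := center_le_centralizer _
  have h4 := two_le_index (H := (center X).subgroupOf (centralizer ({a} : Set X))) fun e =>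
    ha (subgroupOf_eq_top.1 e (mem_centralizer_singleton_iff.2 rfl))
  have h5 := relIndex_mul_index h3
  have h6 := (center X).index_mul_card
  have h7 : 4 ≤ (center X).index := h5 ▸ Nat.mul_le_mul h4 h2
  have h8 := Nat.mul_le_mul_right (Nat.card (center X)) h7
  omega

end Basic

/-- all sections of `X` above `N` have at most `b` classes -/
def kq {X : Type u} [Group X] (N : Subgroup X) (b : ℕ) : Prop :=
  ∀ (H Y : Type u) [Group H] [Finite H] [Group Y] (ι : H →* X) (f : H →* Y),
    Function.Surjective f → N.comap ι ≤ f.ker → k Y ≤ b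

variable {X X' : Type u} [Group X] [Group X'] {N N' : Subgroup X} {a b : ℕ}

theorem kq.mono (h : kq N a) (hN : N ≤ N') (hb : a ≤ b) : kq N' b :=
  fun H Y _ _ _ ι f hf e => (h H Y ι f hf ((comap_mono hN).trans e)).trans hb

theorem kq.comap (h : kq N a) (g : X' →* X) : kq (N.comap g) a :=
  fun H Y _ _ _ ι f hf e => h H Y (g.comp ι) f hf e

theorem kq.ext [N.Normal] (h : kq N a) (h' : kq (N'.subgroupOf N) b) : kq (N ⊓ N') (a * b) := by
  intro H Y _ _ _ ι f hf e
  have := Finite.of_surjective f hf
  have hn : ((N.comap ι).map f).Normal := Normal.map inferInstance f hf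
  refine (k_le_mul ((N.comap ι).map f)).trans ((mul_comm _ _).le.trans (Nat.mul_le_mul ?_ ?_))
  · refine h H _ ι ((QuotientGroup.mk' _).comp f) ((QuotientGroup.mk'_surjective _).comp hf) ?_
    intro x hx
    exact (QuotientGroup.eq_one_iff _).2 ⟨x, hx, rfl⟩
  · refine h' (N.comap ι) _ (ι.subgroupComap N) (f.subgroupMap _) (f.subgroupMap_surjective _) ?_
    intro x hx
    exact Subtype.ext (e ⟨x.2, hx⟩)

theorem kq.inf [N.Normal] (h : kq N a) (h' : kq N' b) : kq (N ⊓ N') (a * b) :=
  h.ext (h'.comap _)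

theorem kq_top : kq (⊤ : Subgroup X) 1 := fun H Y _ _ _ ι f hf e => by
  have : Subsingleton Y := ⟨fun x y => by
    obtain ⟨x, rfl⟩ := hf x
    obtain ⟨y, rfl⟩ := hf y
    exact (e (mem_top _) : f x = 1).trans (e (mem_top _) : f y = 1).symm⟩
  exact k_le_card.trans (Nat.card_unique (α := Y)).le

theorem kq_fin {ι : Type*} (s : Finset ι) (M : ι → Subgroup X) (hM : ∀ i, (M i).Normal)
    (c : ι → ℕ) (h : ∀ i ∈ s, kq (M i) (c i)) (hN : ∀ x, (∀ i ∈ s, x ∈ M i) → x ∈ N) :
    kq N (∏ i ∈ s, c i) := by
  classical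
  refine kq.mono (N := ⨅ i ∈ s, M i) ?_ (fun x hx => hN x (by simpa [mem_iInf] using hx)) le_rfl
  clear hN
  induction s using Finset.induction_on with
  | empty => simpa using kq_top
  | insert i s hi ih =>
    rw [Finset.prod_insert hi, Finset.iInf_insert]
    have := hM i
    exact (h i (Finset.mem_insert_self _ _)).inf (ih fun j hj => h j (Finset.mem_insert_of_mem hj))

theorem kq_bot (h : ∀ H : Subgroup X, k H ≤ b) : kq (⊥ : Subgroup X) b := by
  intro H Y _ _ _ ι f hf e
  have hs := ι.rangeRestrict_surjective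
  have := Finite.of_surjective _ hs
  let g := ι.rangeRestrict.liftOfSurjective hs ⟨f, by rwa [MonoidHom.ker_rangeRestrict]⟩
  refine (k_surj g fun y => ?_).trans (h _)
  obtain ⟨x, rfl⟩ := hf y
  exact ⟨ι.rangeRestrict x, MonoidHom.liftOfRightInverse_comp_apply _ _ _ _ _⟩

theorem kq_card [Finite X] : kq (⊥ : Subgroup X) (Nat.card X) :=
  kq_bot fun H => k_le_card.trans H.card_le_card_group

theorem kq_index [Finite X] [N.Normal] : kq N N.index := by
  have h := (kq_card (X := X ⧸ N)).comap (QuotientGroup.mk' N)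
  rwa [MonoidHom.comap_bot, QuotientGroup.ker_mk'] at h

theorem kq.le [Finite X] [N.Normal] (h : kq N a) (h' : k N ≤ b) : k X ≤ b * a :=
  (k_le_mul N).trans (Nat.mul_le_mul h' (h X _ (MonoidHom.id X) (QuotientGroup.mk' N)
    (QuotientGroup.mk'_surjective N) (by simp)))

theorem kq.quo [Finite X] [N.Normal] (h : kq N a) (H : Subgroup X) :
    k (H ⧸ N.subgroupOf H) ≤ a :=
  h H _ H.subtype (QuotientGroup.mk' _) (QuotientGroup.mk'_surjective _)
    (QuotientGroup.ker_mk' _).ge

end H3.KL
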