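import Cfsg.Agent.H3.KL1
import Cfsg.Agent.H1.Fitting

/-! Class numbers of sections II: solvable permutation groups. -/

set_option autoImplicit false
set_option linter.unusedSectionVars false

open Subgroup H6.BS

namespace H3.KL

universe u

theorem pow4_le {m : ℕ} (h : 9 ≤ m) : m ^ 4 ≤ 3 ^ (m - 1) := by
  induction m, h using Nat.le_induction with
  | base => norm_num
  | succ m h ih =>
    obtain ⟨n, rfl⟩ : ∃ n, m = n + 1 := ⟨m - 1, by omega⟩
    simp only [Nat.add_sub_cancel] at ih ⊢
    have : (n + 1 + 1) ^ 4 ≤ 3 * (n + 1) ^ 4 := by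
      have h1 : 3 * (n + 1 + 1) ≤ 4 * (n + 1) - 4 := by omega
      have h2 : (10 * (n + 1 + 1)) ^ 4 ≤ (12 * (n + 1)) ^ 4 := Nat.pow_le_pow_left (by omega) 4
      rw [mul_pow, mul_pow] at h2
      omega
    rw [pow_succ 3]; omega

theorem five_ord {S M : Type u} [Group S] [Finite S] [Group.IsSolvable S] [AddCommGroup M]
    [Finite M] [DistribMulAction S M] [Nontrivial M] (h : CR S M) :
    5 * ord S M ≤ Nat.card M ^ 3 :=
  (Mode.reg (c := 1) (k := 3) (m := 5) (w := 1) (Or.inl ⟨rfl, rfl, rfl, rfl⟩) (by simp) (by simp)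
    h).le

theorem tab_aff : ∀ m < 9, 2 ≤ m → m * T 1 m ≤ 3 ^ (m - 1) := by decide

theorem aff_le {S M : Type u} [Group S] [Finite S] [Group.IsSolvable S] [AddCommGroup M]
    [Finite M] [DistribMulAction S M] [Nontrivial M] (h : CR S M) :
    Nat.card M * ord S M ≤ 3 ^ (Nat.card M - 1) := by
  have h2 : 2 ≤ Nat.card M := Finite.one_lt_card
  rcases lt_or_ge (Nat.card M) 9 with h9 | h9
  · exact (Nat.mul_le_mul_left _ (table (c := 1) (by simp) rfl (by omega) (by simp) h)).trans
      (tab_aff _ h9 h2)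
  · refine le_trans ?_ (pow4_le h9)
    have := five_ord h
    rw [pow_succ' _ 3]
    exact Nat.mul_le_mul_left _ (by omega)

theorem kq_core_aux (n : ℕ) : ∀ (X : Type u) [Group X] [Finite X] [Group.IsSolvable X]
    (H : Subgroup X), H.index = n → kq H.normalCore (3 ^ (n - 1)) := by
  induction n using Nat.strong_induction_on with
  | _ n ih =>
  intro X _ _ _ H hn
  rcases eq_top_or_exists_le_coatom H with rfl | ⟨L, hL, hHL⟩
  · exact kq_top.mono (normal_le_normalCore.2 le_rfl) (Nat.one_le_pow _ _ (by norm_num))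
  rcases hHL.eq_or_lt with rfl | hlt
  · obtain ⟨S, M, _, _, _, _, _, pt, hS, hM, hi, -, -, h1, h2, -⟩ := affine hL
    refine kq_index.mono le_rfl (h1 ▸ (aff_le hi.cr).trans (Nat.pow_le_pow_right (by norm_num) ?_))
    have := Nat.card_le_card_of_injective (fun m => (pt m : X ⧸ H))
      fun a b e => h2 a b (QuotientGroup.eq.1 e)
    rw [← hn, index_eq_card]; omega
  have h1 := two_le_index hL.1
  have h2 : 2 ≤ (H.subgroupOf L).index :=
    two_le_index fun e => hlt.not_ge (subgroupOf_eq_top.1 e)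
  have h3 : (H.subgroupOf L).index * L.index = n := hn ▸ relIndex_mul_index hHL
  have := Fintype.ofFinite (X ⧸ L)
  let φ : X ⧸ L → L.normalCore →* L := fun q =>
    ((MulAut.conj q.out⁻¹).toMonoidHom.comp L.normalCore.subtype).codRestrict L fun x => x.2 _
  have h4 := kq_fin (N := H.normalCore.subgroupOf L.normalCore) Finset.univ
    (fun q => (H.subgroupOf L).normalCore.comap (φ q)) (fun q => inferInstance)
    (fun _ => 3 ^ ((H.subgroupOf L).index - 1))
    (fun q _ => (ih _ (by nlinarith) L _ rfl).comap _) (by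
      intro x hx y
      obtain ⟨l, hl⟩ := QuotientGroup.mk_out_eq_mul L y⁻¹
      have h5 : _ ∈ H := hx (y⁻¹ : X) (Finset.mem_univ _) l
      convert h5 using 1
      simp [φ, hl, mul_assoc])
  refine ((ih _ (by nlinarith) X L rfl).ext h4).mono inf_le_right (le_of_eq ?_)
  rw [Finset.prod_const, Finset.card_univ, ← Nat.card_eq_fintype_card, ← index_eq_card, ← pow_mul,
    ← pow_add, ← h3, Nat.sub_mul, one_mul]
  have := Nat.le_mul_of_pos_left L.index (by omega : 0 < (H.subgroupOf L).index)
  congr 1; omega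

theorem kq_core {X : Type u} [Group X] [Finite X] [Group.IsSolvable X] (H : Subgroup X) :
    kq H.normalCore (3 ^ (H.index - 1)) := kq_core_aux _ X H rfl

theorem sum_pred_le {ι : Type*} (s : Finset ι) (c : ι → ℕ) (h : ∀ i ∈ s, 1 ≤ c i) :
    ∑ i ∈ s, (c i - 1) + s.card = ∑ i ∈ s, c i := by
  rw [Finset.card_eq_sum_ones, ← Finset.sum_add_distrib]
  exact Finset.sum_congr rfl fun i hi => Nat.sub_add_cancel (h i hi)

theorem kq_act {X : Type u} [Group X] [Finite X] [Group.IsSolvable X] (Ω : Type*) [Finite Ω]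
    [Nonempty Ω] [MulAction X Ω] : kq (MulAction.toPermHom X Ω).ker (3 ^ (Nat.card Ω - 1)) := by
  let Q := MulAction.orbitRel.Quotient X Ω
  have := Fintype.ofFinite Q
  have h := kq_fin (N := (MulAction.toPermHom X Ω).ker) Finset.univ
    (fun q : Q => (MulAction.stabilizer X q.out).normalCore) (fun q => inferInstance)
    (fun q => 3 ^ ((MulAction.stabilizer X q.out).index - 1)) (fun q _ => kq_core _) (by
      intro x hx
      ext ω
      obtain ⟨g, hg⟩ : ω ∈ MulAction.orbit X (Quotient.mk'' ω : Q).out :=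
        (MulAction.orbitRel X Ω).symm (Quotient.mk_out' ω)
      have h5 := hx (Quotient.mk'' ω) (Finset.mem_univ _) g⁻¹
      rw [MulAction.mem_stabilizer_iff, inv_inv, mul_smul, mul_smul, inv_smul_eq_iff] at h5
      simpa [hg] using h5)
  refine h.mono le_rfl ?_
  rw [Finset.prod_pow_eq_pow_sum]
  refine Nat.pow_le_pow_right (by norm_num) ?_
  have h1 := sum_pred_le Finset.univ (fun q : Q => (MulAction.stabilizer X q.out).index)
    fun q _ => Nat.pos_of_ne_zero index_ne_zero_of_finite
  have h2 := Nat.card_congr (MulAction.selfEquivSigmaOrbitsQuotientStabilizer X Ω)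
  rw [Nat.card_sigma] at h2
  have h3 : 0 < (Finset.univ : Finset Q).card :=
    Finset.card_pos.2 ⟨Quotient.mk'' (Classical.arbitrary Ω), Finset.mem_univ _⟩
  simp only [index_eq_card] at h1 ⊢
  rw [h2, ← h1]
  omega

end H3.KL
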