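import Cfsg.Agent.H3.KL2

/-! Class numbers of sections III: completely reducible solvable groups on `e²` vectors. -/

set_option autoImplicit false
set_option linter.unusedSectionVars false

open Subgroup H6.BS Cfsg

namespace H3.KL

universe u

theorem ord_lt_aux {R : Type u} [Group R] [Finite R] (hc : ∀ a b : R, a * b = b * a) (n : ℕ) :
    ∀ (W : Type u) [AddCommGroup W] [Finite W] [DistribMulAction R W] [Nontrivial W],
      Nat.card W = n → CR R W → ord R W < n := by
  induction n using Nat.strong_induction_on with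
  | _ n ih =>
  intro W _ _ _ _ hn h
  by_cases hi : Irr R W
  · obtain ⟨v, hv⟩ := exists_ne (0 : W)
    have h1 : MulAction.stabilizer R v ≤ ker R W := fun g hg => by
      rcases hi (Fx W g) (fun x w hw => by
        rw [mem_Fx] at hw ⊢; rw [← mul_smul, hc, mul_smul, hw]) with e | e
      · exact absurd ((AddSubgroup.mem_bot).1 (e ▸ mem_Fx.2 hg)) hv
      · exact mem_ker.2 fun w => mem_Fx.1 (e ▸ AddSubgroup.mem_top w)
    refine (Nat.le_of_dvd (Nat.pos_of_ne_zero index_ne_zero_of_finite)
      (index_dvd_of_le h1)).trans_lt ?_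
    rw [MulAction.index_stabilizer, ← hn, ← Set.ncard_univ]
    refine Set.ncard_lt_ncard (Set.ssubset_univ_iff.2 fun e => hv ?_)
    obtain ⟨g, hg⟩ : (0 : W) ∈ MulAction.orbit R v := e ▸ Set.mem_univ _
    exact (smul_eq_zero_iff_eq g).1 hg
  · obtain ⟨X, Y, _, _, _, _, _, _, hX, hY, h1, h2, h3, h4, -⟩ := red h hi
    have h5 : 2 ≤ Nat.card X := Finite.one_lt_card
    have h6 : 2 ≤ Nat.card Y := Finite.one_lt_card
    rw [← hn, h3]
    exact h4.trans_lt (Nat.mul_lt_mul'' (ih _ (by nlinarith) X rfl h1) (ih _ (by nlinarith) Y rfl h2))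

variable {R W : Type u} [Group R] [Finite R] [AddCommGroup W] [Finite W] [DistribMulAction R W]
  [FaithfulSMul R W]

theorem k_top_le : k (⊤ : Subgroup R) ≤ k R := 
  k_surj (topEquiv (G := R)).symm.toMonoidHom (topEquiv (G := R)).symm.surjective

theorem small [Nontrivial W] (h : CR R W) {b : ℕ} (h1 : Nat.card R ≤ 2 * b + 1)
    (h2 : 5 * Nat.card R < 8 * (b + 1)) (h3 : Nat.card W ≤ b + 1) : kq (⊥ : Subgroup R) b := by
  refine kq_bot fun H => ?_
  by_cases hH : H = ⊤
  · subst hH
    refine k_top_le.trans ?_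
    by_cases hc : ∀ a b : R, a * b = b * a
    · have := ord_lt_aux hc _ W rfl h
      have := k_le_card (X := R)
      rw [ord_eq] at *; omega
    · have := five_eighths hc; omega
  · have h4 := Nat.mul_le_mul_right (Nat.card H) (two_le_index hH)
    have := k_le_card (X := H)
    rw [H.index_mul_card] at h4; omega

theorem nine (h3 : ∀ w : W, 3 • w = 0) (h9 : Nat.card W = 9) : k R ≤ 9 := by
  classical
  have := Fintype.ofFinite R
  have := Fintype.ofFinite W
  have hA : ∀ g : R, (¬ ∀ w : W, g • w = w) → (¬ ∀ w : W, g • w = -w) →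
      Nat.card (centralizer ({g} : Set R)) ≤ 8 := by
    intro g h1 h2
    obtain ⟨v, v1, v2⟩ : ∃ v : W, g • v ≠ v ∧ g • v ≠ -v := by
      by_contra hh
      push Not at hh h1 h2
      obtain ⟨a, ha⟩ := h1
      obtain ⟨b, hb⟩ := h2
      have e1 := hh a ha
      have e2 : g • b = b := by_contra fun e => hb (hh b e)
      by_cases e : g • (a + b) = a + b
      · rw [smul_add, e2, add_left_inj] at e; exact ha e
      · have := hh _ e
        rw [smul_add, e1, neg_add, add_right_inj] at this; exact hb this
    have v0 : v ≠ 0 := by rintro rfl; simp at v1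
    have v3 : v ≠ -v := fun e => v0 (by
      have := h3 v
      rwa [succ_nsmul, two_nsmul, add_eq_zero_iff_eq_neg.2 e, zero_add] at this)
    have u0 : g • v ≠ 0 := fun e => v0 ((smul_eq_zero_iff_eq g).1 e)
    have hB : ∀ x : R, x • v = v → x * g = g * x → x = 1 := fun x e1 e2 => by
      have h4 : ({0, v, -v, g • v} : Finset W).card ≤ Nat.card (Fx W x) := by
        rw [← Set.ncard_coe_finset, ← SetLike.coe_sort_coe, Nat.card_coe_set_eq]
        refine Set.ncard_le_ncard ?_
        intro y hy
        simp only [Finset.coe_insert, Finset.coe_singleton, Set.mem_insert_iff,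
          Set.mem_singleton_iff] at hy
        rcases hy with rfl | rfl | rfl | rfl
        · exact zero_mem _
        · exact mem_Fx.2 e1
        · exact neg_mem (mem_Fx.2 e1)
        · exact mem_Fx.2 (by rw [← mul_smul, e2, mul_smul, e1])
      rw [Finset.card_insert_of_notMem (by simp [v0.symm, v0, u0.symm]),
        Finset.card_insert_of_notMem (by simp [v3, v1.symm]),
        Finset.card_insert_of_notMem (by simp [v2.symm]), Finset.card_singleton] at h4
      have h5 := (Fx W x).card_addSubgroup_dvd_card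
      have h6 : Nat.card (Fx W x) = Nat.card W := by
        rw [h9] at h5 ⊢
        have := Nat.le_of_dvd (by norm_num) h5
        generalize Nat.card (Fx W x) = c at *
        interval_cases c <;> omega
      exact eq_one_of_triv (V := W) fun w =>
        mem_Fx.1 ((AddSubgroup.card_eq_iff_eq_top _).1 h6 ▸ AddSubgroup.mem_top w)
    have h7 := Nat.card_le_card_of_injective
      (fun x : centralizer ({g} : Set R) => (⟨x.1 • v, fun e => v0 ((smul_eq_zero_iff_eq _).1 e)⟩ :
        {w : W // w ≠ 0})) fun x y e => by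
      have e1 : x.1 • v = y.1 • v := congrArg Subtype.val e
      have := hB (y⁻¹ * x : centralizer ({g} : Set R)) (by
        rw [coe_mul, mul_smul, e1, coe_inv, inv_smul_smul])
        (mem_centralizer_singleton_iff.1 (y⁻¹ * x).2)
      exact (inv_mul_eq_one.1 (Subtype.ext this)).symm
    rwa [Nat.card_eq_fintype_card (α := {w : W // w ≠ 0}), Fintype.card_subtype_compl,
      Fintype.card_subtype_eq, ← Nat.card_eq_fintype_card, h9] at h7
  have h1 := H24.card_classes_mul_card' (G := R)
  have h2 : ∑ g : R, Nat.card (centralizer ({g} : Set R)) < ∑ g : R, (8 +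
      ((if ∀ w : W, g • w = w then 1 else 0) + if ∀ w : W, g • w = -w then 1 else 0) *
        Nat.card R) := by
    refine Finset.sum_lt_sum (fun g _ => ?_) ⟨1, Finset.mem_univ _, ?_⟩
    · have := (centralizer ({g} : Set R)).card_le_card_group
      have := hA g
      split_ifs <;> simp_all <;> omega
    · have := (centralizer ({1} : Set R)).card_le_card_group
      rw [if_pos (one_smul R)]
      nlinarith [Nat.zero_le (if ∀ w : W, (1 : R) • w = -w then 1 else 0)]
  have h4 : ∀ f : W → W, ∑ g : R, (if ∀ w : W, g • w = f w then 1 else 0) ≤ 1 := fun f => by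
    rw [Finset.sum_boole]
    exact Finset.card_le_one.2 fun a ha b hb => FaithfulSMul.eq_of_smul_eq_smul (α := W) fun w => by
      rw [(Finset.mem_filter.1 ha).2, (Finset.mem_filter.1 hb).2]
  rw [Finset.sum_add_distrib, ← Finset.sum_mul, Finset.sum_add_distrib, Finset.sum_const,
    Finset.card_univ, ← Nat.card_eq_fintype_card, smul_eq_mul] at h2
  have h5 := Nat.mul_le_mul_right (Nat.card R) (Nat.add_le_add (h4 id) (h4 fun w => -w))
  have h6 : k R * Nat.card R < 10 * Nat.card R := by
    refine (h1.trans_lt h2).trans_le ?_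
    simp only [id] at h5
    omega
  have := Nat.lt_of_mul_lt_mul_right h6
  omega

set_option synthInstance.maxSize 1000 in
theorem num16 : ∀ f < 22, f % 2 = 1 → ∀ z < 22, z ∣ f → z ≠ f → ∀ r < 73, r % 2 = 0 → f ∣ r →
    2 * r + f + 3 * z < 168 := by decide

theorem ab_le_fit {A : Subgroup R} (hn : A.Normal) (h : ∀ a ∈ A, ∀ b ∈ A, a * b = b * a) :
    A ≤ fittingSubgroup R := by
  have : IsMulCommutative A := ⟨⟨fun a b => Subtype.ext (h a a.2 b b.2)⟩⟩
  exact H1.le_fitting hn (H1.isNilpotent_of_isMulCommutative this)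

theorem sixteen [Group.IsSolvable R] (h : CR R W) (h16 : Nat.card W = 16) :
    kq (⊥ : Subgroup R) 27 := by
  classical
  have h2 : ∀ w : W, 2 • w = 0 := fun w => h.sqf 2 w (by
    rw [← mul_nsmul', h.sqf 4 w (by rw [← mul_nsmul', ← card_nsmul_eq_zero' (x := w), h16])])
  have h72 : Nat.card R ≤ 72 := ord_eq (G := R) (V := W) ▸ table (c := 1) (by simp) h16 (by norm_num) (by simp) h
  have h21 : ∀ H : Subgroup R, Odd (Nat.card H) → Nat.card H ≤ 21 := fun H hH =>
    ord_eq (G := H) (V := W) ▸ table (c := 2) (by simp) h16 (by norm_num) hH.coprime_two_right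
      (cr_of_coprime (compl_of_prime Nat.prime_two h2) (h16 ▸ hH.coprime_two_right.pow_right 4))
  have hF : Odd (Nat.card (fittingSubgroup R)) := by
    have h1 := H19.Oc_Fit_syl 2 (⊤ : Subgroup R)
    have := (H19.Oc_normal {2} (⊤ : Subgroup R)).normal
    rw [pcore_triv h Nat.prime_two h2 _ h1.pi.isPGroup] at h1
    rw [← H1.fittingOf_top]
    exact Nat.odd_iff.2 (Nat.two_dvd_ne_zero.1 fun hd => h1.pi'_of_eq_bot 2 Nat.prime_two hd rfl)
  have hf := h21 _ hF
  refine kq_bot fun H => ?_
  have e1 := k_le_card (X := H)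
  have e2 := H.index_mul_card
  by_cases hH : H = ⊤
  · subst hH
    by_cases ho : Odd (Nat.card R)
    · have := h21 ⊤ (card_top (G := R) ▸ ho); omega
    have hZ : center R ≤ fittingSubgroup R := H1.center_le_fitting
    by_cases hz : Nat.card (center R) = Nat.card (fittingSubgroup R)
    · have e3 := eq_of_le_of_card_ge hZ hz.ge
      have : (⊤ : Subgroup R) ≤ fittingSubgroup R := fun x _ =>
        H1.centralizer_fitting_le inferInstance fun y hy => (mem_center_iff.1 (e3 ▸ hy) x).symm
      have := card_le_of_le this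
      omega
    refine k_top_le.trans ?_
    have := Fintype.ofFinite R
    have h1 := k_wt (X := R) 6 (fun g => 2 + (if g ∈ fittingSubgroup R then 1 else 0) +
        3 * if g ∈ center R then 1 else 0) fun g => by
      have h0 : 0 < (centralizer ({g} : Set R)).index := Nat.pos_of_ne_zero index_ne_zero_of_finite
      by_cases hg : g ∈ center R
      · rw [if_pos hg, if_pos (hZ hg)]; omega
      have h3 := two_le_index (cent_ne_top hg)
      rw [if_neg hg]
      split_ifs with hg'
      · omega
      refine le_of_not_gt fun h4 => hg' ?_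
      have := normal_of_index_eq_two (H := centralizer ({g} : Set R)) (by omega)
      exact ab_le_fit (A := centralizer {g} ⊓ centralizer (centralizer ({g} : Set R) : Set R))
        inferInstance (fun a ha b hb => hb.2 a ha.1)
        ⟨mem_centralizer_singleton_iff.2 rfl, fun x hx => mem_centralizer_singleton_iff.1 hx⟩
    rw [Finset.sum_add_distrib, Finset.sum_add_distrib, ← Finset.mul_sum, sum_ind, sum_ind,
      Finset.sum_const, Finset.card_univ, smul_eq_mul, ← Nat.card_eq_fintype_card] at h1
    have h5 := card_le_of_le hZ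
    have := num16 _ (by omega) (Nat.odd_iff.1 hF) _ (by omega) (card_dvd_of_le hZ) hz _ (by omega)
      (Nat.even_iff.1 (Nat.not_odd_iff_even.1 ho)) (card_subgroup_dvd_card _)
    omega
  rcases (two_le_index hH).eq_or_lt with e | e
  · by_cases hc : ∀ a b : H, a * b = b * a
    · have := card_le_of_le (ab_le_fit (normal_of_index_eq_two e.symm)
        fun a ha b hb => congrArg Subtype.val (hc ⟨a, ha⟩ ⟨b, hb⟩))
      omega
    · have := five_eighths hc
      rw [← e] at e2; omega
  · have := Nat.mul_le_mul_right (Nat.card H) (Nat.succ_le_of_lt e)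
    omega

theorem pow6_le {m : ℕ} (h : 17 ≤ m) : m ^ 6 ≤ 5 * 3 ^ (m - 1) := by
  induction m, h using Nat.le_induction with
  | base => norm_num
  | succ m h ih =>
    obtain ⟨n, rfl⟩ : ∃ n, m = n + 1 := ⟨m - 1, by omega⟩
    simp only [Nat.add_sub_cancel] at ih ⊢
    have : (n + 1 + 1) ^ 6 ≤ 3 * (n + 1) ^ 6 := by
      have h2 : (10 * (n + 1 + 1)) ^ 6 ≤ (11 * (n + 1)) ^ 6 := Nat.pow_le_pow_left (by omega) 6
      rw [mul_pow, mul_pow] at h2
      omega
    rw [pow_succ 3]; omega

theorem tab_sq : ∀ e < 17, 2 ≤ e → e ≠ 3 → e ≠ 4 → T 1 (e ^ 2) ≤ 2 * 3 ^ (e - 1) + 1 ∧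
    5 * T 1 (e ^ 2) < 8 * (3 ^ (e - 1) + 1) ∧ e ^ 2 ≤ 3 ^ (e - 1) + 1 := by decide

theorem kw_faithful [Group.IsSolvable R] (h : CR R W) {e : ℕ} (he : Nat.card W = e ^ 2) :
    kq (⊥ : Subgroup R) (3 ^ (e - 1)) := by
  rcases subsingleton_or_nontrivial W with h0 | h0
  · have : Subsingleton R := ⟨fun a b => FaithfulSMul.eq_of_smul_eq_smul (α := W) fun w =>
      Subsingleton.elim _ _⟩
    exact kq_top.mono (fun x _ => Subsingleton.elim x 1) (Nat.one_le_pow _ _ (by norm_num))
  have h2 : 2 ≤ e := by
    have : 1 < Nat.card W := Finite.one_lt_card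
    by_contra h3
    have : e ^ 2 ≤ 1 ^ 2 := Nat.pow_le_pow_left (by omega) 2
    omega
  by_cases h3 : e = 3
  · subst h3
    exact kq_bot fun H => nine (W := W) (fun w => h.sqf 3 w (by
      rw [← mul_nsmul', ← card_nsmul_eq_zero' (x := w), he, pow_two])) he
  by_cases h4 : e = 4
  · subst h4; exact sixteen h he
  rcases lt_or_ge e 17 with h17 | h17
  · obtain ⟨a, b, c⟩ := tab_sq e h17 h2 h3 h4
    have h5 : Nat.card R ≤ _ := ord_eq (G := R) (V := W) ▸ table (c := 1) (by simp) he
      (Nat.pow_le_pow_left (by omega : e ≤ 16) 2) (by simp) h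
    exact small h (by omega) (by omega) (he ▸ c)
  · refine kq_card.mono le_rfl ?_
    have h5 := five_ord h
    have h6 := pow6_le h17
    rw [ord_eq, he, ← pow_mul, show 2 * 3 = 6 from rfl] at h5
    omega

theorem kw {G W : Type u} [Group G] [Finite G] [Group.IsSolvable G] [AddCommGroup W] [Finite W]
    [DistribMulAction G W] (h : CR G W) {e : ℕ} (he : Nat.card W = e ^ 2) :
    kq (ker G W) (3 ^ (e - 1)) := by
  have := img_solvable (G := G) (V := W)
  exact ((kw_faithful h.img he).comap (toImg G W)).mono (fun g hg => mem_ker.2 fun w => by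
    rw [← toImg_smul, (hg : toImg G W g = 1), one_smul]) le_rfl

end H3.KL
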