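import Cfsg.Agent.H3.KL5
import Cfsg.Agent.H5.K32
import Cfsg.Agent.H7.Fong
import Cfsg.Agent.S4492

/-! Class numbers of sections VI: block sizes in solvable groups. -/

set_option autoImplicit false
set_option linter.unusedSectionVars false

open Subgroup Cfsg

namespace H3.KL

universe u

section Ovr
open H20 H19 H6 H5.K3
open scoped Classical

theorem card_ovr_le {Γ E : Type*} [Group Γ] [Finite Γ] [Group E] [Finite E] {T N : Subgroup Γ}
    {θ : Γ → ℂ} {π : T →* E} (hs : Function.Surjective π) (hk : π.ker = N.subgroupOf T)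
    (hN : N ⊴ T) (hθ : θ ∈ Irr N) (hi : CInv T θ) : (ovr T N θ).card ≤ k E := by
  have := Fintype.ofFinite T
  have := Fintype.ofFinite E
  have h1 := card_mul_dot T (gw T N θ) 1
  rw [← card_ovr_good hN hθ hi, sum_sub_eq] at h1
  let c := fun e : E => Nat.card (centralizer ({e} : Set E))
  have h3 : Nat.card T * (ovr T N θ).card = ∑ x : T, if Good T N θ x then c (π x) else 0 := by
    refine Nat.cast_injective (R := ℂ) ?_
    push_cast
    refine h1.trans (Finset.sum_congr rfl fun x _ => ?_)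
    simp [gw, CN_eq hk hN, pre_card hs hk hN, c]
  have h4 := sum_hom π hs c
  rw [← H24.card_classes_mul_card', ← mul_assoc, mul_comm] at h4
  have h5 := Nat.eq_of_mul_eq_mul_right Nat.card_pos h4
  refine Nat.le_of_mul_le_mul_left ?_ (Nat.card_pos (α := T))
  rw [h3, ← h5]
  exact Finset.sum_le_sum fun x _ => by split_ifs <;> simp

theorem card_over_le {G : Type*} [Group G] [Finite G] (N : Subgroup G) [hN : N.Normal] [Fintype N]
    (θ : IrrCharacter N) (hi : ∀ g : G, H6.cj g θ.1 = θ.1) :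
    Nat.card {χ : IrrCharacter G // classInner (fun n : N => χ.1 n) θ.1 ≠ 0} ≤ k (G ⧸ N) := by
  have hL : N ⊴ ⊤ := normalIn_top
  refine (card_top_irr (ovr_subset ⊤ N (amb θ)) fun χ => ?_).trans_le (card_ovr_le
    (π := (QuotientGroup.mk' N).comp (Subgroup.subtype ⊤))
    ((QuotientGroup.mk'_surjective N).comp fun x => ⟨⟨x, trivial⟩, rfl⟩)
    (by rw [← MonoidHom.comap_ker, QuotientGroup.ker_mk']; rfl) hL (amb_irr θ)
    ((cinv_amb (hL.norms le_top) θ).2 fun s _ g g' e => ?_))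
  · rw [mem_ovr, and_iff_right (coe_mem_Irr_top χ), dot_amb_top]
  · rw [← congrFun (hi s) g, cj_apply]
    exact congrArg _ (Subtype.ext e)

end Ovr

open H5 H7 H8 H28

theorem block_aux {p : ℕ} [hp : Fact p.Prime] {M : Ideal AlgInt} (hM : IsPModular p M) (n : ℕ) :
    ∀ (G : Type u) [Group G] [Finite G] [Group.IsSolvable G], Nat.card G = n →
      ∀ B : Set (IrrCharacter G), IsPBlock M B → 0 < blockDefect p B →
        B.ncard ≤ 3 ^ (blockDefect p B - 1) * p ^ blockDefect p B := by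
  induction n using Nat.strong_induction_on with
  | _ n ih =>
  intro G _ _ _ hn B hB hd
  haveI := Fintype.ofFinite G
  let K := pPrimeCore p G
  haveI := Fintype.ofFinite K
  have hK : ¬ p ∣ Nat.card K := not_dvd_card_pPrimeCore hM.1
  obtain ⟨χ, hχ⟩ : B.Nonempty := by
    obtain ⟨χ, rfl⟩ := hB
    exact ⟨χ, mem_blockOf_self hM χ⟩
  obtain ⟨θ, hθ⟩ := exists_irr_below K χ
  have hb := isPBlock_singleton hM hK θ
  have hc := cover_of_over hM hB hb hχ rfl hθ
  obtain ⟨T, hT⟩ : ∃ T : Subgroup G, T = ⊤ ⊓ stab (eb M K {θ}) := ⟨_, rfl⟩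
  by_cases h : T = ⊤
  · have hi := cj_eq_of_fix hM hK (h ▸ hT ▸ mem_Fix_inf_stab _ _)
    obtain ⟨C, hC, h1, h2, -⟩ := Cfsg.Agent.S4492.result p M hM
      (H1.isPSolvable_of_isSolvable inferInstance) K rfl θ fun g n => congrFun (hi g) n
    obtain rfl := block_eq_of_mem hM hB hC hχ ((h1 χ).2 hθ)
    have h3 := card_isDefectGroup hM hB (h2 default)
    rw [Sylow.card_eq_multiplicity, K.card_eq_card_quotient_mul_card_subgroup,
      Nat.factorization_mul Nat.card_pos.ne' Nat.card_pos.ne', Finsupp.add_apply,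
      Nat.factorization_eq_zero_of_not_dvd hK, add_zero] at h3
    rw [← Nat.pow_right_injective hp.out.two_le h3] at hd ⊢
    refine le_trans ?_ ((card_over_le K θ hi).trans
      (k_le_of_core H1.pPrimeCore_quotient_pPrimeCore hd))
    exact (Nat.card_coe_set_eq B).ge.trans (Nat.card_congr (Equiv.subtypeEquivRight h1)).le
  · obtain ⟨A, hA, hind⟩ := fr_exists_of_cover hM hb hT hB hc
    obtain ⟨h1, h2⟩ := fr_chars hM hb hT hA hind
    obtain ⟨D, hD⟩ := H8.exists_isDefectGroup hM hind.1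
    have h3 := card_isDefectGroup hM hB (fr_isDefectGroup hM hb hT hA hind hD)
    rw [card_map_of_injective T.subtype_injective, card_isDefectGroup hM hind.1 hD] at h3
    rw [← Nat.pow_right_injective hp.out.two_le h3] at hd ⊢
    refine le_trans ?_ (ih _ (hn ▸ H1.card_lt_of_ne_top h) T rfl A hind.1 hd)
    rw [← Nat.card_coe_set_eq, ← Nat.card_coe_set_eq]
    refine Nat.card_le_card_of_surjective
      (fun ψ : A => (⟨⟨_, h1 ψ.1 ψ.2⟩, (h2 _).2 ⟨ψ.1, ψ.2, rfl⟩⟩ : B)) fun χ => ?_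
    obtain ⟨ψ, hψ, e⟩ := (h2 χ.1).1 χ.2
    exact ⟨⟨ψ, hψ⟩, Subtype.ext (Subtype.ext e.symm)⟩

end H3.KL
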