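import Cfsg.Agent.H3.KQ9
import Cfsg.Agent.S3866

/-! Fusion systems on `2`-groups with an abelian maximal subgroup and a centre of order four. -/

set_option autoImplicit false
set_option linter.unusedSectionVars false

open Cfsg
open H5 H8 H28 H7 H21 Finset

namespace H3.KQ

local notation "Z" => Subgroup.zpowers
local notation "C" u:max => Subgroup.centralizer ({u} : Set _)
local notation "𝒵" => Subgroup.center
local notation "𝒟" => commutator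

variable {S : Type*} [Group S] [Finite S] {A Q : Subgroup S} {z ξ ξ' c c' u v w y y' : S}
  {R : S → S → Prop} {E : Subgroup (MulAut S)} {X : ∀ Q : Subgroup S, Subgroup (MulAut Q)}
  {α σ : MulAut S} {l : S →* ℂˣ}

theorem sq_mem_zpowers (h : z ^ 2 = 1) : u ∈ Z z ↔ u = 1 ∨ u = z := by
  refine ⟨?_, by rintro (rfl | rfl) <;> simp⟩
  rintro ⟨n, rfl⟩
  obtain ⟨k, rfl | rfl⟩ := Int.even_or_odd' n <;>
    simp [zpow_add, zpow_mul, show z ^ (2 : ℤ) = 1 from (zpow_ofNat z 2).trans h]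

theorem map_mem_commutator (α : MulAut S) (h : u ∈ 𝒟 S) : α u ∈ 𝒟 S :=
  Subgroup.characteristic_iff_map_le.1 inferInstance α ⟨u, h, rfl⟩

theorem conj_mem_commutator (s u : S) : u⁻¹ * (s * u * s⁻¹) ∈ 𝒟 S := by
  simpa [commutatorElement_def, mul_assoc, commutator_def] using
    Subgroup.commutator_mem_commutator (Subgroup.mem_top u⁻¹) (Subgroup.mem_top s)

theorem lin_commutator (l : S →* ℂˣ) (h : u ∈ 𝒟 S) : l u = 1 :=
  Abelianization.commutator_subset_ker l h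

theorem inv_mul_mem_of_relIndex_two {U V : Subgroup S} (h : U.relIndex V = 2) (hu : u ∈ V)
    (hv : v ∈ V) (h1 : u ∉ U) (h2 : v ∉ U) : u⁻¹ * v ∈ U := by
  simpa using H10.mul_inv_mem_of_relIndex_two h (V.inv_mem hu) (V.inv_mem hv) (by simpa using h1)
    (by simpa using h2)

theorem relIndex_of_card {U V : Subgroup S} {n : ℕ} (h : U ≤ V) (h1 : Nat.card V = Nat.card U * n) :
    U.relIndex V = n := by
  have := (U.subgroupOf V).card_mul_index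
  rw [card_subgroupOf_of_le h, h1] at this
  exact Nat.eq_of_mul_eq_mul_left Nat.card_pos this

theorem exists_conj_out (hA : IsMulCommutative A) (hi : A.index = 2) (hv : v ∉ A) :
    (∀ c ∈ 𝒟 S, ∃ a ∈ A, a * v * a⁻¹ = v * c) ∧ A ⊓ C v ≤ 𝒵 S ∧
      Nat.card (𝒟 S) * Nat.card (A ⊓ C v : Subgroup S) = Nat.card A := by
  have := A.normal_of_index_eq_two hi
  have h1 : ∀ v ∉ A, A ⊔ Z v = ⊤ := fun v hv => top_unique fun s _ => by
    by_cases hs : s ∈ A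
    · exact Subgroup.mem_sup_left hs
    · rw [← mul_inv_cancel_right s v, mul_assoc]
      have : s * v⁻¹ ∈ A := (A.mul_mem_iff_of_index_two hi).2 (by simp [hs, hv])
      rw [← mul_assoc, mul_inv_cancel_right, ← inv_mul_cancel_right s v]
      exact Subgroup.mul_mem_sup this (Subgroup.mem_zpowers v)
  refine ⟨fun c hc => ?_, fun a ha => mem_center_of_C (top_unique ?_),
    (Cfsg.Agent.S3866.result A hA v (h1 v hv)).2.2.2⟩
  · obtain ⟨a, h2, h3⟩ := (Cfsg.Agent.S3866.result A hA v⁻¹ (h1 _ (by simpa using hv))).2.1 c hc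
    exact ⟨a, h2, by rw [← h3]; group⟩
  · rw [← h1 v hv]
    exact sup_le (fun b hb => mem_C.2 (congrArg Subtype.val (hA.1.1 ⟨b, hb⟩ ⟨a, ha.1⟩)))
      (Subgroup.zpowers_le.2 (mem_C.2 (mem_C.1 ha.2).symm))

theorem Lf.exists_reg {A' : Type*} [Group A'] {f : S →* A'} {E' : Subgroup (MulAut A')} {p : ℕ}
    [hp : Fact p.Prime] (L : Lf f E E') {β : MulAut A'} (hβ : β ∈ E') (h : ¬ p ∣ orderOf β) :
    ∃ α ∈ fx E f.ker, ¬ p ∣ orderOf α ∧ ∀ y, f (α y) = β (f y) := by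
  obtain ⟨α, h1, h2⟩ := L.up β hβ
  obtain ⟨a, m, h3, h4⟩ := Nat.exists_eq_pow_mul_and_not_dvd (orderOf_pos α).ne' p hp.out.ne_one
  obtain ⟨k, h5⟩ := exists_pow_eq_self_of_coprime ((hp.out.coprime_iff_not_dvd.2 h).pow_left a)
  refine ⟨(α ^ p ^ a) ^ k, pow_mem (pow_mem h1 _) _, fun h6 => h3 (h6.trans
    ((orderOf_pow_dvd k).trans (orderOf_dvd_of_pow_eq_one ?_))), fun y => ?_⟩
  · rw [← pow_mul, ← h4, pow_orderOf_eq_one]
  · rw [← h5, ← pow_mul, ← pow_mul]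
    induction p ^ a * k with
    | zero => rfl
    | succ n ih => rw [pow_succ', pow_succ', MulAut.mul_apply, MulAut.mul_apply, h2, ih]

variable (A z) in
/-- a `2`-group with an abelian maximal subgroup and a centre of order four -/
structure LD : Prop where
  ab : IsMulCommutative A
  idx : A.index = 2
  cc : Nat.card (𝒵 S) = 4
  zc : z ∈ 𝒵 S
  zd : z ∈ 𝒟 S
  z1 : z ≠ 1
  uq : ∀ c ∈ 𝒵 S, c ∈ 𝒟 S → c = 1 ∨ c = z
  ess : ∀ Q : Subgroup S, Q ≠ ⊤ → 𝐂 Q ≤ Q → ∀ α : MulAut Q, ¬ 2 ∣ orderOf α → α ≠ 1 →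
    Nat.card Q = 8
  inv : ∀ v ∈ A, v ^ 2 = 1 → (∀ c ∈ 𝒵 S, c ^ 2 = 1) → v ∈ 𝒵 S
  aut : ∀ α : MulAut S, ¬ 2 ∣ orderOf α → α ≠ 1 → Nat.card S = 16
  cyc : (∀ c ∈ 𝒵 S, c ^ 2 = 1) ∨ Nat.card S = 16

namespace LD

variable (h : LD A z)
include h

theorem z_sq : z ^ 2 = 1 :=
  (h.uq _ (pow_mem h.zc 2) (pow_mem h.zd 2)).resolve_right fun h1 =>
    h.z1 (by simpa [sq] using h1)

theorem inf_eq : 𝒟 S ⊓ 𝒵 S = Z z := by
  ext c
  rw [sq_mem_zpowers h.z_sq]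
  exact ⟨fun h1 => h.uq c h1.2 h1.1, by
    rintro (rfl | rfl)
    exacts [one_mem _, ⟨h.zd, h.zc⟩]⟩

theorem card_z : Nat.card (Z z) = 2 := by
  rw [Nat.card_zpowers, orderOf_eq_prime h.z_sq h.z1]

theorem isP_z : IsPGroup 2 (Z z) := .of_card (n := 1) h.card_z

theorem rel : (𝒟 S).relIndex (𝒵 S) = 2 := by
  rw [← Subgroup.inf_relIndex_right]
  exact relIndex_of_card inf_le_right (by rw [h.inf_eq, h.card_z, h.cc])

theorem exists_xi : ∃ ξ ∈ 𝒵 S, ξ ∉ 𝒟 S := H10.exists_notMem_of_relIndex_two h.rel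

theorem cases (h1 : ξ ∈ 𝒵 S) (h2 : ξ ∉ 𝒟 S) (hc : c ∈ 𝒵 S) :
    c = 1 ∨ c = z ∨ c = ξ ∨ c = ξ * z := by
  by_cases h3 : c ∈ 𝒟 S
  · exact (h.uq c hc h3).imp_right .inl
  rcases h.uq _ (mul_mem (inv_mem h1) hc) (inv_mul_mem_of_relIndex_two h.rel h1 hc h2 h3) with
    h4 | h4
  · exact .inr (.inr (.inl (inv_mul_eq_one.1 h4).symm))
  · exact .inr (.inr (.inr (inv_mul_eq_iff_eq_mul.1 h4)))

theorem xi_sq (h1 : ξ ∈ 𝒵 S) : ξ ^ 2 = 1 ∨ ξ ^ 2 = z :=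
  h.uq _ (pow_mem h1 2) (Subgroup.sq_mem_of_index_two h.rel (⟨ξ, h1⟩ : 𝒵 S))

theorem xi_z (h2 : ξ ∉ 𝒟 S) : ξ * z ∉ 𝒟 S := by rwa [Subgroup.mul_mem_cancel_right _ h.zd]

theorem exists_out : ∃ v, v ∉ A :=
  let ⟨v, _, h1⟩ := H10.exists_notMem_of_relIndex_two (S := ⊤) (by simpa using h.idx); ⟨v, h1⟩

theorem center_le : 𝒵 S ≤ A := fun c hc => by
  by_contra h1
  have h2 := (exists_conj_out h.ab h.idx h1).1 z h.zd
  obtain ⟨a, -, h3⟩ := h2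
  rw [Subgroup.mem_center_iff.1 hc a, mul_inv_cancel_right, left_eq_mul] at h3
  exact h.z1 h3

theorem cent_out (hv : v ∉ A) : A ⊓ C v = 𝒵 S :=
  le_antisymm (exists_conj_out h.ab h.idx hv).2.1 (le_inf h.center_le (le_C_of_center le_rfl v))

theorem card_A : Nat.card (𝒟 S) * 4 = Nat.card A := by
  obtain ⟨v, hv⟩ := h.exists_out
  rw [← h.cc, ← h.cent_out hv, (exists_conj_out h.ab h.idx hv).2.2]

theorem card_S : Nat.card (𝒟 S) * 8 = Nat.card S := by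
  rw [← A.card_mul_index, h.idx, ← h.card_A]
  omega

theorem conj_out (hv : v ∉ A) (hc : c ∈ 𝒟 S) : ∃ s, s * v * s⁻¹ = v * c :=
  let ⟨a, _, h1⟩ := (exists_conj_out h.ab h.idx hv).1 c hc; ⟨a, h1⟩

theorem comm_le : 𝒟 S ≤ A := by
  have := A.normal_of_index_eq_two h.idx
  have : IsCyclic (S ⧸ A) := isCyclic_of_prime_card (p := 2) h.idx
  exact Subgroup.Normal.quotient_commutative_iff_commutator_le.1 inferInstance

theorem rel_sup : (𝒟 S ⊔ 𝒵 S).relIndex A = 2 := by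
  refine relIndex_of_card (sup_le h.comm_le h.center_le) ?_
  have h1 := (𝒵 S).relIndex_sup_right (𝒟 S)
  have h2 := ((𝒟 S).subgroupOf (𝒵 S ⊔ 𝒟 S)).card_mul_index
  rw [card_subgroupOf_of_le le_sup_right] at h2
  rw [← h.card_A, sup_comm, ← h2]
  rw [h.rel] at h1
  change _ = _ * (𝒟 S).relIndex _ * 2
  rw [h1]
  omega

theorem eq_z_of_card (h1 : Nat.card S = 16) (hc : c ∈ 𝒟 S) : c = 1 ∨ c = z := by
  have h2 := h.card_S
  rw [← sq_mem_zpowers h.z_sq, Subgroup.eq_of_le_of_card_ge (Subgroup.zpowers_le.2 h.zd)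
    (by rw [h.card_z]; omega)]
  exact hc

theorem conj_z (h1 : 𝐂 Q ≤ Q) (h2 : Nat.card Q = 8) (hy : y ∈ Q) (h3 : y ∉ 𝒵 S) :
    (𝒵 S).relIndex Q = 2 ∧ ∃ s, s * y * s⁻¹ = y * z := by
  have h4 : (𝒵 S).relIndex Q = 2 := relIndex_of_card (fun c hc => h1 (mem_centralizer'.2
    fun q _ => Subgroup.mem_center_iff.1 hc q)) (by rw [h.cc, h2])
  refine ⟨h4, ?_⟩
  by_cases h5 : y ∈ A
  swap
  · exact h.conj_out h5 h.zd
  have h6 : Q ≤ A := fun q hq => by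
    by_cases h6 : q ∈ 𝒵 S
    · exact h.center_le h6
    · simpa using A.mul_mem h5 (h.center_le (inv_mul_mem_of_relIndex_two h4 hy hq h3 h6))
  have h7 : A ≤ Q := fun a ha => h1 (mem_centralizer'.2 fun q hq =>
    congrArg Subtype.val (h.ab.1.1 ⟨q, h6 hq⟩ ⟨a, ha⟩))
  obtain rfl := le_antisymm h6 h7
  rw [Subgroup.mem_center_iff, not_forall] at h3
  obtain ⟨s, h8⟩ := h3
  rcases h.eq_z_of_card (by rw [← Q.card_mul_index, h2, h.idx]) (conj_mem_commutator s y) with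
    h9 | h9
  · exact absurd (mul_inv_eq_iff_eq_mul.1 (inv_mul_eq_one.1 h9).symm) h8
  · exact ⟨s, inv_mul_eq_iff_eq_mul.1 h9⟩

theorem map_z (α : MulAut S) : α z = z :=
  (h.uq _ (map_mem_center α h.zc) (map_mem_commutator α h.zd)).resolve_left (by simpa using h.z1)

theorem fix_odd (h1 : ¬ 2 ∣ orderOf α) (hc : c ∈ 𝒵 S) : α c = c := by
  by_cases h2 : c ∈ 𝒟 S
  · rcases h.uq c hc h2 with rfl | rfl
    exacts [map_one α, h.map_z α]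
  have h3 := h.uq _ (mul_mem (inv_mem hc) (map_mem_center α hc)) (inv_mul_mem_of_relIndex_two
    h.rel hc (map_mem_center α hc) h2 fun h3 => h2 (by simpa using map_mem_commutator α⁻¹ h3))
  refine fix_of_coprime h.isP_z h1 ((sq_mem_zpowers h.z_sq).2 h3) ?_
  rcases h3 with h3 | h3 <;> rw [h3]
  exacts [map_one α, h.map_z α]

end LD

variable (R z) in
/-- `y` is fused to `z` by a map fixing `ξ` -/
structure TC (ξ y : S) : Prop where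
  out : y ∉ 𝒵 S
  cen : ξ ∈ 𝒵 S
  nd : ξ ∉ 𝒟 S
  sq : ξ ^ 2 = 1
  r1 : R y z
  r2 : R (y * ξ) (z * ξ)

variable (R z) in
/-- the elements fused into the centre -/
def TA (u : S) : Prop := u ∈ 𝒵 S ∨ ∃ ξ y, TC z R ξ y ∧ y⁻¹ * u ∈ 𝒵 S

theorem TA.mul (h1 : TA z R u) (hc : c ∈ 𝒵 S) : TA z R (u * c) :=
  h1.imp (mul_mem · hc) fun ⟨ξ, y, h2, h3⟩ => ⟨ξ, y, h2, mul_assoc y⁻¹ u c ▸ mul_mem h3 hc⟩

namespace AF

variable {p : ℕ} (F : AF p R E X)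
include F

theorem symm (h : R u v) : R v u := F.eqv.symm h

theorem trans (h : R u v) (h' : R v w) : R u w := F.eqv.trans h h'

theorem conj (u s : S) : R u (s * u * s⁻¹) := F.top _ (F.innE s) u

theorem of_conj (h : ∃ s, s * u * s⁻¹ = v) : R u v := let ⟨s, h⟩ := h; h ▸ F.conj u s

theorem pow_eq_one {n : ℕ} (h : R u v) (h1 : v ^ n = 1) : u ^ n = 1 := by
  rwa [← orderOf_dvd_iff_pow_eq_one, F.ord h, orderOf_dvd_iff_pow_eq_one]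

theorem relE [Fact p.Prime] {W : S → S → Prop} (h1 : ∀ u v w, W u v → W v w → W u w)
    (h2 : ∀ u s, W u (s * u * s⁻¹))
    (h3 : ∀ α ∈ E, ¬ p ∣ orderOf α → α ≠ 1 → ∀ y, W y (α y)) : ∀ α ∈ E, ∀ y, W y (α y) :=
  rel_of_syl (ι := id) (by rintro _ ⟨s, rfl⟩; exact F.innE s) F.sylE h1
    (by rintro _ ⟨s, rfl⟩ y; exact h2 y s) h3

theorem conj_of_E [Fact p.Prime] (hI : ∀ α ∈ E, ¬ p ∣ orderOf α → α = 1) (hα : α ∈ E) (u : S) :
    ∃ s, s * u * s⁻¹ = α u :=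
  F.relE (W := fun u v => ∃ s, s * u * s⁻¹ = v)
    (fun _ _ _ ⟨s, h⟩ ⟨t, h'⟩ => ⟨t * s, by rw [← h', ← h]; group⟩) (fun _ s => ⟨s, rfl⟩)
    (fun α h1 h2 h3 => absurd (hI α h1 h2) h3) α hα u

end AF

namespace LD

variable (h : LD A z) (F : AF 2 R E X)
include h F

theorem fixE (hα : α ∈ E) (hc : c ∈ 𝒵 S) : α c = c :=
  (F.relE (W := fun u v => u ∈ 𝒵 S → u = v) (fun _ _ _ h1 h2 h3 => (h1 h3).trans (h2 (h1 h3 ▸ h3)))
    (fun u s hu => by rw [Subgroup.mem_center_iff.1 hu s, mul_inv_cancel_right])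
    (fun _ _ h1 _ _ h2 => (h.fix_odd h1 h2).symm) α hα c hc).symm

theorem unf (hc : c ∈ 𝒵 S) (hc' : c' ∈ 𝒵 S) (h1 : R c c') : c = c' :=
  let ⟨_, h2, h3⟩ := F.burn c hc c' hc' h1; (h.fixE F h2 hc).symm.trans h3

theorem tc_sq (t : TC z R ξ y) : y ^ 2 = 1 := F.pow_eq_one t.r1 h.z_sq

omit F in
theorem all_sq (h1 : ξ ∈ 𝒵 S) (h2 : ξ ∉ 𝒟 S) (h3 : ξ ^ 2 = 1) : ∀ c ∈ 𝒵 S, c ^ 2 = 1 := by
  intro c hc
  rcases h.cases h1 h2 hc with rfl | rfl | rfl | rfl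
  exacts [one_pow 2, h.z_sq, h3, by
    rw [Commute.mul_pow (Subgroup.mem_center_iff.1 h.zc ξ), h3, h.z_sq, mul_one]]

theorem tc_out (t : TC z R ξ y) : y ∉ A := fun h1 =>
  t.out (h.inv y h1 (h.tc_sq F t) (h.all_sq t.cen t.nd t.sq))

theorem r_out (hv : v ∉ A) (hc : c ∈ 𝒟 S) : R v (v * c) := F.of_conj (h.conj_out hv hc)

theorem tc_map (t : TC z R ξ y) (hα : α ∈ E) : TC z R ξ (α y) :=
  ⟨fun h1 => t.out (by simpa using map_mem_center α⁻¹ h1), t.cen, t.nd, t.sq,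
    F.trans (F.symm (F.top α hα y)) t.r1, F.trans (F.symm (by
      simpa [h.fixE F hα t.cen] using F.top α hα (y * ξ))) t.r2⟩

theorem ta_map (h1 : TA z R u) (hα : α ∈ E) : TA z R (α u) :=
  h1.imp (map_mem_center α) fun ⟨ξ, y, h2, h3⟩ => ⟨ξ, α y, h.tc_map F h2 hα, by
    simpa using map_mem_center α h3⟩

theorem ta_lin (h1 : TA z R u) : ∃ c ∈ 𝒵 S, R u c ∧
    ∀ l : S →* ℂˣ, (∀ ξ y, TC z R ξ y → l y = 1) → l u = l c := by
  rcases h1 with h1 | ⟨ξ, y, t, h1⟩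
  · exact ⟨u, h1, F.eqv.refl u, fun _ _ => rfl⟩
  have h2 := h.tc_out F t
  have h3 : y * ξ ∉ A := by rwa [A.mul_mem_cancel_right (h.center_le t.cen)]
  obtain ⟨c, hc, rfl⟩ : ∃ c ∈ 𝒵 S, u = y * c := ⟨_, h1, by simp⟩
  rcases h.cases t.cen t.nd hc with rfl | rfl | rfl | rfl
  · exact ⟨z, h.zc, by simpa using t.r1, fun l hl => by simp [hl _ _ t, lin_commutator l h.zd]⟩
  · exact ⟨c, h.zc, F.trans (F.symm (h.r_out F h2 h.zd)) t.r1, fun l hl => by simp [hl _ _ t]⟩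
  · exact ⟨_, mul_mem h.zc t.cen, t.r2, fun l hl => by simp [hl _ _ t, lin_commutator l h.zd]⟩
  · exact ⟨_, mul_mem h.zc t.cen, F.trans (F.symm (mul_assoc y ξ z ▸ h.r_out F h3 h.zd)) t.r2,
      fun l hl => by simp [hl _ _ t, lin_commutator l h.zd]⟩

theorem typeA (hQ : Q ≠ ⊤) (h1 : 𝐂 Q ≤ Q) {α : MulAut Q} (hα : α ∈ X Q) (h2 : ¬ 2 ∣ orderOf α)
    (h3 : α ≠ 1) (hu : u ∈ Q) : TA z R u := by
  by_cases h0 : u ∈ 𝒵 S
  · exact .inl h0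
  have h4 := h.ess Q hQ h1 α h2 h3
  have h5 := (h.conj_z h1 h4 hu h0).1
  have h6 : 𝒵 S ≤ Q := fun c hc => h1 (mem_centralizer'.2 fun q _ => Subgroup.mem_center_iff.1 hc q)
  have h7 : ∀ c : Q, c.1 ∈ 𝒵 S → (α c).1 ∈ 𝒵 S → α c = c := fun c h7 h8 =>
    Subtype.ext (h.unf F h7 h8 (F.aut Q α hα c)).symm
  have h8 : ∀ a b : Q, (α a).1 ∉ 𝒵 S → (α b).1 ∉ 𝒵 S → (α (a⁻¹ * b)).1 ∈ 𝒵 S := fun a b ha hb => by
    simpa using inv_mul_mem_of_relIndex_two h5 (α a).2 (α b).2 ha hb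
  obtain ⟨ξ, h9, h10⟩ := h.exists_xi
  by_cases h11 : (α ⟨z, h6 h.zc⟩).1 ∈ 𝒵 S
  · exfalso
    have h12 := h7 _ h.zc h11
    by_cases h13 : (α ⟨ξ, h6 h9⟩).1 ∈ 𝒵 S
    · have h14 : ∀ c : Q, c.1 ∈ 𝒵 S → α c = c := fun ⟨c, hc⟩ h14 => by
        rcases h.cases h9 h10 h14 with rfl | rfl | rfl | rfl
        exacts [map_one α, h12, h7 _ h9 h13, (map_mul α ⟨ξ, h6 h9⟩ ⟨z, h6 h.zc⟩).trans (by
          rw [h12, h7 _ h9 h13])]
      refine h3 (MulEquiv.ext fun q => ?_)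
      by_cases hq : q.1 ∈ 𝒵 S
      · exact h14 q hq
      have h15 : (q⁻¹ * α q).1 ∈ 𝒵 S := inv_mul_mem_of_relIndex_two h5 q.2 (α q).2 hq fun h15 =>
        hq (α.injective (h14 _ h15) ▸ h15)
      exact fix_of_coprime (K := (𝒵 S).subgroupOf Q) ((F.isP.to_subgroup Q).to_subgroup _) h2 h15
        (h14 _ h15)
    · have h14 := F.aut Q α hα (⟨ξ, h6 h9⟩ * ⟨z, h6 h.zc⟩)
      rw [map_mul, h12] at h14
      have := h.unf F h9 (mul_mem h9 h.zc) (F.trans (F.trans (F.aut Q α hα ⟨ξ, h6 h9⟩)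
        (F.of_conj (h.conj_z h1 h4 (α _).2 h13).2)) (F.symm h14))
      exact h.z1 (left_eq_mul.1 this)
  obtain ⟨ξ, h9, h10, h12⟩ : ∃ ξ, ∃ h9 : ξ ∈ 𝒵 S, ξ ∉ 𝒟 S ∧ (α ⟨ξ, h6 h9⟩).1 ∈ 𝒵 S := by
    by_cases h12 : (α ⟨ξ, h6 h9⟩).1 ∈ 𝒵 S
    · exact ⟨ξ, h9, h10, h12⟩
    · exact ⟨z⁻¹ * ξ, mul_mem (inv_mem h.zc) h9, by
        rwa [Subgroup.mul_mem_cancel_left _ (inv_mem h.zd)], h8 _ _ h11 h12⟩
  have h13 := h7 _ h9 h12
  refine .inr ⟨ξ, α ⟨z, h6 h.zc⟩, ⟨h11, h9, h10, (h.xi_sq h9).resolve_right fun h14 => h11 ?_,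
    F.symm (F.aut Q α hα ⟨z, h6 h.zc⟩), F.symm ?_⟩, inv_mul_mem_of_relIndex_two h5 (α _).2 hu h11 h0⟩
  · rw [show (⟨z, h6 h.zc⟩ : Q) = ⟨ξ, h6 h9⟩ ^ 2 from Subtype.ext h14.symm, map_pow, h13]
    exact pow_mem h9 2
  · have := F.aut Q α hα (⟨z, h6 h.zc⟩ * ⟨ξ, h6 h9⟩)
    rwa [map_mul, h13] at this

theorem dich (h1 : R u v) : (∃ α ∈ E, α u = v) ∨ TA z R u := by
  refine F.ind (fun u v => (∃ α ∈ E, α u = v) ∨ TA z R u) ?_ (fun u s => .inl ⟨_, F.innE s, rfl⟩)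
    (fun α h2 _ u => .inl ⟨α, h2, rfl⟩)
    (fun Q h2 h3 _ α h4 h5 h6 y => .inr (h.typeA F h2 h3 h4 h5 h6 y.2)) u v h1
  rintro u v w (⟨α, h2, rfl⟩ | h2) (⟨β, h3, rfl⟩ | h3)
  · exact .inl ⟨β * α, mul_mem h3 h2, rfl⟩
  · exact .inr (by simpa using h.ta_map F h3 (inv_mem h2))
  all_goals exact .inr h2

theorem ta_of_r (h1 : R u v) (h2 : TA z R v) : TA z R u :=
  (h.dich F h1).elim (fun ⟨α, h3, h4⟩ => by
    subst h4; simpa using h.ta_map F h2 (inv_mem h3)) id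

theorem lin_inv (h1 : ∀ α ∈ E, ∀ u, l (α u) = l u) (h2 : ∀ ξ y, TC z R ξ y → l y = 1)
    (h3 : R u v) : l u = l v := by
  rcases h.dich F h3 with ⟨α, h4, rfl⟩ | h4
  · exact (h1 α h4 u).symm
  obtain ⟨c, h5, h6, h7⟩ := h.ta_lin F h4
  obtain ⟨c', h8, h9, h10⟩ := h.ta_lin F (h.ta_of_r F (F.symm h3) h4)
  rw [h7 l h2, h10 l h2, h.unf F h5 h8 (F.trans (F.symm h6) (F.trans h3 h9))]

theorem tc_conj (t : TC z R ξ y) (t' : TC z R ξ' y') (h1 : y⁻¹ * y' ∈ 𝒟 S ⊔ 𝒵 S) :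
    y⁻¹ * y' ∈ 𝒟 S ∧ ξ = ξ' := by
  obtain ⟨d, hd, c, hc, h2⟩ := Subgroup.mem_sup_of_normal_right.1 h1
  have h3 := h.tc_out F t
  have h4 : ∀ c ∈ 𝒵 S, R (y * c) (y * d * c) := fun c hc => by
    rw [mul_assoc y d, Subgroup.mem_center_iff.1 hc d, ← mul_assoc]
    exact h.r_out F (by rwa [A.mul_mem_cancel_right (h.center_le hc)]) hd
  have h5 : ∀ ξ', ξ' ∈ 𝒵 S → ξ' ∉ 𝒟 S → R (y * ξ') (z * ξ) := fun ξ' h5 h6 => by
    rcases h.cases t.cen t.nd h5 with rfl | rfl | rfl | rfl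
    exacts [absurd (one_mem _) h6, absurd h.zd h6, t.r2, F.trans (F.symm (mul_assoc y ξ z ▸
      h.r_out F (by rwa [A.mul_mem_cancel_right (h.center_le t.cen)]) h.zd)) t.r2]
  obtain rfl : y' = y * d * c := by rw [mul_assoc, h2, mul_inv_cancel_left]
  have h6 : c ∈ 𝒟 S := by_contra fun h6 => t.nd <| by
    rw [left_eq_mul.1 (h.unf F h.zc (mul_mem h.zc t.cen)
      (F.trans (F.symm t'.r1) (F.trans (F.symm (h4 c hc)) (h5 c hc h6))))]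
    exact one_mem _
  refine ⟨h2 ▸ mul_mem hd h6, mul_left_cancel (h.unf F (mul_mem h.zc t.cen) (mul_mem h.zc t'.cen)
    (F.trans (F.symm (h5 _ (mul_mem hc t'.cen) ?_)) (F.trans (h4 _ (mul_mem hc t'.cen)) ?_)))⟩
  · exact (Subgroup.mul_mem_cancel_left _ h6).not.2 t'.nd
  · exact mul_assoc (y * d) c ξ' ▸ t'.r2

theorem tc_three {ξ₁ ξ₂ ξ₃ y₁ y₂ y₃ : S} (t₁ : TC z R ξ₁ y₁) (t₂ : TC z R ξ₂ y₂)
    (t₃ : TC z R ξ₃ y₃) (h1 : y₁⁻¹ * y₂ ∉ 𝒟 S ⊔ 𝒵 S) :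
    y₁⁻¹ * y₃ ∈ 𝒟 S ⊔ 𝒵 S ∨ y₂⁻¹ * y₃ ∈ 𝒟 S ⊔ 𝒵 S := by
  have h2 : ∀ {ξ ξ' y y'}, TC z R ξ y → TC z R ξ' y' → y⁻¹ * y' ∈ A := fun t t' =>
    (A.mul_mem_iff_of_index_two h.idx).2 (by simp [h.tc_out F t, h.tc_out F t'])
  refine or_iff_not_imp_left.2 fun h3 => ?_
  simpa [mul_assoc] using inv_mul_mem_of_relIndex_two h.rel_sup (h2 t₁ t₂) (h2 t₁ t₃) h1 h3

theorem not_tc {y₁ y₂ : S} (t₁ : TC z R ξ y₁) (t₂ : TC z R ξ y₂) (h1 : y₁⁻¹ * y₂ ∉ 𝒟 S ⊔ 𝒵 S) :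
    ¬ TC z R (ξ * z) y := fun t =>
  h.z1 (left_eq_mul.1 ((h.tc_three F t₁ t₂ t h1).elim (fun h2 => (h.tc_conj F t₁ t h2).2)
    fun h2 => (h.tc_conj F t₂ t h2).2))

theorem exists_lin (hI : ∀ α ∈ E, ¬ 2 ∣ orderOf α → α = 1) (h1 : ξ ∈ 𝒵 S) (h2 : ξ ∉ 𝒟 S) :
    ∃ l : S →* ℂˣ, l ξ ≠ 1 ∧ ∀ u v, R u v → l u = l v := by
  let f := Abelianization.of (G := S)
  have hf : ∀ {a b : S}, f a = f b ↔ a⁻¹ * b ∈ 𝒟 S := QuotientGroup.eq
  suffices ∃ N : Subgroup (Abelianization S), f ξ ∉ N ∧ ∀ ξ y, TC z R ξ y → f y ∈ N by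
    obtain ⟨N, h3, h4⟩ := this
    obtain ⟨μ, h5⟩ := exists_unitsHom_ne_one (mt (QuotientGroup.eq_one_iff _).1 h3)
    refine ⟨(μ.comp (QuotientGroup.mk' N)).comp f, h5, fun u v => h.lin_inv F (fun α hα u => ?_)
      fun ξ y t => by simp [(QuotientGroup.eq_one_iff _).2 (h4 ξ y t)]⟩
    obtain ⟨s, h6⟩ := F.conj_of_E hI hα u
    simp [← h6]
  have h3 : f ξ ≠ 1 := fun h3 => h2 ((QuotientGroup.eq_one_iff _).1 h3)
  have h4 : ∀ {ξ y}, TC z R ξ y → f y ^ 2 = 1 := fun t => by rw [← map_pow, h.tc_sq F t, map_one]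
  have h5 : ∀ {ξ' y}, TC z R ξ' y → f ξ ≠ f y := fun t h5 => h.tc_out F t (by
    simpa using A.mul_mem (h.center_le h1) (h.comm_le (hf.1 h5)))
  by_cases h6 : ∃ ξ y, TC z R ξ y
  swap
  · exact ⟨⊥, h3, fun ξ y t => absurd ⟨ξ, y, t⟩ h6⟩
  obtain ⟨ξ₁, y₁, t₁⟩ := h6
  by_cases h6 : ∃ ξ y, TC z R ξ y ∧ y₁⁻¹ * y ∉ 𝒟 S ⊔ 𝒵 S
  swap
  · push Not at h6
    refine ⟨Z (f y₁), by simp [sq_mem_zpowers (h4 t₁), h3, h5 t₁], fun ξ y t => ?_⟩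
    rw [← hf.2 (h.tc_conj F t₁ t (h6 ξ y t)).1]
    exact Subgroup.mem_zpowers _
  obtain ⟨ξ₂, y₂, t₂, h6⟩ := h6
  refine ⟨Z (f y₁) ⊔ Z (f y₂), fun h7 => ?_, fun ξ y t => ?_⟩
  · obtain ⟨a, ha, b, hb, h8⟩ := Subgroup.mem_sup.1 h7
    rcases (sq_mem_zpowers (h4 t₁)).1 ha with rfl | rfl <;>
      rcases (sq_mem_zpowers (h4 t₂)).1 hb with rfl | rfl
    · exact h3 (by simpa using h8.symm)
    · exact h5 t₂ (by simpa using h8.symm)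
    · exact h5 t₁ (by simpa using h8.symm)
    · rw [← map_mul, ← inv_eq_of_mul_eq_one_right ((sq y₁).symm.trans (h.tc_sq F t₁)), eq_comm,
        hf] at h8
      exact h6 (by simpa using mul_mem (Subgroup.mem_sup_right h1) (Subgroup.mem_sup_left h8))
  · rcases h.tc_three F t₁ t₂ t h6 with h7 | h7
    · exact hf.2 (h.tc_conj F t₁ t h7).1 ▸ Subgroup.mem_sup_left (Subgroup.mem_zpowers _)
    · exact hf.2 (h.tc_conj F t₂ t h7).1 ▸ Subgroup.mem_sup_right (Subgroup.mem_zpowers _)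

omit F in
theorem free (h1 : ¬ 2 ∣ orderOf σ) (h2 : σ ≠ 1) (hS : IsPGroup 2 S) (hu : u ∉ 𝒵 S) :
    u⁻¹ * σ u ∉ 𝒵 S := fun h3 => by
  have h4 := fix_of_coprime (hS.to_subgroup _) h1 h3 (h.fix_odd h1 h3)
  have h5 : 𝒵 S < Fx σ := lt_of_le_of_ne (fun c hc => h.fix_odd h1 hc) fun h5 => hu (h5 ▸ h4)
  have h6 := two_mul_le_of_lt h5
  have h7 := (Fx σ).card_mul_index
  have h8 := card_Fx_lt h2
  rw [h.cc] at h6
  rw [h.aut σ h1 h2] at h7 h8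
  have h9 : (Fx σ).index = 2 := by
    generalize (Fx σ).index = n at h7
    rcases n with _ | _ | _ | n <;> nlinarith
  refine h2 (MulEquiv.ext fun s => ?_)
  have h10 : s⁻¹ * σ s ∈ Fx σ := ((Fx σ).mul_mem_iff_of_index_two h9).2 (by
    simp only [inv_mem_iff, mem_Fx, σ.injective.eq_iff])
  exact fix_of_coprime (hS.to_subgroup _) h1 h10 h10

theorem no_tc (hσ : σ ∈ E) (h1 : ¬ 2 ∣ orderOf σ) (h2 : σ ≠ 1) : ¬ TC z R ξ y := fun t => by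
  have h3 : (𝒵 S).relIndex A = 2 := relIndex_of_card h.center_le (by
    have := h.card_S
    rw [h.aut σ h1 h2] at this
    rw [← h.card_A, h.cc]
    omega)
  have t' := h.tc_map F t hσ
  have h4 : ∀ {y y'}, TC z R ξ y → TC z R ξ y' → y⁻¹ * y' ∈ A := fun t t' =>
    (A.mul_mem_iff_of_index_two h.idx).2 (by simp [h.tc_out F t, h.tc_out F t'])
  have h5 := h.free h1 h2 F.isP t.out
  refine h.free h1 h2 F.isP h5 (inv_mul_mem_of_relIndex_two h3 (h4 t t') ?_ h5 ?_)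
  · simpa using h4 t' (h.tc_map F t' hσ)
  · simpa using h.free h1 h2 F.isP t'.out

theorem two {A' : Type*} [Group A'] [Finite A'] [IsMulCommutative A'] {f : S →* A'}
    {E' : Subgroup (MulAut A')} (L : Lf f E E') (hk : f.ker = Z z) (hE : ¬ 2 ∣ Nat.card E')
    (hσ : σ ∈ E) (h1 : ¬ 2 ∣ orderOf σ) (h2 : σ ≠ 1) (h3 : ξ ∈ 𝒵 S) (h4 : ξ ∉ 𝒟 S) :
    (∃ l : S →* ℂˣ, l ξ ≠ 1 ∧ ∀ u v, R u v → l u = l v) ∧ Nat.card E' = 3 := by
  have k1 : ∀ α ∈ E, α ∈ fx E f.ker := fun α hα => hk ▸ mem_fx_zpowers.2 ⟨hα, h.map_z α⟩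
  have k2 : ∀ {u}, u ∈ f.ker → u ∈ 𝒵 S ∧ u ∈ 𝒟 S := fun hu => by
    rw [hk, ← h.inf_eq] at hu
    exact hu.symm
  have k3 : f ξ ≠ 1 := fun h5 => h4 (k2 h5).2
  have k4 : ∀ β ∈ E', β (f ξ) = f ξ := fun β hβ => by
    obtain ⟨α, h5, h6⟩ := L.up β hβ
    rw [← h6, h.fixE F (fx_le h5) h3]
  constructor
  · obtain ⟨π, h5, h6⟩ := exists_normHom E'
    obtain ⟨μ, h7⟩ := exists_unitsHom_ne_one (a := π (f ξ)) (by
      obtain ⟨k, h7⟩ := Nat.odd_iff.2 (Nat.two_dvd_ne_zero.1 hE)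
      rwa [h6 _ k4, h7, pow_succ, pow_mul, ← map_pow, show f (ξ ^ 2) = 1 from
        hk.ge ((sq_mem_zpowers h.z_sq).2 (h.xi_sq h3)), one_pow, one_mul])
    refine ⟨(μ.comp π).comp f, h7, fun u v => h.lin_inv F (fun α hα u => ?_)
      fun _ _ t => absurd t (h.no_tc F hσ h1 h2)⟩
    obtain ⟨β, h8, h9⟩ := L.down α (k1 α hα)
    simp [h9, h5 β h8]
  have k5 : Nat.card A' = 8 := by
    have := f.ker.card_mul_index
    rw [h.aut σ h1 h2, Subgroup.index_ker, MonoidHom.range_eq_top.2 L.surj, Subgroup.card_top, hk,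
      h.card_z] at this
    omega
  obtain ⟨u, hu⟩ := h.exists_out
  have hu' : u ∉ 𝒵 S := fun h5 => hu (h.center_le h5)
  have k6 : ∀ {α : MulAut S}, f (α u) = f u → ¬ 2 ∣ orderOf α → α = 1 := fun {α} h5 h6 => by_contra fun h7 =>
    h.free h6 h7 F.isP hu' (k2 (by rw [MonoidHom.mem_ker, map_mul, h5, map_inv, inv_mul_cancel])).1
  have k7 := card_orbit_mul E' (f u)
  rw [show fx E' (Z (f u)) = ⊥ from eq_bot_iff.2 fun β hβ => by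
    obtain ⟨h5, h6⟩ := mem_fx_zpowers.1 hβ
    obtain ⟨α, -, h7, h8⟩ := L.exists_reg h5 (not_dvd_orderOf hE h5)
    refine MulEquiv.ext fun y => ?_
    obtain ⟨y, rfl⟩ := L.surj y
    rw [← h8, k6 ((h8 u).trans h6) h7]
    rfl, Subgroup.card_bot, mul_one] at k7
  have k8 : Nat.card E' ≤ 8 := k7 ▸ k5 ▸ Nat.card_le_card_of_injective _ Subtype.val_injective
  have k9 : ∀ q, q.Prime → q ∣ Nat.card E' → q ∣ 6 ∨ q ∣ 4 := fun q hq h5 => by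
    obtain ⟨β, h6, h7⟩ := exists_mem_orderOf hq h5
    have := Fact.mk hq
    have h8 := card_modEq_Fx_top (pow_eq_one_of_orderOf h7)
    have h9 := card_Fx_lt (ne_one_of_orderOf hq h7)
    have h10 := one_lt_card_of_mem (V := Fx β) (k4 β h6) k3
    have h11 := (Fx β).card_subgroup_dvd_card
    rw [k5] at h8 h9 h11
    generalize Nat.card (Fx β) = n at *
    have := (Nat.modEq_iff_dvd' h9.le).1 h8.symm
    interval_cases n <;> simp_all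
  have k10 : Nat.card E' ≠ 1 := fun h5 => by
    obtain ⟨β, h6, h7⟩ := L.down σ (k1 σ hσ)
    rw [Subgroup.card_eq_one.1 h5, Subgroup.mem_bot] at h6
    exact h2 (k6 (by rw [h7, h6]; rfl) h1)
  have k11 := k9 5 (by norm_num)
  have k12 := k9 7 (by norm_num)
  generalize Nat.card E' = n at *
  interval_cases n <;> simp_all

theorem sum_eq {Y : Finset S} (hY : ∀ u, ∃! y, y ∈ Y ∧ R u y) {r : S → ℂ}
    (h1 : ∀ u v, R u v → r u = r v) (h2 : ∀ u, ¬ TA z R u → r u = 1) (h3 : ξ ∈ 𝒵 S)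
    (h4 : ξ ∉ 𝒟 S) (h5 : l ξ ≠ 1) (h6 : ∀ u v, R u v → l u = l v) :
    ∑ y ∈ Y, l y * r y = r 1 + r z - r ξ - r (ξ * z) := by
  classical
  have k1 := lin_commutator l h.zd
  have k2 : (l ξ : ℂ) = -1 := sq_eq_one_iff.1 (by
    rw [← Units.val_pow_eq_pow_val, ← map_pow]
    rcases h.xi_sq h3 with h7 | h7 <;> simp [h7, k1]) |>.resolve_left (by simpa using h5)
  have k3 : ∀ {u v c}, c ∈ 𝒵 S → ¬ TA z R u → R u v → R (u * c) (v * c) := fun {u v c} hc h7 h8 => by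
    obtain ⟨α, h9, rfl⟩ := (h.dich F h8).resolve_right h7
    simpa [h.fixE F h9 hc] using F.top α h9 (u * c)
  have k4 : ∀ {u c}, c ∈ 𝒵 S → ¬ TA z R u → ¬ TA z R (u * c) := fun hc h7 h8 =>
    h7 (by simpa using h8.mul (inv_mem hc))
  rw [← sum_filter_add_sum_filter_not Y (TA z R), sum_eq_of_rel _ {1, z, ξ, ξ * z} R
    (F' := fun y => l y * r y) (fun y hy => ?_) (fun c hc => ?_)
    fun _ _ _ _ h7 => by rw [h1 _ _ h7, h6 _ _ h7]]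
  · have h7 := sum_eq_of_rel (Y.filter (¬ TA z R ·)) (Y.filter (¬ TA z R ·))
      (fun a b => R (a * ξ) b) (F := fun y => -(l y * r y)) (F' := fun y => l y * r y)
      (fun a ha => ?_) (fun b hb => ?_) fun a ha b hb h7 => by
        rw [← h6 _ _ h7, h2 _ (mem_filter.1 ha).2, h2 _ (mem_filter.1 hb).2]
        simp [k2]
    · rw [sum_neg_distrib, neg_eq_iff_add_eq_zero, add_self_eq_zero] at h7
      have h8 : ξ ≠ 1 := fun h8 => h4 (h8 ▸ one_mem _)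
      have h9 : ξ * z ≠ 1 := fun h8 => h.xi_z h4 (h8 ▸ one_mem _)
      have h10 : ξ ≠ z := fun h8 => h4 (h8 ▸ h.zd)
      rw [h7, sum_insert (by simp [h.z1.symm, h8.symm, h9.symm]),
        sum_insert (by simp [h10.symm, h8]), sum_pair (by simp [h.z1])]
      simp [k1, k2]
      ring
    · obtain ⟨b, ⟨h7, h8⟩, h9⟩ := hY (a * ξ)
      exact ⟨b, ⟨mem_filter.2 ⟨h7, fun h10 => k4 h3 (mem_filter.1 ha).2 (h.ta_of_r F h8 h10)⟩, h8⟩,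
        fun c hc => h9 c ⟨(mem_filter.1 hc.1).1, hc.2⟩⟩
    · obtain ⟨a, ⟨h7, h8⟩, h9⟩ := hY (b * ξ⁻¹)
      have h10 := k4 (inv_mem h3) (mem_filter.1 hb).2
      refine ⟨a, ⟨mem_filter.2 ⟨h7, fun h11 => h10 (h.ta_of_r F h8 h11)⟩, F.symm ?_⟩,
        fun c hc => h9 c ⟨(mem_filter.1 hc.1).1, F.symm ?_⟩⟩
      · simpa using k3 h3 h10 h8
      · simpa using k3 (inv_mem h3) (k4 h3 (mem_filter.1 hc.1).2) hc.2
  · obtain ⟨c, h7, h8, -⟩ := h.ta_lin F (mem_filter.1 hy).2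
    refine ⟨c, ⟨by simpa using h.cases h3 h4 h7, h8⟩, fun c' hc => h.unf F ?_ h7
      (F.trans (F.symm hc.2) h8)⟩
    have := hc.1
    simp only [mem_insert, mem_singleton] at this
    rcases this with rfl | rfl | rfl | rfl
    exacts [one_mem _, h.zc, h3, mul_mem h3 h.zc]
  · obtain ⟨y, ⟨h7, h8⟩, h9⟩ := hY c
    refine ⟨y, ⟨mem_filter.2 ⟨h7, h.ta_of_r F (F.symm h8) (.inl ?_)⟩, F.symm h8⟩,
      fun a ha => h9 a ⟨(mem_filter.1 ha.1).1, F.symm ha.2⟩⟩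
    simp only [mem_insert, mem_singleton] at hc
    rcases hc with rfl | rfl | rfl | rfl
    exacts [one_mem _, h.zc, h3, mul_mem h3 h.zc]

end LD

end H3.KQ
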