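import Cfsg.Agent.H3.KQ10
import Cfsg.Agent.H10.Taussky

/-! At most three Brauer characters for the defect groups of `LD`. -/

set_option autoImplicit false
set_option linter.unusedSectionVars false

open Cfsg MonoidAlgebra
open H5 H8 H28 H7 H21 Finset
open H25 (ex im)
open H10 (MC mcZ)

namespace H3.KQ

local notation "Z" => Subgroup.zpowers
local notation "C" u:max => Subgroup.centralizer ({u} : Set _)
local notation "𝒵" => Subgroup.center
local notation "𝒟" => commutator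

section Grp

variable {S : Type*} [Group S] [Finite S] {A K : Subgroup S} {z ξ u v w : S}
  {R : S → S → Prop} {E : Subgroup (MulAut S)} {X : ∀ Q : Subgroup S, Subgroup (MulAut Q)}

theorem card_dvd_four (h : Nat.card S ∣ 4) (hE : ¬ 2 ∣ Nat.card E) : Nat.card E ∣ 3 := by
  obtain ⟨n, h1, h2⟩ := (Nat.dvd_prime_pow Nat.prime_two (m := 2)).1 h
  obtain ⟨s, h3, h4⟩ := (Nat.dvd_prime_pow Nat.prime_two).1 (h2 ▸ (frattini S).index_dvd_card)
  refine dvd_of_aut_dvd hE (b := 1) (Cfsg.Agent.S4208.result h2 h4) ?_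
  have : s ≤ 2 := h3.trans h1
  interval_cases s <;> decide

theorem eq_of_index_two (h : A ≤ K) (h1 : A.index = 2) (h2 : K ≠ ⊤) : A = K := by
  have h3 := Subgroup.relIndex_mul_index h
  have h4 := (Nat.dvd_prime Nat.prime_two).1 (h1 ▸ Subgroup.index_dvd_of_le h)
  rw [h4.resolve_left (mt Subgroup.index_eq_one.1 h2), h1] at h3
  exact le_antisymm h (Subgroup.relIndex_eq_one.1 (by omega))

theorem Lf.card_one {A' : Type*} [Group A'] [Finite A'] {f : S →* A'} {E' : Subgroup (MulAut A')}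
    {p : ℕ} [Fact p.Prime] (L : Lf f E E') (hE : ¬ p ∣ Nat.card E')
    (h : ∀ α ∈ fx E f.ker, ¬ p ∣ orderOf α → α = 1) : Nat.card E' = 1 := by
  refine Subgroup.card_eq_one.2 (eq_bot_iff.2 fun β hβ => MulEquiv.ext fun y => ?_)
  obtain ⟨α, h1, h2, h3⟩ := L.exists_reg hβ (not_dvd_orderOf hE hβ)
  obtain ⟨y, rfl⟩ := L.surj y
  rw [← h3, h α h1 h2]
  rfl

theorem card_C_map (α : MulAut S) (u : S) : Nat.card (C (α u)) = Nat.card (C u) := by
  refine (Nat.card_congr (α.toEquiv.subtypeEquiv fun a => ?_)).symm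
  simp only [mem_C, MulEquiv.toEquiv_eq_coe, EquivLike.coe_coe, ← map_mul, α.injective.eq_iff]

theorem map_C {G : Type*} [Group G] {P : Subgroup G} (u : P) :
    (C u).map P.subtype = P ⊓ C (u : G) := by
  ext a
  simp only [Subgroup.mem_map, Subgroup.mem_inf, Subgroup.mem_centralizer_singleton_iff]
  exact ⟨by rintro ⟨a, h, rfl⟩; exact ⟨a.2, congrArg Subtype.val h⟩,
    fun h => ⟨⟨a, h.1⟩, Subtype.ext h.2, rfl⟩⟩

theorem card_C {G : Type*} [Group G] {P : Subgroup G} (u : P) :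
    Nat.card (P ⊓ C (u : G) : Subgroup G) = Nat.card (C u) := by
  rw [← map_C, Subgroup.card_map_of_injective P.subtype_injective]

theorem exists_mc {P : Subgroup S} (hP : IsPGroup 2 P) (h4 : (𝒟 P).index ≤ 4)
    (h8 : 4 < Nat.card P) : ∃ n x e, MC P n x e := by
  obtain ⟨n, x, e, m⟩ := H10.taussky_mc hP h4 h8
  exact ⟨n, x, e, x.2, by rw [Subgroup.orderOf_coe, m.ord], m.two_le, by
    rw [← m.idx, Subgroup.relIndex_top_right, ← P.coe_subtype, ← MonoidHom.map_zpowers,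
      Subgroup.relIndex, Subgroup.subgroupOf,
      Subgroup.comap_map_eq_self_of_injective P.subtype_injective], m.odd, fun w hw h1 =>
    congrArg Subtype.val (m.conj ⟨w, hw⟩ trivial fun ⟨k, e⟩ => h1 ⟨k, congrArg Subtype.val e⟩)⟩

theorem cent_comm_of (h2 : ∀ a ∈ C u, a ∈ 𝒵 S ∨ u⁻¹ * a ∈ 𝒵 S) : C u ≤ 𝐂 (C u) := by
  refine fun a ha => mem_centralizer'.2 fun b hb => ?_
  rcases h2 a ha with h3 | h3
  · exact Subgroup.mem_center_iff.1 h3 b
  · rw [← mul_inv_cancel_left u a, ← mul_assoc, mem_C.1 hb, mul_assoc,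
      Subgroup.mem_center_iff.1 h3 b, mul_assoc u]

namespace LD

variable (h : LD A z)
include h

theorem cent_comm (hu : u ∉ 𝒵 S) : C u ≤ 𝐂 (C u) := by
  by_cases h1 : u ∈ A
  · have h2 : A ≤ C u := fun a ha => mem_C.2 (congrArg Subtype.val (h.ab.1.1 ⟨a, ha⟩ ⟨u, h1⟩))
    rw [← eq_of_index_two h2 h.idx (mt mem_center_of_C hu)]
    exact le_centralizer_self_iff.2 h.ab
  refine cent_comm_of fun a ha => ?_
  rw [← h.cent_out h1]
  by_cases h2 : a ∈ A
  · exact .inl ⟨h2, ha⟩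
  · exact .inr ⟨(A.mul_mem_iff_of_index_two h.idx).2 (by simp [h1, h2]),
      (C u).mul_mem (inv_mem (mem_C.2 rfl)) ha⟩

theorem index_sup (h1 : ξ ∈ 𝒵 S) (h2 : ξ ∉ 𝒟 S) : (𝒟 S ⊔ Z ξ).index = 4 := by
  have h3 : 𝒟 S ⊔ Z ξ = 𝒟 S ⊔ 𝒵 S := le_antisymm (sup_le_sup_left (Subgroup.zpowers_le.2 h1) _)
    (sup_le le_sup_left fun c hc => by
      have h3 := Subgroup.mem_sup_right (S := 𝒟 S) (Subgroup.mem_zpowers ξ)
      rcases h.cases h1 h2 hc with rfl | rfl | rfl | rfl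
      exacts [one_mem _, Subgroup.mem_sup_left h.zd, h3, mul_mem h3 (Subgroup.mem_sup_left h.zd)])
  rw [h3, ← Subgroup.relIndex_mul_index (sup_le h.comm_le h.center_le), h.rel_sup, h.idx]

theorem tc_of (F : AF 2 R E X) (hI : ∀ α ∈ E, ¬ 2 ∣ orderOf α → α = 1) (h1 : ξ ∈ 𝒵 S)
    (h2 : ξ ∉ 𝒟 S) (h3 : ξ ^ 2 = 1) [hK : K.Normal] (h4 : 𝒵 S ≤ K)
    (h5 : ∀ a ∈ K, a ^ 2 = 1 → a ∈ 𝒵 S) (hw : w ∉ K) (hv : v ∈ K) (h6 : R w v)
    (h7 : R (w * ξ) (v * ξ)) : TC z R ξ w ∨ TC z R ξ (w * ξ) := by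
  have h8 : w ∉ 𝒵 S := fun h8 => hw (h4 h8)
  have h9 : w * ξ ∉ 𝒵 S := by rwa [Subgroup.mul_mem_cancel_right _ h1]
  rcases h.dich F h6 with ⟨α, h10, rfl⟩ | h10 | ⟨ξ', y, t, h10⟩
  · obtain ⟨s, h11⟩ := F.conj_of_E hI h10 w
    rw [← h11] at hv
    exact absurd (by simpa [mul_assoc] using hK.conj_mem _ hv s⁻¹) hw
  · exact absurd h10 h8
  have h11 : w ^ 2 = 1 := by
    rw [← mul_inv_cancel_left y w, Commute.mul_pow (Subgroup.mem_center_iff.1 h10 y), h.tc_sq F t,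
      h.all_sq h1 h2 h3 _ h10, mul_one]
  rcases h.cases h1 h2 (h5 v hv (F.pow_eq_one (F.symm h6) h11)) with rfl | rfl | rfl | rfl
  · exact absurd (pow_one w ▸ F.pow_eq_one h6 (one_pow 1) ▸ one_mem _) h8
  · exact .inl ⟨h8, h1, h2, h3, h6, h7⟩
  · exact absurd (pow_one (w * v) ▸ F.pow_eq_one h7 (by rw [pow_one, ← sq, h3]) ▸ one_mem _) h9
  · refine .inr ⟨h9, h1, h2, h3, ?_, ?_⟩
    · rwa [mul_assoc ξ, Subgroup.mem_center_iff.1 h1 z, ← mul_assoc ξ, ← sq, h3, one_mul] at h7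
    · rwa [mul_assoc, ← sq, h3, mul_one, Subgroup.mem_center_iff.1 h1 z]

end LD

end Grp

universe u

variable {G : Type u} [Group G] [Finite G] {p : ℕ} {M : Ideal AlgInt} {B : Set (IrrCharacter G)}
  {P : Subgroup G} {e : (kk M)[G]} {u ξ z : P} {c : Set (IrrCharacter (C (u : G)))}
  {Q : Type*} [Group Q] [Finite Q] {π : C (u : G) →* Q} {D : Set (IrrCharacter Q)}
  {ē : (kk M)[Q]} {A : Subgroup P}

theorem coe_mem_C (y : C u) : ((y : P) : G) ∈ C (u : G) :=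
  mem_C.2 (congrArg Subtype.val (mem_C.1 y.2))

/-- the restriction of the quotient map to `C_P(u)` -/
noncomputable def qg (π : C (u : G) →* Q) : (C u : Subgroup P) →* im π P where
  toFun y := ⟨ex π y, H25.ex_mem_im' π (coe_mem_C y) y.1.2⟩
  map_one' := Subtype.ext (H25.ex_one π)
  map_mul' a b := Subtype.ext (H25.ex_mul π (coe_mem_C a) (coe_mem_C b))

theorem qg_surj : Function.Surjective (qg π) := fun ⟨_, h⟩ =>
  let ⟨a, h1, h2, h3⟩ := H25.mem_im.1 h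
  ⟨⟨⟨a, h1⟩, mem_C.2 (Subtype.ext (mem_C.1 h2))⟩, Subtype.ext h3⟩

section Gen

variable [Fact p.Prime] [CharP (kk M) p]

theorem QD.mem_ker_qg (h : QD p P (Z (u : G)) e c π D ē) {y : C u} :
    y ∈ (qg π).ker ↔ (y : P) ∈ Z u := by
  rw [MonoidHom.mem_ker, Subtype.ext_iff, ← Subgroup.mem_map_iff_mem P.subtype_injective,
    MonoidHom.map_zpowers]
  exact h.ker _ (coe_mem_C y)

theorem QD.lg (h : QD p P (Z (u : G)) e c π D ē) (he : IsBP p ⊤ ⊤ P e) :
    Lf (qg π) (XA he (C u)) (inE (im π P) ē) := by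
  have h1 : Z (u : G) ≤ P ⊓ C (u : G) := le_inf h.le h.ab
  refine ⟨qg_surj, fun β hβ => ?_, fun α hα => ?_⟩
  · obtain ⟨t, h2, h3⟩ := mem_inE.1 hβ
    obtain ⟨g, h4, h5, h6⟩ := h.fus_of _ t h1 inf_le_right
      (QD.im_inf_self (π := π) ▸ (fus_top_iff_mem h.m.bp).2 h2)
    have h7 := mem_normalizer_of_cj_le (le_inf h5.cj_le (cj_le_of_mem inf_le_right h4))
    rw [← map_C] at h5 h7
    refine ⟨_, mem_fx.2 ⟨mem_XA_of he h5 h7, fun y hy => Subtype.ext (Subtype.ext ?_)⟩,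
      fun y => Subtype.ext ?_⟩
    · rw [coe_nH, mul_inv_eq_iff_eq_mul]
      exact (h.comm h4 ((h.ker _ (coe_mem_C y)).1 (congrArg Subtype.val hy))).symm
    · rw [h3]
      exact (congrArg (ex π) (coe_nH _ y)).trans (h6 _ ⟨y.1.2, coe_mem_C y⟩)
  · obtain ⟨⟨g, h2, h3⟩, h4⟩ := mem_fx.1 hα
    have h5 : g ∈ C (u : G) := by
      have := h3 ⟨u, mem_C.2 rfl⟩
      rw [h4 _ (h.mem_ker_qg.2 (Subgroup.mem_zpowers u))] at this
      exact mem_C.2 (mul_inv_eq_iff_eq_mul.1 this.symm)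
    rw [map_C] at h2
    obtain ⟨β, h6, h7⟩ := exists_mem_inE ((fus_top_iff_mem h.m.bp).1
      (QD.im_inf_self (π := π) ▸ h.fus _ g h1 inf_le_right h5 h2))
    refine ⟨β, h6, fun y => Subtype.ext ?_⟩
    rw [h7]
    exact (congrArg (ex π) (h3 y)).trans (H25.ex_conj π h5 (coe_mem_C y))

variable (hM : IsPModular p M) (hB : IsPBlock M B) (m : MaxP p ⊤ ⊤ (eB M B) P e)
include hM m

theorem isDef_sblk (h : ∀ v : P, FConj p P e u v → Nat.card (C v) ≤ Nat.card (C u)) :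
    IsDefectGroup p M (sblk p M P e u) (P.subgroupOf _) :=
  ((subP_sblk hM m.bp u.2).isDefectGroup_iff hM m).2 fun v hv => by
    rw [card_C, card_C ⟨v, hv.right_mem⟩]
    exact h _ hv

theorem rank_one_of_XA (h : ∀ v : P, FConj p P e u v → Nat.card (C v) ≤ Nat.card (C u))
    (h1 : C u ≤ 𝐂 (C u)) (h2 : ∀ α ∈ XA m.bp (C u), ¬ p ∣ orderOf α → α = 1) :
    blockRank p (sblk p M P e u) = 1 := by
  obtain ⟨Q, _, _, π, D, ē, q⟩ := exists_QD_sblk hM m u.2 (isDef_sblk hM m h)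
  have h3 : im π P ≤ 𝐂 (im π P) := QD.im_inf_self (π := π) ▸ QD.comm_im (by
    rw [← map_C]
    rintro _ ⟨a, ha, rfl⟩
    refine mem_centralizer'.2 ?_
    rintro _ ⟨b, hb, rfl⟩
    exact congrArg Subtype.val (mem_centralizer'.1 (h1 ha) b hb))
  rw [← q.rank hM]
  exact rank_one_of_card hM (q.blk hM) q.m h3 ((q.lg m.bp).card_one (not_dvd_inE hM q.m h3)
    fun α hα => h2 α (fx_le hα))

theorem exists_QD_cen (hu : u ∈ 𝒵 P) :
    ∃ (Q : Type u) (_ : Group Q) (_ : Finite Q) (π : C (u : G) →* Q) (D : Set (IrrCharacter Q))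
      (ē : (kk M)[Q]) (hP : P ≤ C (u : G)), QD p P (Z (u : G)) e (sblk p M P e u) π D ē ∧
        (qf π hP).ker = Z u := by
  obtain ⟨Q, _, _, π, D, ē, q⟩ := exists_QD_sblk hM m u.2 (isDef_sblk hM m fun v _ => by
    rw [(top_unique fun a _ => mem_C.2 (Subgroup.mem_center_iff.1 hu a) : C u = ⊤)]
    exact card_le_of_le' le_top)
  have hP : P ≤ C (u : G) := fun a ha =>
    mem_C.2 (congrArg Subtype.val (Subgroup.mem_center_iff.1 hu ⟨a, ha⟩))
  refine ⟨Q, _, inferInstance, π, D, ē, hP, q, ?_⟩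
  rw [q.ker_qf, ← P.subtype_apply, ← MonoidHom.map_zpowers, Subgroup.subgroupOf,
    Subgroup.comap_map_eq_self_of_injective P.subtype_injective]

include hB

theorem sum_lin_rank' {Y : Finset P} (hY : ∀ u : P, ∃! y, y ∈ Y ∧ FConj p P e u y) {l : P →* ℂˣ}
    (hl : ∀ u v : P, FConj p P e u v → l u = l v) (hξ : ξ ∈ 𝒵 P) (h1 : l ξ ≠ 1) :
    ∑ y ∈ Y, (l y : ℂ) * blockRank p (sblk p M P e y) = 0 := by
  classical
  have := Fintype.ofFinite G
  have hl : (fun u => (l u : ℂ)) ∈ FSt p P e := fun u v h => by simp [hl u v h]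
  have hY' : FReps p P e (Y.image Subtype.val) := ⟨by simp +contextual, fun u hu => by
    obtain ⟨y, ⟨h2, h3⟩, h4⟩ := hY ⟨u, hu⟩
    refine ⟨y, ⟨mem_image_of_mem _ h2, h3⟩, ?_⟩
    rintro _ ⟨h5, h6⟩
    obtain ⟨y', h7, rfl⟩ := mem_image.1 h5
    rw [h4 y' ⟨h7, h6⟩]⟩
  rw [sum_congr rfl fun y _ => by
    rw [← (subP_sblk hM m.bp y.2).isSec.sum_mm_self_block hM
      ((subP_sblk hM m.bp y.2).induced hM hB m), mul_sum], sum_comm]
  refine sum_eq_zero fun χ hχ => ?_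
  have hχ := (mem_filter.1 hχ).2
  obtain ⟨ψ, -, h2, -⟩ := exists_bstar_irr hM hB m hl hχ
  have h3 := inner_bstar_left hM hB m hY' hl χ.2.isClassFunction χ.2.isClassFunction
  rw [sum_image Subtype.val_injective.injOn, ← h2, ψ.2.classInner_of_ne χ.2 fun h3 => h1
    (Units.ext (eq_one_of_bstar_eq hM m.bp hl χ.2.isClassFunction (h2.symm.trans h3) ξ.2
    ((subP_sblk hM m.bp ξ.2).sec_ne_zero_of_central hM hB m (mem_centralizer'.2 fun a ha =>
      congrArg Subtype.val (Subgroup.mem_center_iff.1 hξ ⟨a, ha⟩)) hχ)))] at h3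
  rw [h3]
  exact sum_congr rfl fun y _ => by rw [extendByZero_of_mem _ _ y.2]

omit hM hB m in
theorem TB.rank_le [CharP (kk M) 2] {x w : G} {n : ℕ} {ε : ℤ} (h : TB M P B e x n ε) (hw : w ∈ P)
    (hw' : w ∉ Z x) : blockRank 2 B + (nfs P e x w).card ≤ 3 := by
  classical
  have := Fintype.ofFinite G
  obtain ⟨-, k, h1, -, h2, -⟩ := h.main hw hw'
  have h3 := h.card_eq hw hw'
  rw [← card_block_eq, show n + 1 - 2 = n - 1 by omega] at h2
  omega

omit hM hB m in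
theorem card_range_mul {S S' : Type*} [Group S] [Group S'] {f : S →* S'}
    (hf : Function.Surjective f) : Nat.card f.ker * Nat.card S' = Nat.card S := by
  rw [← f.ker.card_mul_index, Subgroup.index_ker, MonoidHom.range_eq_top.2 hf, Subgroup.card_top]

omit hM hB m in
theorem index_commutator_of_surj {S S' : Type*} [Group S] [Group S'] {f : S →* S'}
    (hf : Function.Surjective f) : (𝒟 S').index = (𝒟 S ⊔ f.ker).index := by
  have := (𝒟 S).index_map f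
  rwa [map_commutator_eq, MonoidHom.range_eq_top.2 hf, Subgroup.index_top, mul_one] at this

omit hM hB m in
theorem comm_of_ker {S G : Type*} [Group S] [Group G] {P : Subgroup G} {f : S →* P}
    (hf : Function.Surjective f) (h : 𝒟 S ≤ f.ker) : P ≤ 𝐂 P := fun a ha =>
  mem_centralizer'.2 fun b hb => by
    obtain ⟨x, hx⟩ := hf ⟨a, ha⟩
    obtain ⟨y, hy⟩ := hf ⟨b, hb⟩
    have := h (Subgroup.commutator_mem_commutator (Subgroup.mem_top y) (Subgroup.mem_top x))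
    rw [MonoidHom.mem_ker, map_commutatorElement, commutatorElement_eq_one_iff_mul_comm, hx,
      hy] at this
    exact congrArg Subtype.val this

end Gen

variable [CharP (kk M) 2] (hM : IsPModular 2 M) (hB : IsPBlock M B)
  (m : MaxP 2 ⊤ ⊤ (eB M B) P e) (h : LD A z)
include hM m h

theorem LD.rank_xi (h1 : ξ ∈ 𝒵 P) (h2 : ξ ∉ 𝒟 P) : blockRank 2 (sblk 2 M P e ξ) ≤ 3 ∧
    ((∀ α ∈ inE P e, ¬ 2 ∣ orderOf α → α = 1) →
      (2 ≤ blockRank 2 (sblk 2 M P e ξ) → ∃ y, TC z (fun u v : P => FConj 2 P e u v) ξ y) ∧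
      (3 ≤ blockRank 2 (sblk 2 M P e ξ) → ∃ y y', TC z (fun u v : P => FConj 2 P e u v) ξ y ∧
        TC z (fun u v : P => FConj 2 P e u v) ξ y' ∧ y⁻¹ * y' ∉ 𝒟 P ⊔ 𝒵 P)) := by
  classical
  have F := MaxP.af m
  obtain ⟨Q, _, _, π, D, ē, hP, q, hk⟩ := exists_QD_cen hM m h1
  have L := q.lf m.bp hP
  have k1 := card_range_mul L.surj
  rw [← q.rank hM]
  rcases h.xi_sq h1 with h3 | h3
  swap
  · have k2 := h.cyc.resolve_left fun h4 => h.z1 (h3.symm.trans (h4 ξ h1))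
    have k3 : z ∈ Z ξ := h3 ▸ Subgroup.npow_mem_zpowers ξ 2
    have k4 := comm_of_ker L.surj fun c hc => hk.ge (by
      rcases h.eq_z_of_card k2 hc with rfl | rfl
      exacts [one_mem _, k3])
    have k5 : 4 ∣ Nat.card (Z ξ) := by
      rw [Nat.card_zpowers, orderOf_eq_prime_pow (p := 2) (n := 1) (by rw [pow_one, h3]; exact h.z1)
        (by rw [show 2 ^ (1 + 1) = 2 * 2 from rfl, pow_mul, h3, h.z_sq])]
      rfl
    have k6 := not_dvd_inE hM q.m k4
    have k7 := card_dvd_four (Nat.dvd_of_mul_dvd_mul_left (k := 4) (by norm_num) (by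
      rw [hk, k2] at k1
      exact (mul_dvd_mul_right k5 _).trans k1.dvd)) k6
    refine ⟨(rank_of_prime hM (q.blk hM) q.m k4 rfl (((Nat.dvd_prime Nat.prime_three).1 k7).imp id
      fun h4 => by rw [h4]; exact Nat.prime_three)).1.trans (Nat.le_of_dvd (by norm_num) k7), fun hI => ?_⟩
    rw [rank_one_of_card hM (q.blk hM) q.m k4 (L.card_one k6 fun α hα => hI α (fx_le hα))]
    simp
  have k2 : ξ ≠ 1 := fun h4 => h2 (h4 ▸ one_mem _)
  obtain ⟨n, x, ε, mc⟩ := exists_mc q.m.bp.isP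
    (by rw [index_commutator_of_surj L.surj, hk, h.index_sup h1 h2]) (by
      have := h.card_S
      have := one_lt_card_of_mem h.zd h.z1
      rw [hk, Nat.card_zpowers, orderOf_eq_prime h3 k2] at k1
      omega)
  have T : TB M (im π P) D ē x n ε := ⟨hM, q.blk hM, q.m, mc⟩
  obtain ⟨w, hw, hw'⟩ := mc.exists_out
  have k3 := TB.rank_le T hw hw'
  refine ⟨by omega, fun hI => ?_⟩
  rw [card_nfs mc] at k3
  let g := (im π P).subtype.comp (qf π hP)
  have hg : ∀ y : P, g y = ex π y := coe_qf hP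
  have k4 : ∀ {a}, g a = 1 ↔ a ∈ Z ξ := by simp [g, ← hk]
  have k5 : g z = mcZ x n := ((mc.mem_center_iff (qf π hP z).2).1
    (mem_centralizer'.2 fun a ha => by
      obtain ⟨a, h4⟩ := L.surj ⟨a, ha⟩
      obtain rfl : g a = _ := congrArg Subtype.val h4
      exact (map_mul g _ _).symm.trans ((congrArg g (Subgroup.mem_center_iff.1 h.zc a)).trans
        (map_mul g _ _)))).resolve_left fun h4 => by
      rcases (sq_mem_zpowers h3).1 (k4.1 h4) with h5 | h5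
      exacts [h.z1 h5, h2 (h5 ▸ h.zd)]
  have k6 : g ξ = 1 := k4.2 (Subgroup.mem_zpowers ξ)
  have : ((Z x).comap g).Normal := ⟨fun a ha s => by
    rw [Subgroup.mem_comap, map_mul, map_mul, map_inv]
    exact mc_conj_mem mc (qf π hP s).2 ha⟩
  have key : ∀ w ∈ im π P, w ∉ Z x → FX (im π P) ē x w →
      ∃ y, TC z (fun u v : P => FConj 2 P e u v) ξ y ∧ g y = w := by
    rintro w hw hw' ⟨v, h4, h5⟩
    obtain ⟨w, h6⟩ := L.surj ⟨w, hw⟩
    obtain rfl : g w = _ := congrArg Subtype.val h6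
    obtain ⟨v, h6⟩ := L.surj ⟨v, h5.right_mem⟩
    obtain rfl : g v = _ := congrArg Subtype.val h6
    rw [hg, hg, q.fConj_iff (hP w.2) (hP v.2)] at h5
    obtain ⟨t, h7, h8, h9⟩ := h5
    have h10 : ∀ a : P, (a : G) ∈ Z (ξ : G) ⊔ Z (w : G) → FConj 2 P e a (t * a * t⁻¹) :=
      fun a ha => ⟨t, h8.mono top_le_norm_top m.bp (Subgroup.zpowers_le.2 ha), rfl⟩
    have h11 := h10 w (Subgroup.mem_sup_right (Subgroup.mem_zpowers _))
    have h12 := h10 (w * ξ) (mul_mem (Subgroup.mem_sup_right (Subgroup.mem_zpowers _))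
      (Subgroup.mem_sup_left (Subgroup.mem_zpowers _)))
    refine (h.tc_of F hI h1 h2 h3 (K := (Z x).comap g) (v := ⟨_, h11.right_mem⟩)
      (fun c hc => ?_) (fun a ha h13 => ?_) hw' ?_ h11 ?_).elim (⟨w, ·, rfl⟩)
      (⟨_, ·, by rw [map_mul, k6, mul_one]⟩)
    · rcases h.cases h1 h2 hc with rfl | rfl | rfl | rfl <;> simp [k5, k6, MC.z_mem_zpowers]
    · rcases mc.invol_in ha (by rw [← map_pow, h13, map_one]) with h14 | h14
      · exact Subgroup.zpowers_le.2 h1 (k4.1 h14)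
      · simpa using mul_mem h.zc (Subgroup.zpowers_le.2 h1 ((k4 (a := z⁻¹ * a)).1 (by
          rw [map_mul, map_inv, h14, k5, inv_mul_cancel])))
    · rw [Subgroup.mem_comap, hg, ← (q.eq_iff (hP v.2) (hP h11.right_mem)).2 h9, ← hg]
      exact h4
    · convert h12 using 1
      rw [Subgroup.coe_mul, Subgroup.coe_mul, ← mul_assoc, mul_assoc _ (ξ : G),
        ← mem_C.1 (inv_mem h7), ← mul_assoc]
  have hx := mul_mem mc.mem hw
  have hx' : x * w ∉ Z x := by rwa [Subgroup.mul_mem_cancel_left _ (Subgroup.mem_zpowers x)]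
  refine ⟨fun h4 => ?_, fun h4 => ?_⟩
  · by_cases h5 : FX (im π P) ē x w
    · exact (key w hw hw' h5).imp fun _ => And.left
    · exact (key _ hx hx' (by_contra fun h6 => by simp [h5, h6] at k3; omega)).imp fun _ => And.left
  obtain ⟨y, h5, rfl⟩ := key w hw hw' (by_contra fun h6 => by simp [h6] at k3; omega)
  obtain ⟨y', h6, h7⟩ := key _ hx hx' (by_contra fun h6 => by simp [h6] at k3; omega)
  refine ⟨y, y', h5, h6, fun h8 => ?_⟩
  obtain ⟨s, h9⟩ := h.conj_out (h.tc_out F h5) (h.tc_conj F h5 h6 h8).1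
  refine mc_not_conj_out mc hw hw' (qf π hP s).2 ?_
  rw [← h7, ← mul_inv_cancel_left y y', ← h9, map_mul, map_mul, map_inv]
  rfl

include hB

theorem LD.rank_eq (h1 : ξ ∈ 𝒵 P) (h2 : ξ ∉ 𝒟 P)
    (hl : ∃ l : P →* ℂˣ, l ξ ≠ 1 ∧ ∀ u v : P, FConj 2 P e u v → l u = l v) :
    blockRank 2 B + blockRank 2 (sblk 2 M P e z) =
      blockRank 2 (sblk 2 M P e ξ) + blockRank 2 (sblk 2 M P e (ξ * z : P)) := by
  have F := MaxP.af m
  obtain ⟨l, h3, h4⟩ := hl
  obtain ⟨Y, -, hY⟩ := exists_reps (Set.univ : Set P) (fun u v => FConj 2 P e u v)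
    (fun u _ => F.eqv.refl u) (fun _ _ => F.symm) (fun _ _ _ => F.trans) fun _ _ _ => trivial
  have h5 := h.sum_eq F (fun u => hY u trivial) (r := fun u => blockRank 2 (sblk 2 M P e u))
    (fun u v h5 => by rw [h5.blockRank_eq hM m.bp]) (fun u hu => ?_) h1 h2 h3 h4
  · rw [sum_lin_rank' hM hB m (fun u => hY u trivial) h4 h1 h3, Subgroup.coe_one,
      blockRank_eq_of_induced_top hM cent_one_eq_top
        ((subP_sblk hM m.bp P.one_mem).induced hM hB m)] at h5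
    exact Nat.cast_injective (R := ℂ) (by push_cast; linear_combination -h5)
  have h6 : u ∉ 𝒵 P := fun h6 => hu (.inl h6)
  rw [rank_one_of_XA hM m (fun v hv => ?_) (h.cent_comm h6) fun α h7 h8 => by_contra fun h9 =>
    hu (h.typeA F (mt mem_center_of_C h6) (fun a ha =>
      mem_C.2 (mem_centralizer'.1 ha u (mem_C.2 rfl)).symm) h7 h8 h9 (mem_C.2 rfl)), Nat.cast_one]
  obtain ⟨α, -, rfl⟩ := (h.dich F hv).resolve_right hu
  rw [card_C_map]

theorem LD.rank_le : blockRank 2 B ≤ 3 := by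
  have F := MaxP.af m
  obtain ⟨ξ, h1, h2⟩ := h.exists_xi
  obtain ⟨h3, h4⟩ := h.rank_xi hM m h1 h2
  obtain ⟨h5, h6⟩ := h.rank_xi hM m (mul_mem h1 h.zc) (h.xi_z h2)
  by_cases hI : ∀ α ∈ inE P e, ¬ 2 ∣ orderOf α → α = 1
  · have h7 := h.rank_eq hM hB m h1 h2 (h.exists_lin F hI h1 h2)
    have := Fintype.ofFinite (C (z : G))
    have h8 := H21.blockRank_pos hM (subP_sblk hM m.bp z.2).blk
    by_contra h9
    rcases (by omega : 3 ≤ blockRank 2 (sblk 2 M P e ξ) ∧ 2 ≤ blockRank 2 (sblk 2 M P e (ξ * z : P))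
      ∨ 2 ≤ blockRank 2 (sblk 2 M P e ξ) ∧ 3 ≤ blockRank 2 (sblk 2 M P e (ξ * z : P))) with
      h10 | h10
    · obtain ⟨y₁, y₂, t₁, t₂, h11⟩ := (h4 hI).2 h10.1
      obtain ⟨y, t⟩ := (h6 hI).1 h10.2
      exact h.not_tc F t₁ t₂ h11 t
    · obtain ⟨y₁, y₂, t₁, t₂, h11⟩ := (h6 hI).2 h10.2
      obtain ⟨y, t⟩ := (h4 hI).1 h10.1
      exact h.not_tc F t₁ t₂ h11 (by rwa [mul_assoc, ← sq, h.z_sq, mul_one])
  push Not at hI
  obtain ⟨σ, h7, h8, h9⟩ := hI
  obtain ⟨Q, _, _, π, D, ē, hP, q, hk⟩ := exists_QD_cen hM m h.zc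
  have L := q.lf m.bp hP
  have k1 := comm_of_ker L.surj fun c hc =>
    hk.ge ((sq_mem_zpowers h.z_sq).2 (h.eq_z_of_card (h.aut σ h8 h9) hc))
  have := le_centralizer_self_iff.1 k1
  obtain ⟨h10, h11⟩ := h.two F L hk (not_dvd_inE hM q.m k1) h7 h8 h9 h1 h2
  have h12 := h.rank_eq hM hB m h1 h2 h10
  rw [← q.rank hM, (rank_of_prime hM (q.blk hM) q.m k1 h11 (.inr Nat.prime_three)).2 le_rfl
    (by norm_num)] at h12
  omega

end H3.KQ
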