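import Cfsg.Agent.H3.KQ11

/-! Brauer's bound for defect groups with a central cyclic subgroup of index at most sixteen. -/

set_option autoImplicit false
set_option linter.unusedSectionVars false

open Cfsg MonoidAlgebra
open H5 H8 H28 H7 H21 Finset
open H25 (ex im)
open H10 (MC mcZ)

namespace H3.KQ

local notation "Z" => Subgroup.zpowers
local notation "C" u:max => Subgroup.centralizer ({u} : Set _)
local notation "𝒵" => Subgroup.center
local notation "𝒟" => commutator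

section Grp

variable {S : Type*} [Group S] [Finite S] {A K : Subgroup S} {z ξ u v w x : S}
  {E : Subgroup (MulAut S)}

theorem free_of_card_prime {p : ℕ} [Fact p.Prime] (h : Nat.card S ∣ p) : FreeAut E :=
  fun α _ a h1 h2 => Fx_eq_top.1 (by
    have h3 := one_lt_card_of_mem (V := Fx α) h2 h1
    have h4 := (Nat.dvd_prime Fact.out).1 ((Fx α).card_subgroup_dvd_card.trans h)
    exact Subgroup.eq_top_of_le_card _ ((Nat.le_of_dvd (Nat.Prime.pos Fact.out) h).trans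
      (h4.resolve_left h3.ne').ge))

theorem comm_of_card_dvd_sq {p : ℕ} [Fact p.Prime] (h : Nat.card S ∣ p ^ 2) :
    IsMulCommutative S := by
  obtain ⟨i, h1, h2⟩ := (Nat.dvd_prime_pow Fact.out).1 h
  rcases h1.eq_or_lt with rfl | h1
  · exact IsPGroup.isMulCommutative_of_card_eq_prime_sq h2
  · exact comm_of_index_center (p := p) ((𝒵 S).index_dvd_card.trans
      (h2 ▸ (pow_dvd_pow p (by omega)).trans (pow_one p).dvd))

theorem exists_comm_two (h : Nat.card (𝒟 S) = 2) :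
    ∃ z, z ≠ 1 ∧ z ^ 2 = 1 ∧ z ∈ 𝒵 S ∧ 𝒟 S = Z z ∧ ∀ x : S, x ^ 2 ∈ 𝒵 S := by
  obtain ⟨z, h1, h2⟩ := exists_ne_one_of_card (V := 𝒟 S) (by omega)
  have h3 : z ^ 2 = 1 := h ▸ congrArg Subtype.val (pow_card_eq_one' (x := (⟨z, h1⟩ : 𝒟 S)))
  have h4 : Z z = 𝒟 S := Subgroup.eq_of_le_of_card_ge (Subgroup.zpowers_le.2 h1)
    (by rw [h, Nat.card_zpowers, orderOf_eq_prime h3 h2])
  have h5 : z ∈ 𝒵 S := Subgroup.mem_center_iff.2 fun s => mul_inv_eq_iff_eq_mul.1
    (((sq_mem_zpowers h3).1 (h4 ▸ Subgroup.Normal.conj_mem inferInstance z h1 s)).resolve_left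
      (by simpa using h2))
  refine ⟨z, h2, h3, h5, h4.symm, fun x => Subgroup.mem_center_iff.2 fun s => ?_⟩
  rw [← mul_inv_eq_iff_eq_mul, ← conj_pow, ← mul_inv_cancel_left x (s * x * s⁻¹)]
  rcases (sq_mem_zpowers h3).1 (h4 ▸ conj_mem_commutator s x) with h6 | h6 <;> rw [h6]
  · rw [mul_one]
  · rw [Commute.mul_pow (Subgroup.mem_center_iff.1 h5 x), h3, mul_one]

theorem commutator_mem (x y : S) : x * y * x⁻¹ * y⁻¹ ∈ 𝒟 S :=
  Subgroup.commutator_mem_commutator (Subgroup.mem_top x) (Subgroup.mem_top y)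

theorem comm_of_sq (h : ∀ x : S, x ^ 2 = 1) : IsMulCommutative S := ⟨⟨fun a b => by
  have h1 : ∀ x : S, x⁻¹ = x := fun x => inv_eq_of_mul_eq_one_right (sq x ▸ h x)
  rw [← h1 (a * b), mul_inv_rev, h1, h1]⟩⟩

theorem commutator_eq_bot (h : IsMulCommutative S) : 𝒟 S = ⊥ :=
  (commutator_eq_bot_iff_center_eq_top S).2 (top_unique fun a _ =>
    Subgroup.mem_center_iff.2 fun b => h.1.1 b a)

theorem comm_of_commutator (h : 𝒟 S = ⊥) : IsMulCommutative S := ⟨⟨fun a b => by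
  have := commutator_mem a b
  rwa [h, Subgroup.mem_bot, mul_inv_eq_one, mul_inv_eq_iff_eq_mul] at this⟩⟩

theorem exists_LD (h : Nat.card S = 16) (h1 : Nat.card (𝒟 S) = 2) :
    ∃ (A : Subgroup S) (z : S), LD A z := by
  obtain ⟨z, h2, h3, h4, h5, h6⟩ := exists_comm_two h1
  have h7 : ¬ IsMulCommutative S := fun h7 => by simp [commutator_eq_bot h7] at h1
  have h8 : ∀ x y : S, x * y * x⁻¹ * y⁻¹ ∈ Z z := fun x y => h5 ▸ commutator_mem x y
  have h9 : Nat.card (𝒵 S) = 4 := by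
    have k1 := (𝒵 S).card_mul_index
    have k2 := index_center_ne_eight h8 h4 h6
    have k3 := mt (comm_of_index_center (p := 2)) h7
    have k4 := one_lt_card_of_mem h4 h2
    obtain ⟨i, k5, k6⟩ := (Nat.dvd_prime_pow Nat.prime_two (m := 4)).1 (h ▸ (𝒵 S).index_dvd_card)
    rw [k6] at k1 k2 k3
    interval_cases i <;> omega
  obtain ⟨x, h10, h11⟩ : ∃ x ∉ 𝒵 S, (∀ c ∈ 𝒵 S, c ^ 2 = 1) → x ^ 2 ≠ 1 := by
    by_contra! h10
    obtain ⟨x, hx⟩ : ∃ x, x ∉ 𝒵 S := by_contra fun h11 => h7 (comm_of_index_center (p := 2) (by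
      rw [(top_unique fun a _ => by_contra fun h12 => h11 ⟨a, h12⟩ : 𝒵 S = ⊤)]
      simp))
    exact h7 (comm_of_sq fun y => (em _).elim ((h10 x hx).1 y) fun hy => (h10 y hy).2)
  have h12 : (C x).index = 2 := ((Nat.dvd_prime Nat.prime_two).1 (index_C_dvd h8 h4
    (h6 x))).resolve_left fun h12 => h10 (mem_center_of_C (Subgroup.index_eq_one.1 h12))
  have h13 : (𝒵 S).relIndex (C x) = 2 := relIndex_of_card (le_C_of_center le_rfl x) (by
    have := (C x).card_mul_index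
    rw [h12] at this
    omega)
  have h14 : ∀ a ∈ C x, a ∈ 𝒵 S ∨ x⁻¹ * a ∈ 𝒵 S := fun a ha => or_iff_not_imp_left.2
    (inv_mul_mem_of_relIndex_two h13 (mem_C.2 rfl) ha h10)
  refine ⟨C x, z, le_centralizer_self_iff.1 (cent_comm_of h14), h12, h9, h4,
    h5 ▸ Subgroup.mem_zpowers z, h2, fun c _ hc => (sq_mem_zpowers h3).1 (h5 ▸ hc),
    fun Q k1 k2 _ _ _ => ?_, fun v hv k1 k2 => (h14 v hv).resolve_right fun k3 => h11 k2 ?_,
    fun _ _ _ => h, .inr h⟩
  · have k3 : 𝒵 S ≤ Q := fun c hc => k2 (mem_centralizer'.2 fun q _ =>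
      Subgroup.mem_center_iff.1 hc q)
    have k4 := card_lt_of_ne k3 fun k4 => k1 (top_unique fun s _ => k2 (mem_centralizer'.2
      fun q hq => (Subgroup.mem_center_iff.1 (k4 ▸ hq) s).symm))
    have k5 := card_lt_of_ne le_top k1
    obtain ⟨i, k6, k7⟩ := (Nat.dvd_prime_pow Nat.prime_two (m := 4)).1
      (h ▸ Q.card_subgroup_dvd_card)
    rw [Subgroup.card_top, h] at k5
    rw [k7] at k4 k5 ⊢
    interval_cases i <;> omega
  · rwa [← mul_inv_cancel_left x v, Commute.mul_pow (Subgroup.mem_center_iff.1 k3 x), k2 _ k3,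
      mul_one] at k1

end Grp

universe u

variable {G : Type u} [Group G] [Finite G] {p : ℕ} {M : Ideal AlgInt} {B : Set (IrrCharacter G)}
  {P : Subgroup G} {e : (kk M)[G]} {u : P}

theorem rank_le_of_index [CharP (kk M) 2] (hM : IsPModular 2 M) (hB : IsPBlock M B)
    (m : MaxP 2 ⊤ ⊤ (eB M B) P e) (h : (𝒟 P).index ≤ 4) (h1 : 4 < Nat.card P) :
    blockRank 2 B ≤ 3 := by
  obtain ⟨n, x, ε, mc⟩ := exists_mc m.bp.isP h h1
  obtain ⟨w, hw, hw'⟩ := mc.exists_out
  exact le_of_add_le_left (TB.rank_le ⟨hM, hB, m, mc⟩ hw hw')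

theorem rank_le_nonab [CharP (kk M) 2] (hM : IsPModular 2 M) (hB : IsPBlock M B)
    (m : MaxP 2 ⊤ ⊤ (eB M B) P e) (h : Nat.card P ∣ 16) (hn : ¬ IsMulCommutative P) :
    blockRank 2 B ≤ 3 := by
  obtain ⟨i, h1, h2⟩ := (Nat.dvd_prime_pow Nat.prime_two (m := 4)).1 h
  obtain ⟨j, -, h3⟩ := (Nat.dvd_prime_pow Nat.prime_two).1 (h2 ▸ (𝒟 P).card_subgroup_dvd_card)
  have h4 := (𝒟 P).card_mul_index
  have h5 : 2 < i := by_contra fun h5 => hn (comm_of_card_dvd_sq (p := 2)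
    (h2 ▸ pow_dvd_pow 2 (by omega)))
  have h6 : j ≠ 0 := fun h6 => hn (comm_of_commutator (Subgroup.card_eq_one.1 (by simp [h3, h6])))
  by_cases h7 : (𝒟 P).index ≤ 4
  · exact rank_le_of_index hM hB m h7 (by interval_cases i <;> omega)
  rw [h2, h3] at h4
  obtain ⟨rfl, rfl⟩ : i = 4 ∧ j = 1 := by
    rcases j with _ | _ | j
    · omega
    · interval_cases i <;> omega
    · have := Nat.one_le_two_pow (n := j)
      interval_cases i <;> simp only [pow_succ] at h4 <;> nlinarith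
  obtain ⟨A, z, h8⟩ := exists_LD h2 h3
  exact h8.rank_le hM hB m

variable [Fact p.Prime] [CharP (kk M) p] (hM : IsPModular p M) (hB : IsPBlock M B)
  (m : MaxP p ⊤ ⊤ (eB M B) P e)
include hM hB m

theorem card_le_of_central (hu : u ∈ 𝒵 P) (h : (Z u).index ≤ 16) : Nat.card B ≤ Nat.card P := by
  obtain ⟨k, hk⟩ := m.bp.isP.index (Z u)
  have h1 : ∀ v ∈ 𝒵 P, ∃ (Q : Type u) (_ : Group Q) (_ : Finite Q) (π : C (v : G) →* Q)
      (D : Set (IrrCharacter Q)) (ē : (kk M)[Q]) (hP : P ≤ C (v : G)),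
      QD p P (Z (v : G)) e (sblk p M P e v) π D ē ∧ (qf π hP).ker = Z v ∧
        Nat.card (im π P) = (Z v).index := fun v hv => by
    obtain ⟨Q, _, _, π, D, ē, hP, q, h1⟩ := exists_QD_cen hM m hv
    refine ⟨Q, _, inferInstance, π, D, ē, hP, q, h1, ?_⟩
    rw [← h1, Subgroup.index_ker, MonoidHom.range_eq_top.2 (qf_surj hP), Subgroup.card_top]
  obtain ⟨Q, _, _, π, D, ē, hP, q, h2, h3⟩ := h1 u hu
  have L := q.lf m.bp hP
  have h4 : ∀ v : P, IsMulCommutative P → v ∈ 𝒵 P := fun v h4 =>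
    Subgroup.mem_center_iff.2 fun a => h4.1.1 a v
  by_cases h5 : p = 2
  · subst h5
    have h5 : (Z u).index ∣ 16 := hk ▸ pow_dvd_pow 2 (show k ≤ 4 from
      (Nat.pow_le_pow_iff_right one_lt_two).1 (hk ▸ h))
    by_cases h6 : IsMulCommutative P
    · have h7 := le_centralizer_self_iff.2 h6
      obtain ⟨v, h8, h9⟩ := exists_not_seven m.bp.isP (not_dvd_inE hM m h7) h5
      obtain ⟨Q, _, _, π, D, ē, hP, q, h2, h3⟩ := h1 v (h4 v h6)
      have := Fintype.ofFinite Q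
      have := le_centralizer_self_iff.1 (QD.comm_im (π := π) h7)
      refine q.card_le hM hB m hP (nice_ab_two hM (q.blk hM) q.m (QD.comm_im h7) (h3 ▸ h8) ?_)
      rwa [q.card_inE hM m h7, ← q.ker_qf hP, h2]
    refine q.card_le hM hB m hP ?_
    by_cases h7 : IsMulCommutative (im π P)
    · have := Fintype.ofFinite Q
      exact nice_ab_two hM (q.blk hM) q.m (le_centralizer_self_iff.2 h7) (h3 ▸ h5)
        (L.not_seven h2 hu (h3 ▸ h5) h6)
    · exact .inr (.inl ⟨rfl, rank_le_nonab hM (q.blk hM) q.m (h3 ▸ h5) h7⟩)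
  have h6 : 3 ≤ p := by have := hM.1.two_le; omega
  have h7 : k ≤ 2 := by_contra fun h7 => by
    have := (Nat.pow_le_pow_left h6 3).trans (Nat.pow_le_pow_right hM.1.pos (not_le.1 h7))
    omega
  have h8 : Nat.card (im π P) ∣ p ^ 2 := h3 ▸ hk ▸ pow_dvd_pow p h7
  have := comm_of_card_dvd_sq h8
  have h9 := le_centralizer_self_iff.2 this
  by_cases h10 : IsMulCommutative P
  swap
  · exact q.card_le hM hB m hP (nice_of_free hM (q.blk hM) q.m h9
      (L.free (h2 ▸ Subgroup.zpowers_le.2 hu) h8 (not_dvd_inE hM q.m h9) h10))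
  by_cases h11 : k ≤ 1
  · exact q.card_le hM hB m hP (nice_of_free hM (q.blk hM) q.m h9 (free_of_card_prime (p := p)
      (h3 ▸ hk ▸ (pow_dvd_pow p h11).trans (pow_one p).dvd)))
  obtain rfl : k = 2 := by omega
  obtain rfl : p = 3 := by_contra fun h12 => by
    have h13 : p ≠ 4 := fun h13 => by have := hM.1; rw [h13] at this; norm_num at this
    have := Nat.pow_le_pow_left (show 5 ≤ p by omega) 2
    omega
  have h12 := le_centralizer_self_iff.2 h10
  obtain ⟨v, h13⟩ := exists_small_stab m.bp.isP hk.dvd (not_dvd_inE hM m h12)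
  obtain ⟨Q, _, _, π, D, ē, hP, q, -⟩ := h1 v (h4 v h10)
  refine q.card_le hM hB m hP (.inl ?_)
  have h14 : 0 < Nat.card (fx (inE P e) (Z v)) := Nat.card_pos
  exact q.rank hM ▸ (sblk_of_prime hM m h12 v rfl (by
    interval_cases Nat.card (fx (inE P e) (Z v)) <;> simp [Nat.prime_two])).1.trans h13

end H3.KQ
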