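import Cfsg.Agent.H3.KQ12

/-! Brauer's bound for defect groups with a cyclic subgroup of index at most four. -/

set_option autoImplicit false
set_option linter.unusedSectionVars false

open Cfsg MonoidAlgebra
open H5 H8 H28 H7 H21 Finset
open H25 (ex im)

namespace H3.KQ

local notation "Z" => Subgroup.zpowers
local notation "C" u:max => Subgroup.centralizer ({u} : Set _)
local notation "𝒵" => Subgroup.center
local notation "𝒟" => commutator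

section Grp

variable {S : Type*} [Group S] [Finite S] {A K Q : Subgroup S} {z a b g u v w x y : S} {m n k : ℕ}

theorem mem_zpowers_pow (hx : orderOf x = 2 ^ (m + k)) (ha : a ∈ Z x) (h : a ^ 2 ^ m = 1) :
    a ∈ Z (x ^ 2 ^ k) := by
  obtain ⟨i, rfl⟩ := mem_powers_iff_mem_zpowers.2 ha
  simp only [← pow_mul, ← orderOf_dvd_iff_pow_eq_one, hx, pow_add, mul_comm (2 ^ m)] at h
  obtain ⟨j, rfl⟩ := Nat.dvd_of_mul_dvd_mul_right (by positivity) h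
  exact ⟨j, by simp [pow_mul]⟩

theorem pow_half_sq (hx : orderOf x = 2 ^ (m + 1)) : (x ^ 2 ^ m) ^ 2 = 1 := by
  rw [← pow_mul, ← pow_succ, ← hx, pow_orderOf_eq_one]

theorem pow_ne_one_of_lt (hx : orderOf x = 2 ^ m) (h : k < m) : x ^ 2 ^ k ≠ 1 :=
  pow_ne_one_of_lt_orderOf (by positivity) (hx ▸ Nat.pow_lt_pow_right one_lt_two h)

theorem invol_zpowers (hx : orderOf x = 2 ^ (m + 1)) (ha : a ∈ Z x) (h : a ^ 2 = 1) :
    a = 1 ∨ a = x ^ 2 ^ m :=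
  (sq_mem_zpowers (pow_half_sq hx)).1 (mem_zpowers_pow (m := 1) (add_comm m 1 ▸ hx) ha h)

theorem sq_one_cases {b : ℤ} (h : 2 ^ (m + 1) ∣ b ^ 2 - 1) : 2 ^ m ∣ b - 1 ∨ 2 ^ m ∣ b + 1 := by
  obtain ⟨k, rfl | rfl⟩ := Int.even_or_odd' b
  · obtain ⟨c, hc⟩ := (dvd_pow_self 2 m.succ_ne_zero).trans h
    have : 2 * (2 * k ^ 2 - c) = 1 := by linear_combination hc
    omega
  rw [show (2 * k + 1) ^ 2 - 1 = 2 * (k * (2 * k + 1 + 1)) by ring,
    H10.two_pow_succ_dvd_two_mul] at h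
  rcases Int.even_or_odd k with h1 | h1
  · rw [show k * (2 * k + 1 + 1) = (k + 1) * (2 * k + 1 - 1) by ring] at h
    exact .inl ((H10.two_pow_dvd_odd_mul_iff h1.add_one).1 h)
  · exact .inr ((H10.two_pow_dvd_odd_mul_iff h1).1 h)

theorem conj_cases (hy : orderOf y = 2 ^ (m + 1)) (h1 : g * y * g⁻¹ ∈ Z y)
    (h2 : g ^ 2 * y * (g ^ 2)⁻¹ = y ∨ 1 ≤ m ∧ g ^ 2 * y * (g ^ 2)⁻¹ = y⁻¹) :
    ∃ s ∈ Z (y ^ 2 ^ m), g * y * g⁻¹ = y * s ∨ g * y * g⁻¹ = y⁻¹ * s := by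
  obtain ⟨b, hb⟩ := h1
  have h3 : g ^ 2 * y * (g ^ 2)⁻¹ = y ^ (b ^ 2) := by
    rw [sq b, zpow_mul, show y ^ b = _ from hb, conj_zpow, show y ^ b = _ from hb, sq]
    group
  have h4 : ∀ i : ℤ, 2 ^ m ∣ i → y ^ i ∈ Z (y ^ 2 ^ m) := by
    rintro _ ⟨i, rfl⟩
    exact ⟨i, by simp only [zpow_mul]; norm_cast⟩
  rw [h3] at h2
  rcases h2 with h2 | ⟨h2, h5⟩
  · rw [← mul_inv_eq_one, ← zpow_sub_one, ← orderOf_dvd_iff_zpow_eq_one, hy] at h2
    rcases sq_one_cases (by exact_mod_cast h2) with h5 | h5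
    · exact ⟨_, h4 _ h5, .inl (by rw [← hb]; group)⟩
    · exact ⟨_, h4 _ h5, .inr (by rw [← hb]; group)⟩
  · rw [← mul_eq_one_iff_eq_inv, ← zpow_add_one, ← orderOf_dvd_iff_zpow_eq_one, hy] at h5
    have h6 : (4 : ℤ) ∣ b ^ 2 + 1 := .trans (by exact_mod_cast pow_dvd_pow 2 (show 2 ≤ m + 1 by omega)) h5
    obtain ⟨k, rfl | rfl⟩ := Int.even_or_odd' b
    · rw [show (2 * k) ^ 2 + 1 = 4 * k ^ 2 + 1 by ring] at h6
      omega
    · rw [show (2 * k + 1) ^ 2 + 1 = 4 * (k ^ 2 + k) + 2 by ring] at h6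
      omega

theorem conj_cases' (hx : orderOf x = 2 ^ (m + 1)) (h1 : x ∈ K) (h2 : (Z x).relIndex K = 2)
    (hg : g ∈ K) : ∃ s ∈ Z (x ^ 2 ^ m), g * x * g⁻¹ = x * s ∨ g * x * g⁻¹ = x⁻¹ * s := by
  refine conj_cases hx (((Z x).subgroupOf K).normal_of_index_eq_two h2 |>.conj_mem ⟨x, h1⟩
    (Subgroup.mem_zpowers x) ⟨g, hg⟩) (.inl ?_)
  obtain ⟨i, hi⟩ := Subgroup.sq_mem_of_index_two h2 ⟨g, hg⟩
  rw [← show x ^ i = g ^ 2 from hi]
  group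

theorem mul_sq_of_mem (hx : orderOf x = 2 ^ (m + 1)) (ha : a ∈ Z x) (hb : b ∈ Z (x ^ 2 ^ m)) :
    (a * b) ^ 2 = a ^ 2 := by
  obtain ⟨i, rfl⟩ := ha
  rcases (sq_mem_zpowers (pow_half_sq hx)).1 hb with rfl | rfl
  · rw [mul_one]
  · rw [((Commute.refl x).zpow_left i |>.pow_right _).mul_pow, pow_half_sq hx, mul_one]

variable (x n K) in
/-- a cyclic subgroup of index four with a dihedral action -/
structure BD : Prop where
  ord : orderOf x = 2 ^ (n + 4)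
  mem : x ∈ K
  idx : K.index = 2
  rel : (Z x).relIndex K = 2
  cen : ∀ g ∈ K, ∃ s ∈ Z (x ^ 2 ^ (n + 3)), g * x * g⁻¹ = x * s
  inv : ∀ g ∉ K, ∃ s ∈ Z (x ^ 2 ^ (n + 3)), g * x ^ 2 * g⁻¹ = (x ^ 2)⁻¹ * s

theorem exists_BD (hx : orderOf x = 2 ^ (n + 4)) (hi : (Z x).index = 4) :
    x ^ 4 ∈ 𝒵 S ∨ ∃ K, BD K x n := by
  have h1 := (Z x).card_mul_index
  rw [Nat.card_zpowers, hx, hi] at h1
  obtain ⟨M, h2, h3⟩ := Sylow.exists_subgroup_card_pow_succ (p := 2) (H := Z x) (n := n + 4)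
    (h1 ▸ ⟨2, by ring⟩) (by rw [Nat.card_zpowers, hx])
  have h4 : (Z x).relIndex M = 2 := relIndex_of_card h3 (by rw [h2, Nat.card_zpowers, hx, pow_succ])
  have h5 : M.index = 2 := by
    have := Subgroup.relIndex_mul_index h3
    rw [h4] at this
    omega
  have h6 := Subgroup.zpowers_le.1 h3
  have h7 : orderOf (x ^ 2) = 2 ^ (n + 2 + 1) := by
    rw [orderOf_pow_of_dvd two_ne_zero (hx ▸ dvd_pow_self 2 (by omega)), hx, pow_succ,
      Nat.mul_div_cancel _ two_pos]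
  have h8 : ∀ g, ∃ s ∈ Z (x ^ 2 ^ (n + 3)), g * x ^ 2 * g⁻¹ = x ^ 2 * s ∨
      g * x ^ 2 * g⁻¹ = (x ^ 2)⁻¹ * s := fun g => by
    rw [pow_succ' 2 (n + 2), pow_mul]
    refine conj_cases h7 (mem_zpowers_pow (m := n + 3) (k := 1) hx ?_ ?_) ?_
    · rw [← conj_pow]
      exact Subgroup.sq_mem_of_index_two h4
        ⟨_, (M.normal_of_index_eq_two h5).conj_mem x h6 g⟩
    · rw [conj_pow, ← h7, pow_orderOf_eq_one, mul_one, mul_inv_cancel]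
    · obtain ⟨s, h8, h9 | h9⟩ := conj_cases' hx h6 h4 (M.sq_mem_of_index_two h5 g) <;>
        rw [← conj_pow, h9, mul_sq_of_mem hx (by simp) h8]
      exacts [.inl rfl, .inr ⟨by omega, inv_pow x 2⟩]
  have h9 : ∀ {g s}, s ∈ Z (x ^ 2 ^ (n + 3)) → (g * x ^ 2 * g⁻¹ = x ^ 2 * s → g ∈ C (x ^ 4)) ∧
      (g * x ^ 2 * g⁻¹ = (x ^ 2)⁻¹ * s → g * x ^ 4 * g⁻¹ = (x ^ 4)⁻¹) := fun {g s} hs =>
    ⟨fun h => mem_C.2 (mul_inv_eq_iff_eq_mul.1 (by
      rw [show 4 = 2 * 2 from rfl, pow_mul, ← conj_pow, h, mul_sq_of_mem hx (by simp) hs])),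
    fun h => by
      rw [show 4 = 2 * 2 from rfl, pow_mul, ← conj_pow, h, mul_sq_of_mem hx (by simp) hs, inv_pow]⟩
  have h10 : ∀ g ∉ C (x ^ 4), ∃ s ∈ Z (x ^ 2 ^ (n + 3)), g * x ^ 2 * g⁻¹ = (x ^ 2)⁻¹ * s :=
    fun g hg => let ⟨s, h10, h11⟩ := h8 g; ⟨s, h10, h11.resolve_left fun h => hg ((h9 h10).1 h)⟩
  refine or_iff_not_imp_left.2 fun h11 => ?_
  obtain ⟨w, hw⟩ : ∃ w, w ∉ C (x ^ 4) := by_contra fun h => h11 (mem_center_of_C
    (top_unique fun a _ => by_contra fun h12 => h ⟨a, h12⟩))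
  have h12 : (C (x ^ 4)).index = 2 := Subgroup.index_eq_two_iff.2 ⟨w, fun g => by
    by_cases hg : g ∈ C (x ^ 4)
    · exact .inr ⟨hg, by rwa [Subgroup.mul_mem_cancel_left _ hg]⟩
    · obtain ⟨s, k1, k2⟩ := h10 g hg
      obtain ⟨t, k3, k4⟩ := h10 w hw
      refine .inl ⟨mem_C.2 (mul_inv_eq_iff_eq_mul.1 ?_), hg⟩
      rw [mul_inv_rev, mul_assoc g, mul_assoc g, ← mul_assoc _ w⁻¹, (h9 k3).2 k4, ← mul_assoc,
        ← conj_inv, (h9 k1).2 k2, inv_inv]⟩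
  have h13 : x ∈ C (x ^ 4) := mem_C.2 (by group)
  have h14 : (Z x).relIndex (C (x ^ 4)) = 2 := by
    have := Subgroup.relIndex_mul_index (Subgroup.zpowers_le.2 h13)
    rw [h12] at this
    omega
  refine ⟨_, hx, h13, h12, h14, fun g hg => ?_, h10⟩
  obtain ⟨s, k1, k2 | k2⟩ := conj_cases' hx h13 h14 hg
  · exact ⟨s, k1, k2⟩
  have k3 := (h9 (g := g) (one_mem _)).2 (by
    rw [← conj_pow, k2, mul_sq_of_mem hx (by simp) k1, inv_pow, mul_one])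
  rw [mem_C.1 hg, mul_inv_cancel_right, ← mul_eq_one_iff_eq_inv, ← pow_add] at k3
  exact absurd k3 (pow_ne_one_of_lt (k := 3) hx (by omega))

variable (x n A) in
/-- the quotient of a `BD` group by the involution of `⟨x⟩` -/
structure BS : Prop where
  ord : orderOf x = 2 ^ (n + 3)
  mem : x ∈ A
  ab : IsMulCommutative A
  idx : A.index = 2
  rel : (Z x).relIndex A = 2
  inv : ∀ w ∉ A, w * x ^ 2 * w⁻¹ = (x ^ 2)⁻¹
  sq : ∀ w ∉ A, w ^ 2 ≠ x ^ 2 ^ (n + 2)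
  cnj : ∀ t ∈ A, t ^ 2 = 1 → ∀ w, w * t * w⁻¹ ≠ t * x ^ 2 ^ (n + 2)

namespace BD

variable (h : BD K x n)
include h

theorem fix_sq (hg : g ∈ K) : g * x ^ 2 * g⁻¹ = x ^ 2 := by
  obtain ⟨s, h1, h2⟩ := h.cen g hg
  rw [← conj_pow, h2, mul_sq_of_mem h.ord (by simp) h1]

theorem fix_c (hg : g ∈ K) : g * x ^ 2 ^ (n + 2) * g⁻¹ = x ^ 2 ^ (n + 2) := by
  rw [pow_succ', pow_mul, ← conj_pow, h.fix_sq hg]

theorem inv_c (hg : g ∉ K) : g * x ^ 2 ^ (n + 2) * g⁻¹ = (x ^ 2 ^ (n + 2))⁻¹ := by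
  obtain ⟨s, h1, h2⟩ := h.inv g hg
  rw [pow_succ', pow_succ', pow_mul, pow_mul, ← conj_pow, ← conj_pow, h2,
    mul_sq_of_mem h.ord (by simp) h1, inv_pow, inv_pow]

theorem z_cen : x ^ 2 ^ (n + 3) ∈ 𝒵 S := Subgroup.mem_center_iff.2 fun g => by
  rw [← mul_inv_eq_iff_eq_mul, pow_succ, pow_mul, ← conj_pow]
  by_cases hg : g ∈ K
  · rw [h.fix_c hg]
  · rw [h.inv_c hg, inv_pow, inv_eq_iff_mul_eq_one, ← sq, ← pow_mul (x) _ 2,
      ← pow_succ, pow_half_sq h.ord]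

theorem bs {S' : Type*} [Group S'] [Finite S'] {f : S →* S'} (hf : Function.Surjective f)
    (hk : f.ker = Z (x ^ 2 ^ (n + 3))) : BS (K.map f) (f x) n := by
  have h1 : f.ker ≤ Z x := hk ▸ Subgroup.zpowers_le.2 (Subgroup.npow_mem_zpowers x _)
  have h2 := Subgroup.zpowers_le.2 h.mem
  have h3 : ∀ {g}, f g ∈ K.map f ↔ g ∈ K := by
    intro g
    rw [← Subgroup.mem_comap, Subgroup.comap_map_eq_self (h1.trans h2)]
  have h4 : ∀ {s}, s ∈ Z (x ^ 2 ^ (n + 3)) → f s = 1 := fun hs => hk.ge hs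
  have h5 : (Z (f x)).relIndex (K.map f) = 2 := by
    have k1 := Subgroup.relIndex_mul_index (Subgroup.map_mono (f := f) h2)
    have k2 := Subgroup.relIndex_mul_index h2
    rw [index_map_of_ker_le hf h1, index_map_of_ker_le hf (h1.trans h2), MonoidHom.map_zpowers,
      ← k2, h.rel, h.idx] at k1
    omega
  have h6 : ∀ a ∈ Z (f x), ∀ b ∈ K.map f, b * a = a * b := by
    rintro _ ⟨i, rfl⟩ _ ⟨g, hg, rfl⟩
    obtain ⟨s, k1, k2⟩ := h.cen g hg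
    refine (Commute.zpow_right (mul_inv_eq_iff_eq_mul.1 ?_) i).eq
    rw [← map_inv, ← map_mul, ← map_mul, k2, map_mul, h4 k1, mul_one]
  have h7 : ∀ {a b}, f a = f b → ∃ s ∈ Z (x ^ 2 ^ (n + 3)), b = a * s := fun {a b} h7 =>
    ⟨a⁻¹ * b, hk.le (by rw [MonoidHom.mem_ker, map_mul, map_inv, h7, inv_mul_cancel]), by simp⟩
  have h8 : ∀ {s}, s ∈ Z (x ^ 2 ^ (n + 3)) → s ∈ 𝒵 S := fun hs => Subgroup.zpowers_le.2 h.z_cen hs
  have h9 : (x ^ 2 ^ (n + 2)) ^ 2 ≠ 1 := by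
    rw [← pow_mul, ← pow_succ]
    exact pow_ne_one_of_lt h.ord (by omega)
  refine ⟨orderOf_eq_prime_pow (fun k1 => ?_) ?_, h3.2 h.mem, ⟨⟨fun a b => Subtype.ext ?_⟩⟩,
    (index_map_of_ker_le hf (h1.trans h2)).trans h.idx, h5, fun w hw => ?_, fun w hw k1 => ?_,
    fun t ht k1 w k2 => ?_⟩
  · obtain ⟨s, k2, k3⟩ := h7 (a := 1) (b := x ^ 2 ^ (n + 2)) (by rw [map_pow, k1, map_one])
    exact h9 (by rw [k3, mul_sq_of_mem h.ord (one_mem _) k2, one_pow])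
  · rw [← map_pow, h4 (Subgroup.mem_zpowers _)]
  · by_cases ha : a.1 ∈ Z (f x)
    · exact (h6 _ ha _ b.2).symm
    by_cases hb : b.1 ∈ Z (f x)
    · exact h6 _ hb _ a.2
    have := h6 _ (inv_mul_mem_of_relIndex_two h5 a.2 b.2 ha hb) _ a.2
    rw [mul_inv_cancel_left, mul_assoc, eq_inv_mul_iff_mul_eq] at this
    exact this
  · obtain ⟨w, rfl⟩ := hf w
    obtain ⟨s, k1, k2⟩ := h.inv w (mt h3.2 hw)
    simpa [h4 k1] using congrArg f k2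
  · obtain ⟨w, rfl⟩ := hf w
    obtain ⟨s, k2, k3⟩ := h7 (a := w ^ 2) (b := x ^ 2 ^ (n + 2)) (by simpa using k1)
    have k4 := h.inv_c (mt h3.2 hw)
    rw [eq_inv_iff_mul_eq_one] at k4
    refine h9 (k4 ▸ ?_)
    rw [_root_.sq, mul_left_inj, k3, ← mul_assoc, mul_assoc _ s, ← Subgroup.mem_center_iff.1 (h8 k2)]
    group
  · obtain ⟨w, rfl⟩ := hf w
    obtain ⟨t, rfl⟩ := hf t
    obtain ⟨s, k3, k4⟩ := h7 (a := t * x ^ 2 ^ (n + 2)) (b := w * t * w⁻¹) (by simpa using k2.symm)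
    have k5 := congrArg (· ^ 2) k4
    have k6 : t ^ 2 ∈ 𝒵 S := h8 (hk.le (by simpa using k1))
    rw [conj_pow, Subgroup.mem_center_iff.1 k6, mul_inv_cancel_right, mul_assoc,
      Commute.mul_pow, mul_sq_of_mem h.ord (by simp) k3, left_eq_mul] at k5
    · exact h9 k5
    · exact Commute.mul_right (mul_inv_eq_iff_eq_mul.1 (h.fix_c (h3.1 ht)))
        (Subgroup.mem_center_iff.1 (h8 k3) t)

end BD

theorem le_Fx_of_four' {α : MulAut S} {V : Subgroup S} (h : ¬ 2 ∣ orderOf α)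
    (hV : ∀ v ∈ V, α v ∈ V) (h4 : Nat.card V = 4) (ha : a ∈ V) (h1 : a ≠ 1) (h2 : α a = a) :
    V ≤ Fx α := fun v hv => by
  have h3 : IsPGroup 2 V := .of_card (n := 2) h4
  replace h2 : Z a ≤ Fx α := Subgroup.zpowers_le.2 h2
  by_cases h5 : v ∈ Z a
  · exact h2 h5
  have h6 := Subgroup.zpowers_le.2 ha
  have h7 : (Z a).relIndex V = 2 := relIndex_of_card h6 (by
    have k1 := one_lt_card_of_mem (Subgroup.mem_zpowers a) h1
    have k2 := two_mul_le_of_lt (h6.lt_of_ne fun k2 => h5 (k2 ▸ hv))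
    omega)
  have h8 := inv_mul_mem_of_relIndex_two h7 hv (hV v hv) h5 fun h8 =>
    h5 (α.injective (h2 h8) ▸ h8)
  exact fix_of_coprime (h3.to_le h6) h h8 (h2 h8)

theorem comm_mul (hA : IsMulCommutative A) (hi : A.index = 2) (w : S) (ha : a ∈ A) (i : ℕ) :
    w * a ^ i * w⁻¹ * (a ^ i)⁻¹ = (w * a * w⁻¹ * a⁻¹) ^ i := by
  have h1 : Commute (w * a * w⁻¹) a⁻¹ := congrArg Subtype.val (hA.1.1
    ⟨_, (A.normal_of_index_eq_two hi).conj_mem a ha w⟩ ⟨_, inv_mem ha⟩)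
  rw [h1.mul_pow, conj_pow, inv_pow]

theorem no_odd (hS : IsPGroup 2 S) (hA : IsMulCommutative A) (hi : A.index = 2)
    (hc : Nat.card (𝒵 S) = 4) (hz : z ∈ 𝒵 S) (hz1 : z ≠ 1)
    (uq : ∀ c ∈ 𝒵 S, c ∈ 𝒟 S → c = 1 ∨ c = z) (h1 : ∀ v ∈ A, v ^ 2 = 1 ↔ v ∈ 𝒵 S)
    (h2 : ∀ b ∈ A, (b ^ 2) ^ 2 = 1 → b ^ 2 = 1 ∨ b ^ 2 = z) (h3 : ∀ w ∉ A, w ^ 2 ≠ z)
    (h4 : 𝒵 S ≤ Q ⊓ A) (h5 : ¬ Q ⊓ A ≤ 𝒵 S) {α : MulAut Q} (h6 : ¬ 2 ∣ orderOf α) : α = 1 := by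
  have k1 : ∀ w ∉ A, A ⊓ C w ≤ 𝒵 S := fun w hw => (exists_conj_out hA hi hw).2.1
  have k2 : ∀ w ∉ A, w ^ 2 ∈ 𝒵 S := fun w hw =>
    k1 w hw ⟨A.sq_mem_of_index_two hi w, mem_C.2 (by group)⟩
  have k3 : ∀ c ∈ 𝒵 S, c ^ 2 = 1 := fun c hc => (h1 c (h4 hc).2).2 hc
  obtain ⟨b, hb, k4, k5⟩ : ∃ b ∈ Q ⊓ A, b ∉ 𝒵 S ∧ b ^ 2 = z := by
    obtain ⟨b, hb, k4⟩ := SetLike.not_le_iff_exists.1 h5
    obtain ⟨j, hj⟩ := (IsPGroup.iff_orderOf.1 hS) b
    rcases j with _ | _ | j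
    · exact absurd (orderOf_eq_one_iff.1 hj ▸ one_mem _) k4
    · exact absurd ((h1 b hb.2).1 (orderOf_dvd_iff_pow_eq_one.1 hj.dvd)) k4
    have k5 : (b ^ 2 ^ j) ^ 2 ≠ 1 := by
      rw [← pow_mul, ← pow_succ]
      exact pow_ne_one_of_lt hj (by omega)
    refine ⟨b ^ 2 ^ j, pow_mem hb _, mt (k3 _) k5, (h2 _ (pow_mem hb.2 _) ?_).resolve_left k5⟩
    rw [← pow_mul b, ← pow_succ, pow_half_sq hj]
  have k6 : α ⟨z, (h4 hz).1⟩ = ⟨z, (h4 hz).1⟩ := Subtype.ext <| by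
    have l1 : (α ⟨z, (h4 hz).1⟩).1 ≠ 1 := by simpa using hz1
    have l2 : (α ⟨z, (h4 hz).1⟩).1 ^ 2 = 1 := by
      rw [← Subgroup.coe_pow, ← map_pow, show (⟨z, (h4 hz).1⟩ : Q) ^ 2 = 1 from
        Subtype.ext (k3 z hz), map_one, Subgroup.coe_one]
    by_cases l3 : Q ≤ A
    · rw [show (⟨z, (h4 hz).1⟩ : Q) = ⟨b, hb.1⟩ ^ 2 from Subtype.ext k5.symm, map_pow] at l1 l2 ⊢
      exact ((h2 _ (l3 (α _).2) l2).resolve_left l1).trans k5.symm
    obtain ⟨w, l4, l5⟩ := SetLike.not_le_iff_exists.1 l3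
    have l6 : 𝒟 S ≤ A := by
      have := A.normal_of_index_eq_two hi
      have : IsCyclic (S ⧸ A) := isCyclic_of_prime_card (p := 2) hi
      exact Subgroup.Normal.quotient_commutative_iff_commutator_le.1 inferInstance
    have l7 : w * b * w⁻¹ * b⁻¹ = z := (uq _ ((h1 _ (l6 (commutator_mem w b))).1 (by
      rw [← comm_mul hA hi w hb.2, k5, Subgroup.mem_center_iff.1 hz w]
      group)) (commutator_mem w b)).resolve_left fun l7 => k4 (k1 w l5 ⟨hb.2, mem_C.2 (by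
        rwa [mul_inv_eq_one, mul_inv_eq_iff_eq_mul, eq_comm] at l7)⟩)
    have l8 : (α ⟨z, (h4 hz).1⟩).1 ∈ 𝒟 S := by
      rw [show (⟨z, (h4 hz).1⟩ : Q) = ⟨w, l4⟩ * ⟨b, hb.1⟩ * ⟨w, l4⟩⁻¹ * ⟨b, hb.1⟩⁻¹ from
        Subtype.ext l7.symm, map_mul, map_mul, map_mul, map_inv, map_inv]
      exact commutator_mem _ _
    exact (uq _ ((h1 _ (l6 l8)).1 l2) l8).resolve_left l1
  have k7 : ∀ q : Q, q.1 ∈ A → (α q).1 ∈ A := fun q hq => by_contra fun l1 => by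
    by_cases l2 : q.1 ∈ 𝒵 S
    · obtain ⟨b', l3⟩ := α.surjective ⟨b, hb.1⟩
      refine k4 (k1 _ l1 ⟨hb.2, mem_C.2 ?_⟩)
      have := congrArg (fun a => (α a).1) (show b' * q = q * b' from
        Subtype.ext (Subgroup.mem_center_iff.1 l2 b'))
      simpa [l3] using this
    have l3 : α ((q ^ 2) ^ 2) = 1 := Subtype.ext (by simpa using k3 _ (k2 _ l1))
    rcases h2 q hq (congrArg Subtype.val ((map_eq_one_iff α α.injective).1 l3)) with l4 | l4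
    · exact l2 ((h1 q hq).1 l4)
    · refine h3 _ l1 ?_
      rw [← Subgroup.coe_pow, ← map_pow, show q ^ 2 = ⟨z, (h4 hz).1⟩ from Subtype.ext l4, k6]
  have k8 : (𝒵 S).subgroupOf Q ≤ Fx α := le_Fx_of_four' h6 (fun q hq => (h1 _ (k7 q (h4 hq).2)).1
    (by rw [← Subgroup.coe_pow, ← map_pow, show q ^ 2 = 1 from Subtype.ext (k3 _ hq), map_one,
      Subgroup.coe_one])) (by rw [card_subgroupOf_of_le (h4.trans inf_le_left), hc])
    (a := ⟨z, (h4 hz).1⟩) hz (by simpa using hz1) k6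
  have k9 : ∀ j, ∀ q : Q, q.1 ∈ A → q ^ 2 ^ j = 1 → α q = q := fun j => by
    induction j with
    | zero => exact fun q _ l1 => by simp [show q = 1 by simpa using l1]
    | succ j ih =>
      intro q hq l1
      have l2 := ih (q ^ 2) (pow_mem hq 2) (by rw [← pow_mul, ← pow_succ', l1])
      have l3 : (q⁻¹ * α q).1 ∈ 𝒵 S := (h1 _ (mul_mem (inv_mem hq) (k7 q hq))).1 (by
        have : Commute q.1⁻¹ (α q).1 := congrArg Subtype.val (hA.1.1 ⟨_, inv_mem hq⟩ ⟨_, k7 q hq⟩)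
        rw [this.mul_pow, ← Subgroup.coe_pow, ← map_pow, l2]
        simp)
      exact fix_of_coprime (K := (𝒵 S).subgroupOf Q) ((hS.to_subgroup Q).to_subgroup _) h6 l3
        (k8 l3)
  have k10 : ∀ q : Q, q.1 ∈ A → α q = q := fun q hq =>
    let ⟨j, hj⟩ := hS.to_subgroup Q q; k9 j q hq hj
  refine MulEquiv.ext fun q => ?_
  by_cases hq : q.1 ∈ A
  · exact k10 q hq
  have l1 : (q⁻¹ * α q).1 ∈ A := (A.mul_mem_iff_of_index_two hi).2 (by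
    simpa [hq] using fun l1 => hq (α.injective (k10 (α q) l1) ▸ l1 :))
  exact fix_of_coprime (K := A.subgroupOf Q) ((hS.to_subgroup Q).to_subgroup _) h6 l1 (k10 _ l1)

namespace BS

variable (h : BS A x n)
include h

theorem inv_zpowers (hw : w ∉ A) (ha : a ∈ Z (x ^ 2)) : w * a * w⁻¹ = a⁻¹ := by
  obtain ⟨i, rfl⟩ := ha
  rw [← conj_zpow, h.inv w hw, inv_zpow]

theorem exists_out : ∃ v, v ∉ A :=
  let ⟨v, _, h1⟩ := H10.exists_notMem_of_relIndex_two (S := ⊤) (by simpa using h.idx); ⟨v, h1⟩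

theorem comm (ha : a ∈ A) (hb : b ∈ A) : Commute a b :=
  congrArg Subtype.val (h.ab.1.1 ⟨a, ha⟩ ⟨b, hb⟩)

theorem cen_of_out (hw : w ∉ A) (ha : a ∈ A) (h1 : w * a * w⁻¹ = a) : a ∈ 𝒵 S :=
  (exists_conj_out h.ab h.idx hw).2.1 ⟨ha, mem_C.2 (mul_inv_eq_iff_eq_mul.1 h1).symm⟩

theorem z_cen : x ^ 2 ^ (n + 2) ∈ 𝒵 S := by
  obtain ⟨w, hw⟩ := h.exists_out
  refine h.cen_of_out hw (pow_mem h.mem _) ?_
  rw [h.inv_zpowers hw (pow_succ' 2 _ ▸ pow_mul x _ _ ▸ Subgroup.npow_mem_zpowers _ _),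
    inv_eq_iff_mul_eq_one, ← _root_.sq, pow_half_sq h.ord]

theorem sq_of_cen (ha : a ∈ Z x) (h1 : a ∈ 𝒵 S) : a ^ 2 = 1 := by
  obtain ⟨w, hw⟩ := h.exists_out
  have h2 : ∀ a ∈ Z (x ^ 2), a ∈ 𝒵 S → a ^ 2 = 1 := fun a h2 h3 => by
    have := h.inv_zpowers hw h2
    rwa [Subgroup.mem_center_iff.1 h3, mul_inv_cancel_right, eq_inv_iff_mul_eq_one,
      ← _root_.sq] at this
  refine h2 a (mem_zpowers_pow (m := n + 2) (k := 1) h.ord ha ?_) h1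
  obtain ⟨i, rfl⟩ := ha
  rw [pow_add, mul_comm, pow_mul, show 2 ^ 2 = 2 * 2 from rfl, pow_mul,
    h2 _ ⟨i, by simp only [← zpow_natCast, ← zpow_mul, mul_comm]⟩ (pow_mem h1 2), one_pow]

theorem cen_iff (v : S) (hv : v ∈ A) : v ^ 2 = 1 ↔ v ∈ 𝒵 S := by
  obtain ⟨w, hw⟩ := h.exists_out
  have h1 : ∀ v ∈ A, v ^ 2 = 1 → v ∈ 𝒵 S := fun v hv h1 => by
    have k1 : ∀ v ∈ Z x, v ^ 2 = 1 → v ∈ 𝒵 S := fun v hv h1 => by
      rcases invol_zpowers h.ord hv h1 with rfl | rfl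
      exacts [one_mem _, h.z_cen]
    by_cases k2 : v ∈ Z x
    · exact k1 v k2 h1
    have k3 := (A.normal_of_index_eq_two h.idx).conj_mem v hv w
    have k4 : (w * v * w⁻¹) ^ 2 = 1 := by rw [conj_pow, h1, mul_one, mul_inv_cancel]
    by_cases k5 : w * v * w⁻¹ ∈ Z x
    · simpa [mul_assoc] using map_mem_center (MulAut.conj w⁻¹) (k1 _ k5 k4)
    rcases invol_zpowers h.ord (inv_mul_mem_of_relIndex_two h.rel hv k3 k2 k5) (by
      rw [(h.comm (inv_mem hv) k3).mul_pow, k4, inv_pow, h1, inv_one, mul_one]) with k6 | k6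
    · exact h.cen_of_out hw hv (inv_mul_eq_one.1 k6).symm
    · exact absurd (inv_mul_eq_iff_eq_mul.1 k6) (h.cnj v hv h1 w)
  refine ⟨h1 v hv, fun h2 => ?_⟩
  have h3 := Subgroup.sq_mem_of_index_two h.rel ⟨v, hv⟩
  refine (invol_zpowers h.ord h3 (h.sq_of_cen h3 (pow_mem h2 2))).resolve_right fun h4 => ?_
  have h5 := h1 (v * x ^ 2 ^ (n + 1)) (mul_mem hv (pow_mem h.mem _)) (by
    rw [(h.comm hv (pow_mem h.mem _)).mul_pow, show v ^ 2 = _ from h4, ← pow_mul x _ 2, ← pow_succ,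
      ← _root_.sq, pow_half_sq h.ord])
  have h6 := h.sq_of_cen (Subgroup.npow_mem_zpowers x _) ((Subgroup.mul_mem_cancel_left _ h2).1 h5)
  rw [← pow_mul, ← pow_succ] at h6
  exact pow_ne_one_of_lt h.ord (by omega) h6

theorem center_le : 𝒵 S ≤ A := fun c hc => by_contra fun h1 => by
  have := h.inv c h1
  rw [← Subgroup.mem_center_iff.1 hc, mul_inv_cancel_right, eq_inv_iff_mul_eq_one,
    ← pow_add] at this
  exact pow_ne_one_of_lt (k := 2) h.ord (by omega) this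

theorem uq (c : S) (hc : c ∈ 𝒵 S) (h1 : c ∈ 𝒟 S) (h2 : ∃ t ∈ 𝒵 S, t ∉ Z x) :
    c = 1 ∨ c = x ^ 2 ^ (n + 2) := by
  obtain ⟨w, hw⟩ := h.exists_out
  obtain ⟨t, h2, h3⟩ := h2
  obtain ⟨a, ha, h4⟩ := (exists_conj_out h.ab h.idx (v := w⁻¹) (by simpa using hw)).1 c⁻¹
    (inv_mem h1)
  obtain ⟨a, ha, h5⟩ : ∃ a ∈ Z x, w * a * w⁻¹ * a⁻¹ = c := by
    have k1 : w * a * w⁻¹ * a⁻¹ = c⁻¹ := by rw [mul_assoc, mul_assoc, ← mul_assoc a, h4]; group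
    have k2 : c⁻¹ = c := inv_eq_of_mul_eq_one_right
      (_root_.sq c ▸ (h.cen_iff c (h.center_le hc)).2 hc)
    by_cases k3 : a ∈ Z x
    · exact ⟨a, k3, k1.trans k2⟩
    refine ⟨_, inv_mul_mem_of_relIndex_two h.rel (h.center_le h2) ha h3 k3, ?_⟩
    rw [← k2, ← k1, ← mul_assoc, Subgroup.mem_center_iff.1 (inv_mem h2) w, mul_inv_rev, inv_inv,
      ← mul_assoc, Subgroup.mem_center_iff.1 h2]
    group
  obtain ⟨i, rfl⟩ := mem_powers_iff_mem_zpowers.2 ha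
  have h6 := (h.cen_iff c (h.center_le hc)).2 hc
  refine invol_zpowers h.ord ?_ h6
  have h7 : (w * x * w⁻¹ * x⁻¹) ^ 2 = (x ^ 2 ^ 2)⁻¹ := by
    rw [← comm_mul h.ab h.idx w h.mem, h.inv w hw]
    group
  simp only [comm_mul h.ab h.idx w h.mem] at h5
  rw [← h5, ← pow_mul, mul_comm, pow_mul, h7, inv_pow, inv_eq_one, ← pow_mul,
    ← orderOf_dvd_iff_pow_eq_one, h.ord, show n + 3 = 2 + (n + 1) by ring, pow_add] at h6
  obtain ⟨j, rfl⟩ := (dvd_pow_self 2 n.succ_ne_zero).trans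
    (Nat.dvd_of_mul_dvd_mul_left (by norm_num) h6)
  rw [← h5, pow_mul, h7]
  exact pow_mem (inv_mem (Subgroup.npow_mem_zpowers x _)) j

theorem cases (hS : IsPGroup 2 S) :
    ((𝒟 S).index ≤ 4 ∧ 4 < Nat.card S) ∨ LD A (x ^ 2 ^ (n + 2)) := by
  obtain ⟨w, hw⟩ := h.exists_out
  have k1 : x ^ 2 ^ (n + 2) ≠ 1 := pow_ne_one_of_lt h.ord (by omega)
  have k2 : Z x ⊓ 𝒵 S = Z (x ^ 2 ^ (n + 2)) := le_antisymm (fun a ha => (sq_mem_zpowers
    (pow_half_sq h.ord)).2 (invol_zpowers h.ord ha.1 (h.sq_of_cen ha.1 ha.2)))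
    (Subgroup.zpowers_le.2 ⟨Subgroup.npow_mem_zpowers x _, h.z_cen⟩)
  have k3 : Nat.card (Z (x ^ 2 ^ (n + 2))) = 2 := by
    rw [Nat.card_zpowers, orderOf_eq_prime (pow_half_sq h.ord) k1]
  by_cases h2 : ∃ t ∈ 𝒵 S, t ∉ Z x
  swap
  · have k4 := (exists_conj_out h.ab h.idx hw).2.2
    rw [le_antisymm (exists_conj_out h.ab h.idx hw).2.1 (le_inf h.center_le
      (le_C_of_center le_rfl w)), ← inf_eq_right.2 (show 𝒵 S ≤ Z x from fun t ht =>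
        by_contra fun k4 => h2 ⟨t, ht, k4⟩), k2, k3] at k4
    have k5 := (𝒟 S).card_mul_index
    have k6 := Nat.le_of_dvd Nat.card_pos (orderOf_dvd_natCard x)
    have k7 := Nat.one_le_two_pow (n := n)
    rw [h.ord, pow_add] at k6
    rw [← A.card_mul_index, ← k4, h.idx, mul_assoc] at k5
    exact .inl ⟨(Nat.eq_of_mul_eq_mul_left Nat.card_pos k5).le, by omega⟩
  have k4 : Nat.card (𝒵 S) = 4 := by
    have l1 := ((Z x ⊓ 𝒵 S).subgroupOf (𝒵 S)).card_mul_index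
    have l2 : (Z x).relIndex (𝒵 S) = 2 := by
      have l2 := Subgroup.relIndex_le_of_le_right h.center_le (h.rel ▸ two_ne_zero)
      have l3 : (Z x).relIndex (𝒵 S) ≠ 1 := fun l3 => by
        obtain ⟨t, l4, l5⟩ := h2
        exact l5 (Subgroup.relIndex_eq_one.1 l3 l4)
      have l4 : (Z x).relIndex (𝒵 S) ≠ 0 := Subgroup.FiniteIndex.index_ne_zero
      rw [h.rel] at l2
      omega
    rw [card_subgroupOf_of_le inf_le_right, k2, k3, ← k2] at l1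
    rw [← l1, ← Subgroup.relIndex, Subgroup.inf_relIndex_right, l2]
  have k5 := fun {Q} => no_odd (Q := Q) hS h.ab h.idx k4 h.z_cen k1 (fun c l1 l2 => h.uq c l1 l2 h2)
    h.cen_iff (fun b hb => invol_zpowers h.ord (Subgroup.sq_mem_of_index_two h.rel ⟨b, hb⟩)) h.sq
  have k6 : ¬ A ≤ 𝒵 S := fun k6 => pow_ne_one_of_lt (k := 1) h.ord (by omega)
    ((h.cen_iff x h.mem).2 (k6 h.mem))
  refine .inr ⟨h.ab, h.idx, k4, h.z_cen, ?_, k1, fun c l1 l2 => h.uq c l1 l2 h2,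
    fun Q l1 l2 α l3 l4 => ?_, fun v hv l1 _ => (h.cen_iff v hv).1 l1, fun α l1 l2 => absurd ?_ l2,
    .inl fun c hc => (h.cen_iff c (h.center_le hc)).2 hc⟩
  · have := commutator_mem w (x ^ 2)⁻¹
    rw [← conj_inv, h.inv w hw, inv_inv, ← pow_add] at this
    rw [pow_add, mul_comm, pow_mul]
    exact pow_mem this _
  · have l5 : 𝒵 S ≤ Q ⊓ A := le_inf (fun c hc => l2 (mem_centralizer'.2 fun q _ =>
      Subgroup.mem_center_iff.1 hc q)) h.center_le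
    have l6 : Q ⊓ A = 𝒵 S := le_antisymm (by_contra fun l6 => l4 (k5 l5 l6 l3)) l5
    have l7 := (A.subgroupOf Q).card_mul_index
    rw [← Subgroup.inf_subgroupOf_left, card_subgroupOf_of_le inf_le_left, l6, k4, ← l6,
      Subgroup.inf_subgroupOf_left] at l7
    have := A.normal_of_index_eq_two h.idx
    rcases (Nat.dvd_prime Nat.prime_two).1 (h.idx ▸ A.relIndex_dvd_index_of_normal Q) with l8 | l8
    · have l9 := Subgroup.relIndex_eq_one.1 l8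
      exact absurd (l6 ▸ le_inf (fun a ha => l2 (mem_centralizer'.2 fun q hq =>
        h.comm (l9 hq) ha)) le_rfl) k6
    · rw [← l7, show (A.subgroupOf Q).index = 2 from l8]
  · have := k5 (Q := ⊤) (α := MulAut.congr Subgroup.topEquiv.symm α)
      (by simpa using h.center_le) (by simpa using k6) (by rwa [MulEquiv.orderOf_eq])
    exact (map_eq_one_iff _ (MulEquiv.injective _)).1 this

end BS

end Grp

universe u

variable {G : Type u} [Group G] [Finite G] {M : Ideal AlgInt} {B : Set (IrrCharacter G)}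
  {P : Subgroup G} {e : (kk M)[G]} {x : P}

variable [CharP (kk M) 2] (hM : IsPModular 2 M) (hB : IsPBlock M B) (m : MaxP 2 ⊤ ⊤ (eB M B) P e)
include hM hB m

theorem card_le_of_le (h : Nat.card P ≤ 32) : Nat.card B ≤ Nat.card P := by
  rcases subsingleton_or_nontrivial P with h1 | h1
  · exact card_le_of_central hM hB m (one_mem _) (by rw [Subsingleton.elim (Z (1 : P)) ⊤]; simp)
  have := m.bp.isP.center_nontrivial
  obtain ⟨u, hu⟩ := exists_ne (1 : 𝒵 P)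
  have h2 := (Z u.1).card_mul_index
  have h3 := one_lt_card_of_mem (Subgroup.mem_zpowers u.1) (by simpa using hu)
  exact card_le_of_central hM hB m u.2 (by nlinarith)

theorem card_le_of_cyclic (h : (Z x).index ≤ 4) : Nat.card B ≤ Nat.card P := by
  by_cases h1 : Nat.card P ≤ 32
  · exact card_le_of_le hM hB m h1
  obtain ⟨i, hi⟩ := m.bp.isP.index (Z x)
  obtain ⟨k, hk⟩ := (IsPGroup.iff_orderOf.1 m.bp.isP) x
  have h2 := (Z x).card_mul_index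
  rw [Nat.card_zpowers, hi, hk, ← pow_add] at h2
  have h3 : i ≤ 2 := (Nat.pow_le_pow_iff_right one_lt_two).1 (hi ▸ h)
  have h4 : 5 < k + i := (Nat.pow_lt_pow_iff_right one_lt_two).1 (by omega)
  have h5 : ∀ j (y : P), orderOf y = 2 ^ (k + i - j) → j ≤ 5 → (Z y).index = 2 ^ j := by
    intro j y h5 h6
    have := (Z y).card_mul_index
    rw [Nat.card_zpowers, h5, ← h2, show k + i = k + i - j + j by omega, pow_add,
      Nat.add_sub_cancel] at this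
    exact Nat.eq_of_mul_eq_mul_left (by positivity) this
  have h6 : ∀ {y : P} {a} b, orderOf y = 2 ^ (a + b) → orderOf (y ^ 2 ^ b) = 2 ^ a := fun b h6 => by
    rw [orderOf_pow_of_dvd (by positivity) (h6 ▸ pow_dvd_pow 2 (by omega)), h6, pow_add,
      Nat.mul_div_cancel _ (by positivity)]
  have h7 := h6 (a := k + i - 6 + 4) (2 - i) (by rw [hk]; congr 1; omega)
  rcases exists_BD h7 (h5 2 _ (by rw [h7]; congr 1; omega) (by norm_num)) with h8 | ⟨K, h8⟩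
  · exact card_le_of_central hM hB m h8 (h5 4 _ (h6 2 (by rw [h7]; congr 1; omega))
      (by norm_num)).le
  obtain ⟨Q, _, _, π, D, ē, hP, q, h9⟩ := exists_QD_cen hM m h8.z_cen
  refine q.card_le hM hB m hP (.inr (.inl ⟨rfl, ?_⟩))
  rcases (h8.bs (qf_surj hP) h9).cases q.m.bp.isP with h10 | h10
  · exact rank_le_of_index hM (q.blk hM) q.m h10.1 h10.2
  · exact h10.rank_le hM (q.blk hM) q.m

end H3.KQ
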