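import Cfsg.Agent.H3.KQ13

/-! Essential subgroups of small `2`-groups. -/

set_option autoImplicit false
set_option linter.unusedSectionVars false

open Cfsg MonoidAlgebra
open H5 H8 H28 H7 H21 Finset

namespace H3.KQ

local notation "Z" => Subgroup.zpowers
local notation "C" u:max => Subgroup.centralizer ({u} : Set _)
local notation "𝒵" => Subgroup.center
local notation "𝒟" => commutator

section Grp

variable {S : Type*} [Group S] [Finite S] {A K Q U V : Subgroup S} {z a b c d g s u v w x y : S}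
  {R : S → S → Prop} {E T : Subgroup (MulAut S)} {X : ∀ Q : Subgroup S, Subgroup (MulAut Q)}
  {α β γ σ : MulAut S} {p : ℕ}

/-- the stabilizer of the chain `1 ≤ U ≤ V ≤ S` -/
def St (U V : Subgroup S) : Subgroup (MulAut S) where
  carrier := {β | (∀ u ∈ U, β u = u) ∧ (∀ v ∈ V, v⁻¹ * β v ∈ U) ∧ ∀ q, q⁻¹ * β q ∈ V}
  one_mem' := by simp
  mul_mem' := by
    rintro β γ ⟨h1, h2, h3⟩ ⟨h4, h5, h6⟩
    refine ⟨fun u hu => by simp [h1 u hu, h4 u hu], fun v hv => ?_, fun q => ?_⟩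
    · simpa [mul_assoc] using mul_mem (h5 v hv) (h2 (γ v) (by simpa using mul_mem hv (h6 v)))
    · simpa [mul_assoc] using mul_mem (h6 q) (h3 (γ q))
  inv_mem' := by
    rintro β ⟨h1, h2, h3⟩
    have h4 : ∀ q, q⁻¹ * β⁻¹ q ∈ V := fun q => by simpa using inv_mem (h3 (β⁻¹ q))
    exact ⟨fun u hu => by rw [MulAut.inv_apply, MulEquiv.symm_apply_eq, h1 u hu], fun v hv => by
      simpa using inv_mem (h2 (β⁻¹ v) (by simpa using mul_mem hv (h4 v))), h4⟩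

theorem isPGroup_St [hp : Fact p.Prime] (hS : IsPGroup p S) : IsPGroup p (St U V) :=
  H10.isPGroup_of_coprime_eq_one fun β h4 => Subtype.ext <| MulEquiv.ext fun q => by
    obtain ⟨h1, h2, h3⟩ := β.2
    rw [← Subgroup.orderOf_coe, Nat.coprime_comm, hp.out.coprime_iff_not_dvd] at h4
    exact fix_of_coprime (hS.to_subgroup V) h4 (h3 q)
      (fix_of_coprime (hS.to_subgroup U) h4 (h2 _ (h3 q)) (h1 _ (h2 _ (h3 q))))

theorem le_normalizer_St (hU : ∀ α ∈ E, ∀ u ∈ U, α u ∈ U) (hV : ∀ α ∈ E, ∀ v ∈ V, α v ∈ V) :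
    E ≤ 𝐍 (St U V) := fun α hα => H1.mem_normalizer_of_conj_mem fun β ⟨h1, h2, h3⟩ =>
  ⟨fun u hu => by simpa using congrArg α (h1 _ (hU _ (inv_mem hα) u hu)), fun v hv => by
    simpa using hU α hα _ (h2 _ (hV _ (inv_mem hα) v hv)), fun q => by
    simpa using hV α hα _ (h3 (α⁻¹ q))⟩

theorem le_of_syl {Y : Type*} [Group Y] [Finite Y] [Fact p.Prime] {T K X : Subgroup Y}
    (h : ¬ p ∣ T.relIndex X) (hK : IsPGroup p K) (h1 : T ≤ K) (h2 : T ≤ X) : K ⊓ X ≤ T := by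
  obtain ⟨n, hn⟩ := (hK.to_inf_left (K := X)).index (T.subgroupOf _)
  have h3 := Subgroup.relIndex_mul_relIndex T (K ⊓ X) X (le_inf h1 h2) inf_le_right
  rcases n with _ | n
  · exact Subgroup.relIndex_eq_one.1 hn
  · exact absurd (h3 ▸ ((dvd_pow_self p n.succ_ne_zero).trans hn.symm.dvd).mul_right _) h

theorem commute_of_St (hS : IsPGroup 2 S) (h : ¬ 8 ∣ Nat.card E) (h1 : β ∈ E) (h2 : γ ∈ E)
    (h3 : β c = c) (h4 : γ c = c) (h5 : γ d = d) (h6 : ∀ q, q⁻¹ * β q ∈ Z c)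
    (h7 : ∀ q, q⁻¹ * γ q ∈ Z d) : Commute β γ := by
  have k1 : Z c ⊔ Z d ≤ Fx γ := sup_le (Subgroup.zpowers_le.2 h4) (Subgroup.zpowers_le.2 h5)
  have k2 : β ∈ St (Z c) (Z c ⊔ Z d) := ⟨Subgroup.zpowers_le.2 (show c ∈ Fx β from h3),
    fun v _ => h6 v, fun q => Subgroup.mem_sup_left (h6 q)⟩
  have k3 : γ ∈ St (Z c) (Z c ⊔ Z d) := ⟨fun u hu => k1 (Subgroup.mem_sup_left hu),
    fun v hv => by simp [mem_Fx.1 (k1 hv)], fun q => Subgroup.mem_sup_right (h7 q)⟩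
  obtain ⟨n, hn⟩ := ((isPGroup_St (U := Z c) (V := Z c ⊔ Z d) hS).to_inf_left
    (K := E)).exists_card_eq
  have k4 := hn ▸ Subgroup.card_dvd_of_le (inf_le_right : _ ⊓ E ≤ E)
  have k5 := comm_of_card_dvd_sq (p := 2) (hn ▸ pow_dvd_pow 2 (show n ≤ 2 from by_contra fun k5 =>
    h ((pow_dvd_pow 2 (show 3 ≤ n by omega)).trans k4)))
  exact congrArg Subtype.val (k5.1.1 ⟨β, k2, h1⟩ ⟨γ, k3, h2⟩)

/-- candidates for essential subgroups -/
structure EC (p : ℕ) (Q : Subgroup S) (X : ∀ Q : Subgroup S, Subgroup (MulAut Q)) : Prop where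
  ne : Q ≠ ⊤
  cen : 𝐂 Q ≤ Q
  inn : Q.normalizerMonoidHom.range ≤ X Q
  syl : ¬ p ∣ Q.normalizerMonoidHom.range.relIndex (X Q)
  rad : ∀ K : Subgroup (MulAut Q), IsPGroup p K → X Q ≤ 𝐍 K →
    ∀ s : 𝐍 Q, Q.normalizerMonoidHom s ∈ K → s.1 ∈ Q

namespace EC

variable [Fact p.Prime] (h : EC p Q X) (hS : IsPGroup p S)
include h

theorem center_le : 𝒵 S ≤ Q := fun c hc =>
  h.cen (mem_centralizer'.2 fun q _ => Subgroup.mem_center_iff.1 hc q)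

theorem le_of_comm (h1 : IsMulCommutative A) (h2 : Q ≤ A) : A ≤ Q := fun a ha =>
  h.cen (mem_centralizer'.2 fun q hq => congrArg Subtype.val (h1.1.1 ⟨q, h2 hq⟩ ⟨a, ha⟩))

include hS

theorem mem_of_St {U V : Subgroup Q} (hU : ∀ α ∈ X Q, ∀ u ∈ U, α u ∈ U)
    (hV : ∀ α ∈ X Q, ∀ v ∈ V, α v ∈ V) (s : 𝐍 Q) (h1 : Q.normalizerMonoidHom s ∈ St U V) :
    s.1 ∈ Q :=
  h.rad _ (isPGroup_St (hS.to_subgroup Q)) (le_normalizer_St hU hV) s h1

theorem exists_reg : ∃ α ∈ X Q, ¬ p ∣ orderOf α ∧ α ≠ 1 := by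
  by_contra! h1
  have := hS.isNilpotent
  obtain ⟨s, h2, h3⟩ := SetLike.exists_of_lt (Group.normalizerCondition_of_isNilpotent Q h.ne.lt_top)
  exact h3 (h.rad _ (H10.isPGroup_of_coprime_eq_one fun α h4 => Subtype.ext (h1 _ α.2 (by
    rwa [Subgroup.orderOf_coe, ← Nat.Prime.coprime_iff_not_dvd Fact.out, Nat.coprime_comm])))
    Subgroup.le_normalizer ⟨s, h2⟩ (h.inn ⟨_, rfl⟩))

end EC

theorem EC.not_eight (h : EC 2 Q X) (h1 : IsMulCommutative Q) (h2 : Q.index ∣ 4) :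
    ¬ 8 ∣ Nat.card (X Q) := fun h3 => by
  have h4 := (Q.normalizerMonoidHom.range.subgroupOf (X Q)).card_mul_index
  have h5 : Nat.card Q.normalizerMonoidHom.range ∣ 4 := by
    rw [← Subgroup.index_ker]
    refine (Subgroup.index_dvd_of_le (H := Q.subgroupOf _) fun a ha => MulEquiv.ext fun q =>
      Subtype.ext ?_).trans ((Dvd.intro _ (Subgroup.relIndex_mul_index Q.le_normalizer)).trans h2)
    exact mul_inv_eq_iff_eq_mul.2 (congrArg Subtype.val (h1.1.1 ⟨a, ha⟩ q))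
  rw [card_subgroupOf_of_le h.inn] at h4
  rw [← h4] at h3
  exact h.syl (Nat.dvd_of_mul_dvd_mul_left (k := 4) (by norm_num)
    (h3.trans (mul_dvd_mul_right h5 _)))

/-- `AF` with Alperin's theorem for essential candidates -/
structure AG (p : ℕ) (R : S → S → Prop) (E : Subgroup (MulAut S))
    (X : ∀ Q : Subgroup S, Subgroup (MulAut Q)) : Prop extends AF p R E X where
  ind' : ∀ W : S → S → Prop, (∀ u v w, W u v → W v w → W u w) → (∀ α ∈ E, ∀ u, W u (α u)) →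
    (∀ Q, EC p Q X → ∀ α ∈ X Q, ∀ y : Q, W y (α y)) → ∀ u v, R u v → W u v

end Grp

universe u

variable {G : Type u} [Group G] [Finite G] {p : ℕ} [Fact p.Prime]

section Abs

variable {k : Type*} [Field k] [CharP k p] [IsAlgClosed k] {P : Subgroup G} {b e : k[G]}
  {Q : Subgroup P} (m : MaxP p ⊤ ⊤ b P e)

theorem MaxP.ec (h : (bpFS m.bp).Ess (Q.map P.subtype)) : EC p Q (XA m.bp) := by
  refine ⟨fun h1 => h.lt.ne ?_, fun s hs => ?_, (MaxP.af m).inn Q, syl_XA m.bp (m.sat.syl h.fn),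
    fun K h1 h2 s h3 => ?_⟩
  · rw [h1, ← MonoidHom.range_eq_map, Subgroup.range_subtype]
    rfl
  · obtain ⟨z, hz, h16⟩ := h.centric.C_le (x := s) ⟨s.2, by
      rintro _ ⟨y, hy, rfl⟩
      exact congrArg Subtype.val (hs y hy)⟩
    exact (Subtype.ext h16 : z = s) ▸ hz
  have h4 : (s.1 : G) ∈ 𝐍 (Q.map P.subtype) := Q.le_normalizer_map P.subtype ⟨_, s.2, rfl⟩
  have h5 := (bpFS m.bp).A_le_nz (Q.map P.subtype)
  refine (Subgroup.mem_map_iff_mem P.subtype_injective).1 ((m.sat.ess_rad h).mem h.centric s.1.2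
    (H25.le_Op (K := (bpFS m.bp).A _ ⊓ (K.comap (nH Q)).map (Subgroup.subtype _)) inf_le_left
      (fun a ha => H1.mem_normalizer_of_conj_mem ?_) ?_ ⟨?_, ⟨_, h4⟩, ?_, rfl⟩))
  · rintro _ ⟨h6, t, h7, rfl⟩
    refine ⟨Subgroup.mul_mem _ (mul_mem ha h6) (inv_mem ha), ⟨a, h5 ha⟩ * t * ⟨a, h5 ha⟩⁻¹, ?_, rfl⟩
    rw [SetLike.mem_coe, Subgroup.mem_comap, map_mul, map_mul, map_inv]
    exact (Subgroup.mem_normalizer_iff.1 (h2 (mem_XA_of m.bp (ha.2 h.le) _)) _).1 h7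
  · rintro _ ⟨-, t, h7, rfl⟩
    obtain ⟨n, h8⟩ := h1 ⟨_, h7⟩
    refine ⟨n, ?_⟩
    rintro _ ⟨y, hy, rfl⟩
    have h9 := coe_nH (t ^ p ^ n) ⟨y, hy⟩
    rw [map_pow, show nH Q t ^ p ^ n = 1 from congrArg Subtype.val h8] at h9
    exact mul_inv_eq_iff_eq_mul.1 h9.symm |>.symm
  · exact H25.FS.T.mem_A' (F := bpFS m.bp) (fus_of_mem top_le_norm_top m.bp h.le s.1.2)
      (cj_eq_self h4)
  · rw [SetLike.mem_coe, Subgroup.mem_comap]
    convert h3 using 1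
    exact MulEquiv.ext fun y => Subtype.ext (Subtype.ext (coe_nH _ y))

theorem MaxP.ag : AG p (fun u v : P => FConj p P e u v) (inE P e) (XA m.bp) := by
  refine ⟨MaxP.af m, fun W h5 h6 h7 u v ⟨g, h9, h10⟩ => ?_⟩
  refine m.sat.alperin (F := bpFS m.bp) (M := fun T g => ∀ u v : P, (u : G) ∈ T →
    g * u * g⁻¹ = v → W u v) (fun T g h h11 _ h12 h13 u v hu h14 => ?_)
    (fun T g h _ h11 h12 u v hu h13 => h11 u v hu ((h12 _ hu).symm.trans h13))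
    (fun T h11 a ha T' h12 u v hu h13 => ?_) _ g h9 u v (Subgroup.mem_zpowers _) h10
  · exact h5 _ ⟨_, h11.conj_mem hu⟩ _ (h12 u _ hu rfl)
      (h13 _ v ⟨u, hu, rfl⟩ (h14 ▸ by group))
  rcases h11 with rfl | h11
  · obtain ⟨α, h14, h15⟩ := exists_mem_inE ((fus_top_iff_mem m.bp).1 (ha.2 le_rfl))
    rw [show v = α u from Subtype.ext (h13.symm.trans (h15 u).symm)]
    exact h6 α h14 u
  obtain ⟨Q, rfl⟩ : ∃ Q : Subgroup P, Q.map P.subtype = T :=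
    ⟨_, Subgroup.map_subgroupOf_eq_of_le h11.le⟩
  obtain ⟨y, hy, h14⟩ := h12 hu
  obtain rfl : y = u := Subtype.ext h14
  rw [show v = nH Q ⟨a, ha.1⟩ ⟨y, hy⟩ from
    Subtype.ext (h13.symm.trans (coe_nH ⟨a, ha.1⟩ ⟨y, hy⟩).symm)]
  exact h7 Q (MaxP.ec m h11) _ (mem_XA_of m.bp (ha.2 h11.le) _) ⟨y, hy⟩

theorem MaxP.anil_of_ec (h1 : ∀ α : MulAut P, ¬ p ∣ orderOf α → α = 1)
    (h2 : ∀ Q, ¬ EC p Q (XA m.bp)) : ANil p ⊤ ⊤ b := by
  refine m.anil_iff.2 fun Q x hx => ?_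
  have F := MaxP.af m
  refine m.sat.alperin (F := bpFS m.bp) (M := fun T g => ∃ s ∈ P, s⁻¹ * g ∈ 𝐂 T)
    (fun T g h _ _ ⟨s, h3, h4⟩ ⟨t, h5, h6⟩ => ⟨t * s, mul_mem h5 h3, ?_⟩)
    (fun T g h _ ⟨s, h3, h4⟩ h5 => ⟨s, h3, mem_centralizer'.2 fun u hu => ?_⟩)
    (fun T h3 a ha T' h4 => ?_) Q x hx
  · replace h6 : t⁻¹ * h ∈ 𝐂 (cj g T) := h6
    rw [← cj_centralizer, mem_cj] at h6
    simpa [mul_assoc] using mul_mem h4 h6
  · have h6 := mem_centralizer'.1 h4 u hu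
    have h7 : h * u * h⁻¹ = g * u * g⁻¹ := h5 u hu
    calc u * (s⁻¹ * h) = u * (s⁻¹ * g) * g⁻¹ * h := by group
      _ = s⁻¹ * (g * u * g⁻¹) * h := by rw [h6]; group
      _ = _ := by rw [← h7]; group
  rcases h3 with rfl | h3
  · obtain ⟨α, h5, h6⟩ := exists_mem_inE ((fus_top_iff_mem m.bp).1 (ha.2 le_rfl))
    obtain ⟨s, rfl⟩ := le_of_syl F.sylE (H10.isPGroup_of_coprime_eq_one (Y := (⊤ : Subgroup _))
      fun β h7 => Subtype.ext (h1 _ (by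
        rwa [Subgroup.orderOf_coe, ← Nat.Prime.coprime_iff_not_dvd Fact.out, Nat.coprime_comm])))
      le_top (by rintro _ ⟨s, rfl⟩; exact F.innE s) ⟨trivial, h5⟩
    refine ⟨s, s.2, mem_centralizer'.2 fun u hu => ?_⟩
    have h7 : s * u * (s : G)⁻¹ = a * u * a⁻¹ := h6 ⟨u, h4 hu⟩
    calc u * ((s : G)⁻¹ * a) = (s : G)⁻¹ * (s * u * (s : G)⁻¹) * a := by group
      _ = _ := by rw [h7]; group
  obtain ⟨Q, rfl⟩ : ∃ Q : Subgroup P, Q.map P.subtype = T :=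
    ⟨_, Subgroup.map_subgroupOf_eq_of_le h3.le⟩
  exact absurd (MaxP.ec m h3) (h2 Q)

end Abs

end H3.KQ
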