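import Cfsg.Agent.H3.KQ14

/-! Groups of order `32` with a derived subgroup of order four. -/

set_option autoImplicit false
set_option linter.unusedSectionVars false

open Cfsg
open H5 H8 H28 H7 H21 Finset

namespace H3.KQ

local notation "Z" => Subgroup.zpowers
local notation "C" u:max => Subgroup.centralizer ({u} : Set _)
local notation "𝒵" => Subgroup.center
local notation "𝒟" => commutator

variable {S : Type*} [Group S] [Finite S] {A K Q U V : Subgroup S} {z a b c d g s u v w x y : S}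
  {R : S → S → Prop} {E T : Subgroup (MulAut S)} {X : ∀ Q : Subgroup S, Subgroup (MulAut Q)}
  {α β γ σ : MulAut S} {p : ℕ}

theorem odd_of_not (h : ¬ 2 ∣ p) : Odd p := Nat.odd_iff.2 (Nat.two_dvd_ne_zero.1 h)

theorem conj_eq_of_index (h : (C u).index ∣ 2) (ha : a ∉ C u) (hb : b ∉ C u) :
    a * u * a⁻¹ = b * u * b⁻¹ := by
  have h1 := ((Nat.dvd_prime Nat.prime_two).1 h).resolve_left fun h1 =>
    ha (Subgroup.index_eq_one.1 h1 ▸ Subgroup.mem_top a)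
  have h2 := mem_C.1 (((C u).mul_mem_iff_of_index_two h1 (a := b⁻¹) (b := a)).2 (by simp [ha, hb]))
  calc a * u * a⁻¹ = b * (b⁻¹ * a * u) * a⁻¹ := by group
    _ = _ := by rw [h2]; group

theorem exists_conj_bij (u : S) : ∃ f : S ⧸ C u → 𝒟 S, Function.Injective f ∧
    ∀ q, ∃ s, s * u * s⁻¹ = u * f q := by
  refine ⟨fun q => ⟨_, conj_mem_commutator q.out u⟩, fun q r h => ?_, fun q => ⟨q.out, by simp⟩⟩
  rw [← q.out_eq', ← r.out_eq', QuotientGroup.eq, mem_C]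
  have h1 := mul_left_cancel (congrArg Subtype.val h)
  calc q.out⁻¹ * r.out * u = q.out⁻¹ * (r.out * u * r.out⁻¹) * r.out := by group
    _ = _ := by rw [← h1]; group

theorem index_C_le (u : S) : (C u).index ≤ Nat.card (𝒟 S) :=
  let ⟨f, h, _⟩ := exists_conj_bij u; Nat.card_le_card_of_injective f h

theorem exists_conj_of_index (h : (C u).index = Nat.card (𝒟 S)) (hd : d ∈ 𝒟 S) :
    ∃ s, s * u * s⁻¹ = u * d := by
  obtain ⟨f, h1, h2⟩ := exists_conj_bij u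
  obtain ⟨q, h3⟩ := ((Nat.bijective_iff_injective_and_card f).2 ⟨h1, h⟩).2 ⟨d, hd⟩
  simpa [h3] using h2 q

theorem index_C_cases (hS : IsPGroup 2 S) (h : Nat.card (𝒟 S) = 4) (u : S) :
    (C u).index = 4 ∨ (C u).index ∣ 2 := by
  obtain ⟨i, hi⟩ := hS.index (C u)
  have h1 := index_C_le u
  rw [hi, h] at h1
  have h2 := (Nat.pow_le_pow_iff_right one_lt_two (m := 2)).1 h1
  rw [hi]
  interval_cases i <;> simp

theorem commutator_le_of (h : ∀ a b : S, a * b * a⁻¹ * b⁻¹ ∈ K) : 𝒟 S ≤ K :=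
  Subgroup.commutator_le.2 fun a _ b _ => h a b

theorem knoche (h : 𝒟 S ≤ 𝒵 S) (h1 : ∀ u : S, (C u).index ∣ 2) : Nat.card (𝒟 S) ≤ 2 := by
  have k1 : ∀ a b : S, (a * b * a⁻¹ * b⁻¹) ^ 2 = 1 := fun a b => by
    by_cases ha : a ∈ C b
    · simp [mem_C.1 ha]
    have l1 := conj_eq_of_index (h1 b) ha (mt inv_mem_iff.1 ha)
    have l2 := Subgroup.mem_center_iff.1 (h (commutator_mem a b))
    calc _ = a * (b * a⁻¹ * b⁻¹ * (a * b * a⁻¹ * b⁻¹)) := by simp [sq, mul_assoc]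
      _ = a * (a * b * a⁻¹) * a⁻¹ * b⁻¹ := by rw [l2]; group
      _ = 1 := by rw [l1]; group
  have k2 : ∀ a b : S, a * b * a⁻¹ * b⁻¹ = b * a * b⁻¹ * a⁻¹ := fun a b =>
    (eq_inv_of_mul_eq_one_left (sq (a * b * a⁻¹ * b⁻¹) ▸ k1 a b)).trans (by group)
  by_cases k3 : ∀ a b : S, a * b * a⁻¹ * b⁻¹ = 1
  · simp [eq_bot_iff.2 (commutator_le_of k3)]
  push Not at k3
  obtain ⟨a, b, k3⟩ := k3
  have k4 : ∀ {a b : S}, a * b * a⁻¹ * b⁻¹ ≠ 1 → a ∉ C b := fun k4 k5 => k4 (by simp [mem_C.1 k5])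
  refine (Subgroup.card_le_of_le (commutator_le_of (K := Z (a * b * a⁻¹ * b⁻¹)) fun a' b' =>
    (sq_mem_zpowers (k1 a b)).2 (or_iff_not_imp_left.2 fun k5 => ?_))).trans (by
      rw [Nat.card_zpowers]; exact orderOf_le_of_pow_eq_one two_pos (k1 a b))
  obtain ⟨g, k6, k7⟩ : ∃ g, g ∉ C b ∧ g ∉ C b' := by
    by_cases k6 : a ∈ C b'
    · by_cases k7 : a' ∈ C b
      · exact ⟨a * a', by simpa [Subgroup.mul_mem_cancel_right _ k7] using k4 k3,
          by simpa [Subgroup.mul_mem_cancel_left _ k6] using k4 k5⟩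
      · exact ⟨a', k7, k4 k5⟩
    · exact ⟨a, k4 k3, k6⟩
  rw [conj_eq_of_index (h1 _) (k4 k5) k7, conj_eq_of_index (h1 _) (k4 k3) k6, k2 g, k2 g,
    conj_eq_of_index (h1 g) (a := b) (b := b') (fun k8 => k6 (mem_C.2 (mem_C.1 k8).symm))
      fun k8 => k7 (mem_C.2 (mem_C.1 k8).symm)]

theorem center_eq_of_eight (h : Nat.card S = 8) (hn : ¬ IsMulCommutative S) :
    Nat.card (𝒟 S) = 2 ∧ 𝒵 S = 𝒟 S := by
  have hS : IsPGroup 2 S := .of_card (n := 3) h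
  have : Nontrivial S := Finite.one_lt_card_iff_nontrivial.1 (by omega)
  have k1 := (𝒵 S).card_mul_index
  have k2 := mt (comm_of_index_center (p := 2)) hn
  have k3 := Finite.one_lt_card_iff_nontrivial.2 hS.center_nontrivial
  obtain ⟨i, k4, k5⟩ := (Nat.dvd_prime_pow Nat.prime_two (m := 3)).1 (h ▸ (𝒵 S).index_dvd_card)
  have k6 : 𝒟 S ≤ 𝒵 S := Subgroup.Normal.quotient_commutative_iff_commutator_le.1
    (comm_of_card_dvd_sq (p := 2) (by
      rw [k5, h] at k1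
      rw [← Subgroup.index, k5]
      interval_cases i <;> omega))
  have k7 := Subgroup.card_le_of_le k6
  have k8 : Nat.card (𝒟 S) ≠ 1 := fun k8 => hn (comm_of_commutator (Subgroup.card_eq_one.1 k8))
  have k9 : 0 < Nat.card (𝒟 S) := Nat.card_pos
  rw [k5] at k1 k2
  have k10 : Nat.card (𝒟 S) = 2 ∧ Nat.card (𝒵 S) = 2 := by interval_cases i <;> omega
  exact ⟨k10.1, (Subgroup.eq_of_le_of_card_ge k6 (by omega)).symm⟩

theorem LD.sq_mem (h : LD A z) (hS : IsPGroup 2 S) (h1 : ¬ 2 ∣ orderOf σ) (h2 : σ ≠ 1) (u : S) :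
    u ^ 2 ∈ Z z := by
  by_cases hu : u ∈ 𝒵 S
  · exact (sq_mem_zpowers h.z_sq).2 (h.xi_sq hu)
  have k1 := h.aut σ h1 h2
  have k2 : 𝒟 S = Z z := le_antisymm (fun c hc => (sq_mem_zpowers h.z_sq).2 (h.eq_z_of_card k1 hc))
    (Subgroup.zpowers_le.2 h.zd)
  obtain ⟨-, -, -, -, -, k3⟩ := exists_comm_two (S := S) (by rw [k2, h.card_z])
  have k4 : (C u).index = 2 := ((Nat.dvd_prime Nat.prime_two).1 (index_C_dvd
    (fun x y => k2 ▸ commutator_mem x y) h.zc (k3 u))).resolve_left fun k4 =>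
      hu (mem_center_of_C (Subgroup.index_eq_one.1 k4))
  have k5 : (𝒵 S).relIndex (C u) = 2 := relIndex_of_card (le_C_of_center le_rfl u) (by
    have := (C u).card_mul_index
    rw [k4, k1] at this
    rw [h.cc]
    omega)
  have k6 : ∀ {α : MulAut S}, ¬ 2 ∣ orderOf α → α ≠ 1 → α u ∉ C u := fun {α} l1 l2 l3 =>
    h.free l1 l2 hS hu (inv_mul_mem_of_relIndex_two k5 (mem_C.2 rfl) l3 hu
      fun l4 => hu (by simpa using map_mem_center α⁻¹ l4))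
  have k7 := k6 h1 h2
  have k8 := k6 (α := σ ^ 2) (fun l1 => h1 (l1.trans (orderOf_pow_dvd 2)))
    fun l1 => h1 (by rw [orderOf_eq_prime l1 h2])
  have k9 := inv_mul_mem_of_relIndex_two k5 (mem_C.2 rfl) (((C u).mul_mem_iff_of_index_two k4
    (a := (σ u)⁻¹) (b := (σ ^ 2) u)).2 (by simp [k7, k8])) hu (h.free h1 h2 hS
      fun l4 => hu (by simpa using map_mem_center σ⁻¹ l4))
  generalize hc : u⁻¹ * ((σ u)⁻¹ * (σ ^ 2) u) = c at k9
  have k10 : (σ u) ^ 2 = u ^ 2 := by rw [← map_pow, h.fix_odd h1 (k3 u)]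
  have k11 : (σ u * u * c) ^ 2 = u ^ 2 := by
    rw [← hc, mul_assoc, mul_inv_cancel_left, mul_inv_cancel_left, ← map_pow, sq σ,
      MulAut.mul_apply, h.fix_odd h1 (k3 u), h.fix_odd h1 (k3 u)]
  rw [Commute.mul_pow (Subgroup.mem_center_iff.1 k9 _), show (σ u * u) ^ 2 = (σ u) ^ 2 *
    ((σ u)⁻¹ * u * σ u * u⁻¹) * u ^ 2 by simp [sq, mul_assoc], k10, mul_assoc,
    Subgroup.mem_center_iff.1 (pow_mem k9 2), ← mul_assoc, mul_eq_right, mul_assoc,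
    mul_eq_one_iff_eq_inv] at k11
  rw [k11]
  exact inv_mem (mul_mem (by simpa [k2] using commutator_mem (σ u)⁻¹ u)
    ((sq_mem_zpowers h.z_sq).2 (h.xi_sq k9)))

theorem sq_mem_of_odd (hS : Nat.card S = 32) (h1 : Q ≠ ⊤) (h2 : 𝐂 Q ≤ Q) {α : MulAut Q}
    (h3 : ¬ 2 ∣ orderOf α) (h4 : α ≠ 1) (hu : u ∈ Q) (h5 : (C u).index = 4) :
    u ^ 2 ∈ 𝒟 S ⊓ 𝒵 S := by
  have k0 : IsPGroup 2 S := .of_card (n := 5) hS
  have k1 := k0.to_subgroup Q
  have k2 := (C u).card_mul_index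
  rw [h5, hS] at k2
  by_cases h6 : IsMulCommutative Q
  · by_contra h7
    have h8 : (⟨u, hu⟩ : Q) ^ 2 ≠ 1 := fun h8 =>
      h7 ((show u ^ 2 = 1 from congrArg Subtype.val h8) ▸ one_mem _)
    have k3 : Nat.card Q ∣ 8 := (by omega : Nat.card (C u) = 8) ▸ Subgroup.card_dvd_of_le
      fun q hq => mem_C.2 (congrArg Subtype.val (h6.1.1 ⟨q, hq⟩ ⟨u, hu⟩))
    obtain ⟨j, hj⟩ := (IsPGroup.iff_orderOf.1 k1) ⟨u, hu⟩
    have k4 : 4 ∣ Nat.card (Z (⟨u, hu⟩ : Q)) := by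
      rw [Nat.card_zpowers, hj]
      exact pow_dvd_pow 2 (show 2 ≤ j from by_contra fun l1 => h8 (orderOf_dvd_iff_pow_eq_one.1
        (hj ▸ (pow_dvd_pow 2 (by omega)).trans (pow_one 2).dvd)))
    rcases H10.aut_odd_cases k1 (a := ⟨u, hu⟩) (Nat.dvd_of_mul_dvd_mul_left (k := 4) (by norm_num)
      ((mul_dvd_mul_right k4 _).trans ((Subgroup.card_mul_index _).dvd.trans k3)))
      (odd_of_not h3) with l1 | l1 | ⟨⟨l1⟩⟩
    · exact h4 l1
    · exact h8 (l1.exponent_two ▸ Monoid.pow_exponent_eq_one _)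
    · exact absurd (l1.symm.injective ((map_mul _ _ _).trans ((h6.1.1 _ _).trans
        (map_mul _ (.xa 0) (.a 1)).symm))) (by decide)
  obtain ⟨i, k3, k4⟩ := (Nat.dvd_prime_pow Nat.prime_two (m := 5)).1 (hS ▸ Q.card_subgroup_dvd_card)
  have k5 := card_lt_of_ne le_top h1
  have k6 : 2 < i := by_contra fun k6 => h6 (comm_of_card_dvd_sq (p := 2)
    (k4 ▸ pow_dvd_pow 2 (by omega)))
  have k7 : ∀ q ∈ 𝒟 Q, q.1 ∈ 𝒟 S := fun q hq => Subgroup.commutator_mono le_top le_top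
    (map_commutator_eq Q Q.subtype ▸ Subgroup.mem_map_of_mem _ hq)
  rw [Subgroup.card_top, hS, k4] at k5
  obtain rfl | rfl : i = 3 ∨ i = 4 := by interval_cases i <;> omega
  · obtain ⟨l1, l2⟩ := center_eq_of_eight k4 h6
    obtain ⟨z, l3, l4, -, l5, l6⟩ := exists_comm_two l1
    have l7 := l2 ▸ l6 ⟨u, hu⟩
    refine ⟨k7 _ l7, ?_⟩
    have : Nontrivial S := Finite.one_lt_card_iff_nontrivial.1 (by omega)
    have := k0.center_nontrivial
    obtain ⟨c, hc⟩ := exists_ne (1 : 𝒵 S)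
    have l8 : c.1 ∈ Q := h2 (mem_centralizer'.2 fun q _ => Subgroup.mem_center_iff.1 c.2 q)
    have l9 := ((sq_mem_zpowers l4).1 (l5 ▸ l2 ▸ Subgroup.mem_center_iff.2 fun q => Subtype.ext
      (Subgroup.mem_center_iff.1 c.2 q) : (⟨c, l8⟩ : Q) ∈ Z z)).resolve_left (by simpa using hc)
    rcases (sq_mem_zpowers l4).1 (l5 ▸ l7) with l10 | l10
    · exact (show u ^ 2 = 1 from congrArg Subtype.val l10) ▸ one_mem _
    · exact (show u ^ 2 = c from congrArg Subtype.val (l10.trans l9.symm)) ▸ c.2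
  have l1 : Nat.card (𝒟 Q) = 2 := by
    by_contra l1
    have l2 := (𝒟 Q).card_mul_index
    have l3 : Nat.card (𝒟 Q) ≠ 1 := fun l3 => h6 (comm_of_commutator (Subgroup.card_eq_one.1 l3))
    obtain ⟨j, l4⟩ := (k1.to_subgroup (𝒟 Q)).exists_card_eq
    obtain ⟨n, x, e, mc⟩ := H10.taussky_mc k1 (by
      rw [l4, k4] at l2
      rcases j with _ | _ | j
      · omega
      · omega
      · have := Nat.one_le_two_pow (n := j)
        simp only [pow_succ] at l2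
        nlinarith) (by omega)
    rcases H10.aut_odd_cases k1 (a := x) (by simpa using mc.idx.dvd) (odd_of_not h3) with
      l5 | l5 | ⟨⟨l5⟩⟩
    · exact h4 l5
    · have := l5.card_four
      omega
    · have := Nat.card_congr l5.toEquiv
      rw [Nat.card_eq_fintype_card (α := QuaternionGroup 2), QuaternionGroup.card] at this
      omega
  obtain ⟨A, z, l2⟩ := exists_LD k4 l1
  have : Q.Normal := Q.normal_of_index_eq_two (by
    have := Q.card_mul_index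
    rw [k4] at this
    omega)
  rcases (sq_mem_zpowers l2.z_sq).1 (l2.sq_mem k1 h3 h4 ⟨u, hu⟩) with l3 | l3
  · exact (show u ^ 2 = 1 from congrArg Subtype.val l3) ▸ one_mem _
  · exact (show u ^ 2 = z from congrArg Subtype.val l3) ▸ ⟨k7 _ l2.zd,
      Subgroup.mem_center_iff.2 fun s => mul_inv_eq_iff_eq_mul.1 (congrArg Subtype.val (l2.map_z (MulAut.conjNormal s)))⟩

theorem coe_nmh (s : 𝐍 Q) (q : Q) : (Q.normalizerMonoidHom s q : S) = s * q * (s : S)⁻¹ := rfl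

theorem EC.index_ne (h : EC 2 Q X) (hS : Nat.card S = 32) (h4 : Nat.card (𝒟 S) = 4)
    (hD : 𝒟 S ≤ 𝒵 S) (hy : y ∈ Q) : (C y).index ≠ 4 := fun h5 => by
  have k0 : IsPGroup 2 S := .of_card (n := 5) hS
  have k1 := hD.trans h.center_le
  have k2 : ∀ s, s ∈ 𝐍 Q := fun s => H1.mem_normalizer_of_conj_mem fun q hq => by
    simpa using mul_mem hq (k1 (conj_mem_commutator s q))
  have k3 : ∀ s (q : Q), q.1 ∈ 𝒟 S → Q.normalizerMonoidHom s q = q := fun s q hq => Subtype.ext (by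
    rw [coe_nmh, Subgroup.mem_center_iff.1 (hD hq), mul_inv_cancel_right])
  obtain ⟨α, hα, c, hc, k4⟩ : ∃ α ∈ X Q, ∃ c : Q, c.1 ∈ 𝒟 S ∧ (α c).1 ∉ 𝒟 S := by
    by_contra! k4
    exact h.ne (top_unique fun s _ => h.mem_of_St k0 (U := (𝒟 S).subgroupOf Q)
      (V := (𝒟 S).subgroupOf Q) k4 k4 ⟨s, k2 s⟩ ⟨k3 _, fun v _ => conj_mem_commutator s v,
        fun v => conj_mem_commutator s v⟩)
  have k5 := card_lt_of_ne le_top h.ne
  obtain ⟨i, -, k6⟩ := (Nat.dvd_prime_pow Nat.prime_two (m := 5)).1 (hS ▸ Q.card_subgroup_dvd_card)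
  rw [Subgroup.card_top, hS, k6] at k5
  have k7 : i < 5 := (Nat.pow_lt_pow_iff_right one_lt_two).1 k5
  have k8 : IsMulCommutative Q := by_contra fun k8 => by
    have l1 : (𝒟 S).subgroupOf Q ≤ 𝒵 Q := fun q hq => Subgroup.mem_center_iff.2 fun r =>
      Subtype.ext (Subgroup.mem_center_iff.1 (hD hq) r)
    have l2 := two_mul_le_of_lt (l1.lt_of_ne fun l2 => k4 (l2.ge (map_mem_center α (l1 hc))))
    have l3 := (𝒵 Q).card_mul_index
    obtain ⟨j, l4⟩ := (k0.to_subgroup Q).index (𝒵 Q)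
    have l5 := mt (comm_of_index_center (p := 2)) k8
    rw [card_subgroupOf_of_le k1, h4] at l2
    rw [l4] at l3 l5
    rcases j with _ | _ | j
    · simp at l5
    · simp at l5
    · have := Nat.one_le_two_pow (n := j)
      have : 2 ^ i ≤ 2 ^ 4 := Nat.pow_le_pow_right two_pos (by omega)
      simp only [pow_succ] at l3
      nlinarith
  have k9 : y ∉ 𝒟 S := fun k9 => by
    rw [(top_unique fun a _ => mem_C.2 (Subgroup.mem_center_iff.1 (hD k9) a) : C y = ⊤)] at h5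
    simp at h5
  have k10 : Nat.card Q = 8 := by
    have l1 := two_mul_le_of_lt (k1.lt_of_ne fun l1 => k9 (l1 ▸ hy))
    have l2 := Subgroup.card_le_of_le (show Q ≤ C y from fun q hq =>
      mem_C.2 (congrArg Subtype.val (k8.1.1 ⟨q, hq⟩ ⟨y, hy⟩)))
    have l3 := (C y).card_mul_index
    rw [h5] at l3
    omega
  have k11 : (𝒟 S).relIndex Q = 2 := relIndex_of_card k1 (by omega)
  have k12 : ∀ c : Q, c.1 ∈ 𝒟 S → ∃ τ ∈ X Q, (∀ q : Q, q.1 ∈ 𝒟 S → τ q = q) ∧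
      ∀ q : Q, q.1 ∉ 𝒟 S → τ q = q * c := fun c hc => by
    obtain ⟨s, l1⟩ := exists_conj_of_index (h5.trans h4.symm) hc
    refine ⟨_, h.inn ⟨⟨s, k2 s⟩, rfl⟩, k3 _, fun q hq => ?_⟩
    have l2 := inv_mul_mem_of_relIndex_two k11 hy q.2 k9 hq
    rw [← mul_inv_cancel_left ⟨y, hy⟩ q]
    generalize hr : (⟨y, hy⟩ : Q)⁻¹ * q = r
    rw [map_mul, k3 _ r (hr ▸ l2), mul_assoc, k8.1.1 r c, ← mul_assoc]
    congr 1
    exact Subtype.ext l1
  obtain ⟨c₀, k13, k14, k15⟩ : ∃ c₀ : Q, c₀.1 ∈ 𝒟 S ∧ c₀ ≠ 1 ∧ (α c₀).1 ∈ 𝒟 S := by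
    obtain ⟨e, l1, l2⟩ : ∃ e ∈ 𝒟 S, e ∉ ({1, c.1} : Set S) := by
      by_contra! l1
      have := (Set.ncard_le_ncard l1).trans (Set.ncard_insert_le _ _)
      rw [Set.ncard_singleton, ← Nat.card_coe_set_eq] at this
      exact absurd (h4 ▸ this) (by norm_num)
    simp only [Set.mem_insert_iff, Set.mem_singleton_iff, not_or] at l2
    by_cases l3 : (α ⟨e, k1 l1⟩).1 ∈ 𝒟 S
    · exact ⟨_, l1, by simpa using l2.1, l3⟩
    · exact ⟨c⁻¹ * ⟨e, k1 l1⟩, mul_mem (inv_mem hc) l1, fun l4 => l2.2 (congrArg Subtype.val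
        (inv_mul_eq_one.1 l4).symm), by
        simpa using inv_mul_mem_of_relIndex_two k11 (α c).2 (α _).2 k4 l3⟩
  obtain ⟨β, l1, l2, l3⟩ := k12 _ k15
  obtain ⟨τ, l4, l5, l6⟩ := k12 _ hc
  have l7 : ∀ {τ : MulAut Q} {c}, (∀ q : Q, q.1 ∈ 𝒟 S → τ q = q) → (∀ q : Q, q.1 ∉ 𝒟 S →
      τ q = q * c) → ∀ q, q⁻¹ * τ q ∈ Z c := fun l7 l8 q => by
    by_cases hq : q.1 ∈ 𝒟 S <;> simp [l7, l8, hq]
  have l8 := commute_of_St (k0.to_subgroup Q) (h.not_eight k8 (by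
      have := Q.card_mul_index
      rw [k10] at this
      rw [show Q.index = 4 by omega])) l1 (mul_mem (mul_mem hα l4) (inv_mem hα)) (l2 _ k15) (d := α c) (by simp [l5 _ k13])
    (by simp [l5 _ hc]) (l7 l2 l3) fun q => by
      obtain ⟨i, hi⟩ := l7 l5 l6 (α⁻¹ q)
      exact ⟨i, by simpa using congrArg α hi⟩
  have l9 := congrArg (· (α ⟨y, hy⟩)) l8
  obtain ⟨i, hi⟩ := l7 l2 l3 (α ⟨y, hy⟩)
  simp only [MulAut.mul_apply, MulAut.inv_apply_self, l6 ⟨y, hy⟩ k9, map_mul, l3 _ k4] at l9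
  simp only [inv_mul_eq_iff_eq_mul.1 hi.symm, map_mul, map_zpow, MulAut.inv_apply_self,
    l6 ⟨y, hy⟩ k9, l5 _ k13] at l9
  rw [mul_assoc, mul_assoc, mul_right_inj, k8.1.1 (α c) (_ ^ _), mul_right_inj, mul_eq_left] at l9
  exact k14 (by simpa using l9)

/-- a derived subgroup of order four which is not central -/
structure C3 (d z : S) : Prop where
  isP : IsPGroup 2 S
  c4 : Nat.card (𝒟 S) = 4
  zc : z ∈ 𝒵 S
  zd : z ∈ 𝒟 S
  z1 : z ≠ 1
  zs : z ^ 2 = 1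
  dd : d ∈ 𝒟 S
  dn : d ∉ 𝒵 S

theorem exists_C3 (hS : IsPGroup 2 S) (h : Nat.card (𝒟 S) = 4) (h1 : ¬ 𝒟 S ≤ 𝒵 S) :
    ∃ d z : S, C3 d z := by
  obtain ⟨d, h2, h3⟩ := SetLike.not_le_iff_exists.1 h1
  obtain ⟨z, h4, h5⟩ := (𝒟 S ⊓ 𝒵 S).bot_or_exists_ne_one.resolve_left
    (H1.inf_center_ne_bot_of_isNilpotent hS.isNilpotent _ fun h4 => by simp [h4] at h)
  have h6 := two_mul_le_of_lt (inf_lt_left.2 h1)
  have h7 := one_lt_card_of_mem h4 h5
  exact ⟨d, z, hS, h, h4.2, h4.1, h5, (show Nat.card (𝒟 S ⊓ 𝒵 S : Subgroup S) = 2 by omega) ▸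
    congrArg Subtype.val (pow_card_eq_one' (x := (⟨z, h4⟩ : (𝒟 S ⊓ 𝒵 S : Subgroup S)))), h2, h3⟩

namespace C3

variable (h : C3 d z)
include h

theorem z_le : Z z ≤ 𝒵 S := Subgroup.zpowers_le.2 h.zc

theorem rel : (Z z).relIndex (𝒟 S) = 2 := relIndex_of_card (Subgroup.zpowers_le.2 h.zd) (by
  rw [h.c4, Nat.card_zpowers, orderOf_eq_prime h.zs h.z1])

theorem of_mem (hc : c ∈ 𝒟 S) (h1 : c ∉ Z z) : c = d ∨ c = d * z :=
  ((sq_mem_zpowers h.zs).1 (inv_mul_mem_of_relIndex_two h.rel h.dd hc (fun h2 => h.dn (h.z_le h2))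
    h1)).imp (fun h2 => (inv_mul_eq_one.1 h2).symm) inv_mul_eq_iff_eq_mul.1

theorem mem_z (hc : c ∈ 𝒟 S) (h1 : c ∈ 𝒵 S) : c ∈ Z z := by_contra fun h2 => by
  rcases h.of_mem hc h2 with rfl | rfl
  exacts [h.dn h1, h.dn ((Subgroup.mul_mem_cancel_right _ h.zc).1 h1)]

theorem conj_d (hw : w ∉ C d) : w * d * w⁻¹ = d * z :=
  (h.of_mem (Subgroup.Normal.conj_mem inferInstance d h.dd w) fun h1 => h.dn (by
    simpa [mul_assoc] using map_mem_center (MulAut.conj w⁻¹) (h.z_le h1))).resolve_left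
    fun h1 => hw (mem_C.2 (mul_inv_eq_iff_eq_mul.1 h1))

theorem conj_out (hw : w ∉ C d) (hc : c ∈ 𝒟 S) (h1 : c ∉ Z z) : w * c * w⁻¹ = c * z := by
  rcases h.of_mem hc h1 with rfl | rfl
  · exact h.conj_d hw
  · rw [← mul_assoc, mul_assoc _ z, ← Subgroup.mem_center_iff.1 h.zc, ← mul_assoc, h.conj_d hw]

theorem comm (ha : a ∈ C d) (hc : c ∈ 𝒟 S) : a * c = c * a := by
  by_cases h1 : c ∈ Z z
  · exact Subgroup.mem_center_iff.1 (h.z_le h1) a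
  rcases h.of_mem hc h1 with rfl | rfl
  · exact mem_C.1 ha
  · rw [← mul_assoc, mem_C.1 ha, mul_assoc, Subgroup.mem_center_iff.1 h.zc, mul_assoc]

theorem le_C : 𝒟 S ≤ C d := fun _ hc => mem_C.2 (h.comm (mem_C.2 rfl) hc).symm

theorem exists_out : ∃ w, w ∉ C d := by_contra fun h1 => h.dn (mem_center_of_C
  (top_unique fun a _ => by_contra fun h2 => h1 ⟨a, h2⟩))

theorem idx : (C d).index = 2 := by
  obtain ⟨w, hw⟩ := h.exists_out
  refine Subgroup.index_eq_two_iff.2 ⟨w, fun g => ?_⟩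
  by_cases hg : g ∈ C d
  · exact .inr ⟨hg, by rwa [Subgroup.mul_mem_cancel_left _ hg]⟩
  refine .inl ⟨mem_C.2 (mul_inv_eq_iff_eq_mul.1 ?_), hg⟩
  rw [mul_inv_rev, mul_assoc g, mul_assoc g, ← mul_assoc _ w⁻¹, h.conj_d hw, ← mul_assoc,
    ← mul_assoc, mul_assoc _ z, ← Subgroup.mem_center_iff.1 h.zc, ← mul_assoc, h.conj_d hg,
    mul_assoc, ← sq, h.zs, mul_one]

theorem exists_a (hw : w ∉ C d) : ∃ a ∈ C d, w * a * w⁻¹ * a⁻¹ ∉ Z z := by
  by_contra! h1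
  have h2 : ∀ a, ∃ c ∈ 𝒵 S, MulAut.conj w a = c * a := fun a => by
    by_cases ha : a ∈ C d
    · exact ⟨_, h.z_le (h1 a ha), by simp⟩
    · refine ⟨_, h.z_le (h1 (a * w) (((C d).mul_mem_iff_of_index_two h.idx).2
        (by simp [ha, hw]))), ?_⟩
      simp [mul_assoc]
  refine hw (mem_C.2 (mul_inv_eq_iff_eq_mul.1 (commutator_le_of (K := Fx (MulAut.conj w))
    (fun a b => ?_) h.dd)))
  obtain ⟨c, k1, k2⟩ := h2 a
  obtain ⟨c', k3, k4⟩ := h2 b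
  rw [mem_Fx, map_mul, map_mul, map_mul, map_inv, map_inv, k2, k4]
  calc _ = c * (a * (c' * b)) * a⁻¹ * c⁻¹ * b⁻¹ * c'⁻¹ := by group
    _ = a * (c' * b) * a⁻¹ * b⁻¹ * c'⁻¹ := by
      rw [mul_assoc c, ← Subgroup.mem_center_iff.1 k1, mul_inv_cancel_right]
    _ = c' * (a * b * a⁻¹ * b⁻¹) * c'⁻¹ := by
      rw [← mul_assoc a, Subgroup.mem_center_iff.1 k3 a]; group
    _ = _ := by rw [← Subgroup.mem_center_iff.1 k3, mul_inv_cancel_right]

theorem index_out (hw : w ∉ C d) : (C w).index = 4 := by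
  refine (index_C_cases h.isP h.c4 w).resolve_right fun h1 => ?_
  obtain ⟨a, -, h2⟩ := h.exists_a hw
  have h3 := conj_eq_of_index h1 (a := a) (b := d) (fun h3 => h2 (by simp [← mem_C.1 h3]))
    fun h3 => hw (mem_C.2 (mem_C.1 h3).symm)
  refine h2 ?_
  rw [show w * a * w⁻¹ * a⁻¹ = w * (a * w * a⁻¹)⁻¹ by group, h3,
    show w * (d * w * d⁻¹)⁻¹ = w * d * w⁻¹ * d⁻¹ by group, h.conj_d hw,
    Subgroup.mem_center_iff.1 h.zc, mul_inv_cancel_right]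
  exact Subgroup.mem_zpowers z

theorem sq_out (h1 : d ^ 2 = 1) (hw : w ∉ C d) : w ^ 2 ∉ 𝒵 S := fun h2 => by
  obtain ⟨a, -, h3⟩ := h.exists_a hw
  have h4 := h.conj_out hw (commutator_mem w a) h3
  have h5 : (w * a * w⁻¹ * a⁻¹) ^ 2 = 1 := by
    rcases h.of_mem (commutator_mem w a) h3 with h5 | h5 <;> rw [h5]
    exacts [h1, by rw [Commute.mul_pow (Subgroup.mem_center_iff.1 h.zc d), h1, h.zs, mul_one]]
  generalize hc : w * a * w⁻¹ * a⁻¹ = c at h4 h5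
  refine h.z1 ?_
  calc z = c * z * c := by rw [Subgroup.mem_center_iff.1 h.zc c, mul_assoc, ← sq, h5, mul_one]
    _ = w ^ 2 * a * (w ^ 2)⁻¹ * a⁻¹ := by rw [← h4, ← hc, sq]; group
    _ = 1 := by rw [← Subgroup.mem_center_iff.1 h2]; group

theorem eq : 𝒟 S ⊓ 𝒵 S = Z z := le_antisymm (fun _ hc => h.mem_z hc.1 hc.2)
  (Subgroup.zpowers_le.2 ⟨h.zd, h.zc⟩)

theorem C_eq (hc : c ∈ 𝒟 S) (h1 : c ∉ Z z) : C c = C d :=
  le_antisymm (fun w hw => by_contra fun h2 => h.z1 (by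
    simpa [mem_C.1 hw] using (h.conj_out h2 hc h1).symm)) fun a ha => mem_C.2 (h.comm ha hc)

end C3

variable (x) in
/-- an element of order eight whose centralizer has index two -/
structure XD (r : ℕ) : Prop where
  ord : orderOf x = 8
  idx : (C x).index = 2
  r37 : r = 3 ∨ r = 7
  conj : ∀ w ∉ C x, w * x * w⁻¹ = x ^ r
  cen : ∀ c ∈ 𝒵 S, c ^ 4 = 1

theorem C3.exists_XD (h : C3 d z) (h1 : ∀ u : S, (C u).index = 4 → u ^ 2 ∈ Z z) :
    ∃ (x : S) (r : ℕ), XD x r := by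
  obtain ⟨w, hw⟩ := h.exists_out
  obtain ⟨a, ha, h2⟩ := h.exists_a hw
  have k1 : ∀ w ∉ C d, w ^ 2 ∈ Z z := fun w hw => h1 w (h.index_out hw)
  have k2 : w * a * w⁻¹ * a ∈ Z z := by
    have l1 := mul_mem (k1 (w * a) (by rwa [Subgroup.mul_mem_cancel_right _ ha])) (inv_mem (k1 w hw))
    rwa [show (w * a) ^ 2 = w * a * w⁻¹ * (w ^ 2 * a) by simp [sq, mul_assoc],
      ← Subgroup.mem_center_iff.1 (h.z_le (k1 w hw)), ← mul_assoc, mul_inv_cancel_right] at l1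
  have k3 : a ^ 2 ∈ 𝒟 S := by
    simpa [sq, mul_assoc] using mul_mem (inv_mem (commutator_mem w a))
      (Subgroup.zpowers_le.2 h.zd k2)
  have k4 : a ^ 2 ∉ Z z := fun k4 => h2 (by simpa [sq, mul_assoc] using mul_mem k2 (inv_mem k4))
  have k5 : C a ≤ C d := h.C_eq k3 k4 ▸ fun b hb => mem_C.2 ((show Commute b a from
    mem_C.1 hb).pow_right 2)
  have k6 := (index_C_cases h.isP h.c4 a).resolve_left fun k6 => k4 (h1 a k6)
  have k7 : (C a).index = 2 := Nat.dvd_antisymm k6 (h.idx ▸ Subgroup.index_dvd_of_le k5)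
  have k8 := eq_of_index_two k5 k7 fun k8 => hw (k8 ▸ Subgroup.mem_top w)
  have k9 : (a ^ 2) ^ 2 = z := by
    have l1 := (sq_mem_zpowers h.zs).1 (Subgroup.sq_mem_of_index_two h.rel ⟨d, h.dd⟩)
    have l2 : d ^ 2 = z := l1.resolve_left fun l2 => h.sq_out l2 hw (h.z_le (k1 w hw))
    rcases h.of_mem k3 k4 with l3 | l3 <;> rw [l3]
    exacts [l2, by rw [Commute.mul_pow (Subgroup.mem_center_iff.1 h.zc d), l2, h.zs, mul_one]]
  have k10 : a ^ 2 ^ (2 + 1) = 1 := by rw [← h.zs, ← k9, ← pow_mul, ← pow_mul]; rfl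
  have k11 : ∀ r, w * a * w⁻¹ = a ^ r → r = 3 ∨ r = 7 → XD a r := fun r l1 l2 =>
    ⟨orderOf_eq_prime_pow (by rw [← pow_mul] at k9; exact k9 ▸ h.z1) k10, k7, l2,
      fun v hv => (conj_eq_of_index k6 hv (k8 ▸ hw)).trans l1, fun c hc => by
      have l3 := k1 (w * c) (by rwa [Subgroup.mul_mem_cancel_right _ (le_C_of_center le_rfl d hc)])
      rw [Commute.mul_pow (Subgroup.mem_center_iff.1 hc w),
        Subgroup.mul_mem_cancel_left _ (k1 w hw)] at l3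
      rcases (sq_mem_zpowers h.zs).1 l3 with l4 | l4 <;> rw [show 4 = 2 * 2 from rfl, pow_mul, l4]
      exacts [one_pow 2, h.zs]⟩
  rcases (sq_mem_zpowers h.zs).1 k2 with l1 | l1
  · exact ⟨a, 7, k11 7 (mul_right_cancel (b := a) (by rw [l1, ← pow_succ, ← k10]; rfl)) (.inr rfl)⟩
  · exact ⟨a, 3, k11 3 (mul_right_cancel (b := a) (by rw [l1, ← pow_succ, ← k9, ← pow_mul]))
      (.inl rfl)⟩

theorem index_C_map (α : MulAut S) (u : S) : (C (α u)).index = (C u).index :=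
  Nat.eq_of_mul_eq_mul_left Nat.card_pos (by
    rw [Subgroup.card_mul_index, card_C_map, Subgroup.card_mul_index])

theorem AG.exists_fc (F : AG 2 R E X) (hS : Nat.card S = 32) (h4 : Nat.card (𝒟 S) = 4) :
    (∃ u : S, (C u).index = 4 ∧ ∀ v, R u v → (C v).index = 4) ∨ ∃ (x : S) (r : ℕ), XD x r := by
  by_cases h1 : 𝒟 S ≤ 𝒵 S
  · obtain ⟨u, hu⟩ : ∃ u : S, (C u).index = 4 := by_contra fun h2 => by
      have := knoche h1 fun u => (index_C_cases F.isP h4 u).resolve_left fun h3 => h2 ⟨u, h3⟩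
      omega
    exact .inl ⟨u, hu, fun v hv => F.ind' (fun u v => (C u).index = 4 → (C v).index = 4)
      (fun _ _ _ h2 h3 h4 => h3 (h2 h4)) (fun α _ u h2 => (index_C_map α u).trans h2)
      (fun Q h2 _ _ y h3 => absurd h3 (h2.index_ne hS h4 h1 y.2)) u v hv hu⟩
  obtain ⟨d, z, h⟩ := exists_C3 F.isP h4 h1
  refine or_iff_not_imp_right.2 fun h2 => ?_
  obtain ⟨u, h3⟩ : ∃ u : S, (C u).index = 4 ∧ u ^ 2 ∉ 𝒟 S ⊓ 𝒵 S := by
    by_contra! h3
    exact h2 (h.exists_XD (h.eq ▸ h3))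
  exact ⟨u, h3.1, fun v hv => (F.ind (fun u v => (C u).index = 4 ∧ u ^ 2 ∉ 𝒟 S ⊓ 𝒵 S →
    (C v).index = 4 ∧ v ^ 2 ∉ 𝒟 S ⊓ 𝒵 S) (fun _ _ _ h2 h3 h4 => h3 (h2 h4))
    (fun u s h2 => k (MulAut.conj s) h2) (fun α _ _ u h2 => k α h2)
    (fun Q l1 l2 _ α _ l3 l4 y h5 => absurd (sq_mem_of_odd hS l1 l2 l3 l4 y.2 h5.1) h5.2) u v hv
    h3).1⟩
where k (α : MulAut S) {u : S} (h : (C u).index = 4 ∧ u ^ 2 ∉ 𝒟 S ⊓ 𝒵 S) :
    (C (α u)).index = 4 ∧ α u ^ 2 ∉ 𝒟 S ⊓ 𝒵 S := ⟨(index_C_map α u).trans h.1, fun h1 => h.2 (by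
  simpa using And.intro (map_mem_commutator α⁻¹ h1.1) (map_mem_center α⁻¹ h1.2))⟩

theorem AF.inv (F : AF p R E X) (h : R u v) : R u⁻¹ v⁻¹ := by
  have h1 : ∀ u : S, u ^ (Nat.card S - 1) = u⁻¹ := fun u => eq_inv_of_mul_eq_one_left (by
    rw [← pow_succ, Nat.sub_add_cancel Nat.card_pos, pow_card_eq_one'])
  simpa only [h1] using F.pow h (Nat.card S - 1)

theorem AF.exists_unf (F : AF 2 R E X) (h : ∀ x : S, x ^ 2 ∈ 𝒵 S) (hn : ¬ IsMulCommutative S) :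
    ∃ u, u ^ 2 ≠ 1 ∧ ∀ v, R u v → v ∉ 𝒵 S := by
  by_contra! h1
  have k1 : ∀ x : S, ∃ c ∈ 𝒵 S, (x * c) ^ 2 = 1 := fun x => by
    by_cases h2 : x ^ 2 = 1
    · exact ⟨1, one_mem _, by simpa⟩
    obtain ⟨v, h3, h4⟩ := h1 x h2
    obtain ⟨α, -, h5⟩ := F.burn _ (pow_mem h4 2) _ (h x) (F.symm (F.pow h3 2))
    have h6 := inv_mem (map_mem_center α h4)
    exact ⟨_, h6, by
      rw [Commute.mul_pow (Subgroup.mem_center_iff.1 h6 x), ← h5, map_pow, inv_pow, mul_inv_cancel]⟩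
  have k2 : ∀ a b : S, a ^ 2 = 1 → b ^ 2 = 1 → Commute a b := fun a b ha hb => by
    have l1 : (a * b)⁻¹ = b * a := by
      rw [mul_inv_rev, inv_eq_of_mul_eq_one_left ((sq b).symm.trans hb),
        inv_eq_of_mul_eq_one_left ((sq a).symm.trans ha)]
    refine ((eq_inv_of_mul_eq_one_left ((sq (a * b)).symm.trans (by_contra fun l2 => ?_))).trans
      l1 :)
    obtain ⟨v, l3, l4⟩ := h1 _ l2
    obtain ⟨α, l5, l6⟩ := F.burn _ l4 _ (inv_mem l4) (F.trans (F.symm l3) (F.trans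
      (F.of_conj ⟨b, by rw [l1, ← mul_assoc, mul_inv_cancel_right]⟩) (F.inv l3)))
    obtain ⟨s, l7⟩ := (Inn S).pow_relIndex_mem l5
    obtain ⟨n, l8⟩ := odd_of_not F.sylE
    have l9 := congrArg (· v) l7
    simp only [l8, pow_succ, pow_mul, MulAut.mul_apply, l6, map_inv, MulAut.conj_apply,
      Subgroup.mem_center_iff.1 l4 s, mul_inv_cancel_right] at l9
    rw [pow_fix (by simp [sq, l6])] at l9
    exact l2 (F.pow_eq_one l3 (by rw [sq]; exact mul_eq_one_iff_eq_inv.2 l9))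
  refine hn ⟨⟨fun a b => ?_⟩⟩
  obtain ⟨c, l1, l2⟩ := k1 a
  obtain ⟨c', l3, l4⟩ := k1 b
  have l5 : ∀ {c}, c ∈ 𝒵 S → ∀ a, Commute a c⁻¹ := fun l5 =>
    Subgroup.mem_center_iff.1 (inv_mem l5)
  simpa using (((k2 _ _ l2 l4).mul_right (l5 l3 _)).symm.mul_right (l5 l1 _)).symm.eq

end H3.KQ
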