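import Cfsg.Agent.H3.KQ15
import Cfsg.Agent.S4541

/-! Olsson's bound for `2`-blocks of defect at most five. -/

set_option autoImplicit false
set_option linter.unusedSectionVars false

open Cfsg MonoidAlgebra
open H5 H8 H28 H7 H21 Finset
open H25 (ex im)
open scoped ComplexConjugate

namespace H3.KQ

local notation "Z" => Subgroup.zpowers
local notation "C" u:max => Subgroup.centralizer ({u} : Set _)
local notation "𝒵" => Subgroup.center
local notation "𝒟" => commutator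

section Grp

variable {S : Type*} [Group S] [Finite S] {A K L : Subgroup S} {x w : S} {r : ℕ}

theorem relIndex_dvd_two (h : K ≤ L) (h1 : A.relIndex L = 2) : A.relIndex K ∣ 2 := by
  have h2 := Subgroup.relIndex_le_of_le_right h (h1 ▸ two_ne_zero)
  have h3 : A.relIndex K ≠ 0 := Subgroup.FiniteIndex.index_ne_zero
  rw [h1] at h2
  interval_cases A.relIndex K <;> simp_all

namespace XD

variable (h : XD x r)
include h

theorem pow_eight : x ^ 8 = 1 := h.ord ▸ pow_orderOf_eq_one x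

theorem conj_cases (s : S) : s * x * s⁻¹ = x ∨ s * x * s⁻¹ = x ^ r :=
  (em (s ∈ C x)).imp (fun h1 => mul_inv_eq_iff_eq_mul.2 (mem_C.1 h1)) (h.conj s)

theorem exists_out : ∃ w, w ∉ C x := by
  by_contra! h1
  simpa [(Subgroup.eq_top_iff' _).2 h1] using h.idx

theorem five : x ^ 5 ≠ x ∧ x ^ 5 ≠ x ^ r := by
  refine ⟨fun h1 => ?_, fun h1 => ?_⟩
  · simpa [h.ord] using pow_inj_mod.1 (h1.trans (pow_one x).symm)
  · rcases h.r37 with rfl | rfl <;> simpa [h.ord] using pow_inj_mod.1 h1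

theorem mem_five : x ∈ Z (x ^ 5) := ⟨5, by
  simp only [zpow_ofNat, ← pow_mul]
  rw [show 5 * 5 = 8 * 3 + 1 from rfl, pow_succ, pow_mul, h.pow_eight, one_pow, one_mul]⟩

theorem pow_r (hw : w ∉ C x) (k : ZMod 8) : x ^ ((r : ZMod 8) * k).val = w * x ^ k.val * w⁻¹ := by
  rw [← conj_pow, h.conj w hw, ← pow_mul, ZMod.val_mul, ZMod.val_natCast, Nat.mod_mul_mod,
    ← pow_eq_pow_mod _ h.pow_eight]

end XD

end Grp

universe u

variable {G : Type u} [Group G] [Finite G] {M : Ideal AlgInt} {B : Set (IrrCharacter G)}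
  {P H : Subgroup G} {e : (kk M)[G]} {u x : P} {r : ℕ}

theorem fConj_norm {k : Type*} [Field k] [CharP k 2] [IsAlgClosed k] {b e : k[G]} {u v : G}
    (m : MaxP 2 ⊤ ⊤ b P e) (hPN : P ≤ 𝐍 (Z u)) (hv : v ∈ Z u) (huv : FConj 2 P e u v) :
    ∃ s ∈ P, s * u * s⁻¹ = v := by
  obtain ⟨g, h1, rfl⟩ := huv
  have hN : g ∈ 𝐍 (Z u) := by
    rw [mem_normalizer_iff_cj, cj_zpowers]
    exact Subgroup.eq_of_le_of_card_ge (Subgroup.zpowers_le.2 hv) (by
      rw [Nat.card_zpowers, Nat.card_zpowers, orderOf_conj'])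
  obtain ⟨f, hf⟩ := exists_PLE top_le_norm_top m.bp h1.le
  have hD : IsDef 2 (⊤ ⊓ 𝐍 (Z u) ⊓ stab f) f (P ⊓ 𝐍 (Z u)) := by
    rw [← hf.inf_stab top_le_norm_top m.bp]
    refine (m.isDef_iff_card hf ((m.isBP hf).cent_le_stab le_rfl) inf_le_left
      (mem_Fix_nstab _ _ _)).2 fun y _ => ?_
    rw [hf.inf_stab top_le_norm_top m.bp, inf_eq_left.2 hPN]
    exact Subgroup.card_le_of_le inf_le_left
  obtain ⟨s, hs, h2⟩ := MaxP.exists_conj_of_reg m hf hD (fun t ht ho => by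
    obtain ⟨j, hj⟩ := IsPGroup.iff_orderOf.1 m.bp.isP ⟨u, h1.le (Subgroup.mem_zpowers u)⟩
    rw [centralizer_zpowers, Subgroup.mem_centralizer_singleton_iff, ← mul_inv_eq_iff_eq_mul]
    exact H10.conj_eq_of_mem_zpowers (by rw [← hj, Subgroup.orderOf_mk])
      (coprime_two_of_not_dvd ho)
      ((Subgroup.mem_normalizer_iff.1 ht.1.2 u).1 (Subgroup.mem_zpowers u)))
    ((fus_iff_of_norm top_le_norm_top m.bp hf hN).1 h1)
  exact ⟨s, hs, h2 u (Subgroup.mem_zpowers u)⟩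

variable [CharP (kk M) 2] (hM : IsPModular 2 M) (hB : IsPBlock M B) (m : MaxP 2 ⊤ ⊤ (eB M B) P e)
include hM hB m

set_option quotPrecheck false in
local notation "k₀" => Nat.card {χ : IrrCharacter G // χ ∈ B ∧ blockHeight 2 B χ.1 = 0}

theorem rank_le_four (h : Nat.card P ∣ 4) : blockRank 2 B ≤ 3 := by
  have h1 := le_centralizer_self_iff.2 (comm_of_card_dvd_sq (p := 2) h)
  have h2 := card_dvd_four h (not_dvd_inE hM m h1)
  exact (rank_of_prime hM hB m h1 rfl (((Nat.dvd_prime Nat.prime_three).1 h2).imp_right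
    fun h3 => by rw [h3]; norm_num)).1.trans (Nat.le_of_dvd three_pos h2)

theorem k0_le (h : ∀ v : P, FConj 2 P e u v → Nat.card (C v) ≤ Nat.card (C u))
    (h1 : Nat.card (C u) < orderOf u * 8) : k₀ ≤ Nat.card (C u) := by
  have hD := isDef_sblk hM m h
  have s := subP_sblk hM m.bp u.2
  obtain ⟨Q, _, _, π, D, ē, q⟩ := exists_QD_sblk hM m u.2 hD
  have h2 := q.card_im'
  obtain ⟨i, hi⟩ := q.m.bp.isP.exists_card_eq
  rw [card_C, Nat.card_zpowers, Subgroup.orderOf_coe, hi] at h2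
  have h3 : i < 3 := (Nat.pow_lt_pow_iff_right one_lt_two).1
    (Nat.lt_of_mul_lt_mul_left (h2.trans_lt h1))
  rw [← card_C, ← s.pow_blockDefect hM hD]
  exact (Cfsg.Agent.S4541.result M hM B hB u s.isSec.pelt _ (s.induced hM hB m)).2.2
    (q.rank hM ▸ rank_le_four hM (q.blk hM) q.m (hi ▸ pow_dvd_pow 2 (show i ≤ 2 by omega)))

theorem XD.exists_LN (h : XD x r) (hS : Nat.card P = 32) :
    ∃ θ φ, LN 2 M P e {u | C u ≤ P ⊔ C (x : G)} θ φ := by
  have k1 : P ≤ 𝐍 (C (x : G)) := fun s hs => by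
    rw [← centralizer_zpowers]
    refine normalizer_le_normalizer_centralizer _ (H1.mem_normalizer_of_conj_mem ?_)
    rintro _ ⟨i, rfl⟩
    rw [← conj_zpow]
    rcases h.conj_cases ⟨s, hs⟩ with h1 | h1 <;>
      exact zpow_mem ((congrArg Subtype.val h1).symm.subst (motive := (· ∈ Z (x : G)))
        (by simp [pow_mem])) i
  have k2 : (C (x : G)).relIndex P = 2 := h.idx ▸ congrArg Subgroup.index
    (Subgroup.ext fun s => by simp [mem_C, Subgroup.mem_subgroupOf, Subtype.ext_iff])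
  have k3 : (Z (x : G)).relIndex (P ⊓ C (x : G)) = 2 :=
    relIndex_of_card (Subgroup.zpowers_le.2 ⟨x.2, mem_C.2 rfl⟩) (by
      have := (C x).card_mul_index
      rw [h.idx] at this
      rw [card_C, Nat.card_zpowers, Subgroup.orderOf_coe, h.ord]
      omega)
  obtain ⟨c, e', hc, rfl, m', m1⟩ := exists_loc hM m (le_sup_left : P ≤ P ⊔ C (x : G))
    (le_sup_of_le_right (Subgroup.centralizer_le (by simp)))
  have h1 : ANil 2 ⊤ ⊤ (eB M c) := (anil_emb_iff (Subgroup.subtype_injective _)).1 (by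
    rw [map_top_subtype]
    refine MaxP.anil_of m1 fun T hT t ht h1 ho => ?_
    have h2 : t ∈ C (x : G) := by
      rw [sup_comm] at ht
      obtain ⟨j, hj⟩ := exists_pow_mem_sup m.bp.isP k1 ht
      exact mem_of_pow_mem_of_regular hj ho
    have h3 := H10.odd_centralizes_of_fix (m.bp.isP.to_le (inf_le_left.trans hT))
      (relIndex_dvd_two (inf_le_inf_right _ hT) k3) (Subgroup.inf_normalizer_le_normalizer_inf
        ⟨h1, Subgroup.le_normalizer h2⟩) (coprime_two_of_not_dvd ho) (by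
      rintro _ ⟨i, rfl⟩ -
      rw [((show Commute t x from mem_C.1 h2).zpow_right i).eq, mul_inv_cancel_right])
    exact H10.odd_centralizes_of_fix (m.bp.isP.to_le hT) (relIndex_dvd_two hT k2) h1
      (coprime_two_of_not_dvd ho) fun a ha ha' => mul_inv_eq_iff_eq_mul.2 (h3 a ⟨ha', ha⟩).symm)
  obtain ⟨ξ, hξ, h0⟩ := exists_blockHeight_eq_zero (p := 2) (isPBlock_nonempty hM hc)
  obtain ⟨θ, φ, h3, -⟩ := H7.exists_LN hM le_sup_left m.bp hc m' h1 hξ h0
  exact ⟨θ, φ, h3⟩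

theorem XD.k0_le (h : XD x r) (hS : Nat.card P = 32) : k₀ ≤ 8 := by
  classical
  obtain ⟨θ, φ, hL⟩ := h.exists_LN hM hB m hS
  obtain ⟨ψ, hψ⟩ : ∃ ψ : AddChar (ZMod 8) ℂ, ψ.IsPrimitive := exists_prim_char 3
  choose a ha using fun χ => exists_four h.pow_eight ψ (hL.gen χ)
  obtain ⟨w, hw⟩ := h.exists_out
  have k1 : Nat.card (C x) = 16 := by
    have := (C x).card_mul_index
    rw [h.idx] at this
    omega
  have k2 := hL.col hM m.bp x (le_sup_right : C (x : G) ≤ _)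
  have k3 := hL.col hM m.bp (x ^ 5) (le_sup_of_le_right (cent_le_of_mem
    (Subgroup.mem_map_of_mem P.subtype h.mem_five |> (MonoidHom.map_zpowers _ _).le)))
  have k4 : ∀ χ k, θ χ (x ^ ((r : ZMod 8) * k).val) = θ χ (x ^ k.val) := fun χ k => by
    rw [h.pow_r hw, (hL.gen χ).isClassFunction]
  have k5 : ¬ FConj 2 P e x (x ^ 5 : P) := fun k5 => by
    obtain ⟨s, hs, k6⟩ := fConj_norm m (fun s hs => H1.mem_normalizer_of_conj_mem (by
      rintro _ ⟨i, rfl⟩
      rw [← conj_zpow]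
      rcases h.conj_cases ⟨s, hs⟩ with h1 | h1 <;>
        exact zpow_mem ((congrArg Subtype.val h1).symm.subst (motive := (· ∈ Z (x : G)))
          (by simp [pow_mem])) i)) (by simp [pow_mem]) k5
    rcases h.conj_cases ⟨s, hs⟩ with h1 | h1
    exacts [h.five.1 ((Subtype.ext k6).symm.trans h1), h.five.2 ((Subtype.ext k6).symm.trans h1)]
  have k6 : ψ 4 = -1 := by
    have l1 : ψ 4 * ψ 4 = 1 := by rw [← AddChar.map_add_eq_mul]; exact ψ.map_zero_eq_one
    exact (mul_self_eq_one_iff.1 l1).resolve_left (mt (hψ.zmod_char_eq_one_iff 8 4).1 (by decide))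
  have k7 : ∀ χ, (2 : ℂ) * (a χ 0 - a χ 4 : ℤ) = θ χ x + θ χ (x ^ 5) := fun χ => by
    have l1 := ha χ 0
    have l2 := ha χ 4
    have l3 := k4 χ 1
    have l4 := k4 χ 5
    simp only [zero_mul, neg_zero, AddChar.map_zero_eq_one, mul_one] at l1
    rw [show ∑ k : ZMod 8, θ χ (x ^ k.val) = _ from Fin.sum_univ_eight _] at l1
    rw [show ∑ k : ZMod 8, θ χ (x ^ k.val) * ψ (-(4 * k)) = _ from Fin.sum_univ_eight _] at l2
    change _ = θ χ (x ^ 0) + θ χ (x ^ 1) + θ χ (x ^ 2) + θ χ (x ^ 3) + θ χ (x ^ 4) + θ χ (x ^ 5) +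
      θ χ (x ^ 6) + θ χ (x ^ 7) at l1
    change _ = θ χ (x ^ 0) * ψ 0 + θ χ (x ^ 1) * ψ 4 + θ χ (x ^ 2) * ψ 0 + θ χ (x ^ 3) * ψ 4 +
      θ χ (x ^ 4) * ψ 0 + θ χ (x ^ 5) * ψ 4 + θ χ (x ^ 6) * ψ 0 + θ χ (x ^ 7) * ψ 4 at l2
    rw [k6, AddChar.map_zero_eq_one] at l2
    rw [pow_one] at l1 l2
    push_cast at l1 l2 ⊢
    rcases h.r37 with rfl | rfl
    · change θ χ (x ^ 3) = θ χ (x ^ 1) at l3
      change θ χ (x ^ 7) = θ χ (x ^ 5) at l4
      rw [pow_one] at l3
      linear_combination (l1 - l2) / 4 + (l3 + l4) / 2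
    · change θ χ (x ^ 7) = θ χ (x ^ 1) at l3
      change θ χ (x ^ 3) = θ χ (x ^ 5) at l4
      rw [pow_one] at l3
      linear_combination (l1 - l2) / 4 + (l3 + l4) / 2
  have k8 : ∑ χ, (a χ 0 - a χ 4) ^ 2 = 8 := by
    have l1 := k2.sum_self
    have l2 := k3.sum_self
    have l3 := k2.orth k3 k5
    have l4 := k3.orth k2 fun l4 => k5 l4.symm
    rw [card_C, k1] at l1
    rw [card_C, show C (x ^ 5) = C x from le_antisymm (cent_le_of_mem h.mem_five)
      (cent_le_of_mem (pow_mem (Subgroup.mem_zpowers x) 5)), k1] at l2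
    have l5 : ∑ χ, conj (θ χ x + θ χ (x ^ 5)) * (θ χ x + θ χ (x ^ 5)) = 32 := by
      simp only [map_add, add_mul, mul_add, sum_add_distrib, l1, l2, l3, l4]
      norm_num
    simp only [← k7, map_mul, map_intCast, map_ofNat] at l5
    have l6 : ((∑ χ, (a χ 0 - a χ 4) ^ 2 : ℤ) : ℂ) = (8 : ℤ) := by
      rw [Int.cast_sum, ← mul_right_inj' (show (4 : ℂ) ≠ 0 by norm_num), mul_sum]
      refine (sum_congr rfl fun χ _ => ?_).trans (l5.trans (by norm_num))
      push_cast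
      ring
    exact_mod_cast l6
  have k9 : ∀ χ ∈ B, blockHeight 2 B χ.1 = 0 → Odd (a χ 0 - a χ 4) := fun χ hχ h0 => by
    have h1 := (k2.val_eq_one_iff hB m (isDef_sblk hM m fun v hv => ?_) hχ hχ).2 ⟨h0, h0⟩
    swap
    · have l1 := (C v).card_mul_index
      have l2 : (C v).index ≠ 1 := fun l2 => by
        simpa [h.ord] using orderOf_dvd_of_pow_eq_one ((MaxP.af m).pow_eq_one hv
          (h.cen v (mem_center_of_C (Subgroup.index_eq_one.1 l2))))
      have l3 : (C v).index ≠ 0 := Subgroup.FiniteIndex.index_ne_zero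
      rw [k1]
      nlinarith [show 2 ≤ (C v).index by omega]
    have h2 (k : ZMod 8) : ψ k ^ 2 ^ 3 = 1 := by
      rw [← AddChar.map_nsmul_eq_pow, nsmul_eq_mul]
      exact (congrArg ψ (zero_mul k)).trans ψ.map_zero_eq_one
    have h3 (f : ZMod 8 → ZMod 8) : ∑ j, (a χ j : ℂ) * ψ (f j) ∈ V M ∧
        red M (∑ j, (a χ j : ℂ) * ψ (f j)) = (∑ j, a χ j : ℤ) := by
      have k1 (j) : ψ (f j) ∈ V M := mem_V_of_pow_eq_one (NeZero.ne _) (h2 _)
      refine ⟨sum_mem fun j _ => mul_mem (intCast_mem _ _) (k1 j), ?_⟩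
      rw [red_sum _ _ fun j _ => mul_mem (intCast_mem _ _) (k1 j), Int.cast_sum]
      exact sum_congr rfl fun j _ => by
        rw [red_mul (intCast_mem _ _) (k1 j), red_eq_one_of_pow_eq_one hM (h2 _), red_intCast,
          mul_one]
    have h4 : θ χ x = _ := (congrArg (θ χ) (pow_one x).symm).trans (four_inv hψ (ha χ) 1)
    have h5 : conj (θ χ x) = ∑ j, (a χ j : ℂ) * ψ (-(j * 1)) := by
      simp only [h4, map_sum, map_mul, map_intCast, conj_psi]
    rw [h5, h4, ← red_ne_zero_iff, red_mul (h3 _).1 (h3 _).1, (h3 _).2, (h3 _).2,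
      mul_self_ne_zero, Ne, CharP.intCast_eq_zero_iff _ 2] at h1
    have h6 : (r : ZMod 8) * r = 1 := by rcases h.r37 with rfl | rfl <;> rfl
    have h7 := even_sum_four (s := 4) (by decide) h6 (four_symm (ha χ) h6 (k4 χ)) (by
      rcases h.r37 with rfl | rfl <;> decide)
    rwa [← Int.not_even_iff_odd, ← Int.even_sub.1 h7, even_iff_two_dvd]
  rw [Nat.card_eq_fintype_card, Fintype.card_subtype, ← Nat.cast_le (α := ℤ), card_eq_sum_ones]
  push_cast
  exact (sum_le_sum fun χ hχ => one_le_sq_of_odd (k9 χ (mem_filter.1 hχ).2.1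
    (mem_filter.1 hχ).2.2)).trans ((sum_le_sum_of_subset_of_nonneg (subset_univ _)
      fun _ _ _ => sq_nonneg _).trans k8.le)

theorem k0_le_index (h : Nat.card P ≤ 32) : k₀ ≤ (𝒟 P).index := by
  have F := MaxP.ag m
  have k0 := (𝒟 P).card_mul_index
  by_cases h1 : IsMulCommutative P
  · rw [commutator_eq_bot h1, Subgroup.index_bot]
    exact (Nat.card_le_card_of_injective (fun χ => (⟨χ.1, χ.2.1⟩ : B))
      fun _ _ h2 => Subtype.ext (congrArg (·.1) h2)).trans (card_le_of_le hM hB m h)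
  obtain ⟨i, hi⟩ := F.isP.exists_card_eq
  obtain ⟨j, hj⟩ := F.isP.index (𝒟 P)
  have k1 : 2 < i := by_contra fun k1 => h1 (comm_of_card_dvd_sq (p := 2)
    (hi ▸ pow_dvd_pow 2 (by omega)))
  have k2 : i ≤ 5 := (Nat.pow_le_pow_iff_right one_lt_two).1 (hi ▸ h)
  by_cases h2 : (𝒟 P).index ≤ 4
  · obtain ⟨n, x, ε, mc⟩ := exists_mc F.isP h2 (hi ▸ Nat.pow_lt_pow_right one_lt_two k1)
    obtain ⟨w, hw, hw'⟩ := mc.exists_out
    have := Fintype.ofFinite G
    obtain ⟨n, rfl⟩ : ∃ l, n = l + 1 := ⟨n - 1, by have := mc.two_le; omega⟩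
    rw [← Subgroup.card_map_of_injective P.subtype_injective, Subgroup.map_subtype_commutator,
      mc.commutator_eq, Nat.card_zpowers, ← pow_one (2 : ℤ), H10.orderOf_zpow_two_pow mc.ord
      n.succ_pos, mc.card, pow_succ, pow_succ, mul_assoc] at k0
    exact (TB.main ⟨hM, hB, m, mc⟩ hw hw').1.trans_le
      (Nat.eq_of_mul_eq_mul_left (by positivity) k0).ge
  obtain ⟨l, hl⟩ := (F.isP.to_subgroup (𝒟 P)).exists_card_eq
  have k3 : l ≠ 0 := fun k3 => h1 (comm_of_commutator (Subgroup.card_eq_one.1 (by simp [hl, k3])))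
  have k4 : 2 < j := (Nat.pow_lt_pow_iff_right one_lt_two).1 (hj ▸ not_le.1 h2)
  have k5 : l + j = i := Nat.pow_right_injective le_rfl (by simpa [hl, hj, hi, pow_add] using k0)
  obtain rfl | ⟨rfl, rfl, rfl⟩ : l = 1 ∨ l = 2 ∧ j = 3 ∧ i = 5 := by omega
  · obtain ⟨u, l1, l2⟩ := F.exists_unf (exists_comm_two hl).choose_spec.2.2.2.2 h1
    have l3 : ∀ v : P, FConj 2 P e u v → Nat.card (C v) = (𝒟 P).index := fun v hv => by
      have l3 := index_C_le v
      have l4 : (C v).index ≠ 1 := fun l4 => l2 v hv (mem_center_of_C (Subgroup.index_eq_one.1 l4))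
      have l5 : (C v).index ≠ 0 := Subgroup.FiniteIndex.index_ne_zero
      have l6 := (C v).card_mul_index
      rw [show (C v).index = 2 by omega] at l6
      rw [hl] at k0
      omega
    have l4 := l3 u (F.eqv.refl u)
    refine l4 ▸ k0_le hM hB m (fun v hv => (l3 v hv).trans_le l4.ge) ?_
    have l5 : ¬ orderOf u ∣ 2 := mt orderOf_dvd_iff_pow_eq_one.1 l1
    have l6 : 2 < orderOf u := by_contra fun l6 => by
      have := orderOf_pos u
      interval_cases orderOf u <;> simp at l5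
    rw [hl] at k0
    omega
  rw [hj]
  rcases F.exists_fc hi hl with ⟨u, l1, l2⟩ | ⟨x, r, l1⟩
  · have l3 : ∀ v : P, (C v).index = 4 → Nat.card (C v) = 8 := fun v hv => by
      have := (C v).card_mul_index
      rw [hv] at this
      omega
    refine (k0_le hM hB m (fun v hv => ((l3 v (l2 v hv)).trans (l3 u l1).symm).le) ?_).trans
      (l3 u l1).le
    have l4 : orderOf u ≠ 1 := fun l4 => by
      simp [orderOf_eq_one_iff.1 l4, (Subgroup.eq_top_iff' _).2 fun a : P => mem_C.2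
        (Commute.one_right a)] at l1
    have := orderOf_pos u
    rw [l3 u l1]
    omega
  · exact l1.k0_le hM hB m hi

end H3.KQ
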