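import Cfsg.Agent.H3.KQ16

/-! Groups of order `32` of class three with an elementary derived subgroup are resistant. -/

set_option autoImplicit false
set_option linter.unusedSectionVars false

open Cfsg
open H5 H8 H28 H7 H21 Finset

namespace H3.KQ

local notation "Z" => Subgroup.zpowers
local notation "C" u:max => Subgroup.centralizer ({u} : Set _)
local notation "𝒵" => Subgroup.center
local notation "𝒟" => commutator

variable {S : Type*} [Group S] [Finite S] {A K Q U V : Subgroup S}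
  {z a b c d g k q s t u v w x y ξ : S} {X : ∀ Q : Subgroup S, Subgroup (MulAut Q)}
  {α β γ σ : MulAut S} {p : ℕ}

theorem le_Fx_of_two (hS : IsPGroup 2 S) (h : ¬ 2 ∣ orderOf α) (hV : ∀ v ∈ V, α v ∈ V)
    (h1 : U ≤ V) (h2 : U ≤ Fx α) (h3 : Nat.card V ≤ 2 * Nat.card U) : V ≤ Fx α := fun v hv =>
  by_contra fun h4 => by
  have h5 := two_mul_le_of_lt (inf_lt_right.2 fun h5 : V ≤ Fx α => h4 (h5 hv))
  have h6 := Subgroup.card_le_of_le (le_inf h2 h1)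
  have h7 := inv_mul_mem_of_relIndex_two (relIndex_of_card (inf_le_right : Fx α ⊓ V ≤ V)
    (by omega)) hv (hV v hv) (fun h7 => h4 h7.1) fun h7 => h4 (α.injective h7.1)
  exact h4 (fix_of_coprime (hS.to_subgroup (Fx α)) h h7.1 h7.1)

theorem fix_of_commute (hS : IsMulCommutative S) (h : Commute β γ) (h1 : β q = q * c)
    (h2 : β (q⁻¹ * γ q) = q⁻¹ * γ q) : γ c = c := by
  have h3 := congrArg (· q) h.eq
  simp only [MulAut.mul_apply, h1, map_mul] at h3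
  rw [← mul_inv_cancel_left q (γ q), map_mul, h1, h2, mul_assoc, hS.1.1 c, ← mul_assoc] at h3
  exact (mul_left_cancel h3).symm

theorem EC.exists_not_comm (h : EC p Q X) (s : 𝐍 Q) (hs : s.1 ∉ Q)
    (h1 : Q.normalizerMonoidHom s ^ p = 1) : ∃ α ∈ X Q,
      ¬ Commute (Q.normalizerMonoidHom s) (α * Q.normalizerMonoidHom s * α⁻¹) := by
  by_contra! h2
  let Ω := {β | ∃ α ∈ X Q, α * Q.normalizerMonoidHom s * α⁻¹ = β}
  have k1 := Subgroup.isMulCommutative_closure (k := Ω) (by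
    rintro _ ⟨α, hα, rfl⟩ _ ⟨β, hβ, rfl⟩
    simpa [mul_assoc] using ((h2 _ (mul_mem (inv_mem hα) hβ)).map (MulAut.conj α)).eq)
  refine hs (h.rad (Subgroup.closure Ω) (fun β => ⟨1, Subtype.ext ?_⟩) (fun α hα =>
    H1.mem_normalizer_of_conj_mem fun β hβ => ?_) s (Subgroup.subset_closure ⟨1, one_mem _, by simp⟩))
  · refine Subgroup.closure_induction (p := fun β _ => β ^ p ^ 1 = 1) ?_ (one_pow _)
      (fun β γ l1 l2 l3 l4 => ?_) (fun β _ l1 => by rw [inv_pow, l1, inv_one]) β.2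
    · rintro _ ⟨α, -, rfl⟩
      simp [h1]
    · rw [Commute.mul_pow (congrArg Subtype.val (k1.1.1 ⟨β, l1⟩ ⟨γ, l2⟩)), l3, l4, mul_one]
  · refine (Subgroup.closure_le ((Subgroup.closure Ω).comap (MulAut.conj α).toMonoidHom)).2 ?_ hβ
    rintro _ ⟨β, l1, rfl⟩
    exact Subgroup.subset_closure ⟨α * β, mul_mem hα l1, by simp [mul_assoc]⟩

namespace C3

variable (h : C3 d z)
include h

theorem comm_mem (ha : a ∈ C d) (hb : b ∈ C d) : a * b * a⁻¹ * b⁻¹ ∈ Z z := by_contra fun h1 => by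
  obtain ⟨w, hw⟩ := h.exists_out
  have h2 := h.conj_out hw (commutator_mem a b) h1
  have h3 := commutator_mem w a
  have h4 := commutator_mem w b
  generalize hc : w * a * w⁻¹ * a⁻¹ = c at h3
  generalize hc' : w * b * w⁻¹ * b⁻¹ = c' at h4
  refine h.z1 (mul_eq_left.1 (h2.symm.trans ?_))
  calc _ = c * (a * c' * b * a⁻¹) * c⁻¹ * b⁻¹ * c'⁻¹ := by rw [← hc, ← hc']; group
    _ = c' * (a * b * a⁻¹ * b⁻¹) * c'⁻¹ := by
      rw [← h.comm (mul_mem (mul_mem (mul_mem ha (h.le_C h4)) hb) (inv_mem ha)) h3,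
        mul_inv_cancel_right, h.comm ha h4]
      group
    _ = _ := by rw [← h.comm (h.le_C (commutator_mem a b)) h4, mul_inv_cancel_right]

theorem conj_mem (ha : a ∈ C d) (hb : b ∈ C d) : b⁻¹ * (a * b * a⁻¹) ∈ Z z := by
  simpa [mul_assoc] using h.comm_mem (inv_mem hb) ha

theorem sq_comm (ha : a ∈ C d) (hb : b ∈ C d) : a ^ 2 * b = b * a ^ 2 := by
  have h1 := Subgroup.mem_center_iff.1 h.zc
  rcases (sq_mem_zpowers h.zs).1 (h.conj_mem ha hb) with h2 | h2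
  · exact ((show Commute a b from mul_inv_eq_iff_eq_mul.1 (inv_mul_eq_one.1 h2).symm).pow_left 2).eq
  · rw [inv_mul_eq_iff_eq_mul, mul_inv_eq_iff_eq_mul] at h2
    rw [sq, mul_assoc, h2, ← mul_assoc, ← mul_assoc, h2, mul_assoc _ a z, h1 a, mul_assoc b,
      ← mul_assoc z, ← sq, h.zs, one_mul, mul_assoc]

theorem mem_of_conj (w : S) (hc : c ∈ 𝒟 S) : c⁻¹ * (w * c * w⁻¹) ∈ Z z := by
  by_cases hw : w ∈ C d
  · exact h.conj_mem hw (h.le_C hc)
  by_cases h1 : c ∈ Z z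
  · simp [Subgroup.mem_center_iff.1 (h.z_le h1) w]
  · simp [h.conj_out hw hc h1]

theorem sq_one (h1 : d ^ 2 = 1) (hc : c ∈ 𝒟 S) : c ^ 2 = 1 := by
  by_cases h2 : c ∈ Z z
  · rcases (sq_mem_zpowers h.zs).1 h2 with rfl | rfl
    exacts [one_pow 2, h.zs]
  rcases h.of_mem hc h2 with rfl | rfl
  exacts [h1, by rw [Commute.mul_pow (Subgroup.mem_center_iff.1 h.zc d), h1, h.zs, mul_one]]

variable (h1 : d ^ 2 = 1) (hS : Nat.card S = 32)
include h1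

theorem sq_notMem (hw : w ∉ C d) : w ^ 2 ∉ 𝒟 S := fun h2 =>
  hw (h.C_eq h2 (fun h3 => h.sq_out h1 hw (h.z_le h3)) ▸ mem_C.2 (Commute.self_pow w 2))

theorem not_comm : ¬ IsMulCommutative (C d) := fun h2 => by
  obtain ⟨w, hw⟩ := h.exists_out
  have h3 := Subgroup.sq_mem_of_index_two h.idx w
  refine h.sq_out h1 hw (mem_center_of_C (by_contra fun h4 => hw ?_))
  exact eq_of_index_two (fun a ha => mem_C.2 (congrArg Subtype.val (h2.1.1 ⟨a, ha⟩ ⟨_, h3⟩))) h.idx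
    h4 ▸ mem_C.2 (Commute.self_pow w 2)

include hS

theorem card_C : Nat.card (C d) = 16 := by
  have := (C d).card_mul_index
  rw [h.idx] at this
  omega

theorem comm_or (h2 : 𝒟 S ≤ Q) (h3 : Q ≤ C d) : (IsMulCommutative Q ∧ Nat.card Q ≤ 8) ∨
    (Q = C d ∧ 𝒵 Q = (𝒟 S).subgroupOf Q) := by
  have k1 : (𝒟 S).subgroupOf Q ≤ 𝒵 Q := fun c hc =>
    Subgroup.mem_center_iff.2 fun q => Subtype.ext (h.comm (h3 q.2) hc)
  have k2 := (𝒵 Q).card_mul_index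
  obtain ⟨j, k3⟩ := (h.isP.to_subgroup Q).index (𝒵 Q)
  have k4 := Subgroup.card_le_of_le k1
  have k5 := comm_of_index_center (A := Q) (p := 2)
  have k6 := card_subgroupOf_of_le h2
  rw [h.c4] at k6
  rw [k3] at k2 k5
  have k7 : j ≤ 1 ∨ 4 * Nat.card (𝒵 Q) ≤ Nat.card Q := by
    rcases j with _ | _ | j
    exacts [.inl (by omega), .inl le_rfl, .inr (by
      rw [← k2, mul_comm]; exact Nat.mul_le_mul_left _ (Nat.pow_le_pow_right (n := 2) (i := 2)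
        two_pos (by omega)))]
  rcases h3.eq_or_lt with rfl | k8
  · refine .inr ⟨rfl, (Subgroup.eq_of_le_of_card_ge k1 ?_).symm⟩
    have := h.card_C h1 hS
    have := k7.resolve_left fun k7 => h.not_comm h1 (k5 ((pow_dvd_pow 2 k7).trans (pow_one 2).dvd))
    omega
  · have := two_mul_le_of_lt k8
    have := h.card_C h1 hS
    exact .inl ⟨k5 ((pow_dvd_pow 2 (by omega)).trans (pow_one 2).dvd), by omega⟩

theorem mem_of_comm (ha : a ∈ C d) (h2 : ∀ b ∈ C d, a * b = b * a) : a ∈ 𝒟 S :=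
  ((h.comm_or h1 hS h.le_C le_rfl).resolve_left fun h3 => h.not_comm h1 h3.1).2.le
    (Subgroup.mem_center_iff.2 fun b => Subtype.ext (h2 b b.2).symm : (⟨a, ha⟩ : C d) ∈ 𝒵 _)

theorem sq_mem (ha : a ∈ C d) : a ^ 2 ∈ 𝒟 S :=
  h.mem_of_comm h1 hS (pow_mem ha 2) fun _ hb => h.sq_comm ha hb

theorem no_odd (h2 : ¬ 2 ∣ orderOf α) : α = 1 := by
  obtain ⟨w, hw⟩ := h.exists_out
  have k1 : α z = z := ((sq_mem_zpowers h.zs).1 (h.mem_z (map_mem_commutator α h.zd)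
    (map_mem_center α h.zc))).resolve_left (by simpa using h.z1)
  have k2 : 𝒟 S ≤ Fx α := le_Fx_of_four' h2 (fun _ => map_mem_commutator α) h.c4 h.zd h.z1 k1
  have k3 : ∀ a, α a ∈ C d ↔ a ∈ C d := fun a => by
    rw [mem_C, mem_C, ← α.injective.eq_iff (a := a * d), map_mul, map_mul, mem_Fx.1 (k2 h.dd)]
  have k4 : w⁻¹ * α w ∈ C d := ((C d).mul_mem_iff_of_index_two h.idx).2 (by simp [k3])
  have k5 : (w ^ 2)⁻¹ * α (w ^ 2) ∈ 𝒟 S := by
    simpa [sq, mul_assoc] using mul_mem (commutator_mem w⁻¹ (w⁻¹ * α w)) (h.sq_mem h1 hS k4)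
  have k6 := fix_of_coprime (h.isP.to_subgroup _) h2 k5 (k2 k5)
  have k7 := two_mul_le_of_lt (left_lt_sup.2 fun k7 : Z (w ^ 2) ≤ 𝒟 S =>
    h.sq_notMem h1 hw (k7 (Subgroup.mem_zpowers _)))
  have k8 := h.card_C h1 hS
  rw [h.c4] at k7
  exact Fx_eq_top.1 (top_unique (le_Fx_of_two h.isP h2 (fun _ _ => trivial) le_top
    (le_Fx_of_two (U := 𝒟 S ⊔ Z (w ^ 2)) h.isP h2 (fun a => (k3 a).2) (sup_le h.le_C
      (Subgroup.zpowers_le.2 (Subgroup.sq_mem_of_index_two h.idx w)))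
      (sup_le k2 (Subgroup.zpowers_le.2 k6)) (by omega)) (by rw [Subgroup.card_top]; omega)))

theorem no_ec : ¬ EC 2 Q X := fun e => by
  obtain ⟨α₀, -, l1, l2⟩ := e.exists_reg h.isP
  have k1 : Q ≤ C d := fun u hu => by_contra fun k1 =>
    h.sq_out h1 k1 (sq_mem_of_odd hS e.ne e.cen l1 l2 hu (h.index_out k1)).2
  have k2 : 𝒟 S ≤ Q := fun c hc => e.cen (mem_centralizer'.2 fun q hq => h.comm (k1 hq) hc)
  have k3 : ∀ s, s ∈ 𝐍 Q := fun s => H1.mem_normalizer_of_conj_mem fun q hq => by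
    simpa using mul_mem hq (k2 (conj_mem_commutator s q))
  let ω : S →* MulAut Q := Q.normalizerMonoidHom.comp ((MonoidHom.id S).codRestrict _ k3)
  have k4 : ∀ s, ω s ∈ X Q := fun s => e.inn ⟨_, rfl⟩
  have k5 : ∀ s q, (ω s q : S) = s * q * s⁻¹ := fun _ _ => rfl
  let z₀ : Q := ⟨z, k2 h.zd⟩
  have k6 : ∀ q : Q, q.1 ∈ Z z → q ∈ Z z₀ := fun q ⟨i, hi⟩ => ⟨i, Subtype.ext hi⟩
  have k7 : ∀ s, ω s z₀ = z₀ := fun s => Subtype.ext (by
    rw [k5, Subgroup.mem_center_iff.1 h.zc, mul_inv_cancel_right])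
  obtain ⟨w, hw⟩ := h.exists_out
  rcases h.comm_or h1 hS k2 k1 with ⟨k8, k9⟩ | ⟨rfl, k8⟩
  swap
  · have l3 : 𝒟 (C d) ≤ Z z₀ := commutator_le_of fun a b => k6 _ (h.comm_mem a.2 b.2)
    obtain ⟨c, l4, l5⟩ := (𝒟 (C d)).bot_or_exists_ne_one.resolve_left
      (mt comm_of_commutator (h.not_comm h1))
    have l6 := ((sq_mem_zpowers (Subtype.ext h.zs)).1 (l3 l4)).resolve_left l5
    exact hw (e.mem_of_St h.isP (fun α _ _ => map_mem_commutator α) (fun α _ _ => map_mem_center α)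
      ⟨w, k3 w⟩ ⟨fun u hu => Subgroup.zpowers_le.2 (show z₀ ∈ Fx (ω w) from k7 w) (l3 hu),
        fun v hv => Subgroup.zpowers_le.2 (l6 ▸ l4) (k6 _ (h.mem_of_conj w (k8.le hv))), fun q => k8.ge (conj_mem_commutator w q)⟩)
  have k10 : ¬ C d ≤ Q := fun k10 => h.not_comm h1 (le_antisymm k1 k10 ▸ k8)
  obtain ⟨k, hk, hk'⟩ := SetLike.not_le_iff_exists.1 k10
  have k11 : Nat.card Q = 8 := by
    have := two_mul_le_of_lt (k2.lt_of_ne fun l3 => k10 fun a ha => e.cen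
      (mem_centralizer'.2 fun q hq => (h.comm ha (l3 ▸ hq)).symm))
    have := h.c4
    omega
  have k12 : (𝒟 S).relIndex Q = 2 := relIndex_of_card k2 (by rw [h.c4, k11])
  have k13 := fun {β γ c d} => commute_of_St (β := β) (γ := γ) (c := c) (d := d)
    (h.isP.to_subgroup Q) (e.not_eight k8 (by
      have := Q.card_mul_index
      rw [k11] at this
      rw [show Q.index = 4 by omega]))
  obtain ⟨α, hα, k14⟩ := e.exists_not_comm ⟨k, k3 k⟩ hk' (MulEquiv.ext fun q => Subtype.ext (by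
    rw [← map_pow]; exact mul_inv_eq_iff_eq_mul.2 (h.sq_comm hk (k1 q.2))))
  change ¬ Commute (ω k) (α * ω k * α⁻¹) at k14
  have k15 : ∀ q, q⁻¹ * ω k q ∈ Z z₀ := fun q => k6 _ (h.conj_mem hk (k1 q.2))
  have k16 : ∀ {α β : MulAut Q} {c}, β c = c ∧ (∀ q, q⁻¹ * β q ∈ Z c) →
      (α * β * α⁻¹) (α c) = α c ∧ ∀ q, q⁻¹ * (α * β * α⁻¹) q ∈ Z (α c) := fun {α β c} l3 =>
    ⟨by simp [l3.1], fun q => by
      obtain ⟨i, hi⟩ := l3.2 (α⁻¹ q)
      exact ⟨i, by simpa using congrArg α hi⟩⟩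
  obtain ⟨k17, k18⟩ := k16 (α := α) ⟨k7 k, k15⟩
  have k19 := mul_mem (mul_mem hα (k4 k)) (inv_mem hα)
  have k20 : α z₀ ^ 2 = 1 := by rw [← map_pow, show z₀ ^ 2 = 1 from Subtype.ext h.zs, map_one]
  generalize α * ω k * α⁻¹ = τ at k14 k17 k18 k19
  generalize α z₀ = y at k17 k18 k20
  have k21 : τ z₀ ≠ z₀ := fun l3 => k14 (k13 (k4 k) k19 (k7 k) l3 k17 k15 k18)
  have k22 : ω k y ≠ y := fun l3 => k14 (k13 k19 (k4 k) k17 l3 (k7 k) k18 k15).symm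
  have k23 : y.1 ∉ 𝒟 S := fun l3 =>
    k22 (Subtype.ext (mul_inv_eq_iff_eq_mul.2 (h.comm hk l3)))
  have k24 : ∀ w ∉ C d, ∀ c : Q, c.1 ∈ 𝒟 S → c.1 ∉ Z z → ω w c = c * z₀ := fun w hw c l3 l4 =>
    Subtype.ext (h.conj_out hw l3 l4)
  have k25 : ∀ w ∉ C d, ω w y ≠ y := fun w hw l3 => by
    have l4 : ∀ q, q⁻¹ * ω w q ∈ Z z₀ := fun q => by
      by_cases hq : q.1 ∈ 𝒟 S
      · exact k6 _ (h.mem_of_conj w hq)
      have l4 := k6 ((y⁻¹ * q)⁻¹ * ω w (y⁻¹ * q)) (h.mem_of_conj w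
        (inv_mul_mem_of_relIndex_two k12 y.2 q.2 k23 hq))
      simpa [l3, mul_assoc] using l4
    obtain ⟨i, hi⟩ := k18 ⟨d, k2 h.dd⟩
    exact k21 (fix_of_commute k8 (k13 k19 (k4 w) k17 l3 (k7 w) k18 l4).symm
      (k24 w hw ⟨d, k2 h.dd⟩ h.dd fun l5 => h.dn (h.z_le l5)) (by rw [← hi, map_zpow, l3]))
  have k26 : ∀ w ∉ C d, (y⁻¹ * ω w y).1 ∉ Z z := fun w hw l3 => by
    have l4 : ∀ {a b}, a⁻¹ * b ∈ Z z₀ → b ≠ a → b = a * z₀ := fun l4 l5 =>
      inv_mul_eq_iff_eq_mul.1 (((sq_mem_zpowers (Subtype.ext h.zs)).1 l4).resolve_left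
        fun l6 => l5 (inv_mul_eq_one.1 l6).symm)
    refine k25 (w * k) (by rwa [Subgroup.mul_mem_cancel_right _ hk]) ?_
    rw [map_mul, MulAut.mul_apply, l4 (k15 y) k22, map_mul, k7, l4 (k6 _ l3) (k25 w hw), mul_assoc,
      ← sq, show z₀ ^ 2 = 1 from Subtype.ext h.zs, mul_one]
  have k27 : ∀ w ∉ C d, τ (y⁻¹ * ω w y) ≠ y⁻¹ * ω w y := fun w hw l3 => by
    obtain ⟨l4, l5⟩ := k16 (α := ω w) ⟨k17, k18⟩
    have l6 : τ (ω w y) = ω w y := by simpa [k17] using l3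
    obtain ⟨i, hi⟩ := l5 z₀
    have l7 := fix_of_commute k8 (k13 (mul_mem (mul_mem (k4 w) k19) (inv_mem (k4 w))) k19 l4 l6 k17
      l5 k18).symm (inv_mul_eq_iff_eq_mul.1 (((sq_mem_zpowers k20).1 (k18 z₀)).resolve_left
        fun l7 => k21 (inv_mul_eq_one.1 l7).symm)) (by rw [← hi, map_zpow, l6])
    have l8 : (ω w * τ * (ω w)⁻¹) (y⁻¹ * ω w y) = y⁻¹ * ω w y := by rw [map_mul, map_inv, l7, l4]
    have l9 := k24 w⁻¹ (by simpa) _ (conj_mem_commutator w y) (k26 w hw)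
    rw [MulAut.mul_apply, MulAut.mul_apply, ← MulEquiv.eq_symm_apply, ← MulAut.inv_apply, ← map_inv,
      l9, map_mul, l3] at l8
    exact k21 (mul_left_cancel l8)
  have k28 : ∀ {q}, τ q ≠ q → τ q = q * y := fun {q} l3 => inv_mul_eq_iff_eq_mul.1
    (((sq_mem_zpowers k20).1 (k18 q)).resolve_left fun l4 => l3 (inv_mul_eq_one.1 l4).symm)
  have k29 : y⁻¹ * ω w⁻¹ y = y⁻¹ * ω w y * z₀ := by
    have l3 := h.sq_one h1 (conj_mem_commutator w y)
    rw [inv_mul_eq_iff_eq_mul, map_inv, MulAut.inv_apply, MulEquiv.symm_apply_eq, map_mul, map_mul,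
      k24 w hw _ (conj_mem_commutator w y) (k26 w hw), k7, mul_assoc, ← sq,
      show z₀ ^ 2 = 1 from Subtype.ext h.zs, mul_one, ← mul_inv_cancel_left y (ω w y),
      inv_mul_cancel_left, mul_assoc, ← sq, show (y⁻¹ * ω w y) ^ 2 = 1 from Subtype.ext l3, mul_one]
  refine k27 w⁻¹ (by simpa) ?_
  rw [k29, map_mul, k28 (k27 w hw), k28 k21, mul_assoc, k8.1.1 z₀ y, ← mul_assoc y, ← sq, k20,
    one_mul]

end C3

end H3.KQ
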