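import Cfsg.Agent.H3.KQ17

/-! Brauer's `k(B)`-bound for two-generated defect groups of order `64`. -/

set_option autoImplicit false
set_option linter.unusedSectionVars false

open Cfsg MonoidAlgebra
open H5 H8 H28 H7 H21 Finset
open H25 (ex im)

namespace H3.KQ

local notation "Z" => Subgroup.zpowers
local notation "C" u:max => Subgroup.centralizer ({u} : Set _)
local notation "𝒵" => Subgroup.center
local notation "𝒟" => commutator

section Grp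

variable {S S' : Type*} [Group S] [Finite S] [Group S'] [Finite S'] {A K : Subgroup S}
  {z a b c d g s t u v w x y ξ : S} {f : S →* S'}

section Gen

variable (hg : Subgroup.closure {x, y} = ⊤)
include hg

theorem eq_top_of_gen (hx : x ∈ K) (hy : y ∈ K) : K = ⊤ :=
  top_unique (hg ▸ (Subgroup.closure_le K).2 (Set.insert_subset hx (by simpa)))

theorem cen_of_gen (hx : x * a * x⁻¹ = a) (hy : y * a * y⁻¹ = a) : a ∈ 𝒵 S :=
  mem_center_of_C (eq_top_of_gen hg (mem_C.2 (mul_inv_eq_iff_eq_mul.1 hx))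
    (mem_C.2 (mul_inv_eq_iff_eq_mul.1 hy)))

theorem commutator_le_gen [K.Normal] (h : y * x * y⁻¹ * x⁻¹ ∈ K) : 𝒟 S ≤ K :=
  H10.commutator_le_of_gens hg K (by
    rintro _ (rfl | rfl) _ (rfl | rfl)
    exacts [by simp, by simpa [commutatorElement_def, mul_assoc] using inv_mem h, h, by simp])

theorem card_le_gen {m n : ℕ} (h : 𝒟 S ≤ K) (hx : x ^ m ∈ K) (hy : y ^ n ∈ K) (hm : 0 < m)
    (hn : 0 < n) : Nat.card S ≤ Nat.card K * m * n := by
  have k1 : ∀ {K : Subgroup S} {x : S} {m}, 𝒟 S ≤ K → x ^ m ∈ K → 0 < m →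
      Nat.card (K ⊔ Z x : Subgroup S) ≤ Nat.card K * m := fun {K x m} h hx hm => by
    have : K.Normal := ⟨fun a ha g => by simpa using mul_mem ha (h (conj_mem_commutator g a))⟩
    rw [H4.card_sup_zpowers']
    exact Nat.mul_le_mul_left _ (orderOf_le_of_pow_eq_one hm ((QuotientGroup.eq_one_iff _).2 hx))
  have k2 := k1 (h.trans (le_sup_left (b := Z x))) (Subgroup.mem_sup_left hy) hn
  rw [eq_top_of_gen hg (Subgroup.mem_sup_left (Subgroup.mem_sup_right (Subgroup.mem_zpowers x)))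
    (Subgroup.mem_sup_right (Subgroup.mem_zpowers y)), Subgroup.card_top] at k2
  exact k2.trans (Nat.mul_le_mul_right _ (k1 h hx hm))

theorem gen_map (hf : Function.Surjective f) : Subgroup.closure {f x, f y} = ⊤ := by
  rw [← Set.image_pair, ← MonoidHom.map_closure, hg, Subgroup.map_top_of_surjective _ hf]

theorem gen_wlog (h : ∀ a ∉ K, ∀ b ∉ K, a * b ∈ K) :
    ∃ x y : S, Subgroup.closure {x, y} = ⊤ ∧ x ∈ K := by
  by_cases hx : x ∈ K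
  · exact ⟨x, y, hg, hx⟩
  by_cases hy : y ∈ K
  · exact ⟨y, x, Set.pair_comm x y ▸ hg, hy⟩
  have h1 : y ∈ Subgroup.closure {x * y, y} := Subgroup.subset_closure (by simp)
  exact ⟨x * y, y, eq_top_of_gen hg ((Subgroup.mul_mem_cancel_right _ h1).1
    (Subgroup.subset_closure (by simp))) h1, h x hx y hy⟩

theorem bs_of_gen (hS : Nat.card S = 32) (hx : orderOf x = 8) (h1 : y * x * y⁻¹ = x⁻¹)
    (h2 : (y ^ 2) ^ 2 = 1) : BS (C x) x 0 := by
  have k1 : y ^ 2 * x * (y ^ 2)⁻¹ = x := by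
    rw [sq, mul_inv_rev, mul_assoc y y, mul_assoc y, ← mul_assoc _ y⁻¹, h1, ← mul_assoc, ← conj_inv,
      h1, inv_inv]
  have k2 : y ^ 2 ∈ C x := mem_C.2 (mul_inv_eq_iff_eq_mul.1 k1)
  have k3 : y ∉ C x := fun k3 => by
    rw [mem_C.1 k3, mul_inv_cancel_right, eq_inv_iff_mul_eq_one, ← sq] at h1
    simpa [hx] using orderOf_dvd_of_pow_eq_one h1
  have : (Z x).Normal := Subgroup.normalizer_eq_top_iff.1 (eq_top_of_gen hg
    (Subgroup.le_normalizer (Subgroup.mem_zpowers x)) (H1.mem_normalizer_of_conj_mem (by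
      rintro _ ⟨i, rfl⟩
      simp [← conj_zpow, h1, zpow_mem])))
  have k4 : 𝒟 S ≤ Z x := commutator_le_gen hg (by simp [h1, mul_mem])
  have k5 : Z x ≤ C x := Subgroup.zpowers_le.2 (mem_C.2 rfl)
  have k6 := card_le_gen hg (k4.trans k5) (pow_mem (mem_C.2 rfl) 1) k2 one_pos two_pos
  have k7 := two_mul_le_of_lt (lt_top_iff_ne_top.2 fun k7 : C x = ⊤ => k3 (k7 ▸ Subgroup.mem_top y))
  have k8 := (C x).card_mul_index
  rw [Subgroup.card_top] at k7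
  rw [show Nat.card (C x) = 16 by omega] at k8
  have k9 : (C x).index = 2 := by omega
  have k10 : (Z x).relIndex (C x) = 2 := relIndex_of_card k5 (by rw [Nat.card_zpowers, hx]; omega)
  have k11 : y ^ 2 ∉ Z x := fun k11 => by
    have := card_le_gen hg k4 (pow_mem (Subgroup.mem_zpowers x) 1) k11 one_pos two_pos
    rw [Nat.card_zpowers, hx] at this
    omega
  have k12 : y ^ 2 ∈ 𝒵 S := cen_of_gen hg (mul_inv_eq_iff_eq_mul.2 (mem_C.1 k2).symm) (by group)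
  have k13 : ∀ a ∈ C x, ∃ i : ℤ, a = x ^ i ∨ a = y ^ 2 * x ^ i := fun a ha => by
    by_cases l1 : a ∈ Z x
    · exact l1.imp fun _ l2 => .inl l2.symm
    · exact (inv_mul_mem_of_relIndex_two k10 k2 ha k11 l1).imp fun _ l2 =>
        .inr (inv_mul_eq_iff_eq_mul.1 l2.symm)
  have k14 : ∀ a ∈ C x, ∀ b ∈ C x, a * b = b * a := fun a ha b hb => by
    have l1 : Commute a x := mem_C.1 ha
    obtain ⟨i, rfl | rfl⟩ := k13 b hb
    exacts [l1.zpow_right i, (show Commute a _ from Subgroup.mem_center_iff.1 k12 a).mul_right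
      (l1.zpow_right i)]
  have k15 : ∀ w ∉ C x, ∀ a ∈ C x, w * a * w⁻¹ = a⁻¹ := fun w hw a ha => by
    have l1 : y⁻¹ * w ∈ C x := ((C x).mul_mem_iff_of_index_two k9).2 (by simp [hw, k3])
    rw [← mul_inv_cancel_left y w, mul_assoc y, k14 _ l1 a ha, mul_inv_rev, mul_assoc y,
      ← mul_assoc _ _⁻¹, mul_inv_cancel_right, ← mul_assoc]
    obtain ⟨i, rfl | rfl⟩ := k13 a ha
    · rw [← conj_zpow, h1, inv_zpow]
    · rw [← conj_mul, ← conj_zpow, h1, inv_zpow, mul_inv_rev, Subgroup.mem_center_iff.1 k12 y,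
        mul_inv_cancel_right, ← Subgroup.mem_center_iff.1 k12,
        inv_eq_of_mul_eq_one_left ((sq _).symm.trans h2)]
  refine ⟨hx, mem_C.2 rfl, ⟨⟨fun a b => Subtype.ext (k14 _ a.2 _ b.2)⟩⟩, k9, k10,
    fun w hw => k15 w hw _ (pow_mem (mem_C.2 rfl) 2), fun w hw l1 => k11 ?_, fun t ht l1 w l2 => ?_⟩
  · have l2 : y⁻¹ * w ∈ C x := ((C x).mul_mem_iff_of_index_two k9).2 (by simp [hw, k3])
    rw [← mul_inv_cancel_left y w, show ∀ a, (y * a) ^ 2 = y * a * y⁻¹ * (y ^ 2 * a) from fun a => by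
      simp [sq, mul_assoc], k15 y k3 _ l2, ← Subgroup.mem_center_iff.1 k12,
      inv_mul_cancel_left] at l1
    exact l1 ▸ pow_mem (Subgroup.mem_zpowers x) _
  · refine pow_ne_one_of_lt (m := 3) (k := 2) hx (by norm_num) (mul_eq_left.1 (l2.symm.trans ?_))
    by_cases hw : w ∈ C x
    · rw [k14 w hw t ht, mul_inv_cancel_right]
    · rw [k15 w hw t ht, inv_eq_of_mul_eq_one_left ((sq _).symm.trans l1)]

theorem c3_quot (hS : Nat.card S = 64) (hf : Function.Surjective f) (hk : f.ker = Z ξ)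
    (h1 : orderOf ξ = 2) (h2 : ∀ c ∈ 𝒟 S, c ^ 2 ∈ Z ξ) (h3 : Nat.card (𝒟 S ⊔ Z ξ :) = 8) :
    Nat.card S' = 32 ∧ ∃ d z : S', C3 d z ∧ d ^ 2 = 1 := by
  have k1 := card_range_mul hf
  have k2 := (𝒟 S').card_mul_index
  have k3 := (𝒟 S ⊔ Z ξ).card_mul_index
  rw [hk, Nat.card_zpowers, h1] at k1
  rw [index_commutator_of_surj hf, hk, show (𝒟 S ⊔ Z ξ).index = 8 by rw [h3] at k3; omega] at k2
  have k4 : ∀ c ∈ 𝒟 S', c ^ 2 = 1 := fun c hc => by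
    rw [commutator_def, ← Subgroup.map_top_of_surjective _ hf, ← Subgroup.map_commutator] at hc
    obtain ⟨c, hc, rfl⟩ := hc
    rw [← map_pow, ← MonoidHom.mem_ker, hk]
    exact h2 c hc
  obtain ⟨d, z, h⟩ := exists_C3 (S := S') (.of_card (n := 5) (by omega)) (by omega) fun k5 => by
    have := normal_of_le_center (Subgroup.zpowers_le.2 (k5 (commutator_mem (f y) (f x))))
    have l1 := Subgroup.card_le_of_le (commutator_le_gen (gen_map hg hf) (Subgroup.mem_zpowers _))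
    have l2 := orderOf_le_of_pow_eq_one two_pos (k4 _ (commutator_mem (f y) (f x)))
    rw [Nat.card_zpowers] at l1
    omega
  exact ⟨by omega, d, z, h, k4 d h.dd⟩

theorem C3.gen (h : C3 d z) (hx : x ∈ C d) : y ∉ C d ∧ y * x * y⁻¹ * x⁻¹ ∉ Z z :=
  ⟨fun hy => h.dn (mem_center_of_C (eq_top_of_gen hg hx hy)), fun h1 =>
    have := normal_of_le_center h.z_le
    h.dn (h.z_le (commutator_le_gen hg h1 h.dd))⟩

end Gen

variable (S) in
/-- the hypotheses of a counterexample -/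
structure T6 : Prop where
  card : Nat.card S = 64
  cen : ∀ c ∈ 𝒵 S, c ^ 2 = 1
  exp : ∀ a : S, a ^ 8 = 1

namespace T6

variable (T : T6 S) (hg : Subgroup.closure {x, y} = ⊤)
include T

theorem isP : IsPGroup 2 S := .of_card (n := 6) T.card

include hg

theorem not_le : ¬ 𝒟 S ≤ 𝒵 S := fun h => by
  have k1 := h (commutator_mem y x)
  have k2 : ∀ a b : S, a * b ^ 2 * a⁻¹ = b ^ 2 := fun a b => by
    have l1 := h (commutator_mem a b)
    rw [← conj_pow, ← inv_mul_cancel_right (a * b * a⁻¹) b,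
      Commute.mul_pow (Subgroup.mem_center_iff.1 l1 b).symm, T.cen _ l1, one_mul]
  have k3 : ∀ b : S, b ^ 4 ∈ Z (y * x * y⁻¹ * x⁻¹) := fun b => by
    rw [show 4 = 2 * 2 from rfl, pow_mul, T.cen _ (cen_of_gen hg (k2 _ _) (k2 _ _))]
    exact one_mem _
  have := normal_of_le_center (Subgroup.zpowers_le.2 k1)
  have k4 := card_le_gen hg (commutator_le_gen hg (Subgroup.mem_zpowers _)) (k3 x) (k3 y)
    four_pos four_pos
  have k5 := orderOf_le_of_pow_eq_one two_pos (T.cen _ k1)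
  rw [Nat.card_zpowers, T.card] at k4
  omega

theorem elem (h : C3 d z) (h1 : d ^ 2 = 1) (hx : x ∈ C d) : ∃ ξ ∈ 𝒵 S, ξ ∉ 𝒟 S := by
  by_contra! h2
  obtain ⟨hy, k1⟩ := h.gen hg hx
  have k2 := commutator_mem y x
  have k3 := h.conj_out hy k2 k1
  have k4 := h.sq_one h1 k2
  have k5 := h.comm hx k2
  have k6 := Subgroup.mem_center_iff.1 h.zc
  obtain ⟨c, hc⟩ : ∃ c, y * x * y⁻¹ * x⁻¹ = c := ⟨_, rfl⟩
  rw [hc] at k3 k4 k5
  rw [mul_inv_eq_iff_eq_mul] at hc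
  have k7 : y ^ 2 * x * (y ^ 2)⁻¹ = x * z := by
    calc _ = y * (y * x * y⁻¹) * y⁻¹ := by simp [sq, mul_assoc]
      _ = y * c * y⁻¹ * (y * x * y⁻¹) := by rw [conj_mul, ← hc]
      _ = _ := by rw [k3, hc, k6 c, mul_assoc, ← mul_assoc c, ← sq, k4, one_mul, k6 x]
  have k8 := card_le_gen hg le_rfl (h2 _ (cen_of_gen hg (a := x ^ 2) (by group) (by
    rw [← conj_pow, hc, Commute.mul_pow k5.symm, k4, one_mul]))) (h2 (y ^ 4) (cen_of_gen hg (by
      rw [mul_inv_eq_iff_eq_mul, eq_comm, ← mul_inv_eq_iff_eq_mul]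
      calc _ = y ^ 2 * (y ^ 2 * x * (y ^ 2)⁻¹) * (y ^ 2)⁻¹ := by group
        _ = y ^ 2 * x * (y ^ 2)⁻¹ * z := by
          conv_lhs => rw [k7, ← mul_assoc, mul_assoc _ z, ← k6, ← mul_assoc]
        _ = x := by rw [k7, mul_assoc, ← sq, h.zs, mul_one]) (by group))) two_pos four_pos
  rw [h.c4, T.card] at k8
  omega

theorem cyc (h : C3 d z) (h1 : d ^ 2 ≠ 1) (hx : x ∈ C d) : x * (y * x * y⁻¹) ∈ 𝒵 S ∧
    x * (y * x * y⁻¹) ∉ 𝒟 S ∧ x ^ 4 = z ∧ (y ^ 2) ^ 2 = 1 := by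
  obtain ⟨hy, k1⟩ := h.gen hg hx
  have k2 := commutator_mem y x
  have k3 := h.conj_out hy k2 k1
  have k5 := h.comm hx k2
  have k6 := Subgroup.mem_center_iff.1 h.zc
  obtain ⟨c, hc⟩ : ∃ c, y * x * y⁻¹ * x⁻¹ = c := ⟨_, rfl⟩
  rw [hc] at k1 k2 k3 k5
  rw [mul_inv_eq_iff_eq_mul] at hc
  have k4 : c ^ 2 = z := by
    have l2 : d ^ 2 = z := ((sq_mem_zpowers h.zs).1
      (Subgroup.sq_mem_of_index_two h.rel ⟨d, h.dd⟩)).resolve_left h1
    rcases h.of_mem k2 k1 with l3 | l3 <;> rw [l3]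
    exacts [l2, by rw [Commute.mul_pow (k6 d), l2, h.zs, mul_one]]
  have k7 : y ^ 2 * x * (y ^ 2)⁻¹ = x := by
    calc _ = y * (y * x * y⁻¹) * y⁻¹ := by simp [sq, mul_assoc]
      _ = y * c * y⁻¹ * (y * x * y⁻¹) := by rw [conj_mul, ← hc]
      _ = _ := by
        rw [k3, hc, k6 c, mul_assoc, ← mul_assoc c, ← sq, k4, ← mul_assoc, ← sq, h.zs, one_mul]
  have k8 : (y ^ 2) ^ 2 = 1 := T.cen _ (cen_of_gen hg
    (mul_inv_eq_iff_eq_mul.2 (mul_inv_eq_iff_eq_mul.1 k7).symm) (by group))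
  have k9 : x * (y * x * y⁻¹) = c * x ^ 2 := by rw [hc, ← mul_assoc, k5, sq, mul_assoc]
  have k10 : x * (y * x * y⁻¹) ∈ 𝒵 S := cen_of_gen hg (by rw [k9, ← mul_assoc, k5]; group) (by
    calc _ = y * x * y⁻¹ * (y ^ 2 * x * (y ^ 2)⁻¹) := by simp [sq, mul_assoc]
      _ = _ := by rw [k7, k9, hc, sq, mul_assoc])
  refine ⟨k10, fun k11 => ?_, ?_, k8⟩
  · have := card_le_gen hg le_rfl ((Subgroup.mul_mem_cancel_left _ k2).1 (k9 ▸ k11))
      (show y ^ (2 * 2) ∈ _ from pow_mul y 2 2 ▸ k8 ▸ one_mem _) two_pos four_pos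
    rw [h.c4, T.card] at this
    omega
  · have l1 := T.cen _ k10
    rw [k9, Commute.mul_pow ((show Commute x c from k5).symm.pow_right 2), k4, ← pow_mul,
      mul_eq_one_iff_inv_eq, inv_eq_of_mul_eq_one_left ((sq _).symm.trans h.zs)] at l1
    exact l1.symm

theorem bs (h : C3 d z) (h1 : d ^ 2 ≠ 1) (hx : x ∈ C d) (hf : Function.Surjective f)
    (hk : f.ker = Z (x * (y * x * y⁻¹))) : BS (C (f x)) (f x) 0 := by
  obtain ⟨k1, k2, k3, k4⟩ := T.cyc hg h h1 hx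
  have k5 := card_range_mul hf
  rw [hk, Nat.card_zpowers, orderOf_eq_prime (T.cen _ k1) fun k5 => k2 (k5 ▸ one_mem _),
    T.card] at k5
  refine bs_of_gen (gen_map hg hf) (by omega) (orderOf_eq_prime_pow (p := 2) (n := 2) (fun k6 => ?_)
    (by rw [← map_pow]; exact (congrArg f (T.exp x)).trans (map_one f))) ?_
    (by rw [← map_pow, ← map_pow, k4, map_one])
  · rw [← map_pow, ← MonoidHom.mem_ker, hk, sq_mem_zpowers (T.cen _ k1)] at k6
    exact k6.elim (fun k6 => h.z1 (k3.symm.trans k6)) fun k6 => k2 (k6 ▸ k3.symm ▸ h.zd)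
  · exact eq_inv_of_mul_eq_one_right (by simpa using (hk.ge (Subgroup.mem_zpowers _) : f _ = 1))

theorem pow_four (h : Nat.card (𝒟 S) = 8) (hd : g ∈ 𝒟 S) : g ^ 4 = 1 := by_contra fun h1 => by
  have k1 : orderOf g = 2 ^ (2 + 1) := orderOf_eq_prime_pow h1 (T.exp g)
  have k2 : Z g = 𝒟 S := Subgroup.eq_of_le_of_card_ge (Subgroup.zpowers_le.2 hd) (by
    rw [Nat.card_zpowers, k1, h]; rfl)
  obtain ⟨z, hz⟩ : ∃ z, g ^ 2 ^ 2 = z := ⟨_, rfl⟩
  have k3 : z ^ 2 = 1 := by rw [← hz, ← pow_mul]; exact T.exp g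
  have k4 : ∀ a ∈ 𝒟 S, a ^ 2 = 1 → a = 1 ∨ a = z := fun a ha l1 =>
    hz ▸ invol_zpowers k1 (k2.ge ha) l1
  have k5 : ∀ a ∈ 𝒟 S, ∀ b ∈ 𝒟 S, Commute a b := by
    rw [← k2]
    rintro _ ⟨i, rfl⟩ _ ⟨j, rfl⟩
    exact Commute.zpow_zpow_self g i j
  have k6 : ∀ a ∈ 𝒟 S, ∀ b ∈ 𝒟 S, b ^ 2 = a ^ 2 → b = a ∨ b = a * z := fun a ha b hb l1 =>
    (k4 _ (mul_mem (inv_mem ha) hb) (by
      rw [(k5 a ha b hb).inv_left.mul_pow, l1, inv_pow, inv_mul_cancel])).imp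
      (fun l2 => (inv_mul_eq_one.1 l2).symm) inv_mul_eq_iff_eq_mul.1
  have k7 : ∀ s, ∀ a ∈ 𝒟 S, s * a * s⁻¹ ∈ 𝒟 S := fun s a ha =>
    Subgroup.Normal.conj_mem inferInstance a ha s
  have k8 : ∀ s, s * z * s⁻¹ = z := fun s => (k4 _ (k7 s z (hz ▸ pow_mem hd _)) (by
    rw [conj_pow, k3]; simp)).resolve_left (by simpa using hz ▸ h1)
  have k9 : ∀ s, s * z = z * s := fun s => mul_inv_eq_iff_eq_mul.1 (k8 s)
  have k10 : ∀ s ∉ C (g ^ 2), s * g ^ 2 * s⁻¹ = g ^ 2 * z := fun s hs =>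
    (k6 _ (pow_mem hd 2) _ (k7 s _ (pow_mem hd 2)) (by
      rw [conj_pow, ← pow_mul, show g ^ (2 * 2) = z from hz, k8])).resolve_left
      fun l1 => hs (mem_C.2 (mul_inv_eq_iff_eq_mul.1 l1))
  obtain ⟨x, y, hg, hx⟩ := gen_wlog hg (K := C (g ^ 2)) fun a ha b hb =>
    mem_C.2 (mul_inv_eq_iff_eq_mul.1 (by
      rw [mul_inv_rev, mul_assoc a, mul_assoc a, ← mul_assoc _ b⁻¹, k10 b hb, ← mul_assoc,
        ← conj_mul, k10 a ha, k8, mul_assoc, ← sq, k3, mul_one]))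
  have hy : y ∉ C (g ^ 2) := fun hy => h1 (by
    rw [show 4 = 2 * 2 from rfl, pow_mul, T.cen _ (mem_center_of_C (eq_top_of_gen hg hx hy))])
  have k11 := commutator_mem y x
  obtain ⟨c, hc⟩ : ∃ c, y * x * y⁻¹ * x⁻¹ = c := ⟨_, rfl⟩
  have k12 : (c ^ 2) ^ 2 = z := (k4 _ (hc ▸ pow_mem (pow_mem k11 2) 2) (by
      rw [← pow_mul, ← pow_mul]; exact T.exp c)).resolve_left fun l1 => by
    have l2 : Z c ≤ 𝒟 S := Subgroup.zpowers_le.2 (hc ▸ k11)
    have : (Z c).Normal := ⟨fun a ha s => by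
      obtain ⟨i, l3⟩ := k2.ge (l2 ha)
      obtain ⟨j, l4⟩ := k2.ge (k7 s g hd)
      rw [← l3, ← conj_zpow, ← l4, ← zpow_mul, mul_comm, zpow_mul]
      exact zpow_mem (l3 ▸ ha :) j⟩
    obtain ⟨i, l3⟩ := commutator_le_gen (K := Z c) hg (by simp [hc]) hd
    exact h1 (by rw [← l3, ← zpow_natCast, ← zpow_mul, mul_comm, zpow_mul, zpow_natCast,
      show 4 = 2 * 2 from rfl, pow_mul, l1, one_zpow])
  rw [hc] at k11
  rw [mul_inv_eq_iff_eq_mul] at hc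
  have k13 : x * c ^ 2 * x⁻¹ = c ^ 2 ∧ y * c ^ 2 * y⁻¹ = c ^ 2 * z := by
    have l1 := mul_inv_eq_iff_eq_mul.2 (mem_C.1 hx)
    rcases k6 _ (pow_mem hd 2) _ (pow_mem k11 2) (by rw [k12, ← hz, ← pow_mul]; rfl) with l2 | l2 <;>
      rw [l2]
    exacts [⟨l1, k10 y hy⟩, ⟨by rw [← conj_mul, l1, k8], by rw [← conj_mul, k10 y hy, k8]⟩]
  have k14 : ∀ {a b}, b = a ∨ b = a * z → ∃ e, b = a * e ∧ e ^ 2 = 1 ∧ ∀ s, Commute s e :=
    fun l1 => l1.elim (fun l2 => ⟨1, by simp [l2]⟩) fun l2 => ⟨z, l2, k3, k9⟩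
  obtain ⟨e, l1, l2, l3⟩ := k14 (k6 c k11 _ (k7 x c k11) (by rw [conj_pow, k13.1]))
  obtain ⟨e', l4, l5, l6⟩ := k14 (k6 _ (inv_mem k11) _ (k7 y c k11) (by
    rw [conj_pow, k13.2, inv_pow, eq_inv_iff_mul_eq_one, mul_assoc, ← k9, ← mul_assoc, ← sq, k12,
      ← sq, k3]))
  have k15 : ∀ {s t e : S}, s * t * s⁻¹ = t * e → e ^ 2 = 1 → Commute t e →
      s * t ^ 2 * s⁻¹ = t ^ 2 := fun l1 l2 l3 => by rw [← conj_pow, l1, l3.mul_pow, l2, mul_one]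
  have k16 : x * c = c * e * x := mul_inv_eq_iff_eq_mul.1 l1
  have k17 := T.cen _ (cen_of_gen hg (k15 (t := x * c * x) (by
      rw [mul_assoc x c x, ← mul_assoc, ← mul_assoc, mul_inv_cancel_right, mul_assoc x x c, k16,
        mul_assoc c, ← (l3 x).eq, ← mul_assoc, ← mul_assoc, ← mul_assoc]) l2 (l3 _))
    (k15 (e := e * e') (by
      rw [← conj_mul, ← conj_mul, hc, l4, k16, mul_assoc (c * x), mul_assoc c⁻¹, ← (l6 _).eq,
        ← mul_assoc c⁻¹, inv_mul_cancel_left, mul_assoc c e, ← (l3 x).eq, ← mul_assoc c x e,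
        mul_assoc _ e x, ← (l3 x).eq]
      simp only [mul_assoc]
      rw [← mul_assoc e e, ← sq, l2, one_mul])
      (by rw [(l6 e).mul_pow, l2, l5, mul_one]) ((l3 _).mul_right (l6 _))))
  have k18 : Commute c (x ^ 2) := by
    rw [Commute, SemiconjBy, sq, mul_assoc x, k16, ← mul_assoc, ← mul_assoc x, ← mul_assoc x, k16,
      mul_assoc _ x e, (l3 x).eq, ← mul_assoc, mul_assoc c e, ← sq, l2, mul_one]
  rw [← pow_mul, k16, mul_assoc, ← sq, Commute.mul_pow (k18.mul_left (l3 _).symm), (l3 c).mul_pow,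
    pow_mul, pow_mul e, k12, l2, ← pow_mul x, T.exp x, one_pow, mul_one, mul_one] at k17
  exact h1 (hz.trans k17)

theorem cases : (∃ ξ ∈ 𝒵 S, orderOf ξ = 2 ∧ (∀ c ∈ 𝒟 S, c ^ 2 ∈ Z ξ) ∧
    Nat.card (𝒟 S ⊔ Z ξ :) = 8) ∨
    ∃ x y d z : S, Subgroup.closure {x, y} = ⊤ ∧ C3 d z ∧ d ^ 2 ≠ 1 ∧ x ∈ C d := by
  obtain ⟨j, hj⟩ := (T.isP.to_subgroup (𝒟 S)).exists_card_eq
  have k1 := T.not_le hg
  have k2 : j ≠ 0 := fun k2 => k1 (by simp [Subgroup.card_eq_one.1 (by simp [hj, k2] :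
    Nat.card (𝒟 S) = 1)])
  have k3 : j ≠ 1 := fun k3 => by
    obtain ⟨z, -, -, l1, l2, -⟩ := exists_comm_two (S := S) (by simp [hj, k3])
    exact k1 (l2 ▸ Subgroup.zpowers_le.2 l1)
  have k4 : j < 4 := by_contra fun k4 => by
    have l1 := (𝒟 S).card_mul_index
    have l2 : 2 ^ 4 ≤ 2 ^ j := Nat.pow_le_pow_right two_pos (by omega)
    rw [hj, T.card] at l1
    obtain ⟨a, l3⟩ := H10.taussky T.isP (by nlinarith)
    have l4 := (Z a).card_mul_index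
    have l5 := orderOf_le_of_pow_eq_one (by norm_num) (T.exp a)
    have l6 := Nat.le_of_dvd two_pos l3
    rw [Nat.card_zpowers, T.card] at l4
    nlinarith
  obtain rfl | rfl : j = 2 ∨ j = 3 := by omega
  · obtain ⟨d, z, h⟩ := exists_C3 T.isP hj k1
    obtain ⟨x, y, hg, hx⟩ := gen_wlog hg (K := C d) fun a ha b hb =>
      ((C d).mul_mem_iff_of_index_two h.idx).2 (by simp [ha, hb])
    by_cases h1 : d ^ 2 = 1
    · obtain ⟨ξ, l1, l2⟩ := T.elem hg h h1 hx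
      exact .inl ⟨ξ, l1, orderOf_eq_prime (T.cen _ l1) fun l3 => l2 (l3 ▸ one_mem _),
        fun c hc => h.sq_one h1 hc ▸ one_mem _, by
          rw [H4.card_sup_zpowers (p := 2) l2 (T.cen _ l1 ▸ one_mem _), h.c4]⟩
    · exact .inr ⟨x, y, d, z, hg, h, h1, hx⟩
  obtain ⟨ξ, ⟨l1, l2⟩, l3, l4⟩ : ∃ ξ ∈ 𝒟 S ⊓ 𝒵 S, ξ ≠ 1 ∧ ∀ c ∈ 𝒟 S, c ^ 2 ∈ Z ξ := by
    by_cases h1 : ∀ c ∈ 𝒟 S, c ^ 2 = 1
    · obtain ⟨ξ, l1, l2⟩ := (𝒟 S ⊓ 𝒵 S).bot_or_exists_ne_one.resolve_left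
        (H1.inf_center_ne_bot_of_isNilpotent T.isP.isNilpotent _ fun l1 => by simp [l1] at k1)
      exact ⟨ξ, l1, l2, fun c hc => h1 c hc ▸ one_mem _⟩
    push Not at h1
    obtain ⟨a, l1, l2⟩ := h1
    have l3 : orderOf a = 2 ^ (1 + 1) := orderOf_eq_prime_pow l2 (T.pow_four hg hj l1)
    have l4 : ∀ c ∈ 𝒟 S, c ^ 2 = 1 ∨ c ^ 2 = a ^ 2 := fun c hc => invol_zpowers l3
      (Subgroup.sq_mem_of_index_two (relIndex_of_card (Subgroup.zpowers_le.2 l1) (by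
        rw [Nat.card_zpowers, l3, hj]; rfl)) ⟨c, hc⟩) (by rw [← pow_mul, T.pow_four hg hj hc])
    refine ⟨a ^ 2, ⟨pow_mem l1 2, Subgroup.mem_center_iff.2 fun s => mul_inv_eq_iff_eq_mul.1 ?_⟩,
      l2, fun c hc => by rcases l4 c hc with l5 | l5 <;> simp [l5]⟩
    exact conj_pow.symm.trans ((l4 _ (Subgroup.Normal.conj_mem inferInstance a l1 s)).resolve_left
      (by simpa using l2))
  exact .inl ⟨ξ, l2, orderOf_eq_prime (T.cen _ l2) l3, l4, by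
    rw [sup_eq_left.2 (Subgroup.zpowers_le.2 l1), hj]; rfl⟩

end T6

theorem index_le_of_pow (hS : IsPGroup 2 S) {k n : ℕ} (h : a ^ 2 ^ k ≠ 1)
    (h1 : Nat.card S ≤ 2 ^ (k + 1) * n) : (Z a).index ≤ n := by
  obtain ⟨j, hj⟩ := IsPGroup.iff_orderOf.1 hS a
  have h2 : 2 ^ (k + 1) ≤ 2 ^ j := Nat.pow_le_pow_right two_pos (by_contra fun h2 =>
    h (orderOf_dvd_iff_pow_eq_one.1 (hj ▸ pow_dvd_pow 2 (by omega))))
  rw [← (Z a).card_mul_index, Nat.card_zpowers, hj] at h1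
  exact Nat.le_of_mul_le_mul_left ((Nat.mul_le_mul_right _ h2).trans h1) (by positivity)

end Grp

universe u

variable {G : Type u} [Group G] [Finite G] {M : Ideal AlgInt} {B : Set (IrrCharacter G)}
  {P : Subgroup G} {e : (kk M)[G]} {x y d z : P}

variable [CharP (kk M) 2] (hM : IsPModular 2 M) (hB : IsPBlock M B) (m : MaxP 2 ⊤ ⊤ (eB M B) P e)
include hM hB m

theorem C3.rank (h : C3 d z) (h1 : d ^ 2 = 1) (hS : Nat.card P = 32) : blockRank 2 B = 1 :=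
  nil_rank hM ((isNilpotentBlock_iff hM).2 ⟨hB, MaxP.anil_of_ec m (fun _ => h.no_odd h1 hS)
    fun _ => h.no_ec h1 hS⟩)

theorem card_le_of_gen (h : Nat.card P ≤ 64) (hg : Subgroup.closure {x, y} = ⊤) :
    Nat.card B ≤ Nat.card P := by
  by_cases h1 : Nat.card P ≤ 32
  · exact card_le_of_le hM hB m h1
  by_cases h2 : ∃ c ∈ 𝒵 P, c ^ 2 ≠ 1
  · obtain ⟨c, h2, h3⟩ := h2
    exact card_le_of_central hM hB m h2 (index_le_of_pow (k := 1) m.bp.isP h3 h)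
  by_cases h3 : ∃ a : P, a ^ 8 ≠ 1
  · obtain ⟨a, h3⟩ := h3
    exact card_le_of_cyclic hM hB m (index_le_of_pow (k := 3) m.bp.isP h3 h)
  push Not at h2 h3
  obtain ⟨i, hi⟩ := m.bp.isP.exists_card_eq
  have h4 : 5 < i := (Nat.pow_lt_pow_iff_right one_lt_two).1 (by omega)
  have T : T6 P := ⟨h.antisymm (hi ▸ Nat.pow_le_pow_right (n := 2) (i := 6) two_pos h4), h2, h3⟩
  rcases T.cases hg with ⟨ξ, l1, l2, l3, l4⟩ | ⟨x, y, d, z, hg, l1, l2, l3⟩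
  · obtain ⟨Q, _, _, π, D, ē, hP, q, l5⟩ := exists_QD_cen hM m l1
    obtain ⟨l6, d, z, l7, l8⟩ := c3_quot hg T.card (qf_surj hP) l5 l2 l3 l4
    exact q.card_le hM hB m hP (.inl ((l7.rank hM (q.blk hM) q.m l8 l6).trans_le one_le_two))
  obtain ⟨Q, _, _, π, D, ē, hP, q, l5⟩ := exists_QD_cen hM m (T.cyc hg l1 l2 l3).1
  refine q.card_le hM hB m hP (.inr (.inl ⟨rfl, ?_⟩))
  rcases (T.bs hg l1 l2 l3 (qf_surj hP) l5).cases q.m.bp.isP with h10 | h10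
  · exact rank_le_of_index hM (q.blk hM) q.m h10.1 h10.2
  · exact h10.rank_le hM (q.blk hM) q.m

end H3.KQ
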