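import Cfsg.Agent.H3.KL3
import Cfsg.Agent.S4200

/-! Lower bounds for class numbers I: orbits, counting, imprimitive modules. -/

set_option autoImplicit false
set_option linter.unusedSectionVars false

open Subgroup H6.BS H3.KL MulAction

namespace H3.LB

universe u

/-- number of orbits on nonzero vectors -/
noncomputable def nu (G V : Type*) [Group G] [AddCommGroup V] [DistribMulAction G V] : ℕ :=
  Nat.card {o : orbitRel.Quotient G V // o ≠ Quotient.mk'' 0}

section
variable {G V : Type u} [Group G] [Finite G] [AddCommGroup V] [Finite V] [DistribMulAction G V]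

theorem nu_succ : nu G V + 1 = Nat.card (orbitRel.Quotient G V) := by
  classical
  have := Fintype.ofFinite (orbitRel.Quotient G V)
  have : Nonempty (orbitRel.Quotient G V) := ⟨Quotient.mk'' 0⟩
  have := Fintype.card_pos (α := orbitRel.Quotient G V)
  rw [nu, Nat.card_eq_fintype_card, Fintype.card_subtype_compl, Fintype.card_subtype_eq,
    Nat.card_eq_fintype_card]
  omega

theorem nu_img : nu (Img G V) V = nu G V := by
  have : orbitRel (Img G V) V = orbitRel G V := Setoid.ext fun a b =>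
    ⟨fun ⟨g, e⟩ => by
      obtain ⟨g, rfl⟩ := toImg_surj G V g
      exact ⟨g, e⟩, fun ⟨g, e⟩ => ⟨toImg G V g, e⟩⟩
  have h1 := nu_succ (G := G) (V := V)
  have h2 := nu_succ (G := Img G V) (V := V)
  unfold orbitRel.Quotient at h1 h2
  rw [this] at h2
  omega

theorem card_le_nu : Nat.card V - 1 ≤ nu G V * Nat.card G := by
  classical
  have := Fintype.ofFinite V
  have h := Nat.card_le_card_of_surjective
    (fun x : {o : orbitRel.Quotient G V // o ≠ Quotient.mk'' 0} × G =>
      (⟨x.2 • x.1.1.out, fun e => x.1.2 ((Quotient.out_eq' _).symm.trans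
        (congrArg _ ((smul_eq_zero_iff_eq _).1 e)))⟩ : {v : V // v ≠ 0})) fun v => by
    obtain ⟨g, hg⟩ : v.1 ∈ orbit G (Quotient.mk'' v.1 : orbitRel.Quotient G V).out :=
      (orbitRel G V).symm (Quotient.mk_out' v.1)
    refine ⟨⟨⟨Quotient.mk'' v.1, fun e => v.2 ?_⟩, g⟩, Subtype.ext hg⟩
    obtain ⟨g, hg⟩ := Quotient.exact' e
    exact hg.symm.trans (smul_zero g)
  rwa [Nat.card_prod, Nat.card_eq_fintype_card (α := {v : V // v ≠ 0}), Fintype.card_subtype_compl,
    Fintype.card_subtype_eq, ← Nat.card_eq_fintype_card] at h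

theorem comm_of_prime (hp : (Nat.card V).Prime) (a b : G) (x : V) : a • b • x = b • a • x := by
  have := Fact.mk hp
  by_cases h : x = 0
  · simp [h]
  have h1 := fun y => mem_zmultiples_of_prime_card (G := V) rfl h (g' := y)
  obtain ⟨i, hi⟩ := h1 (a • x)
  obtain ⟨j, hj⟩ := h1 (b • x)
  simp only at hi hj
  rw [← hj, ← hi, smul_comm a, smul_comm b, ← hj, ← hi, smul_comm i]

end

theorem k_add_nu {Γ : Type u} [Group Γ] [Finite Γ] (A : Subgroup Γ) [hA : A.Normal]
    [IsMulCommutative A] : k (Img Γ (Ad A)) + nu Γ (Ad A) ≤ k Γ := by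
  have h1 : ∀ x ∈ A, toImg Γ (Ad A) x = 1 := fun x hx => eq_one_of_triv (V := Ad A) fun y =>
    Ad.ext (by
      rw [toImg_smul, Ad.val_smul, setLike_mul_comm (s := A) hx y.val_mem, mul_inv_cancel_right])
  have : ∀ c : ConjClasses (Img Γ (Ad A)), ∃ x : Γ,
      ConjClasses.mk (toImg Γ (Ad A) x) = c ∧ (x ∈ A → x = 1) := fun c => by
    obtain ⟨y, rfl⟩ := ConjClasses.mk_surjective c
    obtain ⟨x, rfl⟩ := toImg_surj Γ (Ad A) y
    by_cases h : x ∈ A
    · exact ⟨1, by rw [h1 x h, map_one], fun _ => rfl⟩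
    · exact ⟨x, rfl, fun e => absurd e h⟩
  choose s hs hs' using this
  have h2 : ∀ (c) (o : {o : orbitRel.Quotient Γ (Ad A) // o ≠ Quotient.mk'' 0}),
      ConjClasses.mk (s c) ≠ ConjClasses.mk o.1.out.val := fun c o e => by
    obtain ⟨g, hg⟩ := isConj_iff.1 (ConjClasses.mk_eq_mk_iff_isConj.1 e.symm)
    rw [hs' c (hg ▸ hA.conj_mem _ (Ad.val_mem _) g), conj_eq_one_iff] at hg
    exact o.2 ((Quotient.out_eq' _).symm.trans (congrArg _ (Ad.ext hg : o.1.out = 0)))
  rw [nu, ← Nat.card_sum]
  refine Nat.card_le_card_of_injective (Sum.elim (fun c => ConjClasses.mk (s c))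
    fun o => ConjClasses.mk o.1.out.val) ?_
  rintro (a | a) (b | b) e
  · rw [← hs a, ← hs b]
    exact congrArg Sum.inl (congrArg (ConjClasses.map (toImg Γ (Ad A))) e)
  · exact absurd e (h2 _ _)
  · exact absurd e.symm (h2 _ _)
  · obtain ⟨g, hg⟩ := isConj_iff.1 (ConjClasses.mk_eq_mk_iff_isConj.1 e.symm)
    refine congrArg Sum.inr (Subtype.ext ?_)
    rw [← Quotient.out_eq' a.1, ← Quotient.out_eq' b.1]
    exact Quotient.sound' ⟨g, Ad.ext hg⟩

section Cnt
variable {X : Type*} [Group X]

theorem k_ge [Fintype X] (w : X → ℕ) (h : ∀ g, w g ≤ Nat.card (centralizer ({g} : Set X))) :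
    ∑ g, w g ≤ k X * Nat.card X := by
  rw [H24.card_classes_mul_card']
  exact Finset.sum_le_sum fun g _ => h g

theorem card_le_k [Finite X] {U A : Subgroup X} (h : ∀ g ∈ A, ∀ x ∈ U, g * x = x * g) :
    Nat.card U ≤ k X * A.index := by
  classical
  have := Fintype.ofFinite X
  have h1 := k_ge (fun g : X => (if g ∈ U then 1 else 0) * Nat.card A) fun g => by
    split_ifs with hg
    · rw [one_mul]
      exact card_le_of_le fun x hx => mem_centralizer_singleton_iff.2 (h x hx g hg)
    · simp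
  rw [← Finset.sum_mul, sum_ind, ← A.index_mul_card, ← mul_assoc] at h1
  exact Nat.le_of_mul_le_mul_right h1 Nat.card_pos

theorem cent_ge [Finite X] {U : Subgroup X} (hU : ∀ g, ∀ x ∈ U, g * x = x * g) {g : X} {s : ℕ}
    (h : ∀ j, 0 < j → j < s → g ^ j ∉ U) :
    s * Nat.card U ≤ Nat.card (centralizer ({g} : Set X)) := by
  have : U.Normal := ⟨fun x hx y => by rwa [hU y x hx, mul_inv_cancel_right]⟩
  have h1 : s ≤ orderOf (g : X ⧸ U) := le_of_not_gt fun e => h _ (orderOf_pos _) e
    ((QuotientGroup.eq_one_iff _).1 (by rw [QuotientGroup.mk_pow, pow_orderOf_eq_one]))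
  have h2 := Nat.card_le_card_of_injective (fun x : Fin s × U =>
    (⟨g ^ x.1.1 * x.2, mem_centralizer_singleton_iff.2 (by
      rw [mul_assoc, ← hU g _ x.2.2, ← mul_assoc, ← mul_assoc, pow_mul_comm'])⟩ :
      centralizer ({g} : Set X))) fun x y e => by
    have e1 : g ^ x.1.1 * x.2 = g ^ y.1.1 * y.2 := congrArg Subtype.val e
    have e2 := congrArg (QuotientGroup.mk (s := U)) e1
    simp only [QuotientGroup.mk_mul_of_mem _ x.2.2, QuotientGroup.mk_mul_of_mem _ y.2.2,
      QuotientGroup.mk_pow] at e2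
    have e3 := pow_injOn_Iio_orderOf (x.1.2.trans_le h1) (y.1.2.trans_le h1) e2
    rw [e3] at e1
    exact Prod.ext (Fin.ext e3) (Subtype.ext (mul_left_cancel e1))
  rwa [Nat.card_prod, Nat.card_fin] at h2

theorem k_central [Finite X] {U : Subgroup X} (hU : ∀ g, ∀ x ∈ U, g * x = x * g) :
    3 * U.index * Nat.card U ≤ k X * U.index + 2 * Nat.card U := by
  classical
  have := Fintype.ofFinite X
  by_cases h0 : U = ⊤
  · subst h0
    have := card_le_k (A := ⊤) fun g _ => hU g
    rw [index_top] at *; omega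
  obtain ⟨b, hb⟩ := Nat.exists_eq_add_of_le (two_le_index h0)
  have h1 := k_ge (fun g : X => (2 + b * if g ∈ U then 1 else 0) * Nat.card U) fun g => by
    split_ifs with hg
    · rw [mul_one, ← hb, U.index_mul_card, ← card_top (G := X)]
      exact card_le_of_le fun x _ => mem_centralizer_singleton_iff.2 (hU x g hg)
    · exact cent_ge hU fun j h1 h2 => by rwa [show j = 1 by omega, pow_one]
  rw [← Finset.sum_mul, Finset.sum_add_distrib, ← Finset.mul_sum, sum_ind, Finset.sum_const,
    Finset.card_univ, smul_eq_mul, ← Nat.card_eq_fintype_card, ← U.index_mul_card, ← mul_assoc,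
    hb] at h1
  have := Nat.le_of_mul_le_mul_right h1 Nat.card_pos
  rw [hb]; nlinarith

end Cnt

theorem choose_ge (n t : ℕ) : t * n + 1 ≤ (n + t).choose t ∧
    (2 ≤ n → 1 ≤ t → 3 * t * n + 2 ≤ 2 * (n + t).choose t + n) := by
  have key : ∀ a b t : ℕ, a.choose b ≤ (a + t).choose (b + t) := fun a b t => by
    induction t with
    | zero => rfl
    | succ t ih => rw [← add_assoc, ← add_assoc, Nat.choose_succ_succ]; omega
  induction t with
  | zero => simp
  | succ t ih =>
    have h1 := key n 1 t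
    rw [Nat.choose_one_right, add_comm 1] at h1
    rw [← add_assoc, Nat.choose_succ_succ]
    refine ⟨by nlinarith [ih.1], fun h _ => ?_⟩
    rcases t with _ | t
    · simp; omega
    have h2 := key (n + 1) 2 t
    have h3 : 3 * n ≤ 2 * (n + 1).choose 2 := by
      have := Nat.add_one_mul_choose_eq n 1
      rw [Nat.choose_one_right] at this
      nlinarith
    rw [show n + 1 + t = n + (t + 1) by ring, show 2 + t = (t + 1).succ by omega] at h2
    nlinarith [ih.2 h (by omega)]

theorem imp2 {G V : Type u} [Group G] [Finite G] [AddCommGroup V] [Finite V]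
    [DistribMulAction G V] (hi : Irr G V) (h : ∃ ε : Module.End ℤ V, Sys G ε) :
    ∃ (H : Subgroup G) (X : Type u) (_ : AddCommGroup X) (_ : Finite X)
      (_ : DistribMulAction H X), IsCoatom H ∧ Nontrivial X ∧ Irr H X ∧
      Nat.card V = Nat.card X ^ H.index ∧ (nu H X + H.index).choose H.index ≤ nu G V + 1 ∧
      ∀ g : G, (∀ y, ∃ h : y⁻¹ * g * y ∈ H, ∀ x : X, (⟨_, h⟩ : H) • x = x) → ∀ v : V, g • v = v := by
  classical
  obtain ⟨ε, hε, hH⟩ := exists_max_sys hi h
  set H := stab G ε with hHdef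
  let M := G ⧸ H
  let pt : M → G := Quotient.out
  have hinj : ∀ m m', (pt m)⁻¹ * pt m' ∈ H → m = m' := fun m m' e => by
    rw [← QuotientGroup.out_eq' m, ← QuotientGroup.out_eq' m']; exact QuotientGroup.eq.2 e
  have haff : ∀ (g : G) m, (pt (g • m))⁻¹ * g * pt m ∈ H := fun g m => by
    rw [mul_assoc, ← QuotientGroup.eq, QuotientGroup.out_eq', ← smul_eq_mul, ← Quotient.smul_mk,
      QuotientGroup.out_eq']
  let X : AddSubgroup V := (LinearMap.range ε).toAddSubgroup
  have hX : Inv H V X := by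
    rintro g _ ⟨v, rfl⟩
    exact ⟨(g : G) • v, by rw [Subgroup.smul_def, ← cg_smul, g.2]⟩
  let _ := subAct X hX
  have hεX : ∀ x : X, ε x = x := by
    rintro ⟨_, v, rfl⟩
    exact LinearMap.congr_fun hε.1 v
  have _ : Fintype M := Fintype.ofFinite M
  have hproj : ∀ m m' (x : X), cg (pt m) ε (pt m' • (x : V)) = if m = m' then pt m' • (x : V) else 0 := by
    intro m m' x
    split_ifs with e
    · rw [e, cg_smul, hεX]
    · have : cg (pt m) ε * cg (pt m') ε = 0 := hε.orth fun e' => e (hinj _ _ (cg_eq_iff.1 e'))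
      have h2 := LinearMap.congr_fun this (pt m' • (x : V))
      rwa [Module.End.mul_apply, cg_smul, hεX] at h2
  let Φ : (M → X) → V := fun w => ∑ m, pt m • (w m : V)
  have hΦ : ∀ w m, cg (pt m) ε (Φ w) = pt m • (w m : V) := by
    intro w m
    simp only [Φ, map_sum, hproj]
    exact (Finset.sum_eq_single m (fun _ _ e => if_neg e.symm) (by simp)).trans (if_pos rfl)
  have hsum : ∀ v : V, ∑ m, cg (pt m) ε v = v := by
    intro v
    have h1 : ∑ m, cg (pt m) ε = ∑ η ∈ orb ε (⊤ : Subgroup G), η := by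
      refine Finset.sum_bij (fun m _ => cg (pt m) ε) (fun m _ => mem_orb.2 ⟨_, trivial, rfl⟩)
        (fun a _ b _ e => hinj _ _ (cg_eq_iff.1 e)) ?_ (fun _ _ => rfl)
      intro η hη
      obtain ⟨g, -, rfl⟩ := mem_orb.1 hη
      exact ⟨(g : G ⧸ H), Finset.mem_univ _, cg_eq_iff.2 (QuotientGroup.eq.1 (QuotientGroup.out_eq' _))⟩
    rw [← LinearMap.sum_apply, h1, hε.sum_top hi, Module.End.one_apply]
  have hsurj : ∀ v, ∃ w, Φ w = v := fun v =>
    ⟨fun m => ⟨ε ((pt m)⁻¹ • v), _, rfl⟩, hsum v⟩
  have hM : Fintype.card M = H.index := by rw [← Nat.card_eq_fintype_card]; rfl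
  refine ⟨H, X, inferInstance, inferInstance, inferInstance, hH, ?_, ?_, ?_, ?_, ?_⟩
  · refine (AddSubgroup.nontrivial_iff_ne_bot X).2 fun e => hε.2.1 (LinearMap.ext fun v => ?_)
    have : ε v ∈ X := ⟨v, rfl⟩
    rw [e] at this
    exact this
  · intro Y hY
    let Z : AddSubgroup V :=
      { carrier := {v | ∀ g : G, ∃ y ∈ Y, (y : V) = ε (g • v)}
        zero_mem' := fun g => ⟨0, Y.zero_mem, by simp⟩
        add_mem' := fun {a b} ha hb g => by
          obtain ⟨y, hy, e⟩ := ha g
          obtain ⟨y', hy', e'⟩ := hb g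
          exact ⟨y + y', Y.add_mem hy hy', by simp [e, e']⟩
        neg_mem' := fun {a} ha g => by
          obtain ⟨y, hy, e⟩ := ha g
          exact ⟨-y, Y.neg_mem hy, by simp [e]⟩ }
    rcases hi Z (fun g v hv g' => by simpa [mul_smul] using hv (g' * g)) with e | e
    · left
      rw [eq_bot_iff]
      intro y hy
      have : (y : V) ∈ Z := by
        intro g
        by_cases hg : g ∈ H
        · exact ⟨(⟨g, hg⟩ : H) • y, hY _ y hy, (hεX ((⟨g, hg⟩ : H) • y)).symm⟩
        · refine ⟨0, Y.zero_mem, ?_⟩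
          have h1 : cg (1 : G) ε * cg g ε = 0 :=
            hε.orth fun e' => hg (by simpa using cg_eq_iff.1 e')
          have h2 := LinearMap.congr_fun h1 (g • (y : V))
          rw [Module.End.mul_apply, cg_smul, hεX, cg_one] at h2
          exact h2.symm
      rw [e] at this
      exact AddSubgroup.mem_bot.2 (Subtype.ext this)
    · right
      rw [eq_top_iff]
      intro x _
      obtain ⟨y, hy, e'⟩ := (e ▸ trivial : (x : V) ∈ Z) 1
      rw [one_smul, hεX] at e'
      exact Subtype.ext e' ▸ hy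
  · rw [index_eq_card, ← Nat.card_fun]
    refine (Nat.card_eq_of_bijective Φ ⟨fun w w' e => funext fun m => ?_, hsurj⟩).symm
    have := hΦ w m
    rw [e, hΦ] at this
    exact Subtype.ext (MulAction.injective _ this).symm
  · let Q := orbitRel.Quotient H X
    have := Fintype.ofFinite Q
    let c : V → M → Q := fun v m => Quotient.mk'' ⟨ε ((pt m)⁻¹ • v), _, rfl⟩
    let I : V → Sym Q H.index := fun v => ⟨Finset.univ.val.map (c v), by simp [hM]⟩
    have hI : ∀ (g : G) v, I (g • v) = I v := fun g v => Subtype.ext (by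
      change Finset.univ.val.map _ = Finset.univ.val.map _
      refine (congrArg _ (Multiset.map_univ_val_equiv (MulAction.toPerm g)).symm).trans ?_
      rw [Multiset.map_map]
      refine Multiset.map_congr rfl fun m _ => Quotient.sound' ⟨⟨_, haff g m⟩, Subtype.ext ?_⟩
      change ((pt (g • m))⁻¹ * g * pt m) • ε _ = ε _
      rw [← cg_smul, (haff g m : cg _ ε = ε)]
      simp [mul_smul])
    have h1 := Nat.card_le_card_of_surjective (α := orbitRel.Quotient G V)
      (Quotient.lift I fun a b ⟨g, e⟩ => e ▸ hI g b) fun s => by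
      let e : M ≃ s.1.ToType := Fintype.equivOfCardEq (by rw [Multiset.card_coe, hM, s.2])
      refine ⟨Quotient.mk'' (Φ fun m => (e m : Q).out), Subtype.ext ?_⟩
      change Finset.univ.val.map _ = _
      refine Eq.trans ?_ s.1.map_univ_coe
      rw [← Multiset.map_univ_val_equiv e, Multiset.map_map]
      refine Multiset.map_congr rfl fun m _ => ?_
      have := hΦ (fun m => (e m : Q).out) m
      rw [cg_apply, smul_left_cancel_iff] at this
      exact (congrArg Quotient.mk'' (Subtype.ext this)).trans (Quotient.out_eq' _)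
    rw [Nat.card_eq_fintype_card, Sym.card_sym_eq_choose, ← Nat.card_eq_fintype_card, ← nu_succ,
      ← nu_succ] at h1
    convert h1 using 2; omega
  · intro g hg v
    obtain ⟨w, rfl⟩ := hsurj v
    simp only [Φ, Finset.smul_sum]
    refine Finset.sum_congr rfl fun m _ => ?_
    obtain ⟨h1, h2⟩ := hg (pt m)
    have : ((pt m)⁻¹ * g * pt m) • (w m : V) = w m := congrArg Subtype.val (h2 (w m))
    rwa [mul_smul, mul_smul, inv_smul_eq_iff] at this

end H3.LB
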