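import Cfsg.Agent.H3.LB1
import Cfsg.Agent.H24.ClassSize

/-! Lower bounds for class numbers II: primitive modules. -/

set_option autoImplicit false
set_option linter.unusedSectionVars false

open Subgroup H6.BS H3.KL MulAction

namespace H3.LB

universe u

def Strong (p κ ν : ℕ) : Prop := 2401 * p ^ 2 ≤ 14400 * (κ * ν)

def Iv (p κ ν : ℕ) : Prop :=
  Strong p κ ν ∨ (p ^ 2 ≤ 6 * (κ * ν) + 1 ∧ p + 1 ≤ 24 * ν ∧ 49 * p ≤ 60 * (κ + ν))

theorem four_mul_le (a b : ℕ) : 4 * (a * b) ≤ (a + b) ^ 2 := by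
  zify; nlinarith [sq_nonneg ((a : ℤ) - b)]

theorem Iv.fin {p κ ν : ℕ} (h : Iv p κ ν) : 49 * p ≤ 60 * (κ + ν) := by
  rcases h with h | h
  · refine (Nat.pow_le_pow_iff_left (n := 2) (by norm_num)).1 ?_
    have := four_mul_le κ ν
    unfold Strong at h
    rw [mul_pow, mul_pow]; omega
  · exact h.2.2

theorem strong_of {r Q N n c X κ ν p : ℕ} (h0 : 1 ≤ r) (hr : r ≤ Q) (hp : p ≤ Q) (hN : 2 ≤ N)
    (hn : Q ^ N ≤ n) (hX : 0 < X) (h1 : c * (n - 1) ≤ κ * ν * X)
    (h2 : 2401 * r ^ 2 * X ≤ 14400 * c * (r ^ N - 1)) : Strong p κ ν := by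
  obtain ⟨M, rfl⟩ := Nat.exists_eq_add_of_le hN
  have h3 : (r ^ (2 + M) - 1) * Q ^ 2 ≤ (n - 1) * r ^ 2 := by
    have a := Nat.pow_le_pow_left hr M
    have b := Nat.pow_le_pow_left hr 2
    have c := Nat.mul_le_mul_right (r ^ 2) hn
    have d : r ^ (2 + M) * Q ^ 2 ≤ Q ^ (2 + M) * r ^ 2 := by
      rw [pow_add, pow_add]; nlinarith [Nat.mul_le_mul_left (r ^ 2 * Q ^ 2) a]
    rw [Nat.sub_mul, Nat.sub_mul]; omega
  have h4 : 2401 * Q ^ 2 * (r ^ 2 * X) ≤ 14400 * (κ * ν) * (r ^ 2 * X) :=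
    calc _ = 2401 * r ^ 2 * X * Q ^ 2 := by ring
      _ ≤ 14400 * c * ((r ^ (2 + M) - 1) * Q ^ 2) := by
        rw [← mul_assoc]; exact Nat.mul_le_mul_right _ h2
      _ ≤ 14400 * r ^ 2 * (c * (n - 1)) := (Nat.mul_le_mul_left _ h3).trans_eq (by ring)
      _ ≤ _ := (Nat.mul_le_mul_left _ h1).trans_eq (by ring)
  exact (Nat.mul_le_mul_left _ (Nat.pow_le_pow_left hp 2)).trans
    (Nat.le_of_mul_le_mul_right h4 (Nat.mul_pos (Nat.pow_pos h0) hX))

theorem tabB : ∀ e < 17, 1 ≤ e → 4 * 290521 * (e ^ 2 * T 1 (e ^ 2)) ≤ 14400 * (11 ^ (2 * e) - 1) ∧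
    (5 ≤ e → 290521 * (e ^ 2 * T 1 (e ^ 2)) ≤ 14400 * (11 ^ e - 1)) := by decide

theorem pow8_le {m : ℕ} (h : 17 ≤ m) : 84 * m ^ 8 + 1 ≤ 11 ^ m := by
  induction m, h using Nat.le_induction with
  | base => norm_num
  | succ m h ih =>
    have h2 : (10 * (m + 1)) ^ 8 ≤ (11 * m) ^ 8 := Nat.pow_le_pow_left (by omega) 8
    rw [mul_pow, mul_pow] at h2
    rw [pow_succ 11]; omega

theorem numB {G W : Type u} [Group G] [Finite G] [Group.IsSolvable G] [AddCommGroup W] [Finite W]
    [DistribMulAction G W] (h : CR G W) {e a : ℕ} (he : Nat.card W = e ^ 2) (h1 : 1 ≤ e)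
    (ha : a ≤ ord G W) : 4 * 290521 * (e ^ 2 * a) ≤ 14400 * (11 ^ (2 * e) - 1) ∧
    (5 ≤ e → 290521 * (e ^ 2 * a) ≤ 14400 * (11 ^ e - 1)) := by
  rcases lt_or_ge e 17 with h17 | h17
  · have h2 := Nat.mul_le_mul_left (e ^ 2) (ha.trans (table (c := 1) (by simp) he
      (Nat.pow_le_pow_left (by omega : e ≤ 16) 2) (by simp) h))
    have := tabB e h17 h1
    omega
  · have : Nontrivial W := Finite.one_lt_card_iff_nontrivial.1 (by nlinarith)
    have h2 := five_ord h
    have h3 : e ^ 2 * a ≤ e ^ 8 := by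
      rw [show e ^ 8 = e ^ 2 * (e ^ 2) ^ 3 by ring, ← he]
      exact Nat.mul_le_mul_left _ (by omega)
    have h4 := pow8_le h17
    have h5 : 11 ^ e ≤ 11 ^ (2 * e) := Nat.pow_le_pow_right (by norm_num) (by omega)
    omega

theorem num2 {f e b : ℕ} (hf : 2 ≤ f) (he : 1 ≤ e)
    (h : 4 * 290521 * b ≤ 14400 * (11 ^ (2 * e) - 1)) :
    2401 * 11 ^ 2 * (f ^ 2 * b) ≤ 14400 * 1 * (11 ^ (f * e) - 1) := by
  obtain ⟨g, rfl⟩ := Nat.exists_eq_add_of_le hf
  have h1 : (2 + g) ^ 2 ≤ 4 * 11 ^ (g * e) := by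
    refine le_trans ?_ (Nat.mul_le_mul_left 4 (Nat.pow_le_pow_right (by norm_num)
      (Nat.le_mul_of_pos_right g he)))
    clear hf h
    induction g with
    | zero => norm_num
    | succ g ih =>
      have : (2 + (g + 1)) ^ 2 ≤ 11 * (2 + g) ^ 2 := by nlinarith [Nat.zero_le g]
      rw [pow_succ 11]; omega
  have h2 : 1 ≤ 11 ^ (g * e) := Nat.one_le_pow _ _ (by norm_num)
  have h3 : 1 ≤ 11 ^ (2 * e) := Nat.one_le_pow _ _ (by norm_num)
  rw [add_mul, pow_add]
  generalize 11 ^ (g * e) = x at *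
  obtain ⟨y, hy⟩ := Nat.exists_eq_add_of_le h3
  rw [hy, Nat.add_sub_cancel_left] at h
  have h4 : y * x ≤ (1 + y) * x - 1 := by rw [add_mul]; omega
  rw [hy]
  nlinarith [Nat.mul_le_mul h1 h]

section
variable {R W : Type u} [Group R] [Finite R] [AddCommGroup W] [Finite W] [DistribMulAction R W]
  [FaithfulSMul R W]

theorem fix_two (h3 : ∀ w : W, 3 • w = 0) (h9 : Nat.card W = 9) {v u : W} (v0 : v ≠ 0) (u0 : u ≠ 0)
    (v1 : u ≠ v) (v2 : u ≠ -v) {x : R} (e1 : x • v = v) (e2 : x • u = u) : x = 1 := by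
  classical
  have v3 : v ≠ -v := fun e => v0 (by
    have := h3 v
    rwa [succ_nsmul, two_nsmul, add_eq_zero_iff_eq_neg.2 e, zero_add] at this)
  have h4 : ({0, v, -v, u} : Finset W).card ≤ Nat.card (Fx W x) := by
    rw [← Set.ncard_coe_finset, ← SetLike.coe_sort_coe, Nat.card_coe_set_eq]
    refine Set.ncard_le_ncard ?_
    intro y hy
    simp only [Finset.coe_insert, Finset.coe_singleton, Set.mem_insert_iff,
      Set.mem_singleton_iff] at hy
    rcases hy with rfl | rfl | rfl | rfl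
    exacts [zero_mem _, mem_Fx.2 e1, neg_mem (mem_Fx.2 e1), mem_Fx.2 e2]
  rw [Finset.card_insert_of_notMem (by simp [v0.symm, v0, u0.symm]),
    Finset.card_insert_of_notMem (by simp [v3, v1.symm]),
    Finset.card_insert_of_notMem (by simp [v2.symm]), Finset.card_singleton] at h4
  have h5 := (Fx W x).card_addSubgroup_dvd_card
  have h6 : Nat.card (Fx W x) = Nat.card W := by
    rw [h9] at h5 ⊢
    have := Nat.le_of_dvd (by norm_num) h5
    generalize Nat.card (Fx W x) = c at *
    interval_cases c <;> omega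
  exact eq_one_of_triv (V := W) fun w =>
    mem_Fx.1 ((AddSubgroup.card_eq_iff_eq_top _).1 h6 ▸ AddSubgroup.mem_top w)

theorem sp3 {Z : Type u} [CommGroup Z] [Finite Z] [IsCyclic Z] {β : W → W → Z} (h : Form β)
    (hp : ∀ r : R, Pres β r) (h3 : ∀ w : W, 3 • w = 0) (h9 : Nat.card W = 9) : Nat.card R ≤ 24 := by
  have : Nontrivial W := Finite.one_lt_card_iff_nontrivial.1 (by omega)
  obtain ⟨x, x0⟩ := exists_ne (0 : W)
  obtain ⟨y, hy⟩ := not_forall.1 fun hh => x0 (h.nondeg x hh)
  have h1 : (stabilizer R x).index < 9 := by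
    rw [MulAction.index_stabilizer, ← h9, ← Set.ncard_univ]
    refine Set.ncard_lt_ncard (Set.ssubset_univ_iff.2 fun e => x0 ?_)
    obtain ⟨g, hg⟩ : (0 : W) ∈ MulAction.orbit R x := e ▸ Set.mem_univ _
    exact (smul_eq_zero_iff_eq g).1 hg
  have h2 := h.card_perp (AddSubgroup.zmultiples x)
  have := Fact.mk Nat.prime_three
  rw [Nat.card_zmultiples, addOrderOf_eq_prime (h3 x) x0, h9] at h2
  have h4 := Nat.card_le_card_of_injective (fun r : stabilizer R x =>
    (⟨r.1 • y - y, h.toAlt.mem_perp_zm.2 (by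
      have := hp r x y
      rw [r.2] at this
      rw [h.toAlt.sub_right, this, mul_inv_cancel])⟩ : h.toAlt.perp (AddSubgroup.zmultiples x)))
    fun a b e => by
      have e1 : a.1 • y = b.1 • y := sub_left_injective (congrArg Subtype.val e)
      have := fix_two h3 h9 x0 (u := y) (fun e => hy (e ▸ h.toAlt.zero_right x))
        (fun e => hy (e ▸ h.self x)) (fun e => hy (by rw [e, h.toAlt.neg_right, h.self, inv_one]))
        (x := ((b⁻¹ * a : stabilizer R x) : R)) (b⁻¹ * a).2 (by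
          rw [coe_mul, mul_smul, e1, coe_inv, inv_smul_smul])
      exact (inv_mul_eq_one.1 (Subtype.ext this)).symm
  rw [← (stabilizer R x).index_mul_card]
  nlinarith

theorem card_nz : Nat.card {w : W // w ≠ 0} = Nat.card W - 1 := by
  classical
  have := Fintype.ofFinite W
  rw [Nat.card_eq_fintype_card (α := {w : W // w ≠ 0}), Fintype.card_subtype_compl,
    Fintype.card_subtype_eq, ← Nat.card_eq_fintype_card]

theorem dvd_six (h4 : Nat.card W = 4) : Nat.card R ∣ 6 := by
  let _ : MulAction R {w : W // w ≠ 0} :=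
    { smul := fun r w => ⟨r • w.1, fun e => w.2 ((smul_eq_zero_iff_eq r).1 e)⟩
      one_smul := fun w => Subtype.ext (one_smul R w.1)
      mul_smul := fun a b w => Subtype.ext (mul_smul a b w.1) }
  have := card_dvd_of_injective (toPermHom R {w : W // w ≠ 0})
    ((injective_iff_map_eq_one _).2 fun r hr => eq_one_of_triv (V := W) fun w => by
      by_cases h : w = 0
      · rw [h, smul_zero]
      · exact congrArg Subtype.val (DFunLike.congr_fun hr ⟨w, h⟩))
  rwa [Nat.card_perm, card_nz, h4] at this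

end

variable {G V K W : Type u} [Group G] [Finite G] [AddCommGroup V] [Finite V] [Nontrivial V]
  [DistribMulAction G V] [FaithfulSMul G V] [Field K] [Finite K] [Module K V] [AddCommGroup W]
  [Finite W] [DistribMulAction G W] {U A E : Subgroup G} {sc : G → Kˣ} {σ : G →* RingAut K}
  {π : G → W} [Group.IsSolvable G]

theorem spec (h : Prim (V := V) U A E sc σ π) (hA : A = ⊤) (h4 : Nat.card W = 4)
    (h6 : Nat.card (Img G W) = 6) : 4 * Nat.card U ≤ k G := by
  classical
  subst hA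
  have := Fintype.ofFinite G
  have hU : ∀ g, ∀ x ∈ U, g * x = x * g := fun g x hx => h.comm trivial hx
  have hE : ∀ g, toImg G W g = 1 ↔ g ∈ E := fun g =>
    ⟨fun e => h.mem_E trivial fun w => by rw [← toImg_smul, e, one_smul],
      fun e => eq_one_of_triv (V := W) fun w => h.E_triv e w⟩
  have hG : Nat.card G = 24 * Nat.card U := by
    rw [h.card_G, ← MonoidHom.range_eq_map, MonoidHom.range_eq_top.2 (toImg_surj G W), card_top,
      h4, h6, index_top]; ring
  have hEc := h.card_E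
  have := Fact.mk Nat.prime_three
  obtain ⟨ρ, hρ⟩ := exists_prime_orderOf_dvd_card' (G := Img G W) 3 (by omega)
  let N := (zpowers ρ).comap (toImg G W)
  have hN : N.index = 2 := by
    have := (zpowers ρ).index_mul_card
    rw [Nat.card_zpowers, hρ, h6] at this
    rw [index_comap_of_surjective _ (toImg_surj G W)]; omega
  have hNc := N.index_mul_card
  have hEN : E ≤ N := fun g hg => by rw [mem_comap, (hE g).2 hg]; exact one_mem _
  have hUN : U ≤ N := h.UE.trans hEN
  -- the elements outside `N` whose square is not central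
  have hx : ∀ r : Img G W, ∃ x ∈ E, r ≠ 1 → r • π x ≠ π x := fun r => by
    by_cases e : r = 1
    · exact ⟨1, one_mem _, fun e' => absurd e e'⟩
    obtain ⟨w, hw⟩ := not_forall.1 fun hh => e (eq_one_of_triv (V := W) hh)
    obtain ⟨x, hx, rfl⟩ := h.π_surj w
    exact ⟨x, hx, fun _ => hw⟩
  choose x hx hx' using hx
  let P : G → Prop := fun g => g ∉ N ∧ g * g ∉ U
  have hT : (Finset.univ.filter fun g => g ∉ N ∧ g * g ∈ U).card ≤ (Finset.univ.filter P).card := by
    refine Finset.card_le_card_of_injOn (fun g => x (toImg G W g) * g) (fun g hg => ?_)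
      fun a _ b _ e => ?_
    · obtain ⟨h1, h2⟩ := (Finset.mem_filter.1 hg).2
      have h3 := hx (toImg G W g)
      refine Finset.mem_filter.2 ⟨Finset.mem_univ _, fun e => h1 ((N.mul_mem_cancel_left
        (hEN h3)).1 e), fun e => hx' _ (fun e => h1 (hEN ((hE g).1 e))) ?_⟩
      beta_reduce at e
      generalize x (toImg G W g) = y at *
      have h5 : y * (g * y * g⁻¹) ∈ U := by
        convert mul_mem e (inv_mem h2) using 1; group
      rw [← h.π_zero _ (h.UE h5), h.π_mul _ h3 _ (h.nE.conj_mem _ h3 g), h.π_conj g _ h3,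
        ← h.two_W (j := 2) h4 (π y), add_right_inj] at h5
      exact h5
    · have e1 := congrArg (toImg G W) e
      simp only [map_mul, (hE _).2 (hx _), one_mul] at e1
      simp only [e1] at e
      exact mul_left_cancel e
  have hT2 := Finset.card_filter_add_card_filter_not (s := Finset.univ.filter (· ∉ N))
    fun g : G => g * g ∈ U
  have hT3 := Finset.card_filter_add_card_filter_not (s := Finset.univ) (· ∈ N)
  rw [Finset.filter_filter, Finset.filter_filter] at hT2
  rw [← H24.card_eq_card_filter, Finset.card_univ, ← Nat.card_eq_fintype_card] at hT3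
  have h1 := k_ge (fun g : G => (2 + 20 * (if g ∈ U then 1 else 0) + (if g ∈ E then 1 else 0) +
      (if g ∈ N then 1 else 0) + 2 * if P g then 1 else 0) * Nat.card U) fun g => by
    by_cases gU : g ∈ U
    · rw [if_pos gU, if_pos (h.UE gU), if_pos (hUN gU), if_neg fun e : P g => e.1 (hUN gU), ← hG,
        ← card_top (G := G)]
      exact card_le_of_le fun y _ => mem_centralizer_singleton_iff.2 (hU y g gU)
    rw [if_neg gU]
    by_cases gE : g ∈ E
    · rw [if_pos gE, if_pos (hEN gE), if_neg fun e : P g => e.1 (hEN gE)]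
      have h1 := fib (Finset.univ.filter (IsConj g)) π {0}ᶜ (fun y hy e => by
        obtain ⟨c, rfl⟩ := isConj_iff.1 (Finset.mem_filter.1 hy).2
        rw [Set.mem_singleton_iff, h.π_conj c g gE, smul_eq_zero_iff_eq] at e
        exact gU ((h.π_zero g gE).1 e)) (fun _ => 1) 2 fun T hT ⟨y, hy⟩ e => by
        have h2 : ∀ z ∈ T, z ∈ E ∧ z * z = g * g := fun z hz => by
          obtain ⟨c, rfl⟩ := isConj_iff.1 (Finset.mem_filter.1 (hT hz)).2
          have : g * g ∈ U := by
            rw [← h.π_zero _ (mul_mem gE gE), h.π_mul _ gE _ gE, h.two_W (j := 2) h4]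
          exact ⟨h.nE.conj_mem _ gE c, by
            rw [conj_mul, hU c _ this, mul_inv_cancel_right]⟩
        have h3 : ∀ z ∈ T, y⁻¹ * z ∈ U := fun z hz =>
          (h.π_eq (h2 y hy).1 (h2 z hz).1).1 (e y hy z hz)
        rw [← Finset.card_eq_sum_ones]
        refine (Finset.card_le_card_of_injOn (fun z => (sc (y⁻¹ * z) : K)) (t := {1, -1})
          (fun z hz => ?_) fun a ha b hb e => ?_).trans Finset.card_le_two
        · have h5 : y⁻¹ * z * (y⁻¹ * z) = 1 := by
            rw [mul_assoc, hU z _ (h3 z hz), mul_assoc, (h2 z hz).2, ← (h2 y hy).2]; group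
          have h7 := h.sc_mul (h3 z hz) (h3 z hz)
          rw [h5, h.sc_one] at h7
          simpa using mul_self_eq_one_iff.1 (congrArg Units.val h7).symm
        · exact mul_left_cancel (h.sc_inj (h3 a ha) (h3 b hb) (Units.ext e))
      rw [← Finset.card_eq_sum_ones, ← Fintype.card_subtype, ← Nat.card_eq_fintype_card,
        H24.card_isConj, Set.ncard_compl, Set.ncard_singleton, h4] at h1
      have h2 := (centralizer ({g} : Set G)).index_mul_card
      have h3 := Nat.mul_le_mul_right (Nat.card (centralizer ({g} : Set G))) h1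
      unfold H24.cs at h3
      omega
    rw [if_neg gE]
    by_cases gN : g ∈ N
    · rw [if_pos gN, if_neg fun e : P g => e.1 gN]
      refine cent_ge hU fun j h1 h2 e => gE ((hE g).1 ?_)
      have h3 := orderOf_dvd_of_pow_eq_one ((map_pow _ g j).symm.trans ((hE _).2 (h.UE e)))
      have h5 := hρ ▸ orderOf_dvd_of_mem_zpowers gN
      refine orderOf_eq_one_iff.1 (((Nat.dvd_prime Nat.prime_three).1 h5).resolve_right fun e => ?_)
      rw [e] at h3; omega
    rw [if_neg gN]
    split_ifs with gP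
    · refine cent_ge hU fun j h1 h2 e => ?_
      have h2 : j < 4 := h2
      interval_cases j
      · exact gU (by simpa using e)
      · exact gP.2 (by simpa [pow_two] using e)
      · exact gN ((N.mul_mem_cancel_left (sq_mem_of_index_two hN g)).1 (pow_succ g 2 ▸ hUN e))
    · exact cent_ge hU fun j h1 h2 => by rwa [show j = 1 by omega, pow_one]
  simp only [← Finset.sum_mul, Finset.sum_add_distrib, ← Finset.mul_sum, sum_ind, Finset.sum_const,
    Finset.card_univ, smul_eq_mul, ← Nat.card_eq_fintype_card] at h1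
  rw [← Finset.card_filter, hG, ← mul_assoc (k G)] at h1
  have := Nat.le_of_mul_le_mul_right h1 Nat.card_pos
  rw [h4] at hEc
  simp only [P] at hT this
  omega

theorem pow_le_of_dvd {p q n : ℕ} (hp : p.Prime) (hq : 2 ≤ q) (h : q ∣ p ^ n) : p ≤ q := by
  obtain ⟨j, -, rfl⟩ := (Nat.dvd_prime_pow hp).1 h
  exact Nat.le_self_pow (by rintro rfl; simp at hq) p

theorem num_spec {u m ν κ : ℕ} (h2 : 2 ∣ u) (h0 : 0 < u) (hκ : 4 * u ≤ κ)
    (hν : m * (u * m + 2) ≤ 24 * ν) : 49 * (u * m + 1) ≤ 60 * (κ + ν) := by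
  obtain ⟨v, rfl⟩ := h2
  rcases lt_or_ge m 10 with h | h
  · interval_cases m <;> omega
  · obtain ⟨j, rfl⟩ := Nat.exists_eq_add_of_le h
    nlinarith [Nat.zero_le (v * j), Nat.zero_le (v * j * j)]

theorem num_spec2 {u m ν κ p : ℕ} (h0 : 0 < m) (hκ : 4 * u ≤ κ) (hν : m * (u * m + 2) ≤ 24 * ν)
    (hp : p ≤ u * m + 1) : p ^ 2 ≤ 6 * (κ * ν) + 1 ∧ p + 1 ≤ 24 * ν := by
  have := Nat.pow_le_pow_left hp 2
  have := Nat.le_mul_of_pos_left (u * m + 2) h0
  exact ⟨by nlinarith [Nat.mul_le_mul hκ hν], by omega⟩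

theorem prim_iv (h : Prim (V := V) U A E sc σ π) {p n : ℕ} (hp : p.Prime) (h11 : 11 ≤ p)
    (hV : Nat.card V = p ^ n) (hn : 2 ≤ n) : Iv p (k G) (nu G V) := by
  obtain ⟨q, hq, h3⟩ := h.artin
  obtain ⟨e, he⟩ := h.form.card_sq
  obtain ⟨e1, e2⟩ := h.e_le (he.trans (pow_two e))
  have : Module.Finite K V := Module.Finite.of_finite
  have h7 := Module.natCard_eq_pow_finrank (K := K) (V := V)
  have hf : 0 < A.index := Nat.pos_of_ne_zero index_ne_zero_of_finite
  have hpq : p ^ A.index ≤ Nat.card K := h3 ▸ Nat.pow_le_pow_left (pow_le_of_dvd hp hq (n := n) (by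
    rw [← hV, h7, h3, ← pow_mul]
    exact dvd_pow_self q (Nat.mul_pos hf (e1.trans e2)).ne')) _
  have hQ : ∀ j ≤ Module.finrank K V, Nat.card K ^ j ≤ Nat.card V := fun j hj =>
    h7 ▸ Nat.pow_le_pow_right Nat.card_pos hj
  have hκ := card_le_k fun g hg x hx => h.comm (g := g) (x := x) hg hx
  have hν := card_le_nu (G := G) (V := V)
  have ha := card_bar_le (G := G) (W := W) (A := A)
  have hB := numB h.cr he e1 ha
  have ha0 : 0 < Nat.card (A.map (toImg G W)) := Nat.card_pos
  have hu0 : 0 < Nat.card U := Nat.card_pos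
  have hG := h.card_G
  rw [he] at hG
  set a := Nat.card (A.map (toImg G W)) with hadef
  have hb0 : 0 < e ^ 2 * a := Nat.mul_pos (Nat.pow_pos e1) ha0
  have h1 : 1 * (Nat.card V - 1) ≤ k G * nu G V * (A.index ^ 2 * (e ^ 2 * a)) := by
    rw [hG] at hν
    refine (one_mul _).trans_le (hν.trans ((le_of_eq ?_).trans ((Nat.mul_le_mul_left
      (nu G V * A.index * e ^ 2 * a) hκ).trans_eq ?_))) <;> ring
  rcases (show 1 ≤ A.index from hf).eq_or_lt with h2 | h2
  swap
  · exact Or.inl (strong_of (by norm_num) h11 le_rfl (N := A.index * e) (by nlinarith)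
      (by rw [pow_mul]; exact (Nat.pow_le_pow_left hpq e).trans (hQ e e2))
      (Nat.mul_pos (Nat.pow_pos hf) hb0) h1 (num2 h2 e1 hB.1))
  have hA : A = ⊤ := index_eq_one.1 h2.symm
  have hT := fun N hN h256 => ha.trans (table (c := 1) (N := N) (by simp) hN h256 (by simp) h.cr)
  rw [← h2, pow_one] at hpq
  rw [← h2, one_pow, one_mul (e ^ 2 * a)] at h1
  rw [← h2, one_mul] at hG
  have hp2 : p ^ 2 ≤ Nat.card V := hV ▸ Nat.pow_le_pow_right hp.pos hn
  have hc := k_central (U := U) fun g x hx => h.comm (hA ▸ mem_top g) hx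
  have hi : U.index = e ^ 2 * a := Nat.eq_of_mul_eq_mul_right hu0 (by
    rw [U.index_mul_card, hG]; ring)
  have ha' : a = Nat.card (Img G W) := by
    rw [hadef, hA, ← MonoidHom.range_eq_map, MonoidHom.range_eq_top.2 (toImg_surj G W), card_top]
  rw [hi] at hc
  have key : ∀ c d : ℕ, 2 * d + c * (e ^ 2 * a) ≤ 3 * d * (e ^ 2 * a) →
      c * (Nat.card V - 1) ≤ k G * nu G V * (d * (e ^ 2 * a)) := fun c d hcd => by
    have h4 : c * Nat.card U ≤ d * k G := Nat.le_of_mul_le_mul_right (by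
      nlinarith [Nat.mul_le_mul_left d hc, Nat.mul_le_mul_right (Nat.card U) hcd]) hb0
    rw [hG] at hν
    refine (Nat.mul_le_mul_left c hν).trans ((le_of_eq ?_).trans ((Nat.mul_le_mul_left
      (nu G V * e ^ 2 * a) h4).trans_eq ?_)) <;> ring
  rcases lt_or_ge e 5 with h5 | h5
  swap
  · exact Or.inl (strong_of (by norm_num) h11 le_rfl (N := e) (by omega)
      ((Nat.pow_le_pow_left hpq e).trans (hQ e e2)) hb0 h1 (by have := hB.2 h5; omega))
  interval_cases e
  · have : a ≤ 1 := hT 1 he (by norm_num)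
    exact Or.inl (strong_of (by norm_num) h11 le_rfl le_rfl hp2 hb0 h1 (by omega))
  · have h6 : a ∣ 6 := ha' ▸ dvd_six he
    have h8 := key 5 2 (by omega)
    by_cases h9 : a ≤ 3
    · exact Or.inl (strong_of (by norm_num) h11 le_rfl le_rfl hp2 (by omega) h8 (by omega))
    have h10 : a = 6 := by
      have := Nat.le_of_dvd (by norm_num) h6
      interval_cases a <;> omega
    rcases e2.eq_or_lt with h12 | h12
    swap
    · exact Or.inl (strong_of (by norm_num) h11 le_rfl (N := 3) (by norm_num)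
        ((Nat.pow_le_pow_left hpq 3).trans (hQ 3 h12)) (by omega) h8 (by omega))
    have h13 := spec h hA he (ha' ▸ h10)
    obtain ⟨m, hm⟩ := h.u_dvd
    have h14 : Nat.card K = Nat.card U * m + 1 := by omega
    rw [h7, ← h12, h14, hG, h10] at hν
    have h15 : m * (Nat.card U * m + 2) ≤ 24 * nu G V := Nat.le_of_mul_le_mul_left (by
      have : (Nat.card U * m + 1) ^ 2 = Nat.card U * (m * (Nat.card U * m + 2)) + 1 := by ring
      rw [this, Nat.add_sub_cancel] at hν
      exact hν.trans_eq (by ring)) hu0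
    have h16 := num_spec (h.prime_dvd Nat.prime_two (by rw [he]; norm_num)) hu0 h13 h15
    have hm0 : 0 < m := Nat.pos_of_ne_zero (by rintro rfl; omega)
    obtain ⟨h17, h18⟩ := num_spec2 hm0 h13 h15 (h14 ▸ hpq)
    exact Or.inr ⟨h17, h18, by omega⟩
  · have h6 : a ≤ 24 := ha' ▸ sp3 h.form (fun r => by
      obtain ⟨g, rfl⟩ := toImg_surj G W r
      exact h.pres (hA ▸ mem_top g)) (fun w => h.cr.sqf 3 w (by
        rw [← mul_nsmul', ← card_nsmul_eq_zero' (x := w), he, pow_two])) he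
    have h8 := (h.prime_dvd Nat.prime_three (by rw [he]; norm_num)).trans h.u_dvd
    exact Or.inl (strong_of (r := 13) (by norm_num) (by omega) hpq (N := 3) (by norm_num)
      (hQ 3 e2) (by omega) (key 25 9 (by omega)) (by omega))
  · have : a ≤ 72 := hT 16 he (by norm_num)
    exact Or.inl (strong_of (by norm_num) h11 le_rfl (N := 4) (by norm_num)
      ((Nat.pow_le_pow_left hpq 4).trans (hQ 4 e2)) (by omega) (key 5 2 (by omega)) (by omega))

end H3.LB
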