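import Cfsg.Agent.H3.LB2

/-! Lower bounds for class numbers III: solvable groups of order divisible by `p²`. -/

set_option autoImplicit false
set_option linter.unusedSectionVars false

open Subgroup H6.BS H3.KL MulAction Cfsg

namespace H3.LB

universe u

theorem tab_fac : ∀ t < 5, ∀ m ≤ t, 2 ≤ m → m * T 1 m ≤ t.factorial := by decide

theorem core_index {X : Type u} [Group X] [Finite X] [Group.IsSolvable X] {H : Subgroup X}
    (hH : IsCoatom H) : H.normalCore.index ≤ 3 ^ (H.index - 1) ∧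
      (H.index < 5 → H.normalCore.index ≤ H.index.factorial) := by
  obtain ⟨S, M, _, _, _, _, _, pt, hS, hM, hi, -, -, h1, h2, -⟩ := affine hH
  have h3 := Nat.card_le_card_of_injective (fun m => (pt m : X ⧸ H))
    fun a b e => h2 a b (QuotientGroup.eq.1 e)
  rw [← index_eq_card] at h3
  refine ⟨h1 ▸ (aff_le hi.cr).trans (Nat.pow_le_pow_right (by norm_num) (by omega)), fun h => ?_⟩
  exact h1 ▸ (Nat.mul_le_mul_left _ (table (c := 1) (by simp) rfl (by omega) (by simp) hi.cr)).trans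
    (tab_fac _ h _ h3 Finite.one_lt_card)

theorem num_mon {t s : ℕ} (ht : 2 ≤ t) (h1 : s ≤ 3 ^ (t - 1)) (h2 : t < 5 → s ≤ t.factorial) :
    2401 * 11 ^ 2 * s ^ 2 ≤ 14400 * 1 * (11 ^ t - 1) := by
  rcases lt_or_ge t 5 with h | h
  · have := Nat.pow_le_pow_left (h2 h) 2
    interval_cases t <;> norm_num [Nat.factorial] at this ⊢ <;> omega
  have h3 := Nat.pow_le_pow_left h1 2
  have h4 : 290521 * (3 ^ (t - 1)) ^ 2 + 14400 ≤ 14400 * 11 ^ t := by
    clear h1 h2 h3 ht
    induction t, h using Nat.le_induction with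
    | base => norm_num
    | succ m h ih =>
      obtain ⟨n, rfl⟩ : ∃ n, m = n + 1 := ⟨m - 1, by omega⟩
      simp only [Nat.add_sub_cancel] at ih ⊢
      rw [pow_succ 3, pow_succ 11 (n + 1), mul_pow]; omega
  omega

theorem tab_weak : ∀ p < 24, 11 ≤ p → ∀ s < 20, 2 * p ^ 2 ≤ 3 * s ^ 2 + 2 → 49 * p ≤ 60 * s := by
  decide

theorem Iv.step {p κ ν κ' ν' t : ℕ} (h : Iv p κ ν) (hp : 11 ≤ p) (ht : 2 ≤ t) (h1 : κ ≤ t * κ')
    (h2 : (ν + t).choose t ≤ ν' + 1) : Iv p κ' ν' := by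
  obtain ⟨a, b⟩ := choose_ge ν t
  have h3 : κ * ν ≤ κ' * ν' :=
    calc _ ≤ t * κ' * ν := Nat.mul_le_mul_right _ h1
      _ = κ' * (t * ν) := by ring
      _ ≤ _ := Nat.mul_le_mul_left _ (by omega)
  rcases h with h | ⟨h4, h5, -⟩
  · exact Or.inl (h.trans (Nat.mul_le_mul_left _ h3))
  rcases lt_or_ge ν 2 with h6 | h6
  · have h7 : ν ≤ t * ν := Nat.le_mul_of_pos_left ν (by omega)
    refine Or.inr ⟨by omega, by omega, ?_⟩
    have := four_mul_le κ' ν'
    rcases lt_or_ge (κ' + ν') 20 with h8 | h8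
    · exact tab_weak p (by omega) hp _ h8 (by omega)
    · omega
  · have h7 : 5 * (t * ν) ≤ 4 * ν' := by
      have := b h6 (by omega)
      have := Nat.mul_le_mul_right ν ht
      rw [mul_assoc] at *; omega
    have h8 : 5 * (κ * ν) ≤ 4 * (κ' * ν') :=
      calc _ ≤ 5 * (t * κ' * ν) := Nat.mul_le_mul_left _ (Nat.mul_le_mul_right _ h1)
        _ = κ' * (5 * (t * ν)) := by ring
        _ ≤ _ := (Nat.mul_le_mul_left _ h7).trans_eq (by ring)
    have := Nat.pow_le_pow_left hp 2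
    exact Or.inl (by unfold Strong; omega)

theorem core {p : ℕ} (hp : p.Prime) (h11 : 11 ≤ p) (n : ℕ) : ∀ (G V : Type u) [Group G] [Finite G]
    [Group.IsSolvable G] [AddCommGroup V] [Finite V] [DistribMulAction G V] [FaithfulSMul G V],
    Irr G V → Nat.card V = p ^ n → 2 ≤ n → Iv p (k G) (nu G V) := by
  induction n using Nat.strong_induction_on with
  | _ n ih =>
  intro G V _ _ _ _ _ _ _ hi hV hn
  have : Nontrivial V := Finite.one_lt_card_iff_nontrivial.1
    (hV ▸ Nat.one_lt_pow (by omega) hp.one_lt)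
  by_cases h : ∃ ε : Module.End ℤ V, Sys G ε
  swap
  · obtain ⟨K, W, _, _, _, _, _, _, U, A, E, sc, σ, π, h⟩ := exists_prim hi h
    exact prim_iv h hp h11 hV hn
  obtain ⟨H, X, _, _, _, hH, _, h1, h2, h3, h4⟩ := imp2 hi h
  have ht := two_le_index hH.1
  obtain ⟨m, -, hm⟩ := (Nat.dvd_prime_pow hp).1 (hV ▸ h2 ▸ dvd_pow_self (Nat.card X)
    (by omega : H.index ≠ 0))
  have h5 : n = m * H.index := Nat.pow_right_injective hp.two_le (by
    simp only; rw [← hV, h2, hm, pow_mul])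
  rcases lt_or_ge m 2 with h6 | h6
  · obtain rfl : m = 1 := by
      rcases m with _ | _ | m <;> omega
    rw [pow_one] at hm
    have h7 := card_le_k (U := H.normalCore) (A := H.normalCore) fun a ha b hb => by
      rw [← mul_inv_eq_iff_eq_mul, ← mul_inv_eq_one]
      have e : ∀ y, ∀ g ∈ H.normalCore, y⁻¹ * g * y ∈ H := fun y g hg => by simpa using hg y⁻¹
      refine eq_one_of_triv (V := V) (h4 _ fun y => ⟨e y _
        (mul_mem (mul_mem (mul_mem ha hb) (inv_mem ha)) (inv_mem hb)), fun x => ?_⟩)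
      rw [show (⟨_, _⟩ : H) = ⟨_, e y a ha⟩ * (⟨_, e y b hb⟩ * ((⟨_, e y a ha⟩ : H)⁻¹ *
        (⟨_, e y b hb⟩ : H)⁻¹)) from Subtype.ext (by simp [mul_assoc]), mul_smul, mul_smul,
        comm_of_prime (hm ▸ hp), mul_smul, smul_inv_smul, smul_inv_smul]
    have h8 := card_le_nu (G := G) (V := V)
    obtain ⟨a, b⟩ := core_index hH
    refine Or.inl (strong_of (by norm_num) h11 le_rfl ht (hm ▸ h2.ge)
      (Nat.pow_pos (Nat.pos_of_ne_zero index_ne_zero_of_finite)) ?_ (num_mon ht a b))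
    rw [← H.normalCore.index_mul_card] at h8
    refine (one_mul _).trans_le (h8.trans ((le_of_eq ?_).trans ((Nat.mul_le_mul_left
      (nu G V * H.normalCore.index) h7).trans_eq ?_))) <;> ring
  have := img_solvable (G := H) (V := X)
  exact (ih m (by nlinarith) (Img H X) X h1.img hm h6).step h11 ht
    ((k_surj _ (toImg_surj H X)).trans (Cfsg.Agent.S4200.result H).1) ((nu_img (G := H) (V := X)).symm ▸ h3)

theorem frac3 {x y z : ℚ} (hx : x = 1 / 2 ∨ x = 1 / 3 ∨ x = 1 / 4 ∨ x = 1 / 5 ∨ x = 1 / 6 ∨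
    (0 ≤ x ∧ x ≤ 1 / 8)) (hy : y = 1 / 2 ∨ y = 1 / 3 ∨ y = 1 / 4 ∨ y = 1 / 5 ∨ y = 1 / 6 ∨
    (0 ≤ y ∧ y ≤ 1 / 8)) (hz : z = 1 / 2 ∨ z = 1 / 3 ∨ z = 1 / 4 ∨ z = 1 / 5 ∨ z = 1 / 6 ∨
    (0 ≤ z ∧ z ≤ 1 / 8)) (h : x + y + z < 1) : x + y + z ≤ 23 / 24 := by
  rcases hx with rfl | rfl | rfl | rfl | rfl | ⟨_, _⟩ <;>
  rcases hy with rfl | rfl | rfl | rfl | rfl | ⟨_, _⟩ <;>
  rcases hz with rfl | rfl | rfl | rfl | rfl | ⟨_, _⟩ <;> linarith

theorem small_p {G : Type u} [Group G] [Finite G] {p : ℕ} [hp : Fact p.Prime] (h : p < 11)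
    (hd : p ^ 2 ∣ Nat.card G) : 49 * p ≤ 60 * k G := by
  classical
  have := Fintype.ofFinite G
  have := Fintype.ofFinite (ConjClasses G)
  have hZ : ∀ P : Sylow p G, p ^ 2 ∣ Nat.card P ∧ ∃ z ∈ P, z ≠ 1 ∧ ∀ x ∈ P, x * z = z * x := by
    intro P
    have h1 := P.pow_dvd_card_of_pow_dvd_card hd
    have : Nontrivial P := Finite.one_lt_card_iff_nontrivial.1
      ((Nat.one_lt_pow two_ne_zero hp.out.one_lt).trans_le (Nat.le_of_dvd Nat.card_pos h1))
    have := P.isPGroup'.center_nontrivial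
    obtain ⟨z, hz⟩ := exists_ne (1 : center P)
    exact ⟨h1, z.1, z.1.2, fun e => hz (Subtype.ext (Subtype.ext e)), fun x hx =>
      congrArg Subtype.val (mem_center_iff.1 z.2 ⟨x, hx⟩)⟩
  have hlt : p < p ^ 2 := by nlinarith [hp.out.two_le]
  have hc : ∀ x : G, Nat.card (centralizer ({x} : Set G)) ≠ p := fun x e => by
    have hx : x ∈ centralizer ({x} : Set G) := mem_centralizer_singleton_iff.2 rfl
    obtain ⟨P, hP⟩ := (IsPGroup.of_card (e.trans (pow_one p).symm)).exists_le_sylow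
    obtain ⟨h1, z, z1, z2, z3⟩ := hZ P
    obtain ⟨j, hj⟩ := mem_zpowers_of_prime_card e (g := ⟨z, mem_centralizer_singleton_iff.2
      (z3 x (hP hx)).symm⟩) (fun e => z2 (congrArg Subtype.val e)) (g' := ⟨x, hx⟩)
    have h2 : z ^ j = x := congrArg Subtype.val hj
    have := card_le_of_le (H := P) (K := centralizer {x}) fun y hy =>
      mem_centralizer_singleton_iff.2 (h2 ▸ (Commute.zpow_right (z3 y hy) j).eq)
    have := Nat.le_of_dvd Nat.card_pos h1
    omega
  obtain ⟨h1, z, z1, z2, z3⟩ := hZ default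
  let c : ConjClasses G → ℕ := fun C => Nat.card (centralizer ({C.out} : Set G))
  have hG : (0 : ℚ) < Nat.card G := Nat.cast_pos.2 Nat.card_pos
  have hcs : ∀ x : G, (1 : ℚ) / c (ConjClasses.mk x) = H24.cs x / Nat.card G := fun x => by
    rw [H24.cs_eq_of_isConj (ConjClasses.mk_eq_mk_iff_isConj.1
      (Quotient.out_eq' (ConjClasses.mk x))).symm, ← index_mul_card (centralizer {_}), Nat.cast_mul,
      div_mul_cancel_left₀ (Nat.cast_ne_zero.2 index_ne_zero_of_finite), one_div]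
  have h2 : ∑ C, (1 : ℚ) / c C = 1 := by
    have := sum_conjClasses_card_eq_card G
    rw [← Nat.card_eq_fintype_card] at this
    refine Eq.trans ?_ (div_self hG.ne')
    rw [eq_div_iff hG.ne', Finset.sum_mul]
    refine Eq.trans (Finset.sum_congr rfl fun C _ => ?_) ((Nat.cast_sum _ _).symm.trans (congrArg _ this))
    obtain ⟨x, rfl⟩ := ConjClasses.mk_surjective C
    rw [hcs, ← H24.card_carrier_mk, div_mul_cancel₀ _ hG.ne', Nat.card_eq_fintype_card,
      Set.toFinset_card]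
  have h3 : ∀ x : G, (∀ y ∈ (default : Sylow p G), y * x = x * y) →
      0 < (1 : ℚ) / c (ConjClasses.mk x) ∧ (1 : ℚ) / c (ConjClasses.mk x) ≤ 1 / p ^ 2 := fun x hx => by
    refine ⟨one_div_pos.2 (Nat.cast_pos.2 Nat.card_pos), ?_⟩
    have a := (Nat.le_of_dvd Nat.card_pos h1).trans (card_le_of_le (K := centralizer {x})
      fun y hy => mem_centralizer_singleton_iff.2 (hx y hy))
    rw [hcs, ← index_mul_card (centralizer {x}), Nat.cast_mul,
      div_mul_cancel_left₀ (Nat.cast_ne_zero.2 index_ne_zero_of_finite), ← one_div]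
    exact one_div_le_one_div_of_le (by have := hp.out.pos; positivity) (by exact_mod_cast a)
  have h4 : ConjClasses.mk z ≠ ConjClasses.mk 1 := fun e =>
    z2 (isConj_one_left.1 (ConjClasses.mk_eq_mk_iff_isConj.1 e))
  have h5 := Finset.mem_erase.2 ⟨h4, Finset.mem_univ _⟩
  rw [← Finset.add_sum_erase _ _ (Finset.mem_univ (ConjClasses.mk 1)),
    ← Finset.add_sum_erase _ _ h5] at h2
  have h6 := Finset.card_erase_add_one h5
  have h7 := Finset.card_erase_add_one (Finset.mem_univ (ConjClasses.mk (1 : G)))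
  rw [Finset.card_univ, ← Nat.card_eq_fintype_card, ← h6] at h7
  change _ = k G at h7
  clear h6
  have h8 : ∀ C ∈ (Finset.univ.erase (ConjClasses.mk (1 : G))).erase (ConjClasses.mk z),
      2 ≤ c C ∧ c C ≠ p := fun C hC => ⟨(one_lt_card_iff_ne_bot _).2 fun e =>
    (Finset.mem_erase.1 (Finset.mem_erase.1 hC).2).1 (by
      rw [← mem_bot.1 (e ▸ mem_centralizer_singleton_iff.2 rfl : C.out ∈ ⊥)]
      exact (Quotient.out_eq' C).symm), hc _⟩
  obtain ⟨a1, a2⟩ := h3 1 (by simp)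
  obtain ⟨b1, b2⟩ := h3 z z3
  generalize (Finset.univ.erase (ConjClasses.mk (1 : G))).erase (ConjClasses.mk z) = s at *
  have h9 : ∀ n : ℕ, 2 ≤ n → (1 : ℚ) / n = 1 / 2 ∨ (0 ≤ (1 : ℚ) / n ∧ (1 : ℚ) / n ≤ 1 / 3) :=
    fun n hn => hn.eq_or_lt.imp (fun e => by simp [← e]) fun e => ⟨by positivity,
      one_div_le_one_div_of_le (by norm_num) (by exact_mod_cast e)⟩
  have h10 : ∀ n : ℕ, 2 ≤ n ∧ n ≠ 7 → (1 : ℚ) / n = 1 / 2 ∨ (1 : ℚ) / n = 1 / 3 ∨
      (1 : ℚ) / n = 1 / 4 ∨ (1 : ℚ) / n = 1 / 5 ∨ (1 : ℚ) / n = 1 / 6 ∨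
      (0 ≤ (1 : ℚ) / n ∧ (1 : ℚ) / n ≤ 1 / 8) := fun n ⟨h1, h2⟩ => by
    rcases lt_or_ge n 8 with h | h
    · interval_cases n <;> simp at h2 ⊢
    · iterate 5 right
      exact ⟨by positivity, one_div_le_one_div_of_le (by norm_num) (by exact_mod_cast h)⟩
  have h11 : s.card ≤ 2 → ∑ C ∈ s, (1 : ℚ) / c C ≤ 5 / 6 := fun e => by
    interval_cases hs : s.card
    · rw [Finset.card_eq_zero.1 hs]; norm_num
    · obtain ⟨x, rfl⟩ := Finset.card_eq_one.1 hs
      rw [Finset.sum_singleton]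
      rcases h9 _ (h8 x (by simp)).1 with e | e <;> linarith
    · obtain ⟨x, y, e, rfl⟩ := Finset.card_eq_two.1 hs
      rw [Finset.sum_pair e] at h2 ⊢
      rcases h9 _ (h8 x (by simp)).1 with e | e <;> rcases h9 _ (h8 y (by simp)).1 with e' | e' <;>
        linarith
  by_contra hh
  have hp' := hp.out
  interval_cases p <;> try norm_num at hp'
  · omega
  · rw [Finset.card_eq_zero.1 (by omega : s.card = 0), Finset.sum_empty] at h2
    norm_num at a2 b2 h2; linarith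
  · have := h11 (by omega)
    norm_num at a2 b2 h2 this; linarith
  · rcases (by omega : s.card ≤ 2 ∨ s.card = 3) with e | e
    · have := h11 e
      norm_num at a2 b2 h2 this; linarith
    obtain ⟨x, y, w, e1, e2, e3, rfl⟩ := Finset.card_eq_three.1 e
    rw [Finset.sum_insert (by simp [e1, e2]), Finset.sum_pair e3] at h2
    have := frac3 (h10 _ (h8 x (by simp))) (h10 _ (h8 y (by simp))) (h10 _ (h8 w (by simp)))
      (by linarith)
    norm_num at a2 b2 h2 this; linarith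

theorem cm_prime {Γ : Type u} [Group Γ] [Finite Γ] {M : Subgroup Γ} [M.Normal]
    (hp : (Nat.card M).Prime) (a b : Γ) {x : Γ} (hx : x ∈ M) :
    a * b * a⁻¹ * b⁻¹ * x = x * (a * b * a⁻¹ * b⁻¹) := by
  have := Fact.mk hp
  have := isCyclic_of_prime_card (α := M) rfl
  have : IsMulCommutative M := IsCyclic.isMulCommutative
  have h := comm_of_prime (G := Γ) (V := Ad M) hp a b (a⁻¹ • b⁻¹ • Ad.mk x hx)
  rw [smul_inv_smul, smul_inv_smul, ← mul_smul, ← mul_smul, ← mul_smul] at h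
  exact mul_inv_eq_iff_eq_mul.1 (congrArg Ad.val h)

theorem main {p : ℕ} [hp : Fact p.Prime] (h11 : 11 ≤ p) (n : ℕ) : ∀ (G : Type u) [Group G]
    [Finite G] [Group.IsSolvable G], Nat.card G = n → p ^ 2 ∣ n → 49 * p ≤ 60 * k G := by
  induction n using Nat.strong_induction_on with
  | _ n ih =>
  intro G _ _ _ hn hd
  by_cases h : ∃ (N : Subgroup G) (_ : N.Normal), N ≠ ⊥ ∧ p ^ 2 ∣ N.index
  · obtain ⟨N, _, h1, h2⟩ := h
    refine (ih N.index ?_ (G ⧸ N) rfl h2).trans (Nat.mul_le_mul_left _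
      (k_surj _ (QuotientGroup.mk'_surjective N)))
    rw [← hn, ← N.index_mul_card]
    exact lt_mul_of_one_lt_right (Nat.pos_of_ne_zero index_ne_zero_of_finite)
      (N.one_lt_card_iff_ne_bot.2 h1)
  push Not at h
  have h0 : pPrimeCore p G = ⊥ := by
    by_contra e
    refine h _ inferInstance e ((H1.pPrimeCore_coprime (G := G)).symm.pow_left 2
      |>.dvd_of_dvd_mul_right ?_)
    rwa [index_mul_card, hn]
  have hC := H1.centralizer_pCore_le_of_isSolvable (p := p) inferInstance h0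
  obtain ⟨P⟩ : Nonempty (Sylow p G) := inferInstance
  have hP := P.pow_dvd_card_of_pow_dvd_card (hn ▸ hd)
  have h1 : pCore p G ≠ ⊥ := fun e => by
    have : (P : Subgroup G) ≤ ⊥ := e ▸ fun x _ => hC fun y hy => by
      rw [e, SetLike.mem_coe, mem_bot] at hy; simp [hy]
    rw [le_bot_iff.1 this, card_bot, Nat.dvd_one, Nat.pow_eq_one] at hP
    omega
  obtain ⟨V, _, hV1, hV0, hmin⟩ := exists_min_normal h1
  obtain ⟨_, -⟩ := H1.elementary_of_minimal_normal V hV0 inferInstance hmin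
  obtain ⟨s, hs⟩ := (H1.pCore_isPGroup.to_le hV1).exists_card_eq
  have := img_solvable (G := G) (V := Ad V)
  rcases lt_or_ge s 2 with h2 | h2
  swap
  · have hI : Irr (Img G (Ad V)) (Ad V) := Irr.img fun L hL => by
      rcases hmin (Ad.up L) ⟨by
        rintro _ ⟨x, hx, rfl⟩ g
        exact ⟨g • x, hL g x hx, rfl⟩⟩ (Ad.up_le L) with e | e
      · exact Or.inl (eq_bot_iff.2 fun x hx => Ad.ext (e.le (Ad.mem_up.2 hx)))
      · exact Or.inr (eq_top_iff.2 fun x _ => Ad.mem_up.1 (e.ge x.val_mem))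
    exact (core hp.out h11 s _ _ hI hs h2).fin.trans (Nat.mul_le_mul_left _
      ((nu_img (G := G) (V := Ad V)).symm ▸ k_add_nu V))
  obtain rfl : s = 1 := by
    have := V.one_lt_card_iff_ne_bot.2 hV0
    rcases s with _ | s
    · rw [hs, pow_zero] at this; omega
    · omega
  rw [pow_one] at hs
  have hP2 : Nat.card P = p ^ 2 := by
    obtain ⟨j, hj⟩ := P.isPGroup'.exists_card_eq
    rw [hj] at hP ⊢
    refine congrArg _ (le_antisymm (not_lt.1 fun e => h V ‹_› hV0 ?_)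
      ((Nat.pow_dvd_pow_iff_le_right hp.out.one_lt).1 hP))
    refine Nat.dvd_of_mul_dvd_mul_right hp.out.pos ?_
    rw [← pow_succ, ← hs, index_mul_card, hs]
    exact ((pow_dvd_pow p e).trans (hj ▸ card_subgroup_dvd_card _))
  have := IsPGroup.isMulCommutative_of_card_eq_prime_sq hP2
  have hA : pCore p G = P := le_antisymm (H1.pCore_le_sylow P) fun x hx => hC fun y hy =>
    setLike_mul_comm (s := (P : Subgroup G)) (H1.pCore_le_sylow P hy) hx
  have hPn : (P : Subgroup G).Normal := hA ▸ inferInstance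
  rw [hA] at hC hV1
  have hc : ∀ a b : G, a * b * a⁻¹ * b⁻¹ ∈ P := fun a b => by
    have e1 : Nat.card ((P : Subgroup G).map (QuotientGroup.mk' V)) = p := by
      have := H1.relIndex_mul_card_inf V (P : Subgroup G)
      rw [inf_eq_left.2 hV1, hs, hP2, pow_two] at this
      rw [H1.card_map_mk', Nat.eq_of_mul_eq_mul_right hp.out.pos this]
    have := hPn.map _ (QuotientGroup.mk'_surjective V)
    have e2 : ∀ x ∈ V, a * b * a⁻¹ * b⁻¹ * x = x * (a * b * a⁻¹ * b⁻¹) := fun x =>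
      cm_prime (hs ▸ hp.out) a b
    have e3 : ∀ x ∈ P, x⁻¹ * (a * b * a⁻¹ * b⁻¹)⁻¹ * x * (a * b * a⁻¹ * b⁻¹) ∈ V := fun x hx => by
      rw [mul_assoc, mul_assoc, ← mul_assoc x⁻¹, ← mul_inv_rev, ← QuotientGroup.eq]
      exact cm_prime (M := (P : Subgroup G).map (QuotientGroup.mk' V)) (e1.symm ▸ hp.out :) (a : G ⧸ V)
        (b : G ⧸ V) (mem_map.2 ⟨x, hx, rfl⟩)
    generalize a * b * a⁻¹ * b⁻¹ = c at *
    have e4 : c ^ p ∈ P := hC fun x hx => by
      have e5 := e3 x hx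
      have e8 : x * c = c * x * (x⁻¹ * c⁻¹ * x * c) := by group
      generalize x⁻¹ * c⁻¹ * x * c = v at e5 e8
      have e6 : ∀ j, x * c ^ j = c ^ j * x * v ^ j := fun j => by
        induction j with
        | zero => simp
        | succ j ih =>
          rw [pow_succ, ← mul_assoc, ih, mul_assoc, ← e2 _ (pow_mem e5 j), ← mul_assoc,
            mul_assoc _ x, e8, pow_succ' v]
          simp only [mul_assoc]
      have e7 : v ^ p = 1 := hs ▸ congrArg Subtype.val
        (pow_card_eq_one' (x := (⟨_, e5⟩ : V)))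
      rw [e6, e7, mul_one]
    change c ∈ (P : Subgroup G)
    rw [← QuotientGroup.eq_one_iff, ← orderOf_eq_one_iff]
    exact Nat.eq_one_of_dvd_coprimes (hp.out.coprime_iff_not_dvd.2 P.not_dvd_index)
      (orderOf_dvd_of_pow_eq_one ((QuotientGroup.eq_one_iff _).2 e4)) (orderOf_dvd_natCard _)
  have h3 := card_le_k (X := Img G (Ad (P : Subgroup G))) (U := ⊤) (A := ⊤) fun a _ b _ => by
    obtain ⟨a, rfl⟩ := toImg_surj _ _ a
    obtain ⟨b, rfl⟩ := toImg_surj _ _ b
    rw [← mul_inv_eq_iff_eq_mul, ← mul_inv_eq_one, ← map_mul, ← map_inv, ← map_inv, ← map_mul,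
      ← map_mul]
    exact eq_one_of_triv (V := Ad (P : Subgroup G)) fun y => Ad.ext (by
      rw [toImg_smul, Ad.val_smul, setLike_mul_comm (s := (P : Subgroup G)) (hc a b) y.val_mem,
        mul_inv_cancel_right])
  have h4 := card_le_nu (G := Img G (Ad (P : Subgroup G))) (V := Ad (P : Subgroup G))
  rw [index_top, mul_one, card_top] at h3
  rw [Ad.card, nu_img] at h4
  refine (Iv.fin (Or.inl (strong_of (c := 1) (X := 1) (by norm_num) h11 le_rfl le_rfl hP2.ge
    one_pos ?_ (by norm_num)))).trans (Nat.mul_le_mul_left _ (k_add_nu (P : Subgroup G)))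
  rw [one_mul, mul_one, mul_comm]
  exact h4.trans (Nat.mul_le_mul_left _ h3)

end H3.LB
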