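import Cfsg.Agent.H3.Alperin
import Cfsg.Agent.H1.Fitting
import Cfsg.Agent.S0199
import Cfsg.Agent.S0205
import Cfsg.Agent.S0215
import Cfsg.Agent.S4206

/-!
# Left-normed commutator values and nilpotency of a lower central term
-/

set_option autoImplicit false

namespace H3.LC
open Cfsg Subgroup H28

universe u

section basic
variable {G : Type*} [Group G]

/-- the left-normed commutator `[x, l₁, …, l_k]` -/
def cm (x : G) (l : List G) : G := l.foldl (fun a b => a * b * a⁻¹ * b⁻¹) x

theorem cm_nil (x : G) : cm x [] = x := rfl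

theorem cm_cons (x b : G) (l : List G) : cm x (b :: l) = cm (x * b * x⁻¹ * b⁻¹) l := rfl

theorem cm_snoc (x b : G) (l : List G) :
    cm x (l ++ [b]) = cm x l * b * (cm x l)⁻¹ * b⁻¹ := by
  simp [cm, List.foldl_append]

/-- values of the left-normed commutator word of length `k + 1` -/
def Val (k : ℕ) (x : G) : Prop := ∃ (a : G) (l : List G), l.length = k ∧ x = cm a l

theorem val_zero (x : G) : Val 0 x := ⟨x, [], rfl, rfl⟩

theorem val_succ_iff {k : ℕ} {x : G} :
    Val (k + 1) x ↔ ∃ a b : G, Val k a ∧ x = a * b * a⁻¹ * b⁻¹ := by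
  constructor
  · rintro ⟨a, l, hl, rfl⟩
    obtain ⟨l', b, rfl⟩ : ∃ l' b, l = l' ++ [b] := by
      rcases List.eq_nil_or_concat' l with h | h
      · subst h; simp at hl
      · exact h
    refine ⟨cm a l', b, ⟨a, l', ?_, rfl⟩, cm_snoc _ _ _⟩
    simpa using hl
  · rintro ⟨a, b, ⟨c, l, hl, rfl⟩, rfl⟩
    exact ⟨c, l ++ [b], by simp [hl], (cm_snoc _ _ _).symm⟩

theorem val_of_succ {k : ℕ} {x : G} (h : Val (k + 1) x) : Val k x := by
  obtain ⟨a, l, hl, rfl⟩ := h
  cases l with
  | nil => simp at hl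
  | cons b l => exact ⟨_, l, by simpa using hl, cm_cons _ _ _⟩

theorem val_inv {k : ℕ} {x : G} (h : Val k x) : Val k x⁻¹ := by
  induction k generalizing x with
  | zero => exact val_zero _
  | succ k ih =>
    obtain ⟨a, b, ha, rfl⟩ := val_succ_iff.1 h
    exact val_succ_iff.2 ⟨a⁻¹, a * b * a⁻¹, ih ha, by group⟩

theorem val_comm {k : ℕ} {x : G} (h : Val k x) (y : G) : Val k (x * y * x⁻¹ * y⁻¹) :=
  val_of_succ (val_succ_iff.2 ⟨x, y, h, rfl⟩)

theorem map_cm {H : Type*} [Group H] (f : G →* H) (x : G) (l : List G) :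
    f (cm x l) = cm (f x) (l.map f) := by
  induction l generalizing x with
  | nil => rfl
  | cons b l ih => rw [cm_cons, ih, List.map_cons, cm_cons]; simp

theorem val_map {H : Type*} [Group H] (f : G →* H) {k : ℕ} {x : G} (h : Val k x) :
    Val k (f x) := by
  obtain ⟨a, l, hl, rfl⟩ := h
  exact ⟨f a, l.map f, by simp [hl], map_cm f a l⟩

theorem val_conj {k : ℕ} {x : G} (h : Val k x) (g : G) : Val k (g * x * g⁻¹) :=
  val_map (MulAut.conj g).toMonoidHom h

theorem val_mem {k : ℕ} {x : G} (h : Val k x) : x ∈ (⊤ : Subgroup G).lowerCentralSeries k := by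
  induction k generalizing x with
  | zero => exact mem_top _
  | succ k ih =>
    obtain ⟨a, b, ha, rfl⟩ := val_succ_iff.1 h
    rw [Subgroup.lowerCentralSeries_succ]
    exact commutator_mem_commutator (ih ha) (mem_top b)

theorem val_iff {k : ℕ} {x : G} : Val k x ↔ ∃ f : Fin (k + 1) → G,
    x = ((List.ofFn f).tail).foldl (fun a b => a * b * a⁻¹ * b⁻¹) (f 0) := by
  constructor
  · rintro ⟨a, l, hl, rfl⟩
    subst hl
    refine ⟨Fin.cons a l.get, ?_⟩
    rw [List.ofFn_succ]
    simp [cm]
  · rintro ⟨f, rfl⟩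
    exact ⟨f 0, (List.ofFn f).tail, by simp, rfl⟩

theorem cm_induct {Q : G → Prop} {x : G} {l : List G} (hx : Q x)
    (h : ∀ a, Q a → ∀ b ∈ l, Q (a * b * a⁻¹ * b⁻¹)) : Q (cm x l) := by
  induction l generalizing x with
  | nil => exact hx
  | cons b l ih =>
    rw [cm_cons]
    exact ih (h x hx b (by simp)) (fun a ha c hc => h a ha c (by simp [hc]))

theorem cm_mem {D : Subgroup G} {x : G} {l : List G} (hx : x ∈ D) (hl : ∀ b ∈ l, b ∈ 𝐍 D) :
    cm x l ∈ D := by
  refine cm_induct (Q := fun a => a ∈ D) hx (fun a ha b hb => ?_)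
  have := conj_mem_of_mem_normalizer (hl b hb) (inv_mem ha)
  have h2 := mul_mem ha this
  simpa [mul_assoc] using h2

theorem mem_upper_of_cm {k : ℕ} {x : G} (h : ∀ l : List G, l.length = k → cm x l = 1) :
    x ∈ Subgroup.upperCentralSeries G k := by
  induction k generalizing x with
  | zero => simpa [cm_nil] using h [] rfl
  | succ k ih =>
    rw [Subgroup.mem_upperCentralSeries_succ_iff]
    intro y
    refine ih (fun l hl => ?_)
    have := h (y :: l) (by simp [hl])
    rwa [cm_cons] at this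

/-- the property extracted from the order condition -/
def KP (k : ℕ) (G : Type*) [Group G] : Prop :=
  ∀ x y : G, Val k x → (orderOf x).Coprime (orderOf (x * y * x⁻¹ * y⁻¹)) → x * y = y * x

theorem kp_of_cond [Finite G] {k : ℕ} (h : ∀ x y : G, Val k x → Val k y →
    (orderOf x).Coprime (orderOf y) →
      (∀ r : ℕ, r.Prime → r ∣ orderOf x * orderOf y → r ∣ orderOf (x * y)) ∨
        orderOf x * orderOf y ≤ orderOf (x * y)) : KP k G := by
  intro x y hx hc
  set c := x * y * x⁻¹ * y⁻¹ with hcdef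
  have h1 := h x⁻¹ c (val_inv hx) (val_comm hx y) (by rwa [orderOf_inv])
  have h2 : x⁻¹ * c = y * x⁻¹ * y⁻¹ := by rw [hcdef]; group
  have h3 : orderOf (x⁻¹ * c) = orderOf x := by
    rw [h2, ← orderOf_inv x]
    exact (MulAut.conj y).orderOf_eq x⁻¹
  rw [h3, orderOf_inv] at h1
  have hc1 : orderOf c = 1 := by
    rcases h1 with h1 | h1
    · by_contra hne
      obtain ⟨r, hr, hrc⟩ := Nat.exists_prime_and_dvd hne
      have := h1 r hr (Dvd.dvd.mul_left hrc _)
      exact hr.one_lt.ne' (Nat.eq_one_of_dvd_coprimes hc this hrc)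
    · have hx0 := orderOf_pos x
      have hc0 := orderOf_pos c
      nlinarith
  have : c = 1 := orderOf_eq_one_iff.1 hc1
  rw [hcdef] at this
  calc x * y = (x * y * x⁻¹ * y⁻¹) * (y * x) := by group
    _ = y * x := by rw [this, one_mul]

theorem kp_sub {k : ℕ} (h : KP k G) (W : Subgroup G) : KP k W := by
  intro x y hx hc
  have := h x y (val_map W.subtype hx) (by
    have h1 : orderOf (x : G) = orderOf x := Subgroup.orderOf_coe x
    have h2 : orderOf ((x : G) * y * (x : G)⁻¹ * (y : G)⁻¹) = orderOf (x * y * x⁻¹ * y⁻¹) :=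
      Subgroup.orderOf_coe (x * y * x⁻¹ * y⁻¹)
    rwa [h1, h2])
  exact Subtype.ext this

/-- a `p`-element value centralizes the `q`-subgroups it normalizes -/
theorem kp_cent {k : ℕ} (h : KP k G) {p q : ℕ} [hp : Fact p.Prime] [hq : Fact q.Prime]
    (hpq : p ≠ q) {x : G} (hx : Val k x) {n : ℕ} (hxp : orderOf x = p ^ n) {T : Subgroup G}
    (hT : IsPGroup q T) (hn : x ∈ 𝐍 T) : x ∈ 𝐂 T := by
  rw [mem_centralizer']
  intro y hy
  refine (h x y hx ?_).symm
  have : x * y * x⁻¹ * y⁻¹ ∈ T := mul_mem (conj_mem_of_mem_normalizer hn hy) (inv_mem hy)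
  obtain ⟨m, hm⟩ := exists_orderOf_eq_pow hT this
  rw [hxp, hm]
  exact Nat.Coprime.pow _ _ ((Nat.coprime_primes hp.out hq.out).2 hpq)

/-- lifting a commutator value inside a `p`-subgroup to a `p`-element value -/
theorem lift_val [Finite G] {H : Type*} [Group H] {f : G →* H} (hf : Function.Surjective f)
    {p : ℕ} [Fact p.Prime] {D : Subgroup H} (hD : IsPGroup p D) {u : H} (hu : u ∈ D)
    {l : List H} (hl : ∀ b ∈ l, b ∈ 𝐍 D) :
    ∃ x : G, Val l.length x ∧ (∃ n, orderOf x = p ^ n) ∧ f x = cm u l := by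
  obtain ⟨P, hP⟩ := exists_isSylowIn p (D.comap f)
  have hPD : P.map f = D := by
    have h1 := hP.map f
    rw [map_comap_eq_self_of_surjective hf] at h1
    exact (h1.max D hD h1.le le_rfl).symm
  have hlift : ∀ b ∈ l, ∃ b' ∈ 𝐍 P, f b' = b := by
    intro b hb
    obtain ⟨g, rfl⟩ := hf b
    have hg : g ∈ 𝐍 (D.comap f) := by
      rw [mem_normalizer_iff]
      intro y
      simp only [mem_comap, map_mul, map_inv]
      exact (mem_normalizer_iff.1 (hl _ hb)) (f y)
    obtain ⟨a, ha, n, hn, rfl⟩ := hP.frattini hg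
    have : f a ∈ P.map f := hPD ▸ ha
    obtain ⟨a', ha', haa⟩ := this
    exact ⟨a' * n, mul_mem (le_normalizer ha') hn, by simp [haa]⟩
  have hlist : ∃ l' : List G, (∀ b ∈ l', b ∈ 𝐍 P) ∧ l'.map f = l := by
    clear hl
    induction l with
    | nil => exact ⟨[], by simp, rfl⟩
    | cons b l ih =>
      obtain ⟨l', h1, h2⟩ := ih (fun c hc => hlift c (by simp [hc]))
      obtain ⟨b', hb', hbb⟩ := hlift b (by simp)
      refine ⟨b' :: l', ?_, by simp [h2, hbb]⟩
      intro c hc
      rcases List.mem_cons.1 hc with rfl | hc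
      · exact hb'
      · exact h1 c hc
  obtain ⟨l', h1, rfl⟩ := hlist
  have : u ∈ P.map f := hPD ▸ hu
  obtain ⟨u', hu', rfl⟩ := this
  exact ⟨cm u' l', ⟨u', l', by simp, rfl⟩, exists_orderOf_eq_pow hP.isPGroup (cm_mem hu' h1),
    map_cm f u' l'⟩

/-- if all `q`-elements, `q ≠ p`, are central, the group is nilpotent -/
theorem nilp_of_central [Finite G] (p : ℕ)
    (h : ∀ (q : ℕ) [Fact q.Prime], q ≠ p → ∀ (x : G) (n : ℕ), orderOf x = q ^ n → x ∈ center G) :
    Group.IsNilpotent G := by
  rw [H1.isNilpotent_iff_sylow_normal]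
  intro q hq Q
  have hsyl : ∀ (r : ℕ) [Fact r.Prime], r ≠ p → ∀ R : Sylow r G, (R : Subgroup G) ≤ center G := by
    intro r _ hr R x hx
    obtain ⟨n, hn⟩ := exists_orderOf_eq_pow R.isPGroup' hx
    exact h r hr x n hn
  rw [normal_iff_top_le, top_le_iff]
  refine H1.eq_top_of_forall_sylow_le (fun r _ => ?_)
  by_cases hr : r = q
  · subst hr
    exact ⟨Q, le_normalizer⟩
  · by_cases hrp : r = p
    · refine ⟨default, ?_⟩
      have hqp : q ≠ p := fun e => hr (hrp.trans e.symm)
      refine le_top.trans (le_normalizer_of_le_centralizer ?_)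
      rw [le_centralizer_comm, centralizer_top]
      exact hsyl q hqp Q
    · refine ⟨default, (hsyl r hrp _).trans (le_normalizer_of_le_centralizer ?_)⟩
      rw [← centralizer_top]
      exact centralizer_anti le_top

/-- a `q`-element of a normal nilpotent subgroup lies in `O_q` -/
theorem mem_pCore_of_nilp [Finite G] {N : Subgroup G} [N.Normal] (hN : Group.IsNilpotent N)
    {q : ℕ} [Fact q.Prime] {x : G} (hx : x ∈ N) {n : ℕ} (hn : orderOf x = q ^ n) :
    x ∈ pCore q G := by
  have h1 : (zpowers x).IsSubnormal :=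
    H1.isSubnormal_of_le_of_isNilpotent (zpowers_le.2 hx) hN (Subgroup.Normal.isSubnormal ‹_›)
  exact le_pCore_of_subnormal h1 (isPGroup_zpowers_of_orderOf hn) (mem_zpowers x)

theorem mem_pCore_of_nilp' [Finite G] (hN : Group.IsNilpotent G)
    {q : ℕ} [Fact q.Prime] {x : G} {n : ℕ} (hn : orderOf x = q ^ n) : x ∈ pCore q G :=
  mem_pCore_of_nilp (N := ⊤) (Group.isNilpotent_top.2 hN) (mem_top x) hn

theorem orderOf_map_pow {H : Type*} [Group H] (f : G →* H) {q : ℕ} [hq : Fact q.Prime] {x : G}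
    {n : ℕ} (hn : orderOf x = q ^ n) : ∃ m, orderOf (f x) = q ^ m := by
  have := orderOf_map_dvd f x
  rw [hn] at this
  obtain ⟨m, -, hm⟩ := (Nat.dvd_prime_pow hq.out).1 this
  exact ⟨m, hm⟩

theorem eq_one_of_two_primes {p q : ℕ} [hp : Fact p.Prime] [hq : Fact q.Prime] (hpq : p ≠ q)
    {x : G} {P : Subgroup G} (hP : IsPGroup p P) (hx : x ∈ P) {m : ℕ} (hm : orderOf x = q ^ m) :
    x = 1 := by
  refine eq_one_of_coprime_of_mem hP hx ?_
  rw [hm]
  exact Nat.Coprime.pow_left _ ((Nat.coprime_primes hq.out hp.out).2 hpq.symm)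

/-- a solvable group whose Fitting subgroup lies in `Z_k` has class at most `k` -/
theorem lcs_bot_of_fitting [Finite G] (hs : Group.IsSolvable G) {k : ℕ}
    (h : fittingSubgroup G ≤ Subgroup.upperCentralSeries G k) :
    (⊤ : Subgroup G).lowerCentralSeries k = ⊥ := by
  have hstep : ∀ i, ⁅Subgroup.upperCentralSeries G (k - i), (⊤ : Subgroup G)⁆ ≤
      Subgroup.upperCentralSeries G (k - (i + 1)) := by
    intro i
    rcases Nat.lt_or_ge i k with hi | hi
    · have : k - i = (k - (i + 1)) + 1 := by omega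
      rw [this]
      exact Subgroup.commutator_upperCentralSeries_top_le G _
    · have : k - i = 0 := by omega
      rw [this, Subgroup.upperCentralSeries_zero, Subgroup.commutator_bot_left]
      exact bot_le
  have h1 := Cfsg.Agent.S4206.result (fun i => Subgroup.upperCentralSeries G (k - i))
    (fun i => inferInstance) (fun i => Subgroup.upperCentralSeries_mono G (by omega)) ⊤ hstep 0 k
  have e : k - (0 + k + 1) = 0 := by omega
  simp only [e, Subgroup.upperCentralSeries_zero, Nat.sub_zero, le_bot_iff] at h1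
  have h2 : (⊤ : Subgroup G).lowerCentralSeries k ≤ Subgroup.upperCentralSeries G k := by
    refine le_trans ?_ ((H1.centralizer_fitting_le hs).trans h)
    refine le_trans ?_ (centralizer_anti h)
    rw [le_centralizer_comm]
    exact Subgroup.commutator_eq_bot_iff_le_centralizer.1 h1
  have h3 : ∀ j, (⊤ : Subgroup G).lowerCentralSeries (k + j) ≤
      Subgroup.upperCentralSeries G (k - j) := by
    intro j
    induction j with
    | zero => simpa using h2
    | succ j ih =>
      rw [← add_assoc, Subgroup.lowerCentralSeries_succ]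
      exact (commutator_mono ih le_rfl).trans (hstep j)
  have h4 : Group.IsNilpotent G := by
    rw [Subgroup.nilpotent_iff_lowerCentralSeries]
    refine ⟨k + k, ?_⟩
    have := h3 k
    rwa [Nat.sub_self, Subgroup.upperCentralSeries_zero, le_bot_iff] at this
  rw [Subgroup.lowerCentralSeries_eq_bot_iff_upperCentralSeries_eq_top, eq_top_iff]
  rw [← H1.fitting_eq_top_iff.2 h4]
  exact h

theorem solv_case [Finite G] (hs : Group.IsSolvable G) {k : ℕ} (h : KP k G) :
    Group.IsNilpotent ↥((⊤ : Subgroup G).lowerCentralSeries k) := by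
  set F := fittingSubgroup G with hF
  let f := QuotientGroup.mk' F
  have hf : Function.Surjective f := QuotientGroup.mk'_surjective F
  have hs' : Group.IsSolvable (G ⧸ F) := inferInstance
  have h1 : fittingSubgroup (G ⧸ F) ≤ Subgroup.upperCentralSeries (G ⧸ F) k := by
    rw [H1.fitting_le_iff]
    intro p _ u hu
    refine mem_upper_of_cm (fun l hl => ?_)
    obtain ⟨x, hx, ⟨n, hn⟩, hfx⟩ := lift_val hf (isPGroup_pCore p _) hu (l := l)
      (fun b _ => mem_normalizer_of_normal _ b)
    rw [hl] at hx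
    have hxU : f x ∈ pCore p (G ⧸ F) := by
      rw [hfx]
      exact cm_mem hu (fun b _ => mem_normalizer_of_normal _ b)
    let C : Subgroup G := (pCore p (G ⧸ F)).comap f ⊓
      ⨅ q : {q : Nat.Primes // (q : ℕ) ≠ p}, 𝐂 (pCore (q.1 : ℕ) G)
    have hC : C.Normal := by
      refine Subgroup.normal_inf_normal _ _ (hH := Subgroup.Normal.comap inferInstance f)
        (hK := Subgroup.normal_iInf_normal (fun q => inferInstance))
    have hCn : Group.IsNilpotent C := by
      refine nilp_of_central p (fun q hq hqp y m hm => ?_)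
      have hm' : orderOf (y : G) = q ^ m := by rw [Subgroup.orderOf_coe, hm]
      obtain ⟨m', hm''⟩ := orderOf_map_pow f hm'
      have hy1 : f y = 1 := eq_one_of_two_primes hqp.symm (isPGroup_pCore p _) y.2.1 hm''
      have hyF : (y : G) ∈ F := (QuotientGroup.eq_one_iff _).1 hy1
      have hyq : (y : G) ∈ pCore q G := mem_pCore_of_nilp H1.fitting_isNilpotent hyF hm'
      rw [Subgroup.mem_center_iff]
      intro c
      have := (Subgroup.mem_iInf.1 c.2.2) ⟨⟨q, hq.out⟩, hqp⟩
      exact Subtype.ext (mem_centralizer'.1 this y hyq).symm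
    have hxC : x ∈ C := by
      refine ⟨hxU, Subgroup.mem_iInf.2 (fun q => ?_)⟩
      haveI : Fact (q.1 : ℕ).Prime := ⟨q.1.2⟩
      exact kp_cent h q.2.symm hx hn (isPGroup_pCore _ _) (mem_normalizer_of_normal _ x)
    rw [← hfx]
    exact (QuotientGroup.eq_one_iff _).2 (H1.le_fitting hC hCn hxC)
  have h2 := lcs_bot_of_fitting hs' h1
  have h3 : (⊤ : Subgroup G).lowerCentralSeries k ≤ F := by
    have h4 := Subgroup.map_lowerCentralSeries (⊤ : Subgroup G) f k
    rw [map_top_of_surjective f hf, h2, Subgroup.map_eq_bot_iff, QuotientGroup.ker_mk'] at h4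
    exact h4
  haveI := H1.fitting_isNilpotent (G := G)
  exact Group.nilpotent_of_surjective
    (Subgroup.subgroupOfEquivOfLe h3).toMonoidHom (Subgroup.subgroupOfEquivOfLe h3).surjective

theorem eq_top_of_two {W : Subgroup G} {x y : G} (hW : W = closure {x, y}) (hx : x ∈ W)
    (hy : y ∈ W) {K : Subgroup W} (h1 : (⟨x, hx⟩ : W) ∈ K) (h2 : (⟨y, hy⟩ : W) ∈ K) : K = ⊤ := by
  have : W ≤ K.map W.subtype := by
    conv_lhs => rw [hW]
    rw [closure_le]
    rintro a (rfl | rfl)
    · exact ⟨_, h1, rfl⟩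
    · exact ⟨_, h2, rfl⟩
  rw [eq_top_iff]
  intro w _
  obtain ⟨w', hw', e⟩ := this w.2
  rwa [← Subtype.ext e]

theorem two_gen [Finite G] {k : ℕ} (h : KP k G) {p : ℕ} [Fact p.Prime] {x y : G} (hx : Val k x)
    (hy : Val k y) {n m : ℕ} (hn : orderOf x = p ^ n) (hm : orderOf y = p ^ m) {W : Subgroup G}
    (hW : W = closure {x, y}) (hN : Group.IsNilpotent ↥((⊤ : Subgroup W).lowerCentralSeries k)) :
    IsPGroup p W := by
  have hxW : x ∈ W := hW ▸ subset_closure (by simp)
  have hyW : y ∈ W := hW ▸ subset_closure (by simp)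
  have hn' : orderOf (⟨x, hxW⟩ : W) = p ^ n := by rw [← Subgroup.orderOf_coe, hn]
  have hm' : orderOf (⟨y, hyW⟩ : W) = p ^ m := by rw [← Subgroup.orderOf_coe, hm]
  set N := (⊤ : Subgroup W).lowerCentralSeries k with hNdef
  let f := QuotientGroup.mk' N
  have hf : Function.Surjective f := QuotientGroup.mk'_surjective N
  have hq : Group.IsNilpotent (W ⧸ N) := by
    rw [Subgroup.nilpotent_iff_lowerCentralSeries]
    refine ⟨k, ?_⟩
    have h4 := Subgroup.map_lowerCentralSeries (⊤ : Subgroup W) f k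
    rw [map_top_of_surjective f hf] at h4
    rw [← h4, Subgroup.map_eq_bot_iff, QuotientGroup.ker_mk']
  have h1 : (pCore p (W ⧸ N)).comap f = ⊤ := by
    refine eq_top_of_two hW hxW hyW ?_ ?_
    · obtain ⟨_, e⟩ := orderOf_map_pow f hn'
      exact mem_pCore_of_nilp' hq e
    · obtain ⟨_, e⟩ := orderOf_map_pow f hm'
      exact mem_pCore_of_nilp' hq e
  have h2 : Group.IsNilpotent W := by
    refine nilp_of_central p (fun q _ hqp z j hj => ?_)
    obtain ⟨j', hj'⟩ := orderOf_map_pow f hj
    have hz0 : z ∈ (pCore p (W ⧸ N)).comap f := by rw [h1]; exact mem_top z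
    have hz1 : f z = 1 := eq_one_of_two_primes hqp.symm (isPGroup_pCore p _) hz0 hj'
    have hzN : z ∈ N := (QuotientGroup.eq_one_iff _).1 hz1
    have hzq : z ∈ pCore q W := mem_pCore_of_nilp hN hzN hj
    have hzq' : (z : G) ∈ pCoreOf q W := ⟨z, hzq, rfl⟩
    have hcx := kp_cent h hqp.symm hx hn (isPGroup_pCoreOf q W) (le_normalizer_pCoreOf q W hxW)
    have hcy := kp_cent h hqp.symm hy hm (isPGroup_pCoreOf q W) (le_normalizer_pCoreOf q W hyW)
    have h3 : centralizer {z} = (⊤ : Subgroup W) := by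
      refine eq_top_of_two hW hxW hyW ?_ ?_
      · rw [mem_centralizer_singleton_iff]
        exact Subtype.ext (mem_centralizer'.1 hcx z hzq').symm
      · rw [mem_centralizer_singleton_iff]
        exact Subtype.ext (mem_centralizer'.1 hcy z hzq').symm
    rw [Subgroup.mem_center_iff]
    intro c
    have : c ∈ centralizer {z} := h3 ▸ mem_top c
    exact mem_centralizer_singleton_iff.1 this
  have h3 : pCore p W = ⊤ :=
    eq_top_of_two hW hxW hyW (mem_pCore_of_nilp' h2 hn') (mem_pCore_of_nilp' h2 hm')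
  have := isPGroup_pCore p W
  rwa [h3, isPGroup_top_iff] at this

theorem solvable_of_zpowers_top {a : G} (h : zpowers a = ⊤) : Group.IsSolvable G := by
  refine H1.isSolvable_of_isMulCommutative ⟨⟨fun x y => ?_⟩⟩
  obtain ⟨i, rfl⟩ : x ∈ zpowers a := h ▸ mem_top x
  obtain ⟨j, rfl⟩ : y ∈ zpowers a := h ▸ mem_top y
  exact (zpow_mul_comm a i j)

theorem solvable_of_two_inv [IsSimpleGroup G] {a b : G} (ha : a * a = 1) (hb : b * b = 1)
    (h : closure {a, b} = ⊤) : Group.IsSolvable G := by
  have ha' : a⁻¹ = a := inv_eq_of_mul_eq_one_right ha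
  have hb' : b⁻¹ = b := inv_eq_of_mul_eq_one_right hb
  have hN : (zpowers (a * b)).Normal := by
    rw [normal_iff_top_le, ← h, closure_le]
    have key : ∀ g : G, g * (a * b) * g⁻¹ = (a * b)⁻¹ → g ∈ 𝐍 (zpowers (a * b)) := by
      intro g hg
      rw [mem_normalizer_iff_cj, cj_zpowers, hg, zpowers_inv]
    rintro g (rfl | rfl)
    · apply key
      rw [mul_inv_rev, ha', hb']
      calc g * (g * b) * g = (g * g) * (b * g) := by group
        _ = b * g := by rw [ha, one_mul]
    · apply key
      rw [mul_inv_rev, ha', hb']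
      calc g * (a * g) * g = (g * a) * (g * g) := by group
        _ = g * a := by rw [hb, mul_one]
  rcases hN.eq_bot_or_eq_top with h1 | h1
  · have h2 : a * b = 1 := zpowers_eq_bot.1 h1
    refine solvable_of_zpowers_top (a := a) ?_
    rw [eq_top_iff, ← h, closure_le]
    rintro g (rfl | rfl)
    · exact mem_zpowers _
    · have : g = a⁻¹ := eq_inv_of_mul_eq_one_right h2
      rw [this]
      exact inv_mem (mem_zpowers a)
  · exact solvable_of_zpowers_top h1

theorem comm_comm_ne {v b : G} (hc : (orderOf b).Coprime (orderOf (v * b * v⁻¹ * b⁻¹)))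
    (h : (v * b * v⁻¹ * b⁻¹) * b * (v * b * v⁻¹ * b⁻¹)⁻¹ * b⁻¹ = 1) : v * b * v⁻¹ * b⁻¹ = 1 := by
  set w := v * b * v⁻¹ * b⁻¹ with hw
  have hwb : Commute w b := by
    change w * b = b * w
    calc w * b = (w * b * w⁻¹ * b⁻¹) * (b * w) := by group
      _ = b * w := by rw [h, one_mul]
  have h1 : v * b * v⁻¹ = w * b := by rw [hw]; group
  have h2 : (w * b) ^ orderOf b = 1 := by
    rw [← h1, conj_pow, pow_orderOf_eq_one, mul_one, mul_inv_cancel]
  rw [hwb.mul_pow, pow_orderOf_eq_one, mul_one] at h2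
  have h3 := orderOf_dvd_of_pow_eq_one h2
  exact orderOf_eq_one_iff.1 (Nat.eq_one_of_dvd_coprimes hc h3 dvd_rfl)

theorem cm_replicate_ne {p : ℕ} [Fact p.Prime] {T : Subgroup G} (hT : IsPGroup p T) {b : G}
    (hb : b ∈ 𝐍 T) (hbp : (orderOf b).Coprime p) (k : ℕ) {v : G} (hv : v ∈ T)
    (h : v * b * v⁻¹ * b⁻¹ ≠ 1) : cm v (List.replicate k b) ≠ 1 := by
  induction k generalizing v with
  | zero =>
    rintro (rfl : v = 1)
    simp at h
  | succ k ih =>
    rw [List.replicate_succ, cm_cons]
    have hw : v * b * v⁻¹ * b⁻¹ ∈ T := by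
      have := mul_mem hv (conj_mem_of_mem_normalizer hb (inv_mem hv))
      simpa [mul_assoc] using this
    refine ih hw (fun e => h (comm_comm_ne ?_ e))
    obtain ⟨n, hn⟩ := exists_orderOf_eq_pow hT hw
    rw [hn]
    exact Nat.Coprime.pow_right _ hbp

/-- an element of `Z(P)` fixed by all `p'`-elements normalizing a `p`-subgroup containing it is
weakly closed in `P` -/
theorem isolated [Finite G] {p : ℕ} [Fact p.Prime] (P : Sylow p G) {z : G} (hz : z ∈ P)
    (hc : (P : Subgroup G) ≤ centralizer {z})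
    (h : ∀ T : Subgroup G, T ≤ P → z ∈ T → ∀ b ∈ 𝐍 T, (orderOf b).Coprime p → b * z = z * b)
    {g : G} (hg : g * z * g⁻¹ ∈ P) : g * z * g⁻¹ = z := by
  have hch := alperin_tame P (R := zpowers z) (g := g) (zpowers_le.2 hz) (cj_zpowers_le hg)
  have key : ∀ (R : Subgroup G) (g : G), Chain (TameStep P) R g → z ∈ R → g * z * g⁻¹ = z := by
    intro R g hch
    induction hch with
    | nil => simp
    | @cons R T x g a b _ ih =>
      intro hzR
      have hT := a.le
      obtain ⟨Q, -, h2, -, h4, -⟩ := a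
      have hN : 𝐍 T ≤ centralizer {z} := by
        rw [← h2.pResidualOf_sup, sup_le_iff, pResidualOf_le_iff]
        refine ⟨fun y hy hyp => ?_, inf_le_left.trans hc⟩
        rw [mem_centralizer_singleton_iff]
        exact h T hT (b hzR) y hy hyp
      have hx : x * z * x⁻¹ = z := by
        rw [mem_centralizer_singleton_iff.1 (hN h4)]; group
      have := ih (hx ▸ conj_mem_cj hzR)
      calc g * x * z * (g * x)⁻¹ = g * (x * z * x⁻¹) * g⁻¹ := by group
        _ = z := by rw [hx, this]
  exact key _ _ hch (mem_zpowers z)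

theorem exists_inv_val [Finite G] [IsSimpleGroup G] (hs : ¬ Group.IsSolvable G) (k : ℕ) :
    ∃ (T : Subgroup G) (z b : G), IsPGroup 2 T ∧ z ∈ T ∧ b ∈ 𝐍 T ∧
      cm z (List.replicate k b) ≠ 1 ∧
      cm z (List.replicate k b) * cm z (List.replicate k b) = 1 := by
  have heven : 2 ∣ Nat.card G := by
    by_contra h
    exact hs (Cfsg.Agent.S0205.result (Nat.odd_iff.2 (by omega)))
  obtain ⟨P⟩ : Nonempty (Sylow 2 G) := inferInstance
  have hP : (P : Subgroup G) ≠ ⊥ := (isSylowIn_top P).ne_bot (by rwa [card_top])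
  obtain ⟨z, hz, hz2⟩ := exists_orderOf_eq_of_isPGroup
    ((P.isPGroup').to_le (inf_le_left (b := 𝐂 (P : Subgroup G)))) (center_ne_bot P.isPGroup' hP)
  have hc : (P : Subgroup G) ≤ centralizer {z} := fun y hy =>
    mem_centralizer_singleton_iff.2 (mem_centralizer'.1 hz.2 y hy)
  by_cases h : ∀ T : Subgroup G, T ≤ P → z ∈ T → ∀ b ∈ 𝐍 T, (orderOf b).Coprime 2 → b * z = z * b
  · exfalso
    obtain ⟨N, hN, hodd, hcomm⟩ := Cfsg.Agent.S0215.result P z hz2 hz.1
      (fun g hg => isolated P hz.1 hc h hg)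
    rcases hN.eq_bot_or_eq_top with h1 | h1
    · have hzc : z ∈ center G := by
        rw [Subgroup.mem_center_iff]
        intro g
        have := hcomm g
        rw [h1, mem_bot] at this
        calc g * z = (z * g * z⁻¹ * g⁻¹) * (g * z) := by rw [this, one_mul]
          _ = z * g := by group
      rcases (inferInstance : (center G).Normal).eq_bot_or_eq_top with h2 | h2
      · rw [h2, mem_bot] at hzc
        rw [hzc, orderOf_one] at hz2
        omega
      · refine hs (H1.isSolvable_of_isMulCommutative ⟨⟨fun x y => ?_⟩⟩)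
        have : y ∈ center G := h2 ▸ mem_top y
        exact Subgroup.mem_center_iff.1 this x
    · rw [h1, card_top] at hodd
      exact (Nat.not_even_iff_odd.2 hodd) (even_iff_two_dvd.2 heven)
  · push Not at h
    obtain ⟨T, hT, hzT, b, hb, hb2, hne⟩ := h
    have hTp : IsPGroup 2 T := P.isPGroup'.to_le hT
    refine ⟨T, z, b, hTp, hzT, hb, cm_replicate_ne hTp hb hb2 k hzT (fun e => hne ?_), ?_⟩
    · calc b * z = (z * b * z⁻¹ * b⁻¹) * (b * z) := by rw [e, one_mul]
        _ = z * b := by group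
    · have := cm_induct (Q := fun a => a ∈ T ∧ a ∈ 𝐂 T ∧ a * a = 1) (x := z)
        (l := List.replicate k b) ⟨hzT, ?_, ?_⟩ ?_
      · exact this.2.2
      · exact centralizer_anti hT hz.2
      · rw [← pow_two, ← hz2, pow_orderOf_eq_one]
      · rintro a ⟨h1, h2, h3⟩ c hc
        obtain rfl : c = b := List.eq_of_mem_replicate hc
        have e : a * c * a⁻¹ * c⁻¹ = a * (c * a⁻¹ * c⁻¹) := by group
        have h4 : c * a⁻¹ * c⁻¹ ∈ T := conj_mem_of_mem_normalizer hb (inv_mem h1)
        have h5 : c * a⁻¹ * c⁻¹ ∈ 𝐂 T :=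
          conj_mem_of_mem_normalizer (normalizer_le_normalizer_centralizer T hb) (inv_mem h2)
        rw [e]
        refine ⟨mul_mem h1 h4, mul_mem h2 h5, ?_⟩
        have h6 := mem_centralizer'.1 h2 _ h4
        calc a * (c * a⁻¹ * c⁻¹) * (a * (c * a⁻¹ * c⁻¹))
            = a * ((c * a⁻¹ * c⁻¹) * a) * (c * a⁻¹ * c⁻¹) := by group
          _ = (a * a) * (c * (a * a)⁻¹ * c⁻¹) := by rw [h6]; group
          _ = 1 := by rw [h3]; group

end basic

theorem main (k : ℕ) : ∀ (n : ℕ) (G : Type u) [Group G] [Finite G], Nat.card G = n → KP k G →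
    Group.IsNilpotent ↥((⊤ : Subgroup G).lowerCentralSeries k) := by
  intro n
  induction n using Nat.strong_induction_on with
  | _ n ih =>
  intro G _ _ hn h
  by_cases hs : Group.IsSolvable G
  · exact solv_case hs h
  exfalso
  have hprop : ∀ W : Subgroup G, W ≠ ⊤ →
      Group.IsNilpotent ↥((⊤ : Subgroup W).lowerCentralSeries k) := by
    intro W hW
    refine ih _ ?_ W rfl (kp_sub h W)
    rw [← hn, ← card_top (G := G)]
    exact card_lt_of_lt (lt_top_iff_ne_top.2 hW)
  have hsolv : ∀ W : Subgroup G, W ≠ ⊤ → Group.IsSolvable W := by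
    intro W hW
    haveI := hprop W hW
    set N := (⊤ : Subgroup W).lowerCentralSeries k
    haveI hq : Group.IsNilpotent (W ⧸ N) := by
      rw [Subgroup.nilpotent_iff_lowerCentralSeries]
      refine ⟨k, ?_⟩
      have h4 := Subgroup.map_lowerCentralSeries (⊤ : Subgroup W) (QuotientGroup.mk' N) k
      rw [map_top_of_surjective _ (QuotientGroup.mk'_surjective N)] at h4
      rw [← h4, Subgroup.map_eq_bot_iff, QuotientGroup.ker_mk']
    exact Group.isSolvable_of_ker_le_range N.subtype (QuotientGroup.mk' N) (by simp)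
  have hnt : (⊥ : Subgroup G) ≠ ⊤ := by
    intro e
    haveI : Subsingleton G := Subgroup.subsingleton_iff.1 (subsingleton_of_bot_eq_top e)
    exact hs inferInstance
  obtain ⟨M, ⟨hMn, hMt⟩, hmax⟩ := Set.Finite.exists_maximal
    (Set.toFinite {M : Subgroup G | M.Normal ∧ M ≠ ⊤}) ⟨⊥, inferInstance, hnt⟩
  let f := QuotientGroup.mk' M
  have hf : Function.Surjective f := QuotientGroup.mk'_surjective M
  haveI : Nontrivial (G ⧸ M) := QuotientGroup.nontrivial_iff.2 hMt
  haveI hsimple : IsSimpleGroup (G ⧸ M) := by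
    refine ⟨fun K hK => ?_⟩
    by_cases hKt : K.comap f = ⊤
    · right
      rw [← map_comap_eq_self_of_surjective hf K, hKt, map_top_of_surjective f hf]
    · left
      have h1 : M ≤ K.comap f := by
        conv_lhs => rw [← QuotientGroup.ker_mk' M]
        exact ker_le_comap f K
      have h2 := hmax ⟨hK.comap f, hKt⟩ h1
      rw [← map_comap_eq_self_of_surjective hf K, Subgroup.map_eq_bot_iff, QuotientGroup.ker_mk']
      exact h2
  have hs' : ¬ Group.IsSolvable (G ⧸ M) := by
    intro h1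
    haveI := hsolv M hMt
    exact hs (Group.isSolvable_of_ker_le_range M.subtype f (by simp [f]))
  obtain ⟨T, z, b, hT, hz, hb, hne, hsq⟩ := exists_inv_val hs' k
  obtain ⟨x, hx, ⟨m, hm⟩, hfx⟩ := lift_val hf hT hz (l := List.replicate k b)
    (fun c hc => (List.eq_of_mem_replicate hc) ▸ hb)
  rw [List.length_replicate] at hx
  rw [← hfx] at hne hsq
  obtain ⟨N, hN, hN2, hxN⟩ := Cfsg.Agent.S0199.result (p := 2) (zpowers x)
    (isPGroup_zpowers_of_orderOf hm) (fun g => by
      have e : zpowers x ⊔ cj g (zpowers x) = closure {x, g * x * g⁻¹} := by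
        rw [cj_zpowers, zpowers_eq_closure, zpowers_eq_closure, ← Subgroup.closure_union]
        rfl
      have hm' : orderOf (g * x * g⁻¹) = 2 ^ m := by
        rw [← hm]; exact (MulAut.conj g).orderOf_eq x
      refine two_gen h hx (val_conj hx g) hm hm' e (hprop _ (fun htop => hs' ?_))
      refine solvable_of_two_inv (a := f x) (b := f (g * x * g⁻¹)) hsq ?_ ?_
      · calc f (g * x * g⁻¹) * f (g * x * g⁻¹) = f g * (f x * f x) * (f g)⁻¹ := by
              simp only [map_mul, map_inv]; group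
          _ = 1 := by rw [hsq]; group
      · rw [← map_top_of_surjective f hf, ← htop, e, MonoidHom.map_closure, Set.image_pair])
  rcases (hN.map f hf).eq_bot_or_eq_top with h1 | h1
  · have : f x ∈ N.map f := mem_map_of_mem f (hxN (mem_zpowers x))
    rw [h1, mem_bot] at this
    exact hne this
  · have h2 := hN2.map f
    rw [h1, isPGroup_top_iff] at h2
    haveI := h2.isNilpotent
    exact hs' inferInstance

end H3.LC
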