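import Cfsg.Agent.H15.MX0

/-! Groups of Monster type: the group `Q z ⊓ Q s` and the even cocode. -/

set_option autoImplicit false
set_option linter.unusedSectionVars false

namespace H3.MX
open Cfsg H15 H19 H0 H0.Mo H0.Y H15.ML H15.MX Subgroup
open scoped commutatorElement Pointwise symmDiff

/-- `v = 4 a` with `a` odd exactly on `T` -/
def F (v : Lam) (T : Finset GolayPt) : Prop := ∀ i, cf v i % 8 = if i ∈ T then 4 else 0

section
variable {v w : Lam} {T T' c : Finset GolayPt}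
@[simp] theorem sd0 (T : Finset GolayPt) : T ∆ ∅ = T := symmDiff_bot T
theorem F.add (a : F v T) (b : F w T') : F (v + w) (T ∆ T') := fun i => by
  have := a i; have := b i
  change (cf v i + cf w i) % 8 = _
  by_cases h : i ∈ T <;> by_cases h' : i ∈ T' <;> simp_all [Finset.mem_symmDiff] <;> omega
theorem F.sum (a : F v T) : (∑ i, cf v i) % 8 = 0 := by
  obtain ⟨m, c, k⟩ := mem_leech.1 v.2
  have a1 : cf v none % 4 = _ := k.res none
  have a2 := a none
  have a3 : (∑ i, cf v i) % 8 = _ := k.sum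
  have := k.par
  split_ifs at a1 a2 <;> omega
theorem F.even (a : F v T) : T.card % 2 = 0 := by
  have := a.sum
  rw [Finset.sum_int_mod, Finset.sum_congr rfl fun i _ => a i, sum_ind] at this
  omega
theorem F.cg (a : F v ∅) (p : GolayPt) : Cg v 0 ∨ Cg v (e8 p 1) := by
  have e : ∀ i, cf v i = 2 * (cf v i / 2) ∧ cf v i / 2 % 4 = 0 := fun i => by have := a i; simp at this; omega
  have s := a.sum
  rw [Finset.sum_congr rfl fun i _ => (e i).1, ← Finset.mul_sum] at s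
  by_cases h : (∑ i, cf v i / 2) % 8 = 0
  · exact .inl ⟨⟨_, mem_leech_of_four (fun i => (e i).2) h⟩, Subtype.ext (funext fun i => by
      have := (e i).1; change cf v i - 0 = 2 • (cf v i / 2); simp only [nsmul_eq_mul, Nat.cast_ofNat]; omega)⟩
  refine .inr ⟨⟨(fun i => cf v i / 2) - Pi.single p 4, mem_leech_of_four (fun i => ?_) ?_⟩, Subtype.ext (funext fun i => ?_)⟩
  · have := (e i).2; simp only [Pi.sub_apply, Pi.single_apply]; split_ifs <;> omega
  · simp only [Pi.sub_apply, Finset.sum_sub_distrib, Finset.sum_pi_single', Finset.mem_univ, if_true]; omega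
  · have := (e i).1
    change cf v i - (Pi.single p (8 * 1) : GolayPt → ℤ) i = 2 • (cf v i / 2 - (Pi.single p 4 : GolayPt → ℤ) i)
    simp only [Pi.single_apply, nsmul_eq_mul, Nat.cast_ofNat]; split_ifs <;> omega
theorem exF (h : T.card % 2 = 0) (s : Finset GolayPt) : ∃ v : Lam, cf v = 2 • oc T s ∧ F v T :=
  have k : ∀ i, (2 • oc T s) i % 8 = if i ∈ T then 4 else 0 := fun i => by
    simp only [Pi.smul_apply, oc]; split_ifs <;> rfl
  ⟨⟨_, mem_leech_of_four (fun i => by have := k i; split_ifs at this <;> omega) (by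
    rw [Finset.sum_int_mod, Finset.sum_congr rfl fun i _ => k i, sum_ind]; omega)⟩, rfl, k⟩
theorem F.shift (a : F v T) (h : c ∈ cw) : ∃ w, Cg v w ∧ F w (T ∆ c) := by
  have := cw_card_mod h
  obtain ⟨u, e, k⟩ := exF (T := c) (by omega) ∅
  refine ⟨_, ⟨-⟨oc c ∅, LC.mem ⟨.inl rfl, h, fun i => by simp only [oc]; split_ifs <;> simp_all,
    by simp only [oc, Finset.notMem_empty, if_false, sum_ind]; omega⟩⟩, Subtype.ext ?_⟩, a.add k⟩
  change cf v - (cf v + cf u) = 2 • -oc c ∅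
  rw [e]; abel
theorem F.short (a : F v T) (h : T.Nonempty) : ∃ w, Cg v w ∧ sqNorm (cf w) = 16 * T.card := by
  obtain ⟨p, hp⟩ := h
  obtain ⟨u, e, k⟩ := exF a.even ∅
  obtain ⟨u', e', -⟩ := exF a.even {p}
  have n : ∀ s, sqNorm (2 • oc T s) = 16 * T.card := fun s => by rw [sqNorm_two_nsmul, norm_oc]; ring
  rcases F.cg (by simpa using a.add k) p with h | h
  · exact ⟨u, Cg.add_zero.1 h, e ▸ n _⟩
  refine ⟨u', Cg.add_zero.1 ?_, e' ▸ n _⟩
  rw [show v + u' = v + u - e8 p 1 from Subtype.ext (funext fun i => ?_)]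
  · exact Cg.sub_zero.2 h
  change cf v i + cf u' i = cf v i + cf u i - (Pi.single p (8 * 1) : GolayPt → ℤ) i
  rw [e, e']
  by_cases d : i = p <;> simp [oc, d, hp]; ring
theorem F.prm (a : F v T) {σ : Equiv.Perm GolayPt} (h : σ ∈ M24) : F (prm h • v) (σ • T) := fun i => by
  rw [cf_prm', a]; simp [← Finset.inv_smul_mem_iff]
theorem of_dot (h : ∀ i j, i ≠ j → 16 ∣ dotInt (cf (dd i j)) (cf v)) : ∃ w T, Cg v w ∧ F w T := by
  have d : ∀ i j, i ≠ j → (cf v i + cf v j) % 4 = 0 := fun i j n => by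
    have := h i j n
    change 16 ∣ dotInt (Pi.single i 4 + Pi.single j 4) _ at this
    rw [dotInt_add_left, dotInt_single_left, dotInt_single_left] at this; omega
  have d' : ∀ i, cf v i % 4 = cf v (pt 0) % 4 ∧ cf v i % 2 = 0 := fun i => by
    have := d (pt 0) (pt 1) (by decide); have := d (pt 0) (pt 2) (by decide); have := d (pt 1) (pt 2) (by decide)
    by_cases e : i = pt 0
    · subst e; omega
    · have := d i _ e; omega
  have k : ∀ w : Lam, (∀ i, cf w i % 4 = 0) → ∃ T, F w T := fun w k => ⟨Finset.univ.filter fun i => cf w i % 8 = 4, fun i => by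
    have := k i; simp only [Finset.mem_filter, Finset.mem_univ, true_and]; split_ifs <;> omega⟩
  by_cases e : cf v (pt 0) % 4 = 0
  · exact (k v fun i => (d' i).1.trans e).elim fun T t => ⟨v, T, .refl _, t⟩
  obtain ⟨T, t⟩ := k (v - 2 • vC) fun i => by
    have := d' i; have := d' (pt 0)
    change (cf v i - 2 • od ∅ (pt 23) i) % 4 = 0
    simp only [od, Finset.notMem_empty, if_false, nsmul_eq_mul, Nat.cast_ofNat]; split_ifs <;> omega
  exact ⟨_, T, ⟨vC, by abel⟩, t⟩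
end

/-- reduction modulo the code -/
def rd (m : ℕ) : ℕ := dec (syn (Nat.land m 16777215))
theorem rd_cw (m : ℕ) : S m ∆ S (rd m) ∈ cw := by
  have := symmDiff_dec (m := m &&& 16777215) (Nat.lt_succ_of_le Nat.and_le_right)
  rwa [S_and, S_all, Finset.inter_univ] at this
theorem cw_of {a b : ℕ} (h : rd a = rd b) : S a ∆ S b ∈ cw := by
  have := cw_symmDiff (rd_cw a) (rd_cw b)
  rwa [h, symmDiff_comm (S b), symmDiff_assoc, symmDiff_symmDiff_cancel_left] at this

universe u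
variable {G : Type u} [Group G] [Finite G] {z s x y t : G} {f : C[z] →* Spor.Co1} {R : G → Lam → Prop} {T T' : Finset GolayPt} {U : Subgroup G}

/-- the cocode element attached to `x` -/
def D (R : G → Lam → Prop) (x : G) (T : Finset GolayPt) : Prop := ∃ v, R x v ∧ F v T

/-- the setting -/
structure Fr (f : C[z] →* Spor.Co1) (R : G → Lam → Prop) (s : G) : Prop where
  g : MG z
  M : MT (Qo z) z f R
  L : LP (Qo z) z (Qo s) s
  r : R s lE
  b : IsConj z s

theorem D.even (a : D R x T) : T.card % 2 = 0 := a.choose_spec.2.even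
namespace Fr
variable (h : Fr f R s)
include h
theorem mul (a : D R x T) (b : D R y T') : D R (x * y) (T ∆ T') :=
  let ⟨_, a1, a2⟩ := a; let ⟨_, b1, b2⟩ := b; ⟨_, h.M.mul a1 b1, a2.add b2⟩
theorem inv (a : D R x T) : D R x⁻¹ T := let ⟨_, a1, a2⟩ := a; ⟨_, h.M.inv a1, a2⟩
theorem shift (a : D R x T) (c : T ∆ T' ∈ cw) : D R x T' := by
  obtain ⟨v, a1, a2⟩ := a
  obtain ⟨w, b1, b2⟩ := a2.shift c
  exact ⟨w, h.M.cg a1 b1, by simpa using b2⟩
theorem ex (e : T.card % 2 = 0) : ∃ x, D R x T := let ⟨v, _, a⟩ := exF e ∅; let ⟨x, b⟩ := h.M.sur v; ⟨x, v, b, a⟩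
theorem two : x ∈ closure {z, s} ↔ D R x ∅ := by
  refine ⟨fun a => ?_, fun ⟨v, a, b⟩ => ?_⟩
  · induction a using closure_induction with
    | mem x a =>
      rcases a with rfl | rfl
      · exact ⟨0, h.M.zero (mem_zpowers _) (.refl _), fun _ => rfl⟩
      · exact ⟨_, h.r, fun i => by rw [cf_e8, Pi.single_apply]; split_ifs <;> simp_all⟩
    | one => exact ⟨0, h.M.zero (one_mem _) (.refl _), fun _ => rfl⟩
    | mul x y _ _ a b => simpa using h.mul a b
    | inv x _ a => exact h.inv a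
  have k : zpowers z ≤ closure {z, s} := zpowers_le.2 (subset_closure (by simp))
  rcases b.cg (pt 23) with c | c
  · exact k ((h.M.rk a).2 c)
  · exact (mul_mem_cancel_right (subset_closure (by simp))).1 (k ((h.M.rk (h.M.mul a h.r)).2 (Cg.add_zero.2 c)))
theorem mul2 (a : D R x T) (b : D R y T') (c : T ∆ T' ∈ cw) : x * y ∈ closure {z, s} :=
  h.two.2 (h.shift (h.mul a b) (by simpa using c))
theorem a2 (a : D R x T) (e : T.card = 2) : A2 z x := by
  obtain ⟨v, a1, a2⟩ := a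
  obtain ⟨w, b1, b2⟩ := a2.short (Finset.card_pos.1 (by omega))
  exact a2_of h.M h.L (h.M.cg a1 b1) (by rw [b2, e]; rfl)
theorem b2 (a : D R x T) (e : T.card = 4) : IsConj z x ∧ x ∉ closure {z, s} := by
  have k : ∀ x, D R x T → IsConj z x ∧ x ≠ z := fun x ⟨v, a1, a2⟩ => by
    obtain ⟨w, b1, b2⟩ := a2.short (Finset.card_pos.1 (by omega))
    exact b2_of h.M h.L (h.M.cg a1 b1) (by rw [b2, e]; rfl)
  exact ⟨(k x a).1, fun m => (k _ (sd0 T ▸ h.mul a (h.two.1 (mul_mem (inv_mem m) (subset_closure (by simp : z ∈ _)))))).2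
    (mul_inv_cancel_left _ _)⟩
theorem mem (a : D R x T) : x ∈ Qo z ⊓ Qo s := by
  have k : ∀ x T, D R x T → T.card = 2 → x ∈ Qo z ⊓ Qo s := fun x T a e => ⟨h.M.mem a.choose_spec.1,
    memQ h.g (.refl _) h.b h.L.tQ (h.M.mem a.choose_spec.1) (h.a2 a e)
      (h.a2 (by simpa using h.mul a (h.two.1 (subset_closure (by simp : s ∈ _)))) e)⟩
  induction T using Finset.strongInduction generalizing x with
  | H T ih =>
  rcases T.eq_empty_or_nonempty with rfl | n
  · exact (closure_le (Qo z ⊓ Qo s)).2 (by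
      rintro _ (rfl | rfl); exacts [⟨self h.g (.refl _), h.L.zQ⟩, ⟨h.L.tQ, self h.g h.b⟩]) (h.two.2 a)
  obtain ⟨V, l, e⟩ := Finset.exists_subset_card_eq (s := T) (n := 2) (by have := a.even; have := n.card_pos; omega)
  obtain ⟨y, b⟩ := h.ex (T := V) (by omega)
  refine (mul_mem_cancel_right (k y V b e)).1 (ih _ ?_ (h.mul a b))
  rw [symmDiff_of_ge l]
  exact Finset.sdiff_ssubset l (Finset.card_pos.1 (by omega))
theorem cm (a : x ∈ Qo z ⊓ Qo s) (b : y ∈ Qo z ⊓ Qo s) : x * y = y * x :=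
  commutatorElement_eq_one_iff_mul_comm.1 (((es h.g (.refl _)).comm x a.1 y b.1).resolve_right fun e =>
    ((es h.g h.b).comm x a.2 y b.2).elim (fun k => ne1 h.g (.refl _) (e.symm.trans k)) fun k => h.L.ne (k.symm.trans e))
theorem tot (a : x ∈ Qo z ⊓ Qo s) : ∃ i < 4096, D R x (S (dec i)) ∧ (pc (dec i) = 0 ∨ pc (dec i) = 2 ∨ pc (dec i) = 4) := by
  obtain ⟨v, b⟩ := h.M.tot x a.1
  obtain ⟨w, T, c, d⟩ := of_dot (v := v) fun i j n => let ⟨y, k⟩ := h.M.sur (dd i j)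
    (h.M.comm_iff h.L k b).1 (h.cm (dd_Q' h.M h.L h.r n k) a)
  obtain ⟨m, l, rfl⟩ := exists_S T
  have e := h.shift ⟨w, h.M.cg b c, d⟩ (symmDiff_dec l)
  have := e.even; have := card_dec_le (syn_lt l); have := card_S (dec_lt (syn m))
  exact ⟨_, syn_lt l, e, by omega⟩
theorem act {σ : Equiv.Perm GolayPt} (c : σ ∈ M24) : ∃ g, closure {z, s} ≤ C[g] ∧ ∀ x T, D R x T → D R (g * x * g⁻¹) (σ • T) := by
  obtain ⟨g, a, b⟩ := mem_img.1 ((h.M.img_NN h.L h.r).ge (prmH_mem ⟨σ, c⟩))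
  exact ⟨g, (closure_le _).2 (by rintro _ (rfl | rfl); exacts [mem_cent1_symm.1 b.choose, mem_cent1_symm.1 a]),
    fun x T ⟨v, k, k'⟩ => ⟨_, h.M.act b k, k'.prm c⟩⟩
theorem ty0 {m : ℕ} (a : D R x (S m)) (e : pc (rd m) = 0) : x ∈ closure {z, s} :=
  h.two.2 (Finset.card_eq_zero.1 ((card_S (dec_lt _)).trans e) ▸ h.shift a (rd_cw m))
theorem ty2 {m : ℕ} (a : D R x (S m)) (e : pc (rd m) = 2) : A2 z x := h.a2 (h.shift a (rd_cw m)) ((card_S (dec_lt _)).trans e)
theorem ty4 {m : ℕ} (a : D R x (S m)) (e : pc (rd m) = 4) : IsConj z x ∧ x ∉ closure {z, s} :=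
  h.b2 (h.shift a (rd_cw m)) ((card_S (dec_lt _)).trans e)
theorem mulS {m n : ℕ} (a : D R x (S m)) (b : D R y (S n)) : D R (x * y) (S (m ^^^ n)) := S_xor m n ▸ h.mul a b
theorem twoQ {m : ℕ} (a : D R x (S m)) (e : pc (rd m) = 4) : closure {z, s} ≤ Qo x := (closure_le _).2 (by
  rintro _ (rfl | rfl)
  exacts [symm h.g (.refl _) (h.ty4 a e).1 (h.mem a).1, symm h.g h.b (h.ty4 a e).1 (h.mem a).2])
/-- duads in a tetrad -/
theorem inQ {m n : ℕ} (a : D R x (S m)) (e : pc (rd m) = 4) (b : D R y (S n)) (c : pc (rd n) = 2) (d : pc (rd (n ^^^ m)) = 2) :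
    y ∈ Qo x := memQ h.g (.refl _) (h.ty4 a e).1 (h.mem a).1 (h.mem b).1 (h.ty2 b c) (h.ty2 (h.mulS b a) d)
/-- their span -/
theorem spQ {m n : ℕ} {b : ℕ → ℕ} (a : D R x (S m)) (e : pc (rd m) = 4)
    (c : ∀ j < n, (S (b j)).card % 2 = 0 ∧ pc (rd (b j)) = 2 ∧ pc (rd (b j ^^^ m)) = 2) (k : ℕ) : ∃ y ∈ Qo x, D R y (S (lin b n k)) :=
  lin_induction (fun m => ∃ y ∈ Qo x, D R y (S m)) ⟨1, one_mem _, S_zero ▸ h.two.1 (one_mem _)⟩
    (fun _ _ ⟨_, a, a'⟩ ⟨_, b, b'⟩ => ⟨_, mul_mem a b, h.mulS a' b'⟩) b n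
    (fun j l => let ⟨y, k⟩ := h.ex (c j l).1; ⟨y, h.inQ a e k (c j l).2.1 (c j l).2.2, k⟩) k
/-- split duads -/
theorem split {m n : ℕ} (a : D R x (S m)) (e : pc (rd m) = 4) (b : D R y (S n)) (c : pc (rd n) = 2) (d : pc (rd (n ^^^ m)) = 4) :
    y ∉ Qo x := fun k => (h.ty2 b c).2.2 ((h.ty4 (h.mulS b a) d).1.trans (conj_mul' h.g (h.ty4 a e).1 k (h.ty2 b c).2.1
      fun t => (h.ty2 b c).2.2 (t ▸ (h.ty4 a e).1)).symm)
end Fr

end H3.MX
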