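import Cfsg.Agent.H3.GR4
import Cfsg.Agent.H3.ThompsonFpf
import Cfsg.Agent.H6.McKay

/-! No divisibility among character degrees, disconnected degree graph: basic structure. -/

set_option autoImplicit false
set_option linter.unusedSectionVars false

open Subgroup MulAction H19 H20 H6 Cfsg H3.PT H3.GR
open scoped commutatorElement

namespace H3.ND

universe u
variable {G : Type u} [Group G] [Finite G] {p : ℕ} [hp : Fact p.Prime]
  {B D E K L N X : Subgroup G} {χ ψ φ ξ : G → ℂ} {g n x y : G}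

structure Hy (N K : Subgroup G) (p : ℕ) : Prop where
  dG : ⁅(⊤ : Subgroup G), ⊤⁆ ≤ N
  dN : ⁅N, N⁆ ≤ K
  nle : ¬ N ≤ K
  ne : N ≠ ⊤
  pi : PiN {p} (K.relIndex N)
  np : ¬ p ∣ N.relIndex ⊤
  fp : ∀ x, x ∉ N → Fpf N K x
  cf : ∀ χ ∈ Irr ⊤, ¬ ⁅N, N⁆ ≤ cker χ → (N.relIndex ⊤).Coprime (deg χ)
  pd : ∀ χ ∈ Irr ⊤, ¬ ⁅N, N⁆ ≤ cker χ → p ∣ deg χ
  nd : ∀ χ ∈ Irr ⊤, ∀ ξ ∈ Irr ⊤, ¬ ⁅N, N⁆ ≤ cker χ → ¬ ⁅N, N⁆ ≤ cker ξ → deg χ ∣ deg ξ →
    deg χ = deg ξ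

theorem Hy.quot [L.Normal] (h : Hy N K p) (hL : L ≤ ⁅N, N⁆) :
    Hy (N.map (QuotientGroup.mk' L)) (K.map (QuotientGroup.mk' L)) p := by
  have a := hL.trans (der_le N)
  have b := hL.trans h.dN
  have c : ∀ {X : Subgroup G}, L ≤ X → X ⊔ (QuotientGroup.mk' L).ker = X := fun e => by
    rw [QuotientGroup.ker_mk', sup_eq_left.2 e]
  have d : (N.map (QuotientGroup.mk' L)).relIndex ⊤ = N.relIndex ⊤ := by
    rw [← map_top_q, relIndex_map_map, c a, top_sup_eq]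
  have e : ∀ {X : Subgroup G} {x : G}, L ≤ X → QuotientGroup.mk' L x ∈ X.map (QuotientGroup.mk' L) →
      x ∈ X := fun e1 e2 => by rwa [← mem_comap, comap_map_eq, c e1] at e2
  have f : ∀ χ ∈ Irr (⊤ : Subgroup (G ⧸ L)), ¬ ⁅N.map (QuotientGroup.mk' L),
      N.map (QuotientGroup.mk' L)⁆ ≤ cker χ → ¬ ⁅N, N⁆ ≤ cker (χ ∘ QuotientGroup.mk' L) :=
    fun χ h1 h2 => by rwa [cker_q h1, Subgroup.map_commutator]
  have k : ∀ χ : G ⧸ L → ℂ, deg (χ ∘ QuotientGroup.mk' L) = deg χ := fun χ => deg_congr rfl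
  refine ⟨?_, ?_, fun e => h.nle ?_, fun e => h.ne ?_, ?_, d ▸ h.np, fun x hx => ?_,
    fun χ h1 h2 => d ▸ k χ ▸ h.cf _ (irr_q h1) (f χ h1 h2), fun χ h1 h2 => k χ ▸ h.pd _ (irr_q h1)
      (f χ h1 h2), fun χ h1 ξ h2 h3 h4 => k χ ▸ k ξ ▸ h.nd _ (irr_q h1) _ (irr_q h2) (f χ h1 h3)
        (f ξ h2 h4)⟩
  · rw [← map_top_q, ← Subgroup.map_commutator]; exact map_mono h.dG
  · rw [← Subgroup.map_commutator]; exact map_mono h.dN
  · rwa [Subgroup.map_le_map_iff, c b] at e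
  · rwa [eq_top_iff, ← map_top_q, Subgroup.map_le_map_iff, c a, top_le_iff] at e
  · rw [relIndex_map_map, c a, c b]; exact h.pi
  · obtain ⟨x, rfl⟩ := QuotientGroup.mk'_surjective L x
    rintro _ ⟨w, h1, rfl⟩ h2
    exact mem_map_of_mem _ (h.fp x (fun e => hx (mem_map_of_mem _ e)) w h1 (e b (by simpa using h2)))

/-- `W / N' = C_{N/N'}(G)` -/
def Wd (N : Subgroup G) : Subgroup G := CM N ⁅N, N⁆ ⊤

instance Oc_n [N.Normal] (π : Set ℕ) : (Oc π N).Normal := nt (norms_Oc π nr)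

theorem mem_W [N.Normal] : n ∈ Wd N ↔ n ∈ N ∧ ∀ x, x * n * x⁻¹ * n⁻¹ ∈ ⁅N, N⁆ := by
  rw [Wd, mem_CM nr nr]; simp

theorem le_W : ⁅N, N⁆ ≤ Wd N := le_CM (der_le N) _

theorem nk [B.Normal] (hB : B ≤ L) (hχ : χ ∈ Irr ⊤) {w : Du B} (w0 : w ≠ 0)
    (h : dot B χ w.fn ≠ 0) : ¬ L ≤ cker χ := fun e =>
  w0 (Du.eq_zero (le_cker_of_below (irr_chr hχ) le_top w.lin.irr h le_rfl (hB.trans e)))

theorem nofix [B.Normal] (h : Fpf B ⊥ n) {w : Du B} (e : n • w = w) : w = 0 :=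
  Du.eq_zero (by
    rw [h.eq_triv (nr (mem_top n)) (nr (mem_top n)) (NormalIn.bot _) w.lin bot_le
      fun y _ => congrFun ((Du.stab w).le e).2 y, cker_triv])

theorem pdvd {a b : ℕ} (ha : PiN {p} a) (hb : PiN {p} b) (h0 : a ≠ 0) (h : a ≤ b) : a ∣ b := by
  obtain ⟨i, rfl⟩ := ha.exists_pow h0
  obtain ⟨j, rfl⟩ := hb.exists_pow (by omega)
  exact pow_dvd_pow p ((Nat.pow_le_pow_iff_right hp.out.one_lt).1 h)

theorem cen_of_conj {P : Subgroup G} (hP : PG p P) (hH : X ≤ N(P)) (hc : (#P).Coprime #X)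
    (hi : ∀ x ∈ X, ∀ y ∈ ⁅P, P⁆, ∃ a ∈ P, a * y * a⁻¹ = x * y * x⁻¹) : ⁅P, P⁆ ≤ C(X) :=
  by_contra fun e => by
    obtain ⟨M, a, ⟨b, c, d⟩, m⟩ := exists_min_sub (fun M => P ≤ N(M) ∧ X ≤ N(M) ∧ ¬ M ≤ C(X))
      (A := ⁅P, P⁆) ⟨(der_normal P).norm, norms_comm hH hH, e⟩
    have a1 := a.trans (der_le P)
    have a2 := (hP.of_le a1).commg_lt hP b fun e => d (e.le.trans bot_le)
    have a3 : ⁅M, P⁆ ≤ C(X) := by_contra fun e =>
      a2.ne (m _ ⟨commg_normr _ _, norms_comm c hH, e⟩ a2.le)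
    have a4 : ⁅X, M⁆ ≤ ⁅P, M⁆ := commutator_le.2 fun x hx y hy => by
      obtain ⟨g, hg, e⟩ := hi x hx y (a hy)
      rw [commutatorElement_def, ← e]
      exact commutator_mem_commutator hg hy
    rw [commutator_comm X, commutator_comm P] at a4
    exact d (commg_eq_bot.1 ((commg_commg c (hc.coprime_dvd_left (card_dvd_of_le a1))).symm.trans
      (commg_eq_bot.2 (a4.trans a3))))

theorem al {W : Type u} [AddCommGroup W] [DistribMulAction G W]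
    (hc : ∀ a ∈ N, ∀ b ∈ N, ∀ w : W, a • b • w = b • a • w)
    (hs : ∀ v w : W, v ≠ 0 → w ≠ 0 → stabilizer G v ⊓ N ≤ stabilizer G w →
      stabilizer G w ⊓ N ≤ stabilizer G v) (hg : g ∈ N) {v : W} (v0 : v ≠ 0) (e : g • v = v)
    (w : W) : g • w = w := by_contra fun h => by
  have k : ∀ w : W, stabilizer G w ⊓ N ≤ stabilizer G (g • w - w) := fun w a ha => by
    rw [mem_stabilizer_iff, smul_sub, hc a ha.2 g hg, ha.1]
  have e1 : g • (v + w) - (v + w) = g • w - w := by rw [smul_add, e, add_sub_add_left_eq_sub]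
  have h1 := hs (v + w) _ (fun e => h (sub_eq_zero.1 (by rw [← e1, e, smul_zero, sub_zero])))
    (sub_ne_zero.2 h) (e1 ▸ k _)
  refine h (hs w v (by rintro rfl; exact h (smul_zero g)) v0 (fun a ha => ?_) ⟨e, hg⟩)
  have := h1 ⟨k w ha, ha.2⟩
  rwa [mem_stabilizer_iff, smul_add, ha.1, add_left_inj] at this

namespace Hy
variable [hN : N.Normal] [hK : K.Normal] (h : Hy N K p)
include h

theorem res (hψ : ψ ∈ Irr N) (h1 : deg ψ ≠ 1) :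
    ∃ χ ∈ Irr ⊤, ¬ ⁅N, N⁆ ≤ cker χ ∧ Res N χ = ψ := by
  obtain ⟨χ, a⟩ := exists_ovr le_top hψ
  obtain ⟨b, c⟩ := mem_ovr.1 a
  have d : ¬ ⁅N, N⁆ ≤ cker χ := fun e => h1 ((der_le_cker hψ).1
    (le_cker_of_below (irr_chr b) le_top hψ c (der_le N) e))
  exact ⟨χ, b, d, irr_eq_of_dot (Res_irr_of_coprime normalIn_top b (h.cf χ b d)) hψ
    (by rwa [dot_Res_left])⟩

theorem cinv (hψ : ψ ∈ Irr N) (h1 : deg ψ ≠ 1) : CInv ⊤ ψ := by
  obtain ⟨χ, a, -, rfl⟩ := h.res hψ h1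
  exact (irr_cinv a).Res nr

theorem ndN (hψ : ψ ∈ Irr N) (h1 : deg ψ ≠ 1) (hχ : χ ∈ Irr ⊤) (h2 : ¬ ⁅N, N⁆ ≤ cker χ) :
    (deg ψ ∣ deg χ → deg ψ = deg χ) ∧ (deg χ ∣ deg ψ → deg χ = deg ψ) := by
  obtain ⟨ξ, a, b, rfl⟩ := h.res hψ h1
  rw [deg_Res]
  exact ⟨h.nd ξ a χ hχ b h2, h.nd χ hχ ξ a h2 b⟩

theorem van (hψ : ψ ∈ Irr N) (h1 : deg ψ ≠ 1) (h2 : ψ n ≠ 0) : n ∈ Wd N := by
  have a : n ∈ N := by_contra fun e => h2 (irr_zero hψ e)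
  refine mem_W.2 ⟨a, fun y => ?_⟩
  have g := hN.conj_mem n a y
  refine Du.sep le_rfl (der_le _) (mul_mem g (inv_mem a)) fun l _ => ?_
  have := h.cinv (irr_mul_lin hψ l.lin) (by
    rwa [deg_congr (ψ := ψ) (by rw [Pi.mul_apply, l.lin.one, one_mul])]) y trivial n
  rw [Pi.mul_apply, Pi.mul_apply, h.cinv hψ h1 y trivial n, mul_left_inj' h2] at this
  rw [l.lin.mem_cker (mul_mem g (inv_mem a)), l.lin.map_mul g (inv_mem a), this, l.lin.mul_inv a]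

theorem WK : Wd N ≤ K := fun n hn => by
  obtain ⟨x, -, hx⟩ := SetLike.not_le_iff_exists.1 (mt top_le_iff.1 h.ne)
  exact h.fp x hx n (mem_W.1 hn).1 (h.dN ((mem_W.1 hn).2 x))

theorem conjW (hn : n ∈ N) (h1 : n ∉ Wd N) (hy : y ∈ ⁅N, N⁆) : ∃ g ∈ N, g * n * g⁻¹ = y * n :=
  conj_of_irr_eq hn (mul_mem (der_le N hy) hn) fun ψ hψ => by
    by_cases e : deg ψ = 1
    · rw [cker_mul ((der_le_cker hψ).2 e hy)]
    · rw [not_ne_iff.1 (mt (h.van hψ e) h1), not_ne_iff.1 (mt (h.van hψ e) fun e' =>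
        h1 ((mul_mem_cancel_left (le_W hy)).1 e'))]

theorem hallM : Hall {p}ᶜ (Oc {p}ᶜ N) N :=
  (thompson_hall hp.out fun ψ hψ _ h1 => by
    obtain ⟨χ, a, b, rfl⟩ := h.res hψ h1
    rw [deg_Res]; exact h.pd χ a b).Oc_hall (Ores_normal _ _).norm

theorem idxM : PiN {p} ((Oc {p}ᶜ N).relIndex N) := by simpa using h.hallM.idx

theorem PN {P : Subgroup G} (hP : PG p P) : P ≤ N :=
  le_of_pi_of_relIndex nr le_top le_top hP (PiN.of_not_dvd h.np)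

theorem MP (P : Sylow p G) : Oc {p}ᶜ N ⊔ (P : Subgroup G) = N :=
  le_antisymm (sup_le (Oc_le _ _) (h.PN (spi P))) (le_sup_syl h.idxM P)

theorem exP (P : Sylow p G) : ∃ n ∈ (P : Subgroup G), n ∉ K :=
  SetLike.not_le_iff_exists.1 fun e => h.nle ((le_sup_syl h.pi P).trans (sup_le le_rfl e))

variable (hD : ⁅N, N⁆ ⊓ Oc {p}ᶜ N = D)
include hD

theorem fpfP (hn : n ∈ N) (h1 : n ∉ Wd N) (h2 : PiE {p} n) : Fpf D ⊥ n := fun y hy e => by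
  subst hD
  obtain ⟨g, -, h3⟩ := h.conjW hn h1 hy.1
  have h4 : Commute y n := (commutatorElement_eq_one_iff_commute.1 (mem_bot.1 e)).symm
  have h5 : y ^ orderOf n = 1 := by
    have := congrArg (· ^ orderOf n) h3
    simpa [h4.mul_pow] using this.symm
  exact orderOf_eq_one_iff.1 ((h2.dvd (orderOf_dvd_of_pow_eq_one h5)).eq_one
    ((Oc_pi _ _).elt hy.2))

theorem DP (P : Sylow p G) : D ⊓ (P : Subgroup G) = ⊥ :=
  ((Oc_pi _ _).of_le (hD.ge.trans inf_le_right)).inf_eq_bot' (spi P)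

variable [D.Normal]

theorem supH (P : Sylow p G) : D ⊔ N((P : Subgroup G)) = ⊤ := by
  subst hD
  exact frat (nt (((syl_sylow_top P).of_le (h.PN (spi P)) le_top).sup_norm_of_nil_quo nr
    (nil_quo_inf nr nr (nil_of_ab ((ab_quo_iff nr).2 le_rfl)) ((piG_quo_iff nr).2 h.idxM).nil) nr nr))

theorem infH (P : Sylow p G) : D ⊓ N((P : Subgroup G)) = ⊥ := eq_bot_iff.2 fun y hy => by
  obtain ⟨n, a, b⟩ := h.exP P
  refine h.fpfP hD (h.PN (spi P) a) (fun e => b (h.WK e)) ((spi P).elt a) y hy.1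
    ((h.DP hD P).le ⟨mul_mem (Normal.conj_mem ‹_› y hy.1 n) (D.inv_mem hy.1), ?_⟩)
  rw [mul_assoc, mul_assoc, ← mul_assoc y]
  exact mul_mem a (conj_mem_of_norm hy.2 (inv_mem a))

variable [Group.IsSolvable G] {w : Du D} (w0 : w ≠ 0)
include w0

theorem exw : (∃ χ ∈ Irr ⊤, ¬ ⁅N, N⁆ ≤ cker χ ∧ deg χ = (stabilizer G w).relIndex ⊤) ∧
    ⁅stabilizer G w, stabilizer G w⁆ ≤ D := by
  have a := H20.le_inertia (L := ⊤) (irr_cinv w.lin.irr) le_top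
  have k : ∀ β ∈ Irr (H20.inertia ⊤ w.fn), D ≤ cker β → ∃ χ ∈ Irr ⊤, ¬ ⁅N, N⁆ ≤ cker χ ∧
      deg χ = (H20.inertia ⊤ w.fn).relIndex ⊤ * deg β := fun β b c => by
    obtain ⟨χ, d, e⟩ := exists_deg_of_ext normalIn_top w.lin.irr
      (ext_split (h.supH hD default) (h.infH hD default) w) b c
    rw [w.lin.deg, mul_one] at e
    exact ⟨χ, (mem_ovr.1 d).1, nk (hD.ge.trans inf_le_left) (mem_ovr.1 d).1 w0 (mem_ovr.1 d).2, e⟩
  rw [Du.stab]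
  obtain ⟨χ, b, c, d⟩ := k _ (triv_mem_Irr _) (by rwa [cker_triv])
  rw [deg_triv, mul_one] at d
  refine ⟨⟨χ, b, c, d⟩, (dg_one (normalIn_top.of_le a le_top)).1 fun β e f => ?_⟩
  obtain ⟨ξ, b', c', d'⟩ := k β e f
  have := h.nd χ b ξ b' c c' (d ▸ d' ▸ dvd_mul_right _ _)
  rw [d, d'] at this
  exact ((Nat.mul_eq_left (relIndex_ne_zero' _ _)).1 this.symm)

theorem degw (hχ : χ ∈ Irr ⊤) (e : dot D χ w.fn ≠ 0) : deg χ = (stabilizer G w).relIndex ⊤ := by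
  obtain ⟨⟨ξ, a, b, c⟩, -⟩ := h.exw hD w0
  rw [← c, h.nd ξ a χ hχ b (nk (hD.ge.trans inf_le_left) hχ w0 e)
    (by rw [c, Du.stab]; exact idx_dvd hχ w.lin.irr e)]

theorem supw : N ⊔ stabilizer G w = ⊤ := by
  obtain ⟨⟨ξ, a, b, c⟩, -⟩ := h.exw hD w0
  exact top_le_iff.1 (relIndex_eq_one.1 (Nat.eq_one_of_dvd_coprimes (c ▸ h.cf ξ a b)
    (relIndex_dvd_left le_sup_left _) (relIndex_dvd_left le_sup_right _)))

theorem idxw : (stabilizer G w).relIndex ⊤ = (stabilizer G w).relIndex N := by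
  rw [← h.supw hD w0, relIndex_sup_right_of_norm nr]

theorem exX (P : Sylow p G) : ∃ X, X ≤ stabilizer G w ∧ X ≤ N((P : Subgroup G)) ∧ PiG {p}ᶜ X ∧
    ¬ X ≤ N := by
  have a : D ≤ stabilizer G w := Du.mem_Fs.2 w.lin.der_le
  have b : D ⊔ N((P : Subgroup G)) ⊓ stabilizer G w = stabilizer G w := by
    rw [← sup_inf_modl nr a, h.supH hD, top_inf_eq]
  have c : Ab (N((P : Subgroup G)) ⊓ stabilizer G w) := comm_iff_der.2 (eq_bot_iff.2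
    ((le_inf ((der_mono inf_le_right).trans (h.exw hD w0).2) ((der_le _).trans inf_le_left)).trans
      (h.infH hD P).le))
  refine ⟨Oc {p}ᶜ (N((P : Subgroup G)) ⊓ stabilizer G w), (Oc_le _ _).trans inf_le_right,
    (Oc_le _ _).trans inf_le_left, Oc_pi _ _, fun e => h.ne (top_le_iff.1 ((h.supw hD w0).ge.trans
      (sup_le le_rfl (b.ge.trans (sup_le (hD.ge.trans (inf_le_left.trans (der_le N)))
        ((nil_dprod (nil_of_ab c) {p}).sup.ge.trans (sup_le (h.PN (Oc_pi _ _)) e)))))))⟩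

end Hy

end H3.ND
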