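import Cfsg.Agent.H3.ND1

/-! No divisibility among character degrees: the Sylow subgroup is abelian, stabilizers agree. -/

set_option autoImplicit false
set_option linter.unusedSectionVars false

open Subgroup MulAction H19 H20 H6 Cfsg H3.PT H3.GR
open scoped commutatorElement

namespace H3.ND

universe u
variable {G : Type u} [Group G] [Finite G] {p : ℕ} [hp : Fact p.Prime]
  {B D E K L N X : Subgroup G} {χ ψ φ ξ θ : G → ℂ} {g n x y : G}

def Goal (N : Subgroup G) : Prop := ∃ m, ∀ χ ∈ Irr ⊤, ¬ ⁅N, N⁆ ≤ cker χ → deg χ = m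

/-- the kernel of `N` on the linear characters of `N'` -/
noncomputable def Ak (N : Subgroup G) [N.Normal] : Subgroup G := N ⊓ (toPermHom G (Du ⁅N, N⁆)).ker

instance Ak_n [N.Normal] : (Ak N).Normal := normal_inf_normal _ _

theorem mem_A [N.Normal] : g ∈ Ak N ↔ g ∈ N ∧ ∀ w : Du ⁅N, N⁆, g • w = w :=
  and_congr_right fun _ => Equiv.ext_iff

theorem le_st [B.Normal] (w : Du B) : B ≤ stabilizer G w := Du.mem_Fs.2 w.lin.der_le

theorem le_A [N.Normal] : ⁅N, N⁆ ≤ Ak N := fun _ hx => mem_A.2 ⟨der_le N hx, fun w => le_st w hx⟩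

theorem fpfE [D.Normal] (hE : Ab E) (hn : n ∈ E)
    (h : ∀ y ∈ D, ∃ g ∈ D ⊔ E, g * n * g⁻¹ = y * n) : Fpf D ⊥ n := fun y hy e => by
  have a : ∀ d : D, d.1 * n * d.1⁻¹ * n⁻¹ ∈ D := fun d => by
    rw [mul_assoc, mul_assoc, ← mul_assoc n]
    exact mul_mem d.2 (Normal.conj_mem ‹_› _ (inv_mem d.2) n)
  have b : Function.Surjective fun d : D => (⟨_, a d⟩ : D) := fun z => by
    obtain ⟨g, c, d⟩ := h z z.2
    obtain ⟨u, hu, v, hv, rfl⟩ := (mem_sup_of_norm nr).1 c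
    refine ⟨⟨u, hu⟩, Subtype.ext (mul_inv_eq_iff_eq_mul.2 ?_)⟩
    rw [← d, mul_assoc u v, mul_comm_of_comm hE hv hn]; group
  have c := (commutatorElement_eq_one_iff_mul_comm.1 (mem_bot.1 e)).symm
  exact congrArg Subtype.val (Finite.injective_iff_surjective.2 b (a₁ := ⟨y, hy⟩) (a₂ := 1)
    (Subtype.ext (by simp [c])))

theorem neg_mul' (w : Du D) (hθ : θ ∈ Irr D) : (-w).fn * (w.fn * θ) = θ := by
  rw [← mul_assoc, ← Du.fn_add, neg_add_cancel, show (0 : Du D).fn = triv D from Ch.fn_one, triv_mul,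
    Res_eq_self fun _ => irr_zero hθ]

theorem uniq [D.Normal] (hg : ∀ w : Du D, g • w = w → w = 0) (hθ : θ ∈ Irr D) (h : cfj g⁻¹ θ = θ)
    {l : Du D} (e : cfj g⁻¹ (l.fn * θ) = l.fn * θ) : l.fn * θ = θ := by
  have k : ∀ l : Du D, cfj g⁻¹ (l.fn * θ) = l.fn * θ → (-l + g • l).fn * θ = θ := fun l e => by
    rw [Du.fn_add, mul_assoc, Du.fn_smul, ← h, ← cfj_mul_fun, e, h, neg_mul' l hθ]
  have i : Function.Injective fun l : Du D => -l + g • l := fun a b e => sub_eq_zero.1 (hg _ (by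
    rw [smul_sub, ← add_neg_cancel_left a (g • a), show -a + g • a = -b + g • b from e]; abel))
  obtain ⟨⟨w, h1⟩, h2⟩ := (Finite.injective_iff_surjective (f := fun w : {w : Du D // w.fn * θ = θ} =>
    (⟨_, k w.1 (by rw [w.2, h])⟩ : {w : Du D // w.fn * θ = θ}))).1
    (fun a b e => Subtype.ext (i (congrArg Subtype.val e))) ⟨_, k l e⟩
  rwa [← i (congrArg Subtype.val h2)]

theorem card_lt' [D.Normal] (hZ : D ≤ C(⁅D, D⁆)) (x3 : x ∈ D) (x2 : x ∉ ⁅D, D⁆)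
    (h3 : ∀ θ ∈ Irr D, deg θ ≠ 1 → ∀ l : Du D, l.fn * θ = θ) :
    Nat.card (Du ⁅D, D⁆) < Nat.card (Du D) := by
  let c : D →* ↥⁅D, D⁆ := MonoidHom.mk'
    (fun y => ⟨⁅y.1, x⁆, commutator_mem_commutator y.2 x3⟩) fun a b => Subtype.ext (by
      have e1 := hZ a.2 _ (commutator_mem_commutator b.2 x3)
      have e2 := hZ (der_le _ (commutator_mem_commutator a.2 x3)) _
        (commutator_mem_commutator b.2 x3)
      change ⁅a.1 * b.1, x⁆ = ⁅a.1, x⁆ * ⁅b.1, x⁆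
      rw [← e2, ← mul_inv_cancel_right ⁅b.1, x⁆ a.1, e1]
      simp only [commutatorElement_def]; group)
  let Φ : Du ⁅D, D⁆ →+ Du D := AddMonoidHom.mk' (fun w => Ch.hom w |>.comp c) fun _ _ => rfl
  have k : ∀ w {y : G}, y ∈ D → (Φ w).fn y = w.fn ⁅y, x⁆ := fun w y hy =>
    (Ch.fn_of_mem _ hy).trans (Ch.fn_of_mem _ (commutator_mem_commutator hy x3)).symm
  have hi : Function.Injective Φ := (injective_iff_map_eq_zero Φ).2 fun w e => by_contra fun w0 => by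
    obtain ⟨θ, a⟩ := exists_ovr (der_le D) w.lin.irr
    obtain ⟨b, d⟩ := (mem_ovr_iff_hm (der_le _) hZ w.lin).1 a
    have f : θ x ≠ 0 := norm_ne_zero_iff.1 ((irr_norm_central b x3 fun y hy => by
      have g := commutator_mem_commutator hy x3
      have := d _ g 1
      rw [one_mul, ← k w hy, e, show (0 : Du D).fn = triv D from Ch.fn_one, triv_of_mem hy,
        one_mul] at this
      exact (chr_mem_cker (irr_chr b) (der_le _ g)).2 this).trans_ne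
        (Nat.cast_ne_zero.2 (irr_deg_pos b).ne'))
    refine x2 (Du.sep le_rfl (der_le _) x3 fun l _ => (l.lin.mem_cker x3).2 ?_)
    exact (mul_eq_right₀ f).1 (congrFun (h3 θ b (fun e => w0 (Du.eq_zero (le_cker_of_below (irr_chr b)
      (der_le _) w.lin.irr (mem_ovr.1 a).2 le_rfl ((der_le_cker b).2 e)))) l) x)
  refine (Nat.card_le_card_of_injective Φ hi).lt_of_ne fun e => x2 (Du.sep le_rfl (der_le _) x3
    fun l _ => ?_)
  obtain ⟨w, rfl⟩ := ((Nat.bijective_iff_injective_and_card Φ).2 ⟨hi, e⟩).2 l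
  rw [(Φ w).lin.mem_cker x3, k w x3, commutatorElement_self, w.lin.one]

namespace Hy
variable [hN : N.Normal] [hK : K.Normal] (h : Hy N K p)
include h

theorem dser2 (t : Goal N) : ⁅⁅N, N⁆, ⁅N, N⁆⁆ = ⊥ := by
  obtain ⟨m, t⟩ := t
  refine two_deg_dser (G := N) (m := m) fun ψ a _ => or_iff_not_imp_left.2 fun e => ?_
  obtain ⟨χ, b, c, rfl⟩ := h.res a e
  rw [deg_Res, t χ b c]

theorem case0 (hD : ⁅N, N⁆ ⊓ Oc {p}ᶜ N = ⊥) : Goal N := by
  have k : ∀ χ ∈ Irr ⊤, ¬ ⁅N, N⁆ ≤ cker χ → PiN {p} (deg χ) := fun χ a b => by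
    rw [← deg_Res N]
    exact h.idxM.dvd (deg_dvd_of_ab (Oc_normal _ _) (Res_irr_of_coprime normalIn_top a (h.cf χ a b))
      ((le_inf (der_mono (Oc_le _ _)) (der_le _)).trans (hD.le.trans bot_le)))
  by_cases e : ∃ χ ∈ Irr ⊤, ¬ ⁅N, N⁆ ≤ cker χ
  · obtain ⟨χ, a, b⟩ := e
    refine ⟨deg χ, fun ξ c d => (le_total (deg χ) (deg ξ)).elim (fun e => (h.nd χ a ξ c b d
      (pdvd (k χ a b) (k ξ c d) (dn a) e)).symm) fun e => h.nd ξ c χ a d b
        (pdvd (k ξ c d) (k χ a b) (dn c) e)⟩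
  · exact ⟨0, fun χ a b => absurd ⟨χ, a, b⟩ e⟩

theorem ncen (P : Sylow p G) (hX : ¬ X ≤ N) : ¬ X ≤ C((P : Subgroup G)) := fun e => by
  obtain ⟨x, a, b⟩ := SetLike.not_le_iff_exists.1 hX
  obtain ⟨n, c, d⟩ := h.exP P
  exact d (h.fp x b n (h.PN (spi P) c) (by rw [← e a n c]; simp))

variable [Group.IsSolvable G]

theorem step1 [D.Normal] (hD : ⁅N, N⁆ ⊓ Oc {p}ᶜ N = D) {w : Du D} (w0 : w ≠ 0) :
    ⁅N, N⁆ ≤ Oc {p}ᶜ N := by_contra fun e => by
  obtain ⟨P⟩ : Nonempty (Sylow p G) := inferInstance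
  obtain ⟨X, x1, x2, x3, x4⟩ := h.exX hD w0 P
  obtain ⟨⟨χ, a1, a2, a3⟩, a4⟩ := h.exw hD w0
  obtain ⟨ψ, b1, b2, b3⟩ := exists_nonlin (Oc_normal _ _) e
  have c1 := h.MP P
  have c2 := (Oc_pi {p}ᶜ N).inf_eq_bot' (spi P)
  have c3 := h.idxM
  have c4 := h.PN (spi P)
  have c5 := Oc_le {p}ᶜ N
  replace a4 := a4.trans (hD.ge.trans inf_le_right)
  have hM := Oc_n (N := N) {p}ᶜ
  rw [h.idxw hD w0] at a3
  generalize Oc {p}ᶜ N = M at *
  generalize stabilizer G w = T at *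
  have hc := (spi P).coprime x3
  have h1 : ⁅(P : Subgroup G), (P : Subgroup G)⁆ ≤ C(X) := cen_of_conj (spi P) x2 hc fun x hx y hy => by
    have d1 := der_le _ hy
    have d2 := conj_mem_of_norm (x2 hx) d1
    obtain ⟨g, d3, d4⟩ := conj_of_irr_eq (c4 d1) (c4 d2) fun ψ hψ => by
      by_cases e : deg ψ = 1
      · have := (der_mono c4).trans ((der_le_cker hψ).2 e)
        rw [cker_apply (this hy), cker_apply (this (conj_mem_of_norm (norms_comm x2 x2 hx) hy))]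
      · exact (h.cinv hψ e x trivial y).symm
    obtain ⟨m, hm, a, ha, rfl⟩ := (mem_sup_of_norm nr).1 (c1.ge d3)
    refine ⟨a, ha, (mul_inv_eq_one.1 (mem_bot.1 (c2.le (mem_inf.2 ⟨?_, mul_mem d2
      (inv_mem (mul_mem (mul_mem ha d1) (inv_mem ha)))⟩)))).symm⟩
    rw [← d4, show m * a * y * (m * a)⁻¹ * (a * y * a⁻¹)⁻¹ =
      m * (a * y * a⁻¹ * m⁻¹ * (a * y * a⁻¹)⁻¹) by group]
    exact mul_mem hm (hM.conj_mem _ (inv_mem hm) _)
  obtain ⟨u, u1, u2⟩ := SetLike.not_le_iff_exists.1 fun e : ⁅(P : Subgroup G), X⁆ ≤ C(X) =>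
    h.ncen P x4 (cents_of_commg_le_cent x2 hc e)
  have u3 := commg_le_left x2 u1
  have u4 : (P : Subgroup G) ⊓ C(X) ≤ C[u] := le_cent1_iff.2 (by
    refine commg_eq_bot.1 (three_subgroup ?_ ?_) u1
    · rw [commg_eq_bot.2 (cents_symm inf_le_right), commutator_bot_left]
    · exact commg_eq_bot.2 ((commutator_mono inf_le_left le_rfl).trans h1))
  have h2 : M ⊔ T ⊓ N ≤ M ⊔ (P : Subgroup G) ⊓ C(X) := sup_le le_sup_left fun t ht => by
    obtain ⟨m, hm, a, ha, rfl⟩ := (mem_sup_of_norm nr).1 (c1.ge ht.2)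
    refine mul_mem_sup hm ⟨ha, fun x hx => commutatorElement_eq_one_iff_mul_comm.1 (mem_bot.1
      (c2.le (mem_inf.2 ⟨?_, mul_mem (conj_mem_of_norm (x2 hx) ha) (inv_mem ha)⟩)))⟩
    rw [show ⁅x, a⁆ = x * m⁻¹ * x⁻¹ * ⁅x, m * a⁆ * m by simp only [commutatorElement_def]; group]
    exact mul_mem (mul_mem (hM.conj_mem _ (inv_mem hm) _)
      (a4 (commutator_mem_commutator (x1 hx) ht.1))) hm
  have h3 : ⁅M ⊔ T ⊓ N, zpowers u⁆ ≤ M := (commutator_mono h2 le_rfl).trans (commg_sup_left_le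
    (commutator_le_left _ _) ((commg_eq_bot.2 (cent_zpowers u ▸ u4)).le.trans bot_le) nr nr)
  have h4 : (M ⊔ T ⊓ N ⊔ zpowers u).relIndex N < (M ⊔ T ⊓ N).relIndex N :=
    relIndex_lt_left (left_lt_sup.2 fun e => by
      obtain ⟨m, hm, a, ha, rfl⟩ := (mem_sup_of_norm nr).1 (h2 (e (mem_zpowers u)))
      rw [mem_bot.1 (c2.le ⟨hm, (Subgroup.mul_mem_cancel_right _ ha.1).1 u3⟩), one_mul] at u2
      exact u2 ha.2) (sup_le (sup_le c5 inf_le_right) (zpowers_le.2 (c4 u3)))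
  have h5 := (deg_le_of_ab (sup_le (sup_le c5 inf_le_right) (zpowers_le.2 (c4 u3))) b1
    (le_trans (commg_sup_left_le (commg_sup_right_le ((der_sup_le nr).trans (sup_le le_rfl
      ((der_mono inf_le_left).trans a4))) h3 nr nr) (commg_sup_right_le ((commutator_comm _ _).le.trans h3)
        ((comm_iff_der.1 (comm_zpowers u)).le.trans bot_le) nr nr) nr nr) b2)).trans_lt h4
  have h6 : (M ⊔ T ⊓ N).relIndex N ∣ deg χ := by
    rw [a3, ← inf_relIndex_right T]; exact relIndex_dvd_left le_sup_right N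
  have h7 := (h.ndN b1 b3 a1 a2).1 ((pdvd (c3.dvd (irr_deg_dvd_relIndex
    (normalIn_top.of_le c5 le_top) b1 b2)) (c3.dvd (relIndex_dvd_left le_sup_left N)) (dn b1)
      h5.le).trans h6)
  exact (h7 ▸ h5).not_ge (Nat.le_of_dvd (irr_deg_pos a1) h6)

variable (hM : ⁅N, N⁆ ≤ Oc {p}ᶜ N)
include hM

theorem stA {w : Du ⁅N, N⁆} (w0 : w ≠ 0) : stabilizer G w ⊓ N = Ak N := by
  have hD := inf_eq_left.2 hM
  refine le_antisymm (fun g hg => mem_A.2 ⟨hg.2, al (fun a ha b hb w => ?_) (fun v w v0 w0 e => ?_)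
    hg.2 w0 hg.1⟩) fun g hg => ⟨(mem_A.1 hg).2 w, hg.1⟩
  · rw [← mul_smul, ← mul_smul, show a * b = ⁅a, b⁆ * (b * a) by
      simp only [commutatorElement_def]; group, mul_smul]
    exact le_st _ (commutator_mem_commutator ha hb)
  · obtain ⟨⟨χ, a1, a2, a3⟩, -⟩ := h.exw hD v0
    obtain ⟨⟨ξ, b1, b2, b3⟩, -⟩ := h.exw hD w0
    rw [h.idxw hD v0, ← inf_relIndex_right] at a3
    rw [h.idxw hD w0, ← inf_relIndex_right] at b3
    have c := le_inf e inf_le_right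
    refine le_trans (by_contra fun e => (relIndex_lt_left (lt_of_le_not_ge c e) inf_le_right).ne ?_)
      inf_le_left
    rw [← a3, ← b3, h.nd ξ b1 χ a1 b2 a2 (a3 ▸ b3 ▸ relIndex_dvd_left c N)]

theorem idxA {w : Du ⁅N, N⁆} (w0 : w ≠ 0) : (stabilizer G w).relIndex ⊤ = (Ak N).relIndex N := by
  rw [h.idxw (inf_eq_left.2 hM) w0, ← inf_relIndex_right, h.stA hM w0]

theorem step2 (ha : ⁅⁅N, N⁆, ⁅N, N⁆⁆ = ⊥) : Goal N := ⟨_, fun χ a b => by
  obtain ⟨w, w0, c⟩ := ex_du (ha.le.trans bot_le) a b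
  rw [h.degw (inf_eq_left.2 hM) w0 a c, h.idxA hM w0]⟩

end Hy

end H3.ND
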