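import Cfsg.Agent.H3.ND2

/-! No divisibility among character degrees and a disconnected graph: three degrees. -/

set_option autoImplicit false
set_option linter.unusedSectionVars false

open Subgroup MulAction H19 H20 H6 Cfsg H3.PT H3.GR
open scoped commutatorElement

namespace H3.ND

universe u
variable {G : Type u} [Group G] [Finite G] [Group.IsSolvable G] {p r : ℕ} [hp : Fact p.Prime]
  [hr : Fact r.Prime] {B D E K L N X : Subgroup G} {χ ψ φ ξ θ : G → ℂ} {g n x y : G}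

theorem ntv [D.Normal] (h : D ≠ ⊥) : ∃ w : Du D, w ≠ 0 :=
  have := Du.nontriv fun e => h (sol_eq_bot_of_le_der inferInstance e)
  exists_ne 0

namespace Hy
variable [hN : N.Normal] [hK : K.Normal] (h : Hy N K p) (hM : ⁅N, N⁆ ≤ Oc {p}ᶜ N)
include h hM

theorem nilD : Nil ⁅N, N⁆ := by
  by_cases h0 : ⁅N, N⁆ = ⊥
  · rw [h0]; exact nil_bot
  obtain ⟨w, w0⟩ := ntv h0
  have hD := inf_eq_left.2 hM
  obtain ⟨P⟩ : Nonempty (Sylow p G) := inferInstance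
  obtain ⟨X, -, x2, x3, x4⟩ := h.exX hD w0 P
  have a := h.PN (spi P)
  have c := commg_le_left x2
  obtain ⟨b, b1, b2⟩ := exists_orderOf_eq_prime hp.out (((spi P).of_le c).dvd_of_ne_one
    fun e => h.ncen P x4 (cents_symm (commg_eq_bot.1 (card_eq_one.1 e)))).2
  have d := h.fpfP hD (a (c b1)) (fun e => hp.out.ne_one (by
    rw [← b2, orderOf_eq_one_iff]
    exact mem_bot.1 ((ab_commg_inf_cent (comm_iff_der.2 (eq_bot_iff.2 ((le_inf (der_mono a)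
      (der_le _)).trans (h.DP hD P).le))) x2 ((spi P).coprime x3)).le ⟨b1, fun x hx =>
        commutatorElement_eq_one_iff_mul_comm.1 (mem_bot.1 ((h.DP hD P).le (mem_inf.2
          ⟨(mem_W.1 e).2 x, mul_mem (conj_mem_of_norm (x2 hx) (c b1)) (inv_mem (c b1))⟩)))⟩)))
    ((spi P).elt (c b1))
  exact H3.isNilpotent_of_fpf_prime (A := zpowers b) nr (by rw [Nat.card_zpowers, b2]; exact hp.out)
    (eq_bot_iff.2 fun y hy => d y hy.1 (by rw [hy.2 b (mem_zpowers b)]; simp))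

theorem inW [B.Normal] (hB : B ≤ ⁅N, N⁆) {w : Du B} (w0 : w ≠ 0) (hw : ⁅N, N⁆ ≤ stabilizer G w) :
    stabilizer G w ⊓ N ≤ Wd N := fun n hn => by_contra fun e => by
  have hD := inf_eq_left.2 hM
  obtain ⟨P⟩ : Nonempty (Sylow p G) := inferInstance
  have b : ⁅N, N⁆ ⊔ N((P : Subgroup G)) ⊓ N = N := by
    rw [← sup_inf_modl nr (der_le N), h.supH hD, top_inf_eq]
  obtain ⟨d, hd, y, hy, rfl⟩ := (mem_sup_of_norm nr).1 (b.ge hn.2)
  refine w0 (nofix ((fpfE (comm_iff_der.2 (eq_bot_iff.2 ((le_inf (der_mono inf_le_right)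
    ((der_le _).trans inf_le_left)).trans (h.infH hD P).le))) hy fun z hz => ?_).mono hB)
      ((mul_mem_cancel_left (hw hd)).1 hn.1))
  rw [b]
  exact h.conjW hy.2 (fun e' => e (mul_mem (le_W hd) e')) hz

theorem nq [B.Normal] (hB : B ≤ ⁅N, N⁆) (hf : r ∣ N.relIndex ⊤) (hw : ∀ w : Du B, w ∈ Fs _ (Ak N)) :
    NQ (Ak N) (Du B) r := ⟨hw, fun w w0 => by
  obtain ⟨χ, a⟩ := exists_ovr le_top w.lin.irr
  obtain ⟨b, c⟩ := mem_ovr.1 a
  obtain ⟨R, d⟩ := exists_syl r (stabilizer G w)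
  obtain ⟨Q, rfl⟩ := (d.of_idx le_top (PiN.of_not_dvd fun e => hr.out.ne_one
    (Nat.eq_one_of_dvd_coprimes (h.cf χ b (nk hB b w0 c)) hf
      ((Du.stab w ▸ e).trans (idx_dvd b w.lin.irr c))))).exists_sylow_top
  refine ⟨Q, d.le, d.sup_norm_of_nil_quo nr (H1.isNilpotent_of_commutator_le_centralizer ?_) nr
    le_normalizer⟩
  rw [← quo_comm nr nr, quo_cents_iff nr nr, commutator_comm]
  exact commutator_le.2 fun x _ y hy => le_A ((mem_W.1 (h.inW hM hB w0 (le_A.trans (hw w))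
    ⟨der_le _ hy, h.dG (der_mono le_top hy)⟩)).2 x)⟩

theorem nnorm (h0 : ⁅N, N⁆ ≠ ⊥) (hf : r ∣ N.relIndex ⊤) (Q : Sylow r G) :
    ¬ (Ak N ⊔ (Q : Subgroup G)).Normal := fun e => by
  obtain ⟨w, w0⟩ := ntv h0
  obtain ⟨x, a, b⟩ := SetLike.not_le_iff_exists.1 fun e =>
    (syl_sylow_top Q).not_dvd_relIndex hr.out e hf
  have c : (Ak N ⊔ (Q : Subgroup G)) ⊓ N ≤ K := by
    rw [sup_inf_modl (A := Ak N) nr inf_le_left, ← h.stA hM w0]
    refine sup_le ((h.inW hM le_rfl w0 (le_st w)).trans h.WK) ((le_of_pi_of_relIndex (H := K ⊓ N) nr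
      inf_le_right inf_le_right ((spi Q).infl N) ?_).trans inf_le_left)
    rw [inf_relIndex_right]
    exact h.pi.sing_ne (by rintro rfl; exact h.np hf)
  refine h.nle fun n hn => h.fp x b n hn (c ⟨?_, mul_mem (hN.conj_mem n hn x) (N.inv_mem hn)⟩)
  rw [mul_assoc, mul_assoc, ← mul_assoc n]
  exact mul_mem (mem_sup_right a) (e.conj_mem _ (mem_sup_right (inv_mem a)) n)

theorem big (hθ : θ ∈ Irr ⁅N, N⁆) (h1 : deg θ ≠ 1) : ∃ g ∈ N, cfj g⁻¹ θ = θ ∧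
    ∀ w : Du ⁅N, N⁆, g • w = w → w = 0 := by
  obtain ⟨w, w0⟩ := ntv (D := ⁅N, N⁆) fun e => h1 ((der_le_cker hθ).1
    ((der_le _).trans (e.le.trans bot_le)))
  obtain ⟨⟨χ, a1, a2, a3⟩, -⟩ := h.exw (inf_eq_left.2 hM) w0
  rw [h.idxA hM w0] at a3
  obtain ⟨g, a, b⟩ := SetLike.not_le_iff_exists.1 fun e : H20.inertia N θ ≤ Ak N => by
    obtain ⟨ψ, c⟩ := exists_ovr (der_le N) hθ
    have d := (mul_dvd_mul_right (relIndex_dvd_left e N) _).trans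
      (clifford_dvd (der_normal N) (mem_ovr.1 c).1 hθ (mem_ovr.1 c).2)
    rw [← a3] at d
    rw [← (h.ndN (mem_ovr.1 c).1 (fun e => h1 (Nat.eq_one_of_mul_eq_one_left (Nat.dvd_one.1 (e ▸ d))))
      a1 a2).2 ((dvd_mul_right _ _).trans d)] at d
    exact h1 (Nat.dvd_one.1 (Nat.dvd_of_mul_dvd_mul_left (irr_deg_pos a1) (by rwa [mul_one])))
  exact ⟨g, a.1, (inv_mem a).2, fun w e => by_contra fun w0 => b ((h.stA hM w0).le ⟨e, a.1⟩)⟩

theorem fix (hθ : θ ∈ Irr ⁅N, N⁆) (h1 : deg θ ≠ 1) (l : Du ⁅N, N⁆) : l.fn * θ = θ := by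
  have a := irr_mul_lin hθ l.lin
  obtain ⟨g, g1, g2, g3⟩ := h.big hM hθ h1
  obtain ⟨k, k1, k2, k3⟩ := h.big hM a (by
    rwa [deg_congr (ψ := θ) (by rw [Pi.mul_apply, l.lin.one, one_mul])])
  have b : cfj g⁻¹ (l.fn * θ) = (g • l + -l).fn * (l.fn * θ) := by
    rw [cfj_mul_fun, g2, Du.fn_add, mul_assoc, neg_mul' l hθ, Du.fn_smul]
  refine uniq g3 hθ g2 (b.trans (uniq k3 a k2 ?_))
  rw [← b, ← cfj_mul, show g⁻¹ * k⁻¹ = ⁅g⁻¹, k⁻¹⁆ * (k⁻¹ * g⁻¹) by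
    simp only [commutatorElement_def]; group, cfj_mul,
    (irr_cinv a).cfj_eq (commutator_mem_commutator (inv_mem g1) (inv_mem k1)), cfj_mul, k2]

theorem step3 (hU : ∀ L : Subgroup G, L.Normal → L ≤ ⁅N, N⁆ → L ≠ ⊥ → ⁅⁅N, N⁆, ⁅N, N⁆⁆ ≤ L) :
    ⁅⁅N, N⁆, ⁅N, N⁆⁆ = ⊥ := by_contra fun U0 => by
  have h0 := ne_bot_mono (der_le _) U0
  have h1 := h.nilD hM
  have hZ : ⁅N, N⁆ ≤ C(⁅⁅N, N⁆, ⁅N, N⁆⁆) := cents_symm ((hU _ (nt (norms_inf nr (norms_cent nr)))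
    inf_le_left (nil_center_ne_bot h1 h0)).trans inf_le_right)
  obtain ⟨s, hs, h2⟩ := exists_Oc_ne_bot (M := ⁅N, N⁆) inferInstance h0
  have h3 : PG s ⁅N, N⁆ := by
    rw [← (nil_dprod h1 {s}).sup, by_contra fun e => U0 (eq_bot_iff.2 ((le_inf (hU _ (Oc_n _)
      (Oc_le _ _) h2) (hU _ (Oc_n {s}ᶜ) (Oc_le _ _) e)).trans (Oc_inf_Oc_compl _ _).le)), sup_bot_eq]
    exact Oc_pi _ _
  have h4 : ⁅Ak N, ⁅N, N⁆⁆ ≤ C(⁅N, N⁆) :=
    (Du.comm_le fun w g hg => (mem_A.1 hg).2 w).trans (cents_symm hZ)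
  obtain ⟨r, hr, hf⟩ := Nat.exists_prime_and_dvd fun e => h.ne (top_le_iff.1 (relIndex_eq_one.1 e))
  have := Fact.mk hr
  obtain ⟨a, a1, a2⟩ := (h.nq hM (der_le _) hf fun w => Du.mem_Fs.2 (by
    rw [commutator_comm, three_subgroup (commg_eq_bot.2 ((commutator_comm _ _).le.trans h4))
      (commg_eq_bot.2 h4)]
    exact bot_le)).count
  obtain ⟨b, b1, b2⟩ := (h.nq hM le_rfl hf fun w g hg => (mem_A.1 hg).2 w).count
  obtain ⟨m, hm⟩ := h3.exists_pow (card_ne_zero _)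
  have c1 := Du.card_dvd.trans ((card_dvd_of_le (der_le ⁅N, N⁆)).trans hm.dvd)
  have c2 := Du.card_dvd.trans hm.dvd
  obtain ⟨x, x1, x2⟩ := SetLike.exists_of_lt (sol_der_lt (H := ⁅N, N⁆) inferInstance h0)
  exact arith hs (a1.trans c1) c1 (b1.trans c2) c2 (Finite.one_lt_card_iff_nontrivial.2
    (not_subsingleton_iff_nontrivial.1 fun e => h.nnorm hM h0 hf default ((normal_map_iff _).1
      (Sylow.normal_of_subsingleton _)))) (Finite.one_lt_card_iff_nontrivial.2 (Du.nontriv fun e =>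
        U0 (sol_eq_bot_of_le_der inferInstance e))) (card_lt' hZ x1 x2 fun θ => h.fix hM) a2 b2

end Hy

theorem main (n : ℕ) : ∀ (G : Type u) [Group G] [Finite G] [Group.IsSolvable G], Nat.card G = n →
    ∀ (N K : Subgroup G) [N.Normal] [K.Normal], Hy N K p → Goal N := by
  induction n using Nat.strong_induction_on with
  | _ n ih =>
  rintro G _ _ _ rfl N K _ _ h
  by_cases e : ⁅N, N⁆ ⊓ Oc {p}ᶜ N = ⊥
  · exact h.case0 e
  obtain ⟨w, w0⟩ := ntv e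
  have hM := h.step1 rfl w0
  refine h.step2 hM (h.step3 hM fun L _ a b => ?_)
  have := (Subgroup.Normal.map ‹N.Normal› _ (QuotientGroup.mk'_surjective L))
  have := (Subgroup.Normal.map ‹K.Normal› _ (QuotientGroup.mk'_surjective L))
  have := (h.quot a).dser2 (ih _ (by
    rw [card_eq_card_quotient_mul_card_subgroup L]
    exact lt_mul_of_one_lt_right Nat.card_pos (L.one_lt_card_iff_ne_bot.2 b)) _ rfl _ _ (h.quot a))
  rwa [← Subgroup.map_commutator, ← Subgroup.map_commutator, Subgroup.map_eq_bot_iff,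
    QuotientGroup.ker_mk'] at this

theorem three (nd : ∀ χ ∈ Irr (⊤ : Subgroup G), ∀ ξ ∈ Irr (⊤ : Subgroup G), deg χ ≠ 1 →
    deg χ ∣ deg ξ → deg χ = deg ξ) (hχ : χ ∈ Irr ⊤) (hψ : ψ ∈ Irr ⊤) (h1 : deg χ ≠ 1)
    (h2 : deg ψ ≠ 1) (hc : ∀ ξ ∈ Irr (⊤ : Subgroup G), (deg χ).Coprime (deg ξ) ∨
      (deg ψ).Coprime (deg ξ)) :
    ∃ f m, ∀ ξ ∈ Irr (⊤ : Subgroup G), deg ξ = 1 ∨ deg ξ = f ∨ deg ξ = m := by
  obtain ⟨K, -, hK⟩ := exists_crit (NormalIn.bot ⊤) (fun e => h1 ((der_le_cker hχ).1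
    (e.trans bot_le))) (sol_quo inferInstance _)
  obtain ⟨β, b1, b2, b3⟩ := exists_nonlin hK.normal hK.ne
  have f : ∀ d, d ≠ 0 → ∀ ξ ∈ Irr (⊤ : Subgroup G), deg ξ = deg β * d → d = 1 := fun d _ ξ a e =>
    (Nat.mul_eq_left (dn b1)).1 (e.symm.trans (nd β b1 ξ a b3 ⟨d, e⟩).symm)
  have z : ∀ ξ ∈ Irr (⊤ : Subgroup G), (∀ φ ∈ Irr (⊤ : Subgroup G), deg φ ≠ 1 →
      ¬ (deg φ).Coprime (deg ξ)) → False := fun ξ a e => (hc ξ a).elim (e χ hχ h1) (e ψ hψ h2)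
  rcases hK.cases with hA | hB
  · obtain ⟨p, hp, h5⟩ := hK.exists_pg hA
    refine (z β b1 fun φ a e => Nat.not_coprime_of_dvd_of_dvd hp.one_lt (by_contra fun e' => e ?_)
      ((h5.dvd (irr_deg_dvd_relIndex hK.normal b1 b2)).dvd_of_ne_one b3).2).elim
    exact f _ (dn a) _ (hK.mul_irr hA b1 b2 b3 (irr_chr a) (Res_irr_of_coprime hK.nZ a
      ((h5.dvd (relIndex_dvd_left (le_CM hK.normal.le ⊤) ⊤)).coprime (PiN.of_not_dvd e'))))
      (deg_mul (irr_chr b1) (irr_chr a))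
  have h5 := hK.deg_eq hB b1 b2 b3
  obtain ⟨p, hp, h6, h7, -⟩ := hK.exists_p
  have h8 := hK.cop hB
  have h9 := fun θ => frob_deg (ψ := θ) hK.normal hK.nN le_sup_left hK.ab hB
  have := Fact.mk hp
  have := nt hK.normal.norm
  have := nt hK.nN.norm
  have i1 := hK.ab
  have i2 : ¬ K ⊔ ⁅(⊤ : Subgroup G), ⊤⁆ ≤ K := fun e => hK.ne (le_sup_right.trans e)
  have i3 : ⁅(⊤ : Subgroup G), ⊤⁆ ≤ K ⊔ ⁅⊤, ⊤⁆ := le_sup_right
  generalize K ⊔ ⁅(⊤ : Subgroup G), ⊤⁆ = N at *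
  have j1 : ∀ φ ∈ Irr (⊤ : Subgroup G), ⁅N, N⁆ ≤ cker φ → deg φ = 1 ∨ deg φ = deg β :=
    fun φ a e => or_iff_not_imp_left.2 fun e' =>
      nd φ a β b1 e' (h5 ▸ deg_dvd_of_ab normalIn_top a e)
  have j2 : ∀ φ ∈ Irr (⊤ : Subgroup G), ¬ ⁅N, N⁆ ≤ cker φ → p ∣ deg φ := fun φ a e => by
    obtain ⟨θ, c, d, e⟩ := ex_nl a (der_le N) e
    refine ((h9 θ c).elim (fun ⟨ξ, c', d'⟩ => absurd ((der_le_cker c).2 (f _ (dn c) ξ c' (h5 ▸ d'))) e)
      fun e => hp.dvd_of_dvd_pow (h7.trans e)).trans (GR.deg_dvd a c d)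
  obtain ⟨m, t⟩ := main _ G rfl N K (p := p) ⟨i3, i1, i2, fun e => b3 (by rw [h5, e, relIndex_self]),
    h6, fun e => hp.ne_one (Nat.eq_one_of_dvd_coprimes h8 e h7), fun x => hB x trivial,
    fun ξ a b => by_contra fun e => z ξ a fun φ c d => (em _).elim
      (fun e' => by rwa [(j1 φ c e').resolve_left d, h5])
      fun e' => Nat.not_coprime_of_dvd_of_dvd hp.one_lt (j2 φ c e') (j2 ξ a b), j2,
    fun ξ a φ b c _ => nd ξ a φ b fun e => c ((der_mono le_top).trans ((der_le_cker a).2 e))⟩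
  exact ⟨deg β, m, fun ξ a => (em _).elim (fun e => (j1 ξ a e).imp_right Or.inl)
    fun e => Or.inr (Or.inr (t ξ a e))⟩

end H3.ND
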