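import Cfsg.Agent.H13.O85

/-! # Element orders at most eight: extensions -/

set_option autoImplicit false
set_option linter.unusedSectionVars false

open Cfsg
namespace H3.O8

open H19 Subgroup H5 H5.FP H2.GW H13.O8
open scoped Pointwise commutatorElement MatrixGroups

universe u

variable {G : Type u} [Group G] [Finite G] {R : Type*} [Group R] [Finite R] {f : G →* R}
  {n p q : ℕ} {K L M N P Q S X : Subgroup G} {a s t u x y : G}

theorem syl_mod (hp : p.Prime) (h : Syl p S M) : N(S).relIndex M ≡ 1 [MOD p] := by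
  haveI := Fact.mk hp
  obtain ⟨Q, rfl⟩ := h.exists_sylow
  have h1 := card_sylow_modEq_one p M
  rw [Q.card_eq_index_normalizer] at h1
  convert h1 using 1
  rw [relIndex, subgroupOf_normalizer_eq h.le, subgroupOf,
    comap_map_eq_self_of_injective (subtype_injective _)]
  rfl

theorem pq (hq : q = 5 ∨ q = 7) : q.Prime := by rcases hq with rfl | rfl <;> norm_num

theorem fd' (h : O G) (hq : q = 5 ∨ q = 7) (o : orderOf x = q) (hs : PiE {q}ᶜ s) (n : s ∈ N(zpowers x)) :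
    FD (zpowers x) s :=
  ⟨n, fun i i0 i1 => eq_bot_iff.2 fun y hy => by_contra fun e => pow_ne_one_of_lt_orderOf i0.ne' i1
    (h.eq1 hq (h.odd ((PiN.of_card (pq hq) (by rw [Nat.card_zpowers, o])).elt hy.1) (by omega) e)
      (mem_cent1.1 hy.2).symm (hs.e_pow i))⟩

theorem cnt (h : O G) (hq : q = 5 ∨ q = 7) (hx : x ∈ M) (o : orderOf x = q) (n : ¬ q * q ∣ #M) :
    Syl q (zpowers x) M ∧ ∃ e i, e ∣ q - 1 ∧ #(M ⊓ N(zpowers x)) = q * e ∧ #M = q * e * i ∧ i % q = 1 ∧
      ∃ s ∈ M ⊓ N(zpowers x), orderOf s = e := by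
  haveI := Fact.mk (pq hq)
  have c : #(zpowers x) = q := by rw [Nat.card_zpowers, o]
  have hP : Syl q (zpowers x) M := syl_mk (zpowers_le.2 hx) (.of_card (pq hq) c) fun d => n (by
    rw [← card_mul_relIndex (zpowers_le.2 hx), c]; exact Nat.mul_dvd_mul_left q d)
  have e := IsCyclic.mulAutMulEquiv (zpowers x)
  rw [c] at e
  haveI : IsCyclic (MulAut (zpowers x)) := isCyclic_of_surjective e.symm e.symm.surjective
  let ψ := (zpowers x).normalizerMonoidHom.comp (inclusion (inf_le_right : M ⊓ N(zpowers x) ≤ _))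
  have l : zpowers x ≤ M ⊓ N(zpowers x) := le_inf hP.le le_normalizer
  have k : ψ.ker = (zpowers x).subgroupOf _ := by
    have : M ⊓ C(zpowers x) = zpowers x := hP.max (le_inf hP.le (comm_iff_le_cent.1 inferInstance)) inf_le_left
      (PiN.of_elt fun y hy => (PiN.prime_pow (pq hq) 1).dvd (orderOf_dvd_of_pow_eq_one
        (by rw [pow_one]; exact h.cp hq o (mem_cent.1 hy.2 x (mem_zpowers x)).symm)))
    ext y
    rw [MonoidHom.mem_ker, MonoidHom.comp_apply, ← MonoidHom.mem_ker, normalizerMonoidHom_ker, mem_subgroupOf,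
      mem_subgroupOf]
    exact ⟨fun a => this.le ⟨y.2.1, a⟩, fun a => (this.ge a).2⟩
  have c1 := ψ.ker.card_mul_index
  rw [index_ker, k, card_subgroupOf' l, c] at c1
  refine ⟨hP, _, N(zpowers x).relIndex M, (card_subgroup_dvd_card ψ.range).trans ?_, c1.symm, ?_, ?_, ?_⟩
  · rw [Nat.card_congr e.toEquiv, Nat.card_eq_fintype_card, ZMod.card_units]
  · rw [c1, ← card_mul_relIndex (inf_le_left : M ⊓ N(zpowers x) ≤ M), inf_relIndex_left]
  · exact Eq.trans (syl_mod (pq hq) hP) (Nat.mod_eq_of_lt (pq hq).one_lt)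
  · obtain ⟨s, e⟩ := Ord.of_surj ψ.rangeRestrict_surjective
      (let ⟨g, e⟩ := IsCyclic.exists_ofOrder_eq_natCard (α := ψ.range); ⟨g, e⟩)
    exact ⟨s, s.2, (orderOf_coe s).trans e⟩

theorem ix0 (h : O G) [L.Normal] (hq : q = 5 ∨ q = 7) (d : q ∣ #L) (n : ¬ q * q ∣ #L) (d3 : 3 ∣ #L) (n3 : ¬ 27 ∣ #L) :
    ∃ e i, #L = q * e * i ∧ i % q = 1 ∧ e * L.index ∣ q - 1 ∧
      ∃ x s : G, orderOf x = q ∧ s ∈ N(zpowers x) ∧ orderOf s = e * L.index := by
  have i5 : ¬ q ∣ L.index := fun d => by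
    obtain ⟨S, hS⟩ := exists_syl 3 L
    have fr := hS.frattini normalIn_top
    rw [← relIndex_top_right, ← fr, relIndex_sup_of_norm le_normalizer_of_normal] at d
    obtain ⟨y, hy, oy⟩ := exists_orderOf_eq_prime (pq hq) (d.trans (relIndex_dvd_card _ _))
    have a := h.mod hq (hS.pi.sing_ne (by omega)) oy hy.2
    obtain ⟨k, c⟩ := hS.pi.exists_card
    have b := hS.sdvd_card Nat.prime_three d3
    have : k < 3 := by
      by_contra! l
      exact n3 (((pow_dvd_pow 3 l).trans c.symm.dvd).trans (card_dvd hS.le))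
    rw [c] at a b
    interval_cases k <;> rcases hq with rfl | rfl <;> simp at a b
  obtain ⟨x, hx, o⟩ := exists_orderOf_eq_prime (pq hq) d
  obtain ⟨hP, e, i, -, c1, c2, c3, -⟩ := cnt h hq hx o n
  obtain ⟨-, e', -, d', c4, -, -, s, hs, os⟩ := cnt h hq (mem_top x) o fun k => n (by
    rw [card_top, ← L.index_mul_card] at k
    exact (((Nat.Prime.coprime_iff_not_dvd (pq hq)).2 i5).mul_left
      ((Nat.Prime.coprime_iff_not_dvd (pq hq)).2 i5)).dvd_of_dvd_mul_left k)
  have fr := hP.frattini normalIn_top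
  have c5 := card_mul_relIndex (inf_le_right : L ⊓ N(zpowers x) ≤ _)
  rw [top_inf_eq] at fr c4
  rw [inf_relIndex_right, ← relIndex_sup_of_norm le_normalizer_of_normal, fr, relIndex_top_right, c1, c4,
    mul_assoc] at c5
  obtain rfl := Nat.eq_of_mul_eq_mul_left (pq hq).pos c5
  exact ⟨e, i, c2, c3, d', x, s, o, hs.2, os⟩

theorem ix : IX.{u} := fun K _ _ L h _ hL => by
  have key : ∀ {q c : ℕ}, (q = 5 ∨ q = 7) → #L = c → (q ∣ c ∧ ¬ q * q ∣ c ∧ 3 ∣ c ∧ ¬ 27 ∣ c) →
      ∃ e i, c = q * e * i ∧ i % q = 1 ∧ e * L.index ∣ q - 1 := fun hq e k =>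
    let ⟨a, b, k1, k2, k3, _⟩ := ix0 h hq (e ▸ k.1) (e ▸ k.2.1) (e ▸ k.2.2.1) (e ▸ k.2.2.2); ⟨a, b, e ▸ k1, k2, k3⟩
  have a7 : #L = 2520 → L.index = 1 := fun c => by
    obtain ⟨e, i, k1, k2, k3⟩ := key (.inl rfl) c (by decide)
    have := Nat.le_of_dvd (by decide) (Dvd.dvd.trans (Dvd.intro _ rfl) k3)
    have := Nat.le_of_dvd (by decide) k3
    have := Nat.pos_of_ne_zero (index_ne_zero_of_finite (H := L))
    interval_cases e <;> omega
  have i2 : L.index ∣ 2 := by
    rcases hL.card with c | c | c | c | c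
    rotate_left 2
    · obtain ⟨e, i, k1, k2, k3⟩ := key (.inr rfl) c (by decide)
      have := Nat.le_of_dvd (by decide) (Dvd.dvd.trans (Dvd.intro _ rfl) k3)
      obtain rfl : e = 3 := by interval_cases e <;> omega
      exact Nat.dvd_of_mul_dvd_mul_left (by decide) k3
    · simp [a7 c]
    all_goals
      obtain ⟨e, i, k1, k2, k3⟩ := key (.inl rfl) c (by decide)
      have := Nat.le_of_dvd (by decide) (Dvd.dvd.trans (Dvd.intro _ rfl) k3)
      obtain rfl : e = 2 := by interval_cases e <;> omega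
      exact Nat.dvd_of_mul_dvd_mul_left (by decide) k3
  refine ((Nat.dvd_prime Nat.prime_two).1 i2).imp index_eq_one.1 fun e => ⟨e, ⟨fun a => ?_⟩⟩
  have := a7 (cardA a (by decide))
  omega

theorem nc (h : O G) {V : Subgroup G} (hV : PG p V) (V1 : V ≠ ⊥) {a : R} (ha : a ∈ (⊤ ⊓ C(V ⊓ ⊤)).map f)
    (c : p.Coprime (orderOf a)) : p * orderOf a ≤ 8 := by
  obtain ⟨X, hX⟩ := hV.exists_el1 V1
  obtain ⟨y, hy, rfl⟩ := ha
  exact h _ (ord_cent hX (cent_mono (le_inf hX.le le_top)) (Ord.of_dvd ⟨⟨y, hy.2⟩, orderOf_mk ..⟩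
    (orderOf_map_dvd f y)) c)

theorem x3 : X3.{u} := fun G K _ _ _ _ f L h hf hk i ⟨e⟩ => by_contra fun k1 => by
  haveI := L.normal_of_index_eq_two i
  have c := card32 e
  obtain ⟨e, j, k2, k3, k4, x, s, o, hs, os⟩ := ix0 (L := L) (h.quo hf) (.inr rfl) (by rw [c]; decide)
    (by rw [c]; decide) (by rw [c]; decide) (by rw [c]; decide)
  rw [i] at k4 os
  obtain rfl : e = 3 := by
    have := Nat.le_of_dvd (by decide) k4
    have : e ≤ 3 := by omega
    interval_cases e <;> omega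
  have e := map_top_of_surjective _ hf
  have hP : PG 7 (zpowers x) := .of_card (by norm_num) (by rw [Nat.card_zpowers, o])
  rcases maz2 f ⊤ (hk.infl _).sol (e ▸ le_top) (e ▸ mem_top s)
    (fd' (h.quo hf) (.inr rfl) o (.of_not_dvd (by rw [os]; decide)) hs)
    ((hP.sing_ne (by decide)).coprime' (hk.infl _)) with a | ⟨r, hr, d, a⟩
  · have := nc h hk k1 (a (mem_zpowers x)) (o ▸ by decide)
    omega
  · rw [hk.infl _ r hr d, os] at a
    exact h.no (by decide) a.sub

/-- a Frobenius subgroup -/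
def Fr {R : Type*} [Group R] (L : Subgroup R) (a b : ℕ) : Prop :=
  ∃ X ≤ L, ∃ s ∈ L, X ≠ ⊥ ∧ PG a X ∧ orderOf s = b ∧ FD X s

/-- the relations of `A₄` -/
def Rl {S : Type*} [Group S] (a u : S) : Prop :=
  a ^ 2 = 1 ∧ a ≠ 1 ∧ u ^ 3 = 1 ∧ u * a * u⁻¹ ≠ a ∧
    a * (u * a * u⁻¹) = u * a * u⁻¹ * a ∧ u * (u * a * u⁻¹) * u⁻¹ = a * (u * a * u⁻¹)

theorem fr4 {L : Subgroup R} {S : Type*} [Group S] (e : L ≃* S) (h : ∃ a u : S, Rl a u) : Fr L 2 3 := by
  obtain ⟨a, ha, u, hu, a2, a1, u3, ne, c, e1⟩ : ∃ a ∈ L, ∃ u ∈ L, Rl a u := by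
    obtain ⟨a, u, h⟩ := h
    have hf : Function.Injective (L.subtype.comp e.symm.toMonoidHom) := L.subtype_injective.comp e.symm.injective
    refine ⟨_, (e.symm a).2, _, (e.symm u).2, ?_⟩
    change Rl (L.subtype.comp e.symm.toMonoidHom a) (L.subtype.comp e.symm.toMonoidHom u)
    generalize L.subtype.comp e.symm.toMonoidHom = f at hf
    simpa only [Rl, ← map_pow, ← map_inv, ← map_mul, ← map_one f, hf.eq_iff, hf.ne_iff] using h
  have oa := orderOf_of_pow Nat.prime_two a2 a1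
  have k : K4 a (u * a * u⁻¹) := ⟨oa, (orderOf_conj' u a).trans oa, ne.symm, c⟩
  have o := orderOf_of_pow Nat.prime_three u3 fun e => ne (by simp [e])
  have f : V4 a (u * a * u⁻¹) ⊓ C[u] = ⊥ := eq_bot_iff.2 fun x hx => by
    have c' : u * x * u⁻¹ = x := by rw [← mem_cent1.1 hx.2, mul_inv_cancel_right]
    rcases k.mem.1 hx.1 with rfl | rfl | rfl | rfl
    · exact one_mem _
    · exact absurd c' ne
    · exact absurd (c'.symm.trans e1) k.mul'.ne
    · rw [← conj_mul, e1, ← mul_assoc, ← c, mul_assoc a, mul_self_of_two k.s2, mul_one] at c'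
      exact absurd c' k.mul.ne
  refine ⟨_, V4_le.2 ⟨ha, mul_mem (mul_mem hu ha) (inv_mem hu)⟩, u, hu, fun e => by
    simpa [e] using k.card, k.pg, o, mem_norm_iff_cj.2 (by rw [cj_V4, e1, k.V4_mul']), fun j j0 j1 => ?_⟩
  rw [o] at j1
  interval_cases j
  · rwa [pow_one]
  · exact H19.eq_bot_mono (inf_le_inf_left _ (by
      have := cent1_le_cent1_pow (u ^ 2) 2
      rwa [← pow_mul, pow_succ u 3, u3, one_mul] at this)) f

open Equiv.Perm in
theorem rl7 : ∃ a u : A7, Rl a u :=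
  ⟨⟨c[0, 1] * c[2, 3], mem_alternatingGroup.2 (by decide)⟩, ⟨c[0, 1, 2], mem_alternatingGroup.2 (by decide)⟩,
    by unfold Rl; decide +kernel⟩

theorem rl3 : ∃ a u : L32, Rl a u := ⟨a3, e3, by unfold Rl; decide +kernel⟩

theorem frT {R : Type u} [Group R] [Finite R] {L : Subgroup R} (h : O R) (hL : Ty L) (hp : p.Prime) (p2 : p ≠ 2) :
    ∃ a b, a ≠ p ∧ 8 < p * b ∧ Fr L a b := by
  have p3 : 8 < p * 3 := by have := hp.two_le; omega
  rcases hL with a | a | ⟨⟨a⟩⟩ | ⟨⟨a⟩⟩ | a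
  · exact ⟨2, 3, p2.symm, p3, O6.Ty.fr3 (.inl a)⟩
  · exact ⟨2, 3, p2.symm, p3, O6.Ty.fr3 (.inr a)⟩
  · exact ⟨2, 3, p2.symm, p3, fr4 a rl3⟩
  · exact ⟨2, 3, p2.symm, p3, fr4 a rl7⟩
  have c := a.card
  have key : ∀ {q : ℕ}, (q = 5 ∨ q = 7) → ∃ e i, e ∣ q - 1 ∧ 20160 = q * e * i ∧ i % q = 1 ∧ Fr L q e := fun {q} hq => by
    obtain ⟨x, hx, o⟩ := exists_orderOf_eq_prime (H := L) (pq hq) (by rw [c]; rcases hq with rfl | rfl <;> decide)
    obtain ⟨hP, e, i, k1, -, k2, k3, s, hs, os⟩ := cnt h hq hx o (by rw [c]; rcases hq with rfl | rfl <;> decide)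
    exact ⟨e, i, k1, c ▸ k2, k3, _, hP.le, s, hs.1, by rw [Ne, zpowers_eq_bot]; rintro rfl; simp at o; omega, hP.pi, os,
      fd' h hq o (.of_not_dvd fun d => by
        have := Nat.le_of_dvd (by omega) ((os ▸ d).trans k1)
        omega) hs.2⟩
  by_cases p7 : p = 7
  · obtain ⟨e, i, k1, k2, k3, k⟩ := key (.inl rfl)
    have := Nat.le_of_dvd (by decide) k1
    exact ⟨5, e, by omega, by interval_cases e <;> omega, k⟩
  · obtain ⟨e, i, k1, k2, k3, k⟩ := key (.inr rfl)
    have := Nat.le_of_dvd (by decide) k1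
    exact ⟨7, e, by omega, by interval_cases e <;> omega, k⟩

theorem two {R : Type u} [Group R] [Finite R] {f : G →* R} {L : Subgroup R} (h : O G) (hf : Function.Surjective f)
    (hs : Sol f.ker) (hL : Ty L) : PG 2 f.ker := by
  induction c : #f.ker using Nat.strong_induction_on generalizing G with | _ n ih => ?_
  have k : ∀ (N : Subgroup G) [N.Normal], N ≠ ⊥ → N ≤ f.ker → PG 2 (f.ker.map (QuotientGroup.mk' N)) ∧
      #(f.ker.map (QuotientGroup.mk' N)) = N.relIndex f.ker := fun N _ N1 l => by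
    have e : #(f.ker.map (QuotientGroup.mk' N)) = N.relIndex f.ker := by
      rw [← relIndex_ker, QuotientGroup.ker_mk']
    rw [← QuotientGroup.ker_lift N f l] at e ⊢
    refine ⟨ih _ ?_ (h.quo (QuotientGroup.mk'_surjective N)) (QuotientGroup.lift_surjective_of_surjective N f hf l)
      ?_ rfl, e⟩
    · rw [e, ← c, ← card_mul_relIndex l]
      exact lt_mul_left (relIndex_pos _ _) (ne_bot_iff_one_lt_card.1 N1)
    · rw [QuotientGroup.ker_lift]
      exact Group.isSolvable_of_surjective (MonoidHom.subgroupMap_surjective _ _)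
  by_cases e : f.ker = ⊥
  · exact e ▸ PiN.bot
  have nO : ∀ p, (Oc {p} f.ker).Normal := fun p => (normalIn_top.Oc _).normal
  by_cases e2 : Oc {2} f.ker = ⊥
  swap
  · have := k _ e2 (Oc_le _ _)
    exact .of_relIndex' (Oc_le _ _) (Oc_pi _ _) (this.2 ▸ this.1)
  obtain ⟨p, hp, e3⟩ := exists_Oc_ne_bot hs e
  have p2 : 2 ≠ p := by rintro rfl; exact e3 e2
  have p3 : 3 ≤ p := by have := hp.two_le; omega
  obtain ⟨N, N1, hN, l, nN⟩ : ∃ N : Subgroup G, N ≠ ⊥ ∧ Abelem p N ∧ N ≤ f.ker ∧ N.Normal :=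
    ⟨_, (Oc_pi _ _).Ohm1_center_ne_bot e3, abelem_Ohm1_center p _, (Ohm1_le p _).trans (inf_le_left.trans
      (Oc_le _ _)), normalizer_eq_top_iff.1 (top_le_iff.1 ((normalizer_eq_top _).ge.trans
        (norm_le_norm_Ohm1_center p _)))⟩
  have pN := abelem_pg hp hN
  obtain ⟨x, hx, o⟩ := hL.big
  obtain ⟨q, hq, o⟩ : ∃ q, (q = 5 ∨ q = 7) ∧ orderOf x = q := ⟨_, o, rfl⟩
  obtain ⟨k1, k2⟩ := k N N1 l
  have hπ := QuotientGroup.mk'_surjective N
  have kπ := QuotientGroup.ker_mk' N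
  obtain ⟨y, rfl⟩ := (QuotientGroup.lift_surjective_of_surjective N f hf l) x
  haveI := Normal.map (inferInstance : f.ker.Normal) _ hπ
  have oy := (h.quo hπ).big (by omega) (o ▸ orderOf_map_dvd _ y)
  have c1 : f.ker ≤ C(N) := by
    rcases maz2 (QuotientGroup.mk' N) ⊤ (by rw [kπ]; exact (pN.infl _).sol) (map_mono le_top)
      (by rw [map_top_of_surjective _ hπ]; exact mem_top y) ((h.quo hπ).fd hq (k1.sing_ne (by omega))
        oy (le_normalizer_of_normal (mem_top y)))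
      (by rw [kπ]; exact k1.coprime ((pN.infl _).sing_ne p2.symm)) with a | ⟨r, hr, d, a⟩
    · rw [Subgroup.map_le_map_iff, kπ, inf_top_eq, top_inf_eq] at a
      exact a.trans (sup_le le_rfl (comm_iff_le_cent.1 hN.1))
    · rw [kπ] at d
      rw [pN.infl _ r hr d, oy] at a
      exact absurd a.sub (h.no (by rcases hq with rfl | rfl <;> omega))
  obtain ⟨S, hS⟩ := exists_syl 2 f.ker
  have e4 := hS.sup_eq l (k2 ▸ k1)
  rw [H19.eq_bot_mono (le_Oc ⟨hS.le, e4.ge.trans (sup_le (norms_of_cents (cents_symm (hS.le.trans c1)))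
    le_normalizer)⟩ hS.pi) e2, sup_bot_eq] at e4
  subst e4
  obtain ⟨a, b, ap, pb, K, l1, s, s1, K1, K2, s3, hs⟩ := frT (h.quo hf) hL hp p2.symm
  rcases maz3 f ⊤ (pN.infl _).sol (by rw [map_top_of_surjective _ hf]; exact le_top) hL.simple' l1 K1 s1 hs
    (K2.coprime ((pN.infl _).sing_ne ap.symm)) with a | ⟨r, hr, d, a⟩
  · by_cases p5 : p = q
    · obtain ⟨y, hy, o3⟩ := exists_orderOf_eq_prime (H := L) Nat.prime_three (by
        rcases hL.card with e | e | e | e | e <;> simp [e])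
      have := nc h pN N1 (a hy) (by rw [o3, p5]; rcases hq with rfl | rfl <;> decide)
      rw [o3] at this
      omega
    · have := nc h pN N1 (a hx) (o ▸ (Nat.coprime_primes hp (pq hq)).2 p5)
      rw [o] at this
      rcases hq with rfl | rfl <;> omega
  · rw [pN.infl _ r hr d, s3] at a
    exact absurd a.sub (h.no pb)

theorem ns : NS.{u} := fun G _ _ h hs ih => by
  have hf := QuotientGroup.mk'_surjective (solvableRadical G)
  have hk := QuotientGroup.ker_mk' (solvableRadical G)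
  have hF := H1.solvRad_eq_bot_iff_fitting_eq_bot.1 (H1.solvRad_quotient_solvRad (G := G))
  have h' := h.quo hf
  haveI : Nontrivial (G ⧸ solvableRadical G) := QuotientGroup.nontrivial_iff.2 (mt H1.solvRad_eq_top_iff.1 hs)
  obtain ⟨L, hL, _, cL⟩ : ∃ L : Subgroup (G ⧸ solvableRadical G), Ty L ∧ L.Normal ∧ C(L) = ⊥ := by
    have fa : ∀ X : Subgroup (G ⧸ solvableRadical G), (∀ L, IsComponent L → L ≤ X) → C(X) = ⊥ := fun X k =>
      H19.eq_bot_mono ((cent_mono (by rw [H1.gf_def, hF, sup_bot_eq]; exact H1.layer_le_iff.2 k)).trans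
        H1.centralizer_gf_le_fitting) hF
    have sz : ∀ L : Subgroup (G ⧸ solvableRadical G), IsComponent L → Ty L := fun L hL => by
      haveI := H1.component_isSimpleGroup_of_fitting_eq_bot hF hL
      exact ih L (fun k => H1.Quasisimple.not_isSolvable hL.2 (sol_of_ab k)) (h'.sub L)
        ((Nat.le_of_dvd Nat.card_pos (card_subgroup_dvd_card L)).trans (Nat.card_le_card_of_surjective _ hf))
    obtain ⟨L, c1⟩ : ∃ L : Subgroup (G ⧸ solvableRadical G), IsComponent L := by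
      by_contra! k
      exact top_ne_bot (cent_bot.symm.trans (fa ⊥ fun L a => (k L a).elim))
    have k : ∀ K, IsComponent K → K = L := fun K c2 => by_contra fun ne => by
      obtain ⟨x, hx, o⟩ := (sz _ c1).big
      obtain ⟨y, hy, y3⟩ := exists_orderOf_eq_prime (H := K) Nat.prime_three (by
        rcases (sz _ c2).card with e | e | e | e | e <;> simp [e])
      rcases o with o | o <;> exact h'.no (by decide) (ord_mul y3 o (mem_cent.1 (commg_eq_bot.1
        (H1.commutator_eq_bot_of_component_ne c2 c1 ne) hy) x hx).symm (by decide))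
    exact ⟨L, sz _ c1, normalizer_eq_top_iff.1 (eq_top_iff.2 fun g _ =>
      mem_norm_iff_cj.2 (k _ (H1.isComponent_conj c1 g))), fa _ fun L a => (k L a).le⟩
  exact ⟨_, _, inferInstance, _, L, hf, two h hf (by rw [hk]; exact H1.solvRad_isSolvable) hL, ‹_›, hL, cL⟩

end H3.O8
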