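import Cfsg.Agent.H13.O81
import Cfsg.Agent.H11.Small
import Cfsg.Agent.H28.CharP
import Cfsg.Agent.S2808
import Cfsg.Agent.S3090

/-! # Element orders at most eight: the cases `A₅` and `S₅` -/

set_option autoImplicit false
set_option linter.unusedSectionVars false

open Cfsg
namespace H3.O8

open H19 Subgroup H5 H5.FP H2.GW H13.O8
open scoped Pointwise commutatorElement MatrixGroups

universe u

variable {G : Type u} [Group G] [Finite G] {M P Q R S T U X : Subgroup G} {x y : G}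

theorem ch_iff : Ch X ↔ centralizer (pCore 2 X : Set X) ≤ pCore 2 X := by
  rw [← H28.isCharP_iff, Ch, ← pCore_map_eq Nat.prime_two]; rfl

theorem o2 (k : H13.O8.Lc M Q) (h : X ⊴ M) (p : PG 2 X) : X ≤ Q := by_contra fun n => by
  obtain ⟨x, hx, o⟩ := k.sim X h n
  rcases o with o | o <;> exact absurd (p.elt hx _ (by rw [o]; norm_num) dvd_rfl) (by rw [o]; simp)

theorem o2M (k : H13.O8.Lc M Q) : Oc {2} M = Q :=
  (o2 k ((NormalIn.refl M).Oc _) (Oc_pi _ _)).antisymm (le_Oc k.nrm k.pg)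

theorem chM (k : H13.O8.Lc M Q) : Ch M := by rw [Ch, o2M k]; exact inf_le_right.trans k.cq

theorem sl24 : Nonempty (A5 ≃* SL(2, GaloisField 2 2)) := by
  haveI := Fintype.ofFinite (GaloisField 2 2)
  have c : Fintype.card (GaloisField 2 2) = 4 := by
    rw [← Nat.card_eq_fintype_card, GaloisField.card 2 2 (by decide)]; rfl
  obtain ⟨e⟩ := H11.nonempty_psl2_four_equiv c
  exact ⟨e.symm.trans (H11.quotCenterEquivOfBot (card_eq_one.1 (H11.card_center_sl.trans (by rw [c]; simp))))⟩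

theorem a53 : A53.{u} := fun G _ _ M Q T h hG k i hT => by
  haveI : Fact (Nat.Prime 2) := ⟨Nat.prime_two⟩
  obtain ⟨f, hk, hr⟩ : ∃ f : M →* S5, (∀ x : M, f x = 1 ↔ (x : G) ∈ Q) ∧ A5 ≤ f.range := by
    rcases i with ⟨f, hf, hk⟩ | ⟨f, hf, hk⟩
    · exact ⟨A5.subtype.comp f, fun x => OneMemClass.coe_eq_one.trans (hk x),
        fun a ha => let ⟨x, e⟩ := hf ⟨a, ha⟩; ⟨x, congrArg Subtype.val e⟩⟩
    · exact ⟨f, hk, fun a _ => hf a⟩
  have l : oddGenerated M ≤ M := (closure_le _).2 fun x hx => hx.1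
  have nK : M ≤ N(oddGenerated M) := fun g hg => mem_norm_of_cj_le (map_le_iff_le_comap.2 ((closure_le _).2
    fun x hx => subset_closure ⟨mul_mem (mul_mem hg hx.1) (inv_mem hg), (orderOf_conj' g x).symm ▸ hx.2⟩))
  have rg : (f.comp (inclusion l)).range = A5 := by
    refine le_antisymm ?_ (Equiv.Perm.closure_three_cycles_eq_alternating.ge.trans ((closure_le _).2 fun σ hσ => ?_))
    · rintro _ ⟨x, rfl⟩
      obtain ⟨y, hy, e⟩ := (closure_le ((A5.comap f).map M.subtype)).2 (fun x hx => ⟨⟨x, hx.1⟩, by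
        have o : Equiv.Perm.sign (f ⟨x, hx.1⟩) ^ orderOf x = 1 := by
          rw [← map_pow, ← map_pow, show (⟨x, hx.1⟩ : M) ^ orderOf x = 1 from Subtype.ext (pow_orderOf_eq_one x),
            map_one, map_one]
        rcases Int.units_eq_one_or (Equiv.Perm.sign (f ⟨x, hx.1⟩)) with e | e
        · exact Equiv.Perm.mem_alternatingGroup.2 e
        · rw [e, hx.2.neg_one_pow] at o; exact absurd o (by decide), rfl⟩) x.2
      rwa [MonoidHom.comp_apply, show inclusion l x = y from Subtype.ext e.symm]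
    · obtain ⟨x, rfl⟩ := hr hσ.mem_alternatingGroup
      have d : 3 ∣ orderOf x := hσ.orderOf ▸ orderOf_map_dvd f x
      have := (h.sub M).le x
      have := orderOf_pos x
      have e : (x ^ 4) ^ 3 = 1 := by rw [← pow_mul]; exact orderOf_dvd_iff_pow_eq_one.1 (by
        obtain e | e : orderOf x = 3 ∨ orderOf x = 6 := by omega
        all_goals rw [e]; decide)
      refine ⟨⟨(x ^ 4 : M), subset_closure ⟨(x ^ 4).2, Odd.of_dvd_nat (by decide : Odd 3)
        (orderOf_dvd_of_pow_eq_one (congrArg Subtype.val e))⟩⟩, ?_⟩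
      change f (x ^ 4) = f x
      rw [map_pow, pow_succ, ← hσ.orderOf, pow_orderOf_eq_one, one_mul]
  obtain ⟨x, hx, o⟩ := k.sim M (.refl M) fun e => by
    obtain ⟨x, e'⟩ := hr (show Equiv.swap 0 1 * Equiv.swap 1 2 ∈ A5 from Equiv.Perm.mem_alternatingGroup.2 (by decide))
    rw [(hk x).2 (e x.2)] at e'
    exact absurd e' (by decide)
  have QK : Q ≤ oddGenerated M := (h.commg o k.pg (k.nQ hx)).ge.trans ((commutator_mono le_rfl (zpowers_le.2
    (show x ∈ oddGenerated M from Subgroup.subset_closure ⟨hx, by rcases o with o | o <;> rw [o] <;> decide⟩))).trans (commg_le_right (k.le.trans nK)))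
  have e2 : Oc {2} (oddGenerated M) = Q := (o2 k (NormalIn.Oc ⟨l, nK⟩ _) (Oc_pi _ _)).antisymm
    (le_Oc ⟨QK, l.trans k.nQ⟩ k.pg)
  have eN : N(oddGenerated M) = M := le_antisymm (by
    have := norm_le_norm_Oc {2} (oddGenerated M)
    rwa [e2, k.nm] at this) nK
  obtain ⟨T, rfl⟩ := hT.exists_sylow
  obtain ⟨e⟩ := sl24
  have := Cfsg.Agent.S3090.result hG M T (.inr ⟨2, by decide, ⟨(((QuotientGroup.quotientMulEquivOfEq ?_).trans
    (QuotientGroup.quotientKerEquivRange (f.comp (inclusion l)))).trans (MulEquiv.subgroupCongr rg)).trans e⟩⟩)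
    (fun S _ l1 l2 c => ?_) ?_
  · rwa [eN] at this
  · refine map_injective (subtype_injective _) ((pCore_map_eq Nat.prime_two _).trans (e2.trans (le_antisymm
      (fun x hx => ⟨⟨x, QK hx⟩, (hk _).2 hx, rfl⟩) ?_)))
    rintro _ ⟨x, hx, rfl⟩
    exact (hk _).1 hx
  · rw [pCore_map_eq Nat.prime_two, o2M k] at l1 ⊢
    rw [pCore_map_eq Nat.prime_two, e2] at c
    refine le_antisymm (fun s hs => (hk ⟨s, eN.le (l2 hs)⟩).1 ((injective_iff_map_eq_one _).1
      (H22.Alt.conj_injective (α := Fin 5) (by simp)) _ (MulEquiv.ext fun a => Subtype.ext ?_))) l1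
    obtain ⟨b, e⟩ := rg.ge a.2
    have := (hk (⟨s, eN.le (l2 hs)⟩ * inclusion l b * (⟨s, eN.le (l2 hs)⟩)⁻¹ * (inclusion l b)⁻¹)).2 (c s hs b b.2)
    rw [map_mul, map_mul, map_mul, map_inv, map_inv, mul_inv_eq_one] at this
    rw [MulAut.conjNormal_apply, MulAut.one_apply, ← e]; exact this
  · rw [eN]
    have mx : ∀ N, IsTwoLocal N → M ≤ N → N = M := by
      rintro _ ⟨D, p, D1, rfl⟩ l
      exact (k.mx D (pG_iff.2 p) D1 l).antisymm l
    exact Set.ext fun N => ⟨fun a => mx N a.1.1 a.2, fun e => by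
      rw [e]; exact ⟨⟨⟨Q, k.pg.isPGroup, k.ne, k.nm.symm⟩, mx⟩, le_rfl⟩⟩

theorem uniq (l : S ≤ U) (l' : U < X) (h : ∀ Y, S ≤ Y → Y ≤ X → Y ≤ U ∨ Y = X) :
    ∃! M : Subgroup X, IsCoatom M ∧ (inclusion (l.trans l'.le)).range ≤ M := by
  have k : ∀ Y : Subgroup X, (inclusion (l.trans l'.le)).range ≤ Y → Y ≠ ⊤ → Y ≤ U.subgroupOf X := fun Y a b =>
    (h (Y.map X.subtype) (fun s hs => ⟨_, a ⟨⟨s, hs⟩, rfl⟩, rfl⟩) (map_subtype_le Y)).elim
      (fun c y hy => c (mem_map_of_mem _ hy)) fun c => (b (H1.map_subtype_eq_self_iff.1 c)).elim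
  have r : (inclusion (l.trans l'.le)).range ≤ U.subgroupOf X := by rintro _ ⟨s, rfl⟩; exact l s.2
  have n : U.subgroupOf X ≠ ⊤ := fun e => l'.not_ge (subgroupOf_eq_top.1 e)
  exact ⟨_, ⟨⟨n, fun Y hY => by_contra fun e => hY.not_ge (k Y (r.trans hY.le) e)⟩, r⟩,
    fun Y hY => (hY.1.le_iff_eq n).1 (k Y hY.2 hY.1.1) |>.symm⟩

theorem s3 (k : P3 S R y) : ∃ (K : Subgroup (S ⊔ zpowers y : Subgroup G)) (_ : K.Normal),
    Nonempty (_ ⧸ K ≃* Equiv.Perm (Fin 3)) := by
  let A := S.subgroupOf (S ⊔ zpowers y)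
  have lR := k.le.trans (le_sup_left (b := zpowers y))
  haveI : (R.subgroupOf (S ⊔ zpowers y)).Normal := normal_subgroupOf_of_le_normalizer k.norm
  have e : A.normalCore = R.subgroupOf _ := le_antisymm (fun x hx => k.le_of (X := A.normalCore.map (Subgroup.subtype _))
    (by rintro _ ⟨a, ha, rfl⟩; exact A.normalCore_le ha) ((normalIn_map_subtype _).2 (mem_sup_right (mem_zpowers y)))
    (mem_map_of_mem _ hx)) (normal_le_normalCore.2 fun x hx => k.le hx)
  refine ⟨_, inferInstance, H27.equiv_perm_of_injective _ (QuotientGroup.kerLift_injective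
    (MulAction.toPermHom _ (_ ⧸ A))) k.idx3 ?_⟩
  have := card_mul_relIndex lR
  rw [k.card, k.card_S, mul_assoc] at this
  rw [← index_eq_card, ← normalCore_eq_ker, e]
  exact Nat.eq_of_mul_eq_mul_left (card_pos R) this

theorem gnc : GNC.{u} := fun G _ _ S h hS n => by
  haveI : Fact (Nat.Prime 2) := ⟨Nat.prime_two⟩
  obtain ⟨S₁, S₂, a1, a2, c1, c2, z, -, -, k⟩ := Cfsg.Agent.S2808.result hS.isPGroup _ (if_pos rfl).symm (.inr fun e =>
    n (by
      have := map_mono (f := S.subtype) ((commutator_mono (H1.commutator_le_frattini_of_isNilpotent hS.nil) le_rfl).trans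
        (le_sup_left.trans e.le))
      rw [map_commutator, map_subtype_commutator, H1.map_subtype_top, Subgroup.map_bot] at this
      exact commg_eq_bot.1 (le_bot_iff.1 this)))
  have z' : S₁.map S.subtype ≤ Z(S) := by
    rintro _ ⟨a, ha, rfl⟩
    exact ⟨a.2, mem_cent.2 fun g hg => congrArg Subtype.val (mem_center_iff.1 (z ha) ⟨g, hg⟩)⟩
  have b1 := mt (map_eq_bot_iff_of_injective _ S.subtype_injective).1 a1
  have key : ∀ {X U : Subgroup G}, Syl 2 S X → Ch X → S ≤ U → U < X → (∀ Y, S ≤ Y → Y ≤ X → Y ≤ U ∨ Y = X) →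
      (∃ (K : Subgroup X) (_ : K.Normal) (F : Type) (_ : Field F) (_ : Fintype F) (n : ℕ), 1 ≤ n ∧
        Fintype.card F = 2 ^ n ∧ Nonempty (X ⧸ K ≃* PSL(2, F))) →
      X ≤ N(S₁.map S.subtype) ∨ X ≤ N(S₂.map S.subtype) := fun {X U} s c l l' u q => by
    have nm : ∀ A : Subgroup S, (A.map (inclusion s.le)).Normal → X ≤ N(A.map S.subtype) := fun A _ => by
      rw [← subtype_comp_inclusion s.le, ← map_map]; exact (normalIn_map_subtype _).2
    refine (k X (inclusion s.le) (inclusion_injective _) ?_ (ch_iff.1 c) (uniq l l' u) q).imp (nm _) (nm _)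
    obtain ⟨P, e⟩ := s.exists_sylow
    exact ⟨P, map_injective (subtype_injective _) (by rw [e, inclusion_range, map_subgroupOf_eq_of_le s.le])⟩
  refine ⟨_, S₂.map S.subtype, b1, mt (map_eq_bot_iff_of_injective _ S.subtype_injective).1 a2, z',
    map_subtype_le _, H1.normalizer_le_normalizer_map_subtype _, fun M Q y t => ?_, fun R y p c => ?_⟩
  · refine (key t.syl (chM t.lc) le_sup_left ((sup_le t.syl.le (zpowers_le.2 t.yM)).lt_of_ne fun e => ?_)
      (fun Y a b => (t.ov Y a b).elim (fun e => .inl (e ▸ le_sup_left)) (.imp_left (·.le))) ?_).resolve_left fun a => ?_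
    · obtain ⟨g, hg, -, n⟩ := t.ex
      exact n (sup_le le_normalizer (zpowers_le.2 t.yN) (e.ge hg))
    · obtain ⟨f, hf, -⟩ := t.iso
      haveI := Fintype.ofFinite (GaloisField 2 2)
      have c : Fintype.card (GaloisField 2 2) = 4 := by
        rw [← Nat.card_eq_fintype_card, GaloisField.card 2 2 (by decide)]; rfl
      obtain ⟨e⟩ := H11.nonempty_psl2_four_equiv c
      exact ⟨f.ker, inferInstance, _, _, _, 2, by decide, c,
        ⟨(QuotientGroup.quotientKerEquivOfSurjective f hf).trans e.symm⟩⟩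
    · have := relIndex_eq_one.2 ((le_inf t.syl.le (cents_symm (z'.trans inf_le_right))).trans
        (t.lc.cw h (hS.of_le (map_subtype_le _)) b1 a))
      rw [t.idx] at this
      exact absurd this (by decide)
  · refine (key p.syl (p.ch c) le_rfl (le_sup_left.lt_of_ne fun e => p.not_mem p.pg (e.ge (mem_sup_right
      (mem_zpowers y)))) (fun Y a b => ?_) ?_).imp (fun a => p.gen (cents_symm (z'.trans inf_le_right))
        (norms_cent a (mem_sup_right (mem_zpowers y)))) fun a => a (mem_sup_right (mem_zpowers y))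
    · have := relIndex_mul_relIndex S Y _ a b
      rw [p.idx3] at this
      rcases (Nat.dvd_prime Nat.prime_three).1 (Dvd.intro _ this) with e | e
      · exact .inl (relIndex_eq_one.1 e)
      · exact .inr (b.antisymm (relIndex_eq_one.1 (by rw [e] at this; omega)))
    · obtain ⟨K, _, ⟨e⟩⟩ := s3 p
      obtain ⟨e'⟩ := H11.nonempty_psl2_two_equiv (F := ZMod 2) rfl
      exact ⟨K, ‹_›, ZMod 2, _, _, 1, le_rfl, rfl, ⟨e.trans e'.symm⟩⟩

end H3.O8
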