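import Cfsg.Agent.H13.O81
import Cfsg.Agent.H17.FX0

/-! # Element orders at most eight: sectional rank four, Baumann subgroups -/

set_option autoImplicit false
set_option linter.unusedSectionVars false

open Cfsg
namespace H3.O8

open H19 Subgroup H5 H5.FP H2.GW H13.O8
open scoped Pointwise commutatorElement MatrixGroups

universe u

variable {G : Type u} [Group G] [Finite G] {H V : Subgroup G}

theorem r4e : R4E.{u} := fun G _ _ V hV c h => by
  obtain ⟨S, hS, l⟩ := (abelem_pg Nat.prime_two hV).exists_syl le_top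
  exact H17.FX.sec_of_bk hS (H17.FX.e8 hS.pi l (fun _ => sq1 hV) c (inf_le_right.trans h))

theorem ex_sq (h : PG 2 H) (n : ¬ H ≤ V) : ∃ a ∈ H, a ∉ V ∧ a * a ∈ V := by
  obtain ⟨x, hx, n⟩ := SetLike.not_le_iff_exists.1 n
  obtain ⟨k, e⟩ := (h.elt hx).exists_pow (orderOf_pos x).ne'
  replace e : x ^ 2 ^ k ∈ V := by rw [← e, pow_orderOf_eq_one]; exact one_mem _
  induction k generalizing x with
  | zero => exact absurd (by simpa using e) n
  | succ k ih =>
    by_cases c : x * x ∈ V
    exacts [⟨x, hx, n, c⟩, ih _ (mul_mem hx hx) c (by rwa [← pow_two, ← pow_mul, ← pow_succ'])]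

theorem r4l : R4L.{u} := fun G _ _ V S hS n hV c rk h => H17.FX.sec_of_bk hS fun H M l l' s => by
  by_cases e : H ≤ V
  · exact ((card_le e).trans c.le).trans (Nat.le_mul_of_pos_right _ (card_pos M))
  obtain ⟨a, ha, na, a2⟩ := ex_sq (hS.pi.of_le l) e
  refine H17.FX.mul_bd (K := V) (a := 4) (b := 4) ((H17.FX.cent_bd (y := a) (Y := M ⊓ V) fun x hx => ⟨?_, ?_⟩).trans
    (Nat.mul_le_mul_right _ ((card_le (inf_le_inf_right _ inf_le_right)).trans (h a (l ha) na a2)))) ?_
  · change _ ∈ M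
    convert mul_mem (mul_mem (s _ (mul_mem hx.1 ha)) (s _ (mul_mem (mul_mem (inv_mem ha) (inv_mem hx.1)) ha)))
      (s _ (inv_mem ha)) using 1
    group
  · simpa [mul_assoc] using mul_mem hx.2 (conj_mem_of_norm (n.norm (l ha)) (inv_mem hx.2))
  · have h8 := (relIndex_le_of_le_right l (relIndex_pos V S).ne').trans (Nat.le_of_dvd (by decide) rk.1)
    have := relIndex_pos V M
    by_cases k : V.relIndex M = 1
    · have := rk.2 H l fun x hx => relIndex_eq_one.1 k (s x hx)
      omega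
    · omega

theorem csj : CSJ.{u} := fun G _ _ M Q S h k l l' j => by
  have e := JT_of_le j l'
  have n : M ≤ N(OZ (JT S)) := e ▸ k.nQ.trans ((norm_JT Q).trans (norm_OZ _))
  have c := k.cw h (OZ_pg _) (OZ_ne (k.pg.of_le j) (e ▸ JT_ne k.pg k.ne)) n
  have b : baumannSubgroupOf 2 S = Q ⊓ C(OZ (JT S)) :=
    le_antisymm (le_inf ((inf_le_inf_right _ l).trans c) inf_le_right) (inf_le_inf_right _ l')
  rw [b]
  refine iSup_le fun ⟨D, l, D1, ch⟩ => k.mx D (k.pg.of_le (l.trans inf_le_left)) D1 ((norms_inf k.nQ (norms_cent n)).trans ?_)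
  rw [← map_subgroupOf_eq_of_le l]
  exact H1.normalizer_le_normalizer_map_subtype _

end H3.O8
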