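import Cfsg.Agent.H3.O82
import Cfsg.Agent.H5.Af
import Cfsg.Agent.H10.ZStar3
import Cfsg.Agent.H15.Mathieu
import Cfsg.Agent.H27.Iso4
import Cfsg.Agent.S1059
import Cfsg.Agent.S1296
import Cfsg.Agent.S1625

/-! # Element orders at most eight: excluded groups, characteristic `2` type -/

set_option autoImplicit false
set_option linter.unusedSectionVars false

open Cfsg
namespace H3.O8

open H19 Subgroup H5 H5.FP H2.GW H13.O8
open scoped Pointwise commutatorElement MatrixGroups

universe u

variable {G : Type u} [Group G] [Finite G] {F : Type} [Field F] [Fintype F] {n p q : ℕ}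

theorem big (h : O G) (hp : p.Prime) (l : 7 < p) (e : Nat.card G = n) : ¬ p ∣ n := fun d => by
  rcases h.prime hp (e ▸ d) with rfl | rfl | rfl | rfl <;> omega

open H27.Sp in
/-- a regular unipotent element -/
theorem reg {K X : Type*} [Field K] [Group X] [Finite X] {Q : ℤ} (hS : Spec (K := K) X p (Adm Q n)) (hn : 0 < n) :
    Ord X (p ^ Nat.clog p n) :=
  hS.mem ((pre_sing one_ne_zero (one_zpow Q) hn).adm (by simp [dimD]) (by simp [detD])) fun _ k =>
    k.2 (1, n) (Multiset.mem_singleton_self _)

theorem l43 (h : O G) (c : Fintype.card F = 3) (e : G ≃* PSL(4, F)) : False := by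
  haveI : CharP F 3 := charP_of_card_eq_prime c
  exact h.no (n := 3 ^ Nat.clog 3 4) (by decide +kernel)
    ((ord_congr e).2 (reg (H27.Sp.psl_spec F (AlgebraicClosure F) 4) (by decide)))

theorem u43 (h : O G) (c : Fintype.card F = 9) (e : G ≃* PSU 4 F 3) : False := by
  haveI : CharP F 3 := charP_of_card_eq_prime_pow (f := 2) c
  exact h.no (n := 3 ^ Nat.clog 3 4) (by decide +kernel)
    ((ord_congr e).2 (reg (H27.Sp.psu_spec F (AlgebraicClosure F) (q := 3) c (by decide)) (by decide)))

theorem sp43 (h : O G) (c : Fintype.card F = 3) (e : G ≃* PSp 2 F) : False :=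
  h.no (n := 12) (by decide) ((ord_congr e).2 ((H27.Iso.psp4_ord F (p := 3) (j := 1) c le_rfl).2
    ⟨12, .inr (.inr (.inr (.inl rfl))), dvd_rfl⟩))

theorem g23 (h : O G) (c : Fintype.card F = 3) (e : G ≃* Lie.chevG2.group F) : False :=
  big h (p := 13) (by norm_num) (by decide) ((Nat.card_congr e.toEquiv).trans (Agent.S1059.result c)) (by decide)

theorem l33 (h : O G) (c : Fintype.card F = 3) (e : G ≃* PSL(3, F)) : False := by
  haveI : CharP F 3 := charP_of_card_eq_prime c
  have k := H27.Sp.spec_three (p := 3) H27.Sp.qp_nat (H27.Sp.psl_spec F (AlgebraicClosure F) 3)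
  refine h.no (n := 13) (by decide) ((ord_congr e).2 ((Set.ext_iff.1 k 13).2 (.inl ?_)))
  rw [Nat.card_eq_fintype_card, c]
  decide

theorem alt (h : O G) (l : 8 ≤ n) (e : G ≃* alternatingGroup (Fin n)) : False :=
  h.no (n := ({3, 5} : Multiset ℕ).lcm) (by decide +kernel)
    ((ord_congr e).2 (H5.alt_ord _ (by simpa using l) (by simp) (by decide)))

theorem m11 (h : O G) (e : Spor.IsoM11 G) : False := e.elim fun e =>
  big h (p := 11) (by norm_num) (by decide) ((Nat.card_congr e.toEquiv).trans H15.card_M11) (by decide)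

theorem m22 (h : O G) (e : Spor.IsoM22 G) : False := e.elim fun e =>
  big h (p := 11) (by norm_num) (by decide) ((Nat.card_congr e.toEquiv).trans H15.card_M22) (by decide)

theorem m23 (h : O G) (e : Spor.IsoM23 G) : False := e.elim fun e =>
  big h (p := 11) (by norm_num) (by decide) ((Nat.card_congr e.toEquiv).trans H15.card_M23) (by decide)

theorem j3 (h : O G) (e : Spor.IsoJ3 G) : False :=
  let ⟨F, _, _, ω, c, w, ⟨e⟩⟩ := e
  big h (p := 17) (by norm_num) (by decide)
    ((Nat.card_congr e.toEquiv).trans (Agent.S1625.result F c ω w).2.2.1) (by decide)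

theorem m11' (h : O G) (e : IsM11 G) : False := big h (p := 11) (by norm_num) (by decide) e.2 (by decide)

theorem tits (h : O G) (e : IsTits G) : False := big h (p := 13) (by norm_num) (by decide) e.2 (by decide)

theorem solc (h : O G) {t : G} (o : orderOf t = 2) : Sol C[t] :=
  sol23 (h.c23' (by rw [PiE, o]; exact PiN.prime_pow Nat.prime_two 1) (ne_one_of_two o))

theorem nct (h : O G) : ¬ IsComponentType G := fun ⟨t, ot, K, _, pf, si⟩ => by
  haveI : Group.IsSolvable C[t] := solc h ot
  haveI := (QuotientGroup.mk'_surjective (center K)).nontrivial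
  exact Group.IsPerfect.not_isSolvable K inferInstance

theorem ct : CT.{u} := fun G _ _ _ M Q _ h k ns => by
  obtain ⟨x, hx, o⟩ := k.sim M (NormalIn.refl M) fun l => ns (sol_mono k.pg.sol l)
  obtain ⟨t, ht, t1⟩ := exists_ne_one k.V1
  have ot := orderOf_of_pow Nat.prime_two ((OZ_ab Q).2 t ht) t1
  have c : IsCharacteristicTwoType G := by
    refine ((Agent.S1296.result (even_iff_two_dvd.2 (ot ▸ orderOf_dvd_natCard t)) (fun N hN e => ?_)
      (H10.pPrimeCore_eq_bot_of_simple ot)).resolve_left fun r => ?_).resolve_left (nct h)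
    · have := orderOf_dvd_natCard x
      rcases hN.eq_bot_or_eq_top with rfl | rfl
      · rw [index_bot] at e
        rcases o with o | o <;> simp [o, e] at this
      · simp at e
    · have a := r _ (OZ_ab Q).1 (OZ_ab Q).2
      have b := (one_lt_card_iff_ne_bot _).2 k.V1
      have := h.mod o ((OZ_pg Q).mono (by rcases o with o | o <;> simp [o])) rfl (k.nV hx)
      rcases o with o | o <;> rw [o] at this <;> omega
  refine ⟨c, fun U a b => ?_⟩
  have := c.2 U a.isPGroup b
  exact ⟨ch_iff.2 this, ch_iff.2 (H28.isCharP_iff.1 ((H28.isCharP_iff.2 this).of_normal (cent_le_norm U)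
    (norm_le_norm_cent U)))⟩

end H3.O8
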