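/-
Subgroups `Ω₈⁺(4)` of `E₈(2)`: finite checks in the Weyl group.
-/
import Cfsg.Agent.H14.O80

set_option autoImplicit false
set_option maxRecDepth 100000

namespace H3.O8
open Cfsg Cfsg.Lie H14 H14.O8 H14.RootSys Matrix Subgroup

theorem κ_eq (r : I) : κ r = fun i : Fin 4 => (kN r i : ZMod 5) := funext (κ_val r)
theorem w_eq (r : I) : w r = rt (wN r) := by rw [← w_val, rt_val]
theorem eta4 (y : V) : ![y 0, y 1, y 2, y 3] = y := by ext i; fin_cases i <;> rfl

/-- the parity functionals cutting out the subsystems -/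
def cv (j t : Fin 2) (k : Fin chevE8.rank) : ℤ := dig 1 (![![0x54, 0x82], ![0x01, 0xd6]] j t) k
theorem mem_Ξ {j : Fin 2} {r : I} : r ∈ Ξ j ↔ ∀ t, 2 ∣ R.cf r ⬝ᵥ cv j t := by
  have : r ∈ Ξ j ↔ ∃ s, e j s = r ∨ rt (wN (e j s)) = r := by
    simp only [Ξ, Δ, Set.mem_union, Set.mem_range, Set.mem_image, exists_exists_eq_and, exists_or, w_eq]
  rw [this]; clear this; revert j r; decide +kernel

theorem ev5 (L : List (Fin 5)) : ev L ^ 5 = ev (L ++ L ++ L ++ L ++ L) := by
  simp only [O8.ev, List.map_append, List.prod_append, pow_succ, pow_zero, one_mul]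
theorem w5 : W5 := by
  refine ⟨ev [2, 3, 1, 0, 2, 3, 1, 0], ev_C _, fun h => ?_, ?_, ![1, 3, 1, 4], fun y h => ?_⟩
  · have := ev_val [2, 3, 1, 0, 2, 3, 1, 0] (rt 0)
    rw [h] at this; revert this; decide +kernel
  · exact (ev5 _).trans (Equiv.ext fun r => Fin.ext ((ev_val _ r).trans (by revert r; decide +kernel)))
  · have := fun i => h (q 0 i)
    simp only [κ_eq, ev_val] at this
    rw [← eta4 y] at this ⊢
    revert this; generalize y 0 = a, y 1 = b, y 2 = c, y 3 = d
    revert a b c d; decide +kernel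

/-- coefficients for `W6.two` -/
def tw (j k i : ℕ) : ℤ := (dig 4 0x7867798878879788888a888898877768888888a8766799889aa9998889a9676778679aa999a89788888a888877667768888888a8978899889aa9786768888888 (64 * j + 8 * k + i) : ℤ) - 8
theorem cf_e (j : Fin 2) (r : I4) : R.cf (e j r) = ∑ i : Fin 4, R4.cf r i • R.cf (q j i) := by
  revert j r; decide +kernel
theorem w6 : W6 where
  simple := by decide +kernel
  add j r s k h := by
    rw [cf_e, cf_e, cf_e, h, ← Finset.sum_add_distrib]; exact Finset.sum_congr rfl fun _ _ => add_smul _ _ _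
  pair j r s := by rw [pair_val, goodD4.pair_eq okD4 rfl]; revert j r s; decide +kernel
  neg := by decide +kernel
  orth j r s := by rw [pair_val, w_val]; revert j r s; decide +kernel
  cl j := ⟨fun r hr s hs => mem_Ξ.2 fun t => by
      rw [cf_refl, sub_dotProduct, smul_dotProduct]; exact dvd_sub (mem_Ξ.1 hs t) ((mem_Ξ.1 hr t).mul_left _),
    fun r hr s hs k h => mem_Ξ.2 fun t => by rw [h, add_dotProduct]; exact dvd_add (mem_Ξ.1 hr t) (mem_Ξ.1 hs t)⟩
  w_mem j r := by rw [mem_Ξ, mem_Ξ, w_eq]; revert j r; decide +kernel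
  two j k := ⟨fun i => tw j k i, fun i => tw j k (4 + i), by simp only [w_eq]; revert j k; decide +kernel⟩
  span y h := by
    have := fun i => h (q 0 i)
    simp only [κ_eq] at this
    rw [← eta4 y] at this ⊢
    revert this; generalize y 0 = a, y 1 = b, y 2 = c, y 3 = d
    revert a b c d; decide +kernel

theorem wa {j : Fin 2} {v : Equiv.Perm I} (h : v ∈ R.WA (Ξ j)) : ∀ s t, 2 ∣ R.cf (v s) ⬝ᵥ cv j t - R.cf s ⬝ᵥ cv j t := by
  induction h using closure_induction with
  | mem x h =>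
    obtain ⟨r, hr, rfl⟩ := h
    intro s t
    rw [cf_refl, sub_dotProduct, smul_dotProduct, sub_sub_cancel_left, dvd_neg]; exact (mem_Ξ.1 hr t).mul_left _
  | one => simp
  | mul x y _ _ a b => exact fun s t => by simpa using dvd_add (a (y s) t) (b s t)
  | inv x _ a => exact fun s t => by simpa using dvd_neg.2 (a (x⁻¹ s) t)
theorem w8 : W8 := fun j r h => by
  have := fun k => wa h (R.simple k)
  simp only [ρ, Equiv.Perm.mul_apply, cf_refl, w_eq, pair_val, refl_val] at this
  rw [mem_Ξ]; clear h; revert j r; decide +kernel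

/-- the matrices of the generators modulo five -/
def Mg (k : Fin 5) : Matrix (Fin 4) (Fin 4) (ZMod 5) := ![!![4, 0, 0, 0; 1, 1, 0, 0; 0, 0, 1, 0; 0, 0, 0, 1],
  !![1, 1, 0, 0; 0, 4, 0, 0; 0, 1, 1, 0; 0, 1, 0, 1], !![4, 2, 0, 4; 1, 0, 0, 3; 4, 1, 1, 2; 2, 3, 0, 2],
  !![2, 4, 2, 2; 3, 3, 1, 1; 0, 0, 1, 0; 0, 0, 0, 1], !![4, 3, 4, 4; 0, 1, 0, 0; 0, 0, 1, 0; 0, 0, 0, 1]] k
theorem κ_g (k : Fin 5) (s : I) : κ (ρ (gl k) s) = Mg k *ᵥ κ s := by
  rw [κ_eq, κ_eq, gl_val]; revert k s; decide +kernel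
/-- the statement for one root -/
def P3 (r : I) : Prop := ∀ v ∈ R.Aut, (∀ s (y : V), y ⬝ᵥ κ r = 0 → y ⬝ᵥ κ (v s) = y ⬝ᵥ κ s) →
  v = 1 ∨ v = R.refl r ∨ v = R.refl (w r) ∨ v = ρ r
theorem P3.tr {r : I} (k : Fin 5) (h : P3 (ρ (gl k) r)) : P3 r := fun v hv H => by
  have c := ρ_C (gl k)
  have m := κ_g k
  generalize ρ (gl k) = g at c m h
  have := h (g * v * g⁻¹) (mul_mem (mul_mem (C_aut c) hv) (inv_mem (C_aut c))) fun s y e => by
    rw [m, dotProduct_mulVec] at e
    rw [Equiv.Perm.mul_apply, Equiv.Perm.mul_apply, m, dotProduct_mulVec, H _ _ e, ← dotProduct_mulVec, ← m]; simp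
  rw [← (mem_C.1 c).2, Aut.refl_conj (C_aut c), Aut.refl_conj (C_aut c), ρ_conj c] at this
  simpa [mul_inv_eq_iff_eq_mul] using this
/-- eight independent roots -/
def B (i : Fin 8) : I := rt (![3, 6, 7, 12, 18, 20, 4, 0] i)
/-- their pairings with a root -/
def hs (r : ℕ) : ℕ := dig 20 0x588017df517fe917d771406f17d7818c3217d6418c1e1c92718c1f189ad18ba12b11617e0e17dfa1bb0317dfb17b8917d7d2a2f21c9bd18cb518a4318c372b1ac1c9be1c74c1c9402eeb518a4418c382b1ad189c62af3b2b12f1c9aa1c7381c92c2eea118a3018c242b199189b22af272b11b1c7391c92d2eea21c6bb2ec302ee24189b32af282b11c2aeaa1d5f31d7e72fd5c1d5752faea2fcde1986d2bde22bfd62bd641d5762faeb2fcdf2fa6d2bd651d5622fad72fccb2fa592bd512fa5a309141c7cf1c9c32ef381c7512ecc62eeba18a492afbe2b1b22af401c7522ecc72eebb2ec492af411d60c2fb812fd752fb032bdfb2fb041c73e2ecb32eea72ec352af2d2ec361d5f82fb6d2fd612faef2bde7213013387633a6a337f81d5f92fb6e2fd621d3872f8fc1d57b420652fce4422592f87e2fa7241fe72bde82bb762bd6a3e2df337f92faf12f87f2fa7341fe8309aa346b33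09ab307393092d42ea22fadc337e52fadd2f86b2fa5f41fd43469f30997307253091942e8e346a03442e3462246b97307263091a42e8f306a842c1d42e112eccc2fb863388f2fb872f9152fb094207e3387b2fb732f9012faf54206a3387c3360a337fe45d732f9022faf64206b2f88441df941fed34736344c4346b846c2d307bc309b042f253073e42cb342ea7344c5346b946c2e34447469bc46bb03073f42cb442ea842c36344b1346a546c1a34433469a846b9c3072b42ca042e9442c2234434469a946b9d4692b42c23352ee4786347a57477e543add477e6477d2344ca46a3f46c33469c142cb9469c24787c469ae478684b57147869475f7477eb59d60 r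
theorem det {v v' : Equiv.Perm I} (hv : v ∈ R.Aut) (hv' : v' ∈ R.Aut) (h : ∀ i, v (B i) = v' (B i)) : v = v' := by
  have a : ∀ s : I, ∑ i : Fin 8, (R.pair (B i) s + 2) * 5 ^ i.val = hs s := fun s => by
    simp only [pair_val]; revert s; decide +kernel
  have b := fun s t : I => allI (allI (p := fun r => allB 240 fun s => bor (Nat.beq r s) (!Nat.beq (hs r) (hs s))) (by decide +kernel) s) t
  refine inv_mul_eq_one.1 (Equiv.ext fun s => Fin.ext ?_)
  have c : (hs ((v⁻¹ * v') s) : ℤ) = hs s := by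
    rw [← a, ← a]
    refine Finset.sum_congr rfl fun i _ => ?_
    rw [← Aut.pair_eq hv, h, ← Aut.pair_eq hv' (B i) s]; simp
  have := b ((v⁻¹ * v') s) s
  rw [Int.natCast_inj.1 c] at this
  simpa using this
theorem p3 : P3 (rt 130) := fun v hv H => by
  have c : ∀ i, v (B i) = B i ∨ i = 6 ∧ v (B i) = rt 5 ∨ i = 7 ∧ v (B i) = rt 11 := fun i => by
    have := fun m : Fin 3 => H (B i) (![![0, 0, 1, 4], ![0, 1, 0, 2], ![1, 0, 0, 4]] m) (by rw [κ_eq]; revert m; decide +kernel)
    simp only [κ_eq] at this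
    revert this; generalize v (B i) = t; revert i t; decide +kernel
  have d : ∀ i, v (B i) = if i = 6 then v (B 6) else if i = 7 then v (B 7) else B i := fun i => by
    split_ifs with a b
    exacts [a ▸ rfl, b ▸ rfl, by simpa [a, b] using c i]
  have a := fun r => R.W_le_Aut (R.refl_mem_W r)
  rcases (by simpa using c 6 : _ ∨ _) with h | h <;> rcases (by simpa using c 7 : _ ∨ _) with h' | h' <;> rw [h, h'] at d
  · exact .inl (det hv (one_mem _) fun i => (d i).trans (by revert i; decide +kernel))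
  · exact .inr (.inr (.inl (det hv (a _) fun i => (d i).trans (Fin.ext (by rw [refl_val, w_val]; revert i; decide +kernel)))))
  · exact .inr (.inl (det hv (a _) fun i => (d i).trans (Fin.ext (by rw [refl_val]; revert i; decide +kernel))))
  · exact .inr (.inr (.inr (det hv (C_aut (ρ_C _)) fun i => (d i).trans (Fin.ext (by rw [ρ_val]; revert i; decide +kernel)))))
/-- distance from the base root -/
def dp (r : ℕ) : ℕ := dig 4 0x454632366554444533464424424543555436543665634563626444456253533513432346654463354446445663567544565475556362203553554544555466456413374544463676556654265433545354453556554345426446463743333515254325655455645464456535535353224545556754126455 r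
theorem w3 : W3 := fun r v hv => by
  suffices ∀ n (r : I), dp r = n → P3 r from this _ r rfl v (R.W_le_Aut hv)
  intro n
  induction n using Nat.strong_induction_on with
  | _ n ih =>
  rintro r rfl
  rcases (by decide +kernel : ∀ r : I, r = rt 130 ∨ ∃ k : Fin 5, dp (gN k r) < dp r) r with rfl | ⟨k, h⟩
  exacts [p3, .tr k (ih _ h _ (by rw [gl_val]))]

end H3.O8
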