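import Cfsg.Agent.H3.LB2
import Cfsg.Agent.H24.FCStr

/-! Modules in which every non-zero vector has a Sylow subgroup normal in its stabilizer. -/

set_option autoImplicit false
set_option linter.unusedSectionVars false

open Subgroup H6.BS MulAction H19

namespace H3.PT

universe u

def NP (G W : Type u) [Group G] [AddCommGroup W] [DistribMulAction G W] (s : ℕ) : Prop :=
  ∀ w : W, w ≠ 0 → ∃ Q : Sylow s G, (Q : Subgroup G) ≤ stabilizer G w ∧
    stabilizer G w ≤ N((Q : Subgroup G))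

def Fs {G : Type u} [Group G] (W : Type u) [AddCommGroup W] [DistribMulAction G W]
    (Q : Subgroup G) : AddSubgroup W where
  carrier := {w | Q ≤ stabilizer G w}
  zero_mem' := fun g _ => smul_zero g
  add_mem' := fun {a b} ha hb g hg => by
    rw [mem_stabilizer_iff, smul_add, ha hg, hb hg]
  neg_mem' := fun {a} ha g hg => by rw [mem_stabilizer_iff, smul_neg, ha hg]

section
variable {G W : Type u} [Group G] [Finite G] [AddCommGroup W] [Finite W] [DistribMulAction G W]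
  {s : ℕ} [hs : Fact s.Prime]

theorem syl_eq {Q R : Sylow s G} (h : (R : Subgroup G) ≤ N((Q : Subgroup G))) : R = Q := by
  have h1 := left_eq_inf.1 ((inf_eq_left.2 h).symm.trans (R.isPGroup'.inf_normalizer_sylow Q))
  exact Sylow.ext (R.is_maximal' Q.isPGroup' h1).symm

theorem NP.eq (h : NP G W s) {w : W} (h0 : w ≠ 0) {Q R : Sylow s G} (h1 : w ∈ Fs W (Q : Subgroup G))
    (h2 : w ∈ Fs W (R : Subgroup G)) : Q = R :=
  let ⟨_, _, h3⟩ := h w h0
  (syl_eq (le_trans h1 h3)).trans (syl_eq (le_trans h2 h3)).symm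

theorem smul_mem_Fs {w : W} {Q : Sylow s G} (h : w ∈ Fs W (Q : Subgroup G)) (g : G) :
    g • w ∈ Fs W ((g • Q : Sylow s G) : Subgroup G) := by
  rintro _ ⟨x, hx, rfl⟩
  change (g * x * g⁻¹) • g • w = _
  rw [← mul_smul, inv_mul_cancel_right, mul_smul, h hx]

theorem card_Fs (Q R : Sylow s G) :
    Nat.card (Fs W (Q : Subgroup G)) = Nat.card (Fs W (R : Subgroup G)) := by
  have k : ∀ Q R : Sylow s G, Nat.card (Fs W (Q : Subgroup G)) ≤ Nat.card (Fs W (R : Subgroup G)) :=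
    fun Q R => by
      obtain ⟨g, rfl⟩ := exists_smul_eq G Q R
      exact Nat.card_le_card_of_injective (fun w => ⟨g • w.1, smul_mem_Fs w.2 g⟩) fun a b e =>
        Subtype.ext (MulAction.injective g (congrArg Subtype.val e))
  exact (k Q R).antisymm (k R Q)

theorem NP.count (h : NP G W s) (Q : Sylow s G) :
    Nat.card (Sylow s G) * (Nat.card (Fs W (Q : Subgroup G)) - 1) = Nat.card W - 1 := by
  have := Fintype.ofFinite (Sylow s G)
  have e : (Σ R : Sylow s G, {w : Fs W (R : Subgroup G) // w ≠ 0}) ≃ {w : W // w ≠ 0} :=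
    Equiv.ofBijective (fun x => ⟨x.2.1.1, fun e => x.2.2 (Subtype.ext e)⟩) ⟨by
      rintro ⟨R, ⟨w, h1⟩, h2⟩ ⟨R', ⟨w', h3⟩, h4⟩ e
      obtain rfl : w = w' := congrArg Subtype.val e
      obtain rfl := h.eq (fun e => h2 (Subtype.ext e)) h1 h3
      rfl, fun ⟨w, h0⟩ => let ⟨R, h1, _⟩ := h w h0
        ⟨⟨R, ⟨w, h1⟩, fun e => h0 (congrArg Subtype.val e)⟩, rfl⟩⟩
  rw [← LB.card_nz (W := W), ← Nat.card_congr e, Nat.card_sigma]
  simp only [LB.card_nz, card_Fs (W := W) _ Q, Finset.sum_const, Finset.card_univ, smul_eq_mul,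
    Nat.card_eq_fintype_card (α := Sylow s G)]

theorem syl_ne_bot (d : s ∣ Nat.card G) (Q : Sylow s G) : ∃ x ∈ Q, x ≠ 1 :=
  exists_ne_one (Q.ne_bot_of_dvd_card d)

theorem NP.nosys [FaithfulSMul G W] (h : NP G W s) (hi : Irr G W) (h2 : s ≠ 2)
    (d : s ∣ Nat.card G) : ¬ ∃ ε : Module.End ℤ W, Sys G ε := by
  rintro ⟨ε, hε⟩
  have C : ∀ (a b : G) (v y : W), cg a ε ≠ cg b ε → v ≠ 0 → y ≠ 0 → cg a ε v = v →
      cg b ε y = y → ∃ Q : Sylow s G, v ∈ Fs W (Q : Subgroup G) ∧ y ∈ Fs W (Q : Subgroup G) := by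
    intro a b v y ab v0 y0 hv hy
    have o : ∀ {c d : G} {z : W}, cg c ε ≠ cg d ε → cg d ε z = z → cg c ε z = 0 := fun e1 e2 => by
      rw [← e2]; exact DFunLike.congr_fun (hε.orth e1) _
    have k : ∀ x : G, x • (v + y) = v + y → x • v = v ∨ x • v = y := fun x hx => by
      have e : cg (x * a) ε (v + y) = x • v := by
        rw [← hx, cg_mul, cg_smul, map_add, hv, o ab hy, add_zero]
      by_cases e1 : cg (x * a) ε = cg a ε
      · rw [← e, e1, map_add, hv, o ab hy, add_zero]; exact Or.inl rfl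
      by_cases e2 : cg (x * a) ε = cg b ε
      · rw [← e, e2, map_add, hy, o ab.symm hv, zero_add]; exact Or.inr rfl
      rw [map_add, o e1 hv, o e2 hy, add_zero, eq_comm, smul_eq_zero_iff_eq] at e
      exact absurd e v0
    obtain ⟨Q, h1, -⟩ := h (v + y) fun e => v0 (by
      have := congrArg (cg a ε) e
      rwa [map_add, hv, o ab hy, add_zero, map_zero] at this)
    have k2 : v ∈ Fs W (Q : Subgroup G) := fun x hx => by
      obtain ⟨j, hj⟩ := Q.isPGroup' ⟨x, hx⟩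
      obtain ⟨m, hm⟩ := (hs.out.odd_of_ne_two h2).pow (n := j)
      have e : x = x ^ (m + 1) * x ^ (m + 1) := by
        rw [← pow_add, show m + 1 + (m + 1) = s ^ j + 1 by omega, pow_succ,
          show x ^ s ^ j = 1 from congrArg Subtype.val hj, one_mul]
      have h3 : x ^ (m + 1) • (v + y) = v + y := h1 (pow_mem hx _)
      rw [mem_stabilizer_iff, e, mul_smul]
      rcases k _ h3 with e1 | e1
      · rw [e1, e1]
      · rw [smul_add, e1, add_comm, add_left_inj] at h3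
        rw [e1, h3]
    exact ⟨Q, k2, by simpa using sub_mem (show v + y ∈ Fs W (Q : Subgroup G) from h1) k2⟩
  obtain ⟨a, ha⟩ := not_forall.1 fun e => hε.2.2.1 (inv_idem hi hε.1 hε.2.1 e)
  obtain ⟨u, hu⟩ := not_forall.1 fun e => hε.2.1 (LinearMap.ext e)
  have h1 : cg (1 : G) ε (ε u) = ε u := by rw [cg_one]; exact DFunLike.congr_fun hε.1 u
  have h3 : cg a ε (a • ε u) = a • ε u := by
    rw [cg_smul]; exact congrArg _ (DFunLike.congr_fun hε.1 u)
  have h4 : a • ε u ≠ 0 := fun e => hu ((smul_eq_zero_iff_eq a).1 e)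
  obtain ⟨P, p1, p2⟩ := C 1 a _ _ (by rw [cg_one]; exact Ne.symm ha) hu h4 h1 h3
  obtain ⟨x, hx, x1⟩ := syl_ne_bot d P
  refine x1 (eq_one_of_triv (V := W) fun v => (?_ : v ∈ Fs W (P : Subgroup G)) hx)
  rw [← Module.End.one_apply (R := ℤ) v, ← hε.sum_top hi, LinearMap.sum_apply]
  refine sum_mem fun η hη => ?_
  obtain ⟨b, -, rfl⟩ := mem_orb.1 hη
  have h5 : cg b ε (cg b ε v) = cg b ε v := DFunLike.congr_fun (hε.idem b) v
  by_cases h0 : cg b ε v = 0
  · rw [h0]; exact zero_mem _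
  by_cases e : cg b ε = cg a ε
  · obtain ⟨Q, q1, q2⟩ := C 1 b _ _ (by rw [cg_one, e]; exact Ne.symm ha) hu h0 h1 h5
    rwa [h.eq hu p1 q1]
  · obtain ⟨Q, q1, q2⟩ := C b a _ _ e h0 h4 h5 h3
    rwa [h.eq h4 p2 q2]

end

variable {G V K W : Type u} [Group G] [Finite G] [AddCommGroup V] [Finite V] [Nontrivial V]
  [DistribMulAction G V] [FaithfulSMul G V] [Field K] [Finite K] [Module K V] [AddCommGroup W]
  [Finite W] [DistribMulAction G W] {U A E : Subgroup G} {sc : G → Kˣ} {σ : G →* RingAut K}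
  {π : G → W} {s : ℕ} [hs : Fact s.Prime]

theorem conj_in {B : Subgroup G} [hB : B.Normal] (d : s ∣ Nat.card B) (Q : Sylow s G) :
    ∃ g ∈ B, g ∈ Q ∧ orderOf g = s := by
  obtain ⟨g, h1, h2⟩ := exists_orderOf_eq_prime hs.out d
  obtain ⟨R, hR⟩ := (IsPGroup.of_card (G := zpowers g) (n := 1)
    (by rw [Nat.card_zpowers, h2, pow_one])).exists_le_sylow
  obtain ⟨c, rfl⟩ := exists_smul_eq G R Q
  exact ⟨c * g * c⁻¹, hB.conj_mem g h1 c, ⟨g, hR (mem_zpowers g), rfl⟩, by rw [orderOf_conj', h2]⟩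

theorem NP.nE (h1 : NP G V s) (h : Prim (V := V) U A E sc σ π) : ¬ s ∣ Nat.card E := fun d => by
  have := h.nU
  obtain ⟨v, hv⟩ := exists_ne (0 : V)
  obtain ⟨Q, h2, -⟩ := h1 v hv
  rw [h.card_E, hs.out.dvd_mul] at d
  obtain ⟨g, a, b, c⟩ := conj_in (d.elim id (h.prime_dvd hs.out)) Q
  exact hv (AddSubgroup.mem_bot.1 (h.Fx_U a (fun e => hs.out.ne_one (by rw [← c, e, orderOf_one]))
    ▸ mem_Fx.2 (h2 b)))

theorem ac_four (h : Prim (V := V) U A E sc σ π) {C : AddSubgroup W} {D : Subgroup G}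
    (hD : ∀ x, x ∈ D ↔ x ∈ E ∧ π x ∈ C) (h0 : C ⊓ h.form.toAlt.perp C = ⊥) (ha : H24.AC D) :
    (∀ w ∈ C, w + w = 0) ∧ Nat.card C ≤ 4 := by
  have hUD : U ≤ D := fun x hx => (hD x).2 ⟨h.UE hx, (h.π_zero x (h.UE hx)).2 hx ▸ zero_mem _⟩
  have hDE : D ≤ E := fun x hx => ((hD x).1 hx).1
  have hUC : U ≤ C(E) := fun x hx y hy => h.comm (h.EA hy) hx
  have hl : ∀ w ∈ C, ∃ x ∈ D, π x = w := fun w hw =>
    let ⟨x, h1, h2⟩ := h.π_surj w; ⟨x, (hD x).2 ⟨h1, h2 ▸ hw⟩, h2⟩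
  have hpw : ∀ x ∈ E, ∀ n : ℕ, π (x ^ n) = n • π x := fun x hx n => by
    induction n with
    | zero => rw [pow_zero, h.π_one, zero_smul]
    | succ n ih => rw [pow_succ, h.π_mul _ (pow_mem hx n) _ hx, ih, succ_nsmul]
  have hn : Nil D := nil_mono (H1.isNilpotent_of_commutator_le_centralizer
    (commutator_le.2 fun x hx y hy => hUC (h.comm_U hx hy))) hDE
  have h2 : ∀ w ∈ C, w + w = 0 := fun w hw => by
    have hz := (ha.mono (Oc_le {2}ᶜ D)).isZGroup fun R hR h2 => by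
      rw [(PiN.of_isPGroup Nat.prime_two h2).eq_bot ((Oc_pi _ _).of_le hR)]; infer_instance
    have := nil_mono hn (Oc_le {2}ᶜ D)
    have hc : IsCyclic (Oc {2}ᶜ D) := inferInstance
    have hd := nil_dprod hn {2}
    obtain ⟨x, hx, rfl⟩ := hl w hw
    obtain ⟨t, ht, o, ho, rfl⟩ := (mem_sup_of_norm (norms_of_cents (cents_symm hd.cent))).1
      (hd.sup.ge hx)
    have ho' := Oc_le _ _ ho
    have h3 : o ∈ C(D) := hd.sup ▸ cents_sup (cents_symm hd.cent)
      (comm_iff_le_cent.1 (comm_of_cyclic hc)) ho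
    have h4 : π o = 0 := AddSubgroup.mem_bot.1 (h0 ▸ ⟨((hD o).1 ho').2, fun y hy => by
      obtain ⟨z, hz, rfl⟩ := hl y hy
      exact (h.β_one (hDE hz) (hDE ho')).2 (h3 z hz)⟩)
    obtain ⟨j, hj⟩ := ((Oc_pi _ _).elt ht).exists_pow (orderOf_pos t).ne'
    rw [h.π_mul _ (hDE (Oc_le _ _ ht)) _ (hDE ho'), h4, add_zero, ← two_nsmul]
    exact h.cr.sqf.pow 2 j _ (by rw [← hpw _ (hDE (Oc_le _ _ ht)), ← hj, pow_orderOf_eq_one, h.π_one])
  refine ⟨h2, ?_⟩
  rcases C.bot_or_exists_ne_zero with rfl | ⟨a, h3, a0⟩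
  · simp
  have h4 : Nat.card (AddSubgroup.zmultiples a) = 2 := by
    rw [Nat.card_zmultiples]
    exact addOrderOf_eq_prime (by rw [two_nsmul, h2 a h3]) a0
  have h5 : C ⊓ h.form.toAlt.perp (AddSubgroup.zmultiples a) ≤ AddSubgroup.zmultiples a := by
    rintro b ⟨h5, h6⟩
    obtain ⟨x, hx, rfl⟩ := hl a h3
    obtain ⟨y, hy, rfl⟩ := hl b h5
    have h7 := (h.β_one (hDE hx) (hDE hy)).1 (h.form.toAlt.mem_perp_zm.1 h6)
    have h8 : closure {x, y} ≤ D := by
      rw [closure_le]; rintro _ (rfl | rfl); exacts [hx, hy]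
    obtain ⟨⟨c, hc⟩, h9⟩ := (ha _ h8 (isMulCommutative_closure (by
      rintro _ (rfl | rfl) _ (rfl | rfl)
      exacts [rfl, h7, h7.symm, rfl]))).exists_monoid_generator
    have k : ∀ z ∈ closure {x, y}, π z = 0 ∨ π z = π c := fun z hz => by
      obtain ⟨n, hn⟩ := h9 ⟨z, hz⟩
      rw [← show c ^ n = z from congrArg Subtype.val hn, hpw _ (hDE (h8 hc)),
        ← Nat.mod_add_div n 2, add_nsmul, mul_nsmul, two_nsmul, h2 _ ((hD c).1 (h8 hc)).2]
      rcases Nat.mod_two_eq_zero_or_one n with e | e <;> simp [e]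
    rcases k y (subset_closure (by simp)) with e | e
    · rw [e]; exact zero_mem _
    · rw [e, ← (k x (subset_closure (by simp))).resolve_left a0]
      exact AddSubgroup.mem_zmultiples _
  have h6 := h.form.toAlt.count (AddSubgroup.zmultiples a) C
  have h7 := AddSubgroup.card_le_of_le h5
  have h8 := Nat.le_mul_of_pos_right (Nat.card C)
    (Nat.card_pos (α := ↥(AddSubgroup.zmultiples a ⊓ h.form.toAlt.perp C)))
  rw [h4] at h6 h7
  omega

theorem NP.la (h1 : NP G V s) (h : Prim (V := V) U A E sc σ π) (d : s ∣ Nat.card A) :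
    s = 3 ∧ 2 ∣ Nat.card W := by
  have := h.nA
  have hE := h1.nE h
  have : Nonempty {v : V // v ≠ 0} := nonempty_subtype.2 (exists_ne 0)
  obtain ⟨⟨v, v0⟩, hv⟩ := Finite.exists_max fun v : {v : V // v ≠ 0} =>
    Nat.card ↥(E ⊓ stabilizer G v.1)
  obtain ⟨Q, h2, h3⟩ := h1 v v0
  obtain ⟨g, gA, gQ, go⟩ := conj_in d Q
  have hc : s.Coprime (Nat.card W) := hs.out.coprime_iff_not_dvd.2 fun e =>
    hE (h.card_E ▸ e.mul_left _)
  have h4 := Fx_inf_Cm (W := W) (g := g) (fun w => by rw [← go, pow_orderOf_eq_one, one_smul]) hc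
  have h5 := h.form.perp_Cm (h.pres gA)
  have h6 : ∀ y ∈ E ⊓ stabilizer G v, π y ∈ Fx W g := fun y hy => by
    have : g * y * g⁻¹ * y⁻¹ ∈ E ⊓ (Q : Subgroup G) :=
      ⟨mul_mem (h.nE.conj_mem y hy.1 g) (E.inv_mem hy.1), by
        rw [mul_assoc, mul_assoc, ← mul_assoc y]
        exact mul_mem gQ (conj_mem_of_norm (h3 hy.2) (inv_mem gQ))⟩
    rw [(PiN.of_not_dvd hE).inf_eq_bot' (PiN.of_isPGroup hs.out Q.isPGroup'), mem_bot,
      mul_inv_eq_one] at this
    rw [mem_Fx, ← h.π_conj g y hy.1, this]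
  let D : Subgroup G :=
    { carrier := {x | x ∈ E ∧ π x ∈ Cm W g}
      one_mem' := ⟨one_mem _, h.π_one ▸ zero_mem _⟩
      mul_mem' := fun a b => ⟨mul_mem a.1 b.1, h.π_mul _ a.1 _ b.1 ▸ add_mem a.2 b.2⟩
      inv_mem' := fun a => ⟨inv_mem a.1, h.π_inv a.1 ▸ neg_mem a.2⟩ }
  have hI : Inv D V (Fs V (E ⊓ stabilizer G v)) := fun x w hw y hy => by
    change y • x.1 • w = x.1 • w
    rw [← mul_smul, ← (h.β_one x.2.1 hy.1).1 ((h5.ge (h6 y hy)) _ x.2.2), mul_smul, hw hy]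
  let _ := subAct _ hI
  have : Nontrivial (Fs V (E ⊓ stabilizer G v)) :=
    ⟨⟨v, fun _ e => e.2⟩, 0, fun e => v0 (congrArg Subtype.val e)⟩
  have h7 := H24.isCyclic_of_fpf ((MulAutMultiplicative _).symm.toMonoidHom.comp
    (DistribMulAction.toAddAut D (Fs V (E ⊓ stabilizer G v)))) fun x x1 w hw => by
      by_contra w0
      have e := eq_of_le_of_card_ge (le_inf inf_le_left w.toAdd.2)
        (hv ⟨w.toAdd.1, fun e => w0 (Subtype.ext e)⟩)
      have h8 : x.1 ∈ E ⊓ stabilizer G v := e.ge ⟨x.2.1, congrArg Subtype.val hw⟩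
      have h9 := (h.π_zero _ x.2.1).1 (AddSubgroup.mem_bot.1 (h4.le ⟨h6 _ h8, x.2.2⟩))
      exact v0 (AddSubgroup.mem_bot.1 (h.Fx_U h9 (fun e => x1 (Subtype.ext e)) ▸ mem_Fx.2 h8.2))
  obtain ⟨a, b⟩ := ac_four h (D := D) (fun _ => Iff.rfl) (by rw [h5, inf_comm, h4])
    (H24.ac_iff.2 h7)
  obtain ⟨w, c, w0⟩ := (Cm W g).bot_or_exists_ne_zero.resolve_left fun e =>
    hE (go ▸ orderOf_dvd_card' (h.mem_E gA (Cm_eq_bot.1 e)))
  have h8 : 2 ∣ Nat.card (Cm W g) := by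
    rw [← addOrderOf_eq_prime (p := 2) (by rw [two_nsmul, a w c]) w0]
    exact AddSubgroup.addOrderOf_dvd_natCard _ c
  have h9 := (Nat.modEq_iff_dvd' Nat.card_pos).1 (card_modEq_one hs.out go (Cm W g)
    (fun _ => smul_mem_Cm) (by rw [inf_comm, h4])).symm
  refine ⟨?_, h8.trans (AddSubgroup.card_addSubgroup_dvd_card _)⟩
  have := Nat.card_pos (α := Cm W g)
  obtain e | e : Nat.card (Cm W g) = 2 ∨ Nat.card (Cm W g) = 4 := by omega
  · exact absurd (Nat.dvd_one.1 (e ▸ h9 :)) hs.out.ne_one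
  · exact (Nat.prime_dvd_prime_iff_eq hs.out Nat.prime_three).1 (e ▸ h9 :)

theorem tab : ∀ e < 17, 2 ≤ e → (e ^ 2 * T 1 (e ^ 2)) ^ 2 < 243 ^ e := by decide

theorem NP.three [Group.IsSolvable G] (h1 : NP G V 3) (h : Prim (V := V) U A E sc σ π)
    (d : 3 ∣ Nat.card G) (d2 : ¬ 3 ∣ A.index) (d3 : 2 ∣ Nat.card W) : A.index < 5 := by
  by_contra h5
  have := Fact.mk Nat.prime_three
  have := h.nA
  obtain ⟨Q⟩ : Nonempty (Sylow 3 G) := inferInstance
  obtain ⟨q, hq, h3⟩ := h.artin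
  obtain ⟨e, he⟩ := h.form.card_sq
  obtain ⟨e1, e2⟩ := h.e_le (he.trans (pow_two e))
  have : Module.Finite K V := Module.Finite.of_finite
  have h7 := Module.natCard_eq_pow_finrank (K := K) (V := V)
  have a1 : 243 ^ e ≤ Nat.card V := by
    have b1 := (h.prime_dvd Nat.prime_two d3).trans h.u_dvd
    have b2 : 3 ≤ q := lt_of_le_of_ne hq fun e => by
      have : 2 ∣ Nat.card K := h3 ▸ e ▸ dvd_pow_self 2 (by omega)
      have := Nat.card_pos (α := K)
      omega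
    have b3 : 3 ^ 5 ≤ Nat.card K := h3 ▸ (Nat.pow_le_pow_right (by norm_num) (not_lt.1 h5)).trans
      (Nat.pow_le_pow_left b2 _)
    exact h7 ▸ (Nat.pow_le_pow_left b3 e).trans (Nat.pow_le_pow_right Nat.card_pos e2)
  have a2 : (e ^ 2 * ord G W) ^ 2 < 243 ^ e := by
    have b1 : 2 ≤ e := lt_of_le_of_ne e1 fun e' => by rw [he, ← e'] at d3; omega
    rcases lt_or_ge e 17 with h17 | h17
    · exact (Nat.pow_le_pow_left (Nat.mul_le_mul_left _ (table (c := 1) (by simp) he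
        (Nat.pow_le_pow_left (by omega : e ≤ 16) 2) (by simp) h.cr)) 2).trans_lt (tab e h17 b1)
    · have : Nontrivial W := Finite.one_lt_card_iff_nontrivial.1 (by nlinarith)
      have h2 := KL.five_ord h.cr
      have h3 : e ^ 2 * ord G W ≤ e ^ 8 := by
        rw [show e ^ 8 = e ^ 2 * (e ^ 2) ^ 3 by ring, ← he]
        exact Nat.mul_le_mul_left _ (by omega)
      have h4 := LB.pow8_le h17
      refine (Nat.pow_lt_pow_left (by omega : _ < 11 ^ e) two_ne_zero).trans_le ?_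
      rw [← pow_mul, mul_comm, pow_mul]
      exact Nat.pow_le_pow_left (by norm_num) e
  have a3 : Nat.card (Sylow 3 G) ≤ e ^ 2 * ord G W := by
    have b1 : (Q : Subgroup G) ≤ A := le_of_pi_of_relIndex (M := ⊤) (normalIn_top.norms le_top)
      le_top le_top (PiN.of_isPGroup Nat.prime_three Q.isPGroup')
      (by rw [relIndex_top_right]; exact PiN.of_not_dvd d2)
    have b2 : U ≤ N((Q : Subgroup G)) := norms_of_cents fun x hx y hy => h.comm (b1 hy) hx
    have b3 := card_mul_relIndex (h.UE.trans h.EA)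
    rw [h.card_A, mul_assoc, Nat.mul_right_inj (card_ne_zero U)] at b3
    rw [Q.card_eq_index_normalizer, ← relIndex_top_right, ← Q.normalizer_sup_eq_top' b1, sup_comm]
    refine (relIndex_sup_right_of_norm (normalIn_top.norms le_top)).trans_le
      ((relIndex_le_of_le_left b2 (relIndex_ne_zero' _ _)).trans ?_)
    rw [b3, he]
    exact Nat.mul_le_mul_left _ card_bar_le
  have a4 := h1.count Q
  have a5 : Nat.card (Fs V (Q : Subgroup G)) * Nat.card (Fs V (Q : Subgroup G)) ≤ Nat.card V := by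
    by_cases b : ∃ R, R ≠ Q
    · obtain ⟨R, hR⟩ := b
      have := two_le (le_top (a := Fs V (R : Subgroup G))) (le_top (a := Fs V (Q : Subgroup G)))
      rwa [card_Fs R Q, AddSubgroup.card_top, (eq_bot_iff.2 fun w hw => by_contra fun e =>
        hR (h1.eq e hw.1 hw.2) : _ ⊓ _ = ⊥), AddSubgroup.card_bot, one_mul] at this
    · obtain ⟨x, hx, x1⟩ := syl_ne_bot d Q
      refine absurd (eq_one_of_triv (V := V) fun v => by_contra fun e => ?_) x1
      obtain ⟨R, h2, -⟩ := h1 v (by rintro rfl; exact e (smul_zero x))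
      exact e (h2 (not_ne_iff.1 (not_exists.1 b R) ▸ hx))
  have a6 := Nat.card_pos (α := Fs V (Q : Subgroup G))
  have a7 := Nat.card_pos (α := Sylow 3 G)
  have a8 := (Nat.pow_le_pow_left a3 2).trans_lt (a2.trans_le a1)
  generalize Nat.card (Sylow 3 G) = n at *
  generalize Nat.card V = m at *
  obtain ⟨c, hc⟩ := Nat.exists_eq_add_of_le a6
  rw [hc] at a4 a5
  rw [Nat.add_sub_cancel_left] at a4
  have a9 : m ≤ n * (1 + c) := by rw [mul_add]; omega
  nlinarith [Nat.mul_le_mul a9 a9, Nat.mul_lt_mul_of_lt_of_le a8 a5 (by omega)]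

theorem st0 [Group.IsSolvable G] (hi : Irr G V) {p q : ℕ} [hp : Fact p.Prime] [hq : Fact q.Prime]
    (pq : p ≠ q) (h1 : NP G V p) (h2 : NP G V q) (d1 : p ∣ Nat.card G) (d2 : q ∣ Nat.card G) :
    ∃ (U : Subgroup G) (_ : U.Normal) (l : U →* ℂˣ), Function.Injective l ∧ p * q ∣ C(U).index := by
  obtain ⟨K, W, _, _, _, _, _, _, U, A, E, sc, σ, π, h⟩ := exists_prim hi (by
    by_cases e : p = 2
    exacts [h2.nosys hi (e ▸ pq.symm) d2, h1.nosys hi e d1])
  have k : ∀ {p q : ℕ} [Fact p.Prime] [Fact q.Prime], p ≠ q → NP G V p → NP G V q →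
      p ∣ Nat.card G → q ∣ Nat.card G → p ∣ A.index := by
    intro p q hp hq pq h1 h2 d1 d2
    by_contra e
    have d3 := d1
    rw [← A.index_mul_card] at d1 d2
    obtain ⟨rfl, a⟩ := h1.la h ((hp.out.dvd_mul.1 d1).resolve_left e)
    have b := Nat.le_of_dvd (Nat.pos_of_ne_zero index_ne_zero_of_finite)
      ((hq.out.dvd_mul.1 d2).resolve_right fun e => pq (h2.la h e).1.symm)
    have c := hq.out.five_le_of_ne_two_of_ne_three
      (fun e => h2.nE h (e ▸ h.card_E ▸ a.mul_left _)) pq.symm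
    have := h1.three h d3 e a
    omega
  obtain ⟨ι, hι⟩ := exists_emb Kˣ
  refine ⟨U, h.nU, ι.toHomUnits.comp h.scHom, fun a b e => h.scHom_inj (hι (congrArg Units.val e)),
    (((Nat.coprime_primes hp.out hq.out).2 pq).mul_dvd_of_dvd_of_dvd (k pq h1 h2 d1 d2)
      (k pq.symm h2 h1 d2 d1)).trans (index_dvd_of_le fun g hg => h.cent g fun x hx => (hg x hx).symm)⟩

end H3.PT
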