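import Cfsg.Agent.H3.PT1
import Cfsg.Agent.H5.RD2
import Cfsg.Agent.H6.Dade
import Cfsg.Agent.H5.Virtual
import Cfsg.Agent.S4713

/-! Character degrees divisible by two primes: tools. -/

set_option autoImplicit false
set_option linter.unusedSectionVars false

open Subgroup MulAction H19 H20 H6 Cfsg

namespace H3.PT

universe u
variable {G : Type u} [Group G] [Finite G]

def Dv (G : Type u) [Group G] (a : ℕ) : Prop :=
  ∃ χ : IrrCharacter G, a ∣ charDegree (χ : G → ℂ)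

theorem Dv.surj {Q : Type u} [Group Q] [Finite Q] (f : G →* Q) (hf : Function.Surjective f) {a : ℕ}
    (h : Dv Q a) : Dv G a :=
  let ⟨χ, h⟩ := h
  ⟨⟨_, H5.Cfsg.IsIrrCharacter.comp_surjective χ.2 f hf⟩, by simpa [charDegree] using h⟩

theorem dv_of {χ : G → ℂ} (h : χ ∈ Irr ⊤) {a : ℕ} (e : a ∣ deg χ) : Dv G a :=
  ⟨⟨χ, mem_Irr_top.1 h⟩, e⟩

theorem dv_inertia {N : Subgroup G} [N.Normal] {θ : G → ℂ} (hθ : θ ∈ Irr N) {a : ℕ}
    (h : a ∣ (H20.inertia ⊤ θ).relIndex ⊤ * deg θ) : Dv G a :=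
  let ⟨_, h1⟩ := exists_ovr (G := ⊤) le_top hθ
  dv_of (mem_ovr.1 h1).1 (h.trans (clifford_dvd normalIn_top (mem_ovr.1 h1).1 hθ (mem_ovr.1 h1).2))

theorem ito [Group.IsSolvable G] {s : ℕ} [Fact s.Prime] (Q : Sylow s G) :
    ¬ Dv G s ↔ (Q : Subgroup G).Normal ∧ IsMulCommutative Q :=
  not_exists.trans
    (Cfsg.Agent.S4713.result s (H1.isPSolvable_of_isSolvable inferInstance) Q).symm

theorem key [Group.IsSolvable G] {A : Subgroup G} [A.Normal] {θ : G → ℂ} (hθ : θ ∈ Irr A)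
    (he : Ext (H20.inertia ⊤ θ) A θ) {t s : ℕ} [hs : Fact s.Prime] (hc : t.Coprime s)
    (ht : t ∣ (H20.inertia ⊤ θ).relIndex ⊤ * deg θ) (hn : ¬ Dv G (t * s)) :
    ∃ Q : Sylow s G, (Q : Subgroup G) ≤ H20.inertia ⊤ θ ∧
      H20.inertia ⊤ θ ≤ N(A ⊔ (Q : Subgroup G)) ∧ ⁅(Q : Subgroup G), (Q : Subgroup G)⁆ ≤ A := by
  have h1 : A ⊴ H20.inertia ⊤ θ :=
    normalIn_top.of_le (H20.le_inertia (irr_cinv hθ) le_top) le_top
  have h2 : Dg (quo A (H20.inertia ⊤ θ)) ⊥ fun d => ¬ s ∣ d := (dg_quo h1).2 fun β a b c => by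
    obtain ⟨χ, d, e⟩ := exists_deg_of_ext normalIn_top hθ he a b
    exact hn (dv_of (mem_ovr.1 d).1 (by
      rw [e, mul_comm (deg β), ← mul_assoc]; exact mul_dvd_mul ht c))
  obtain ⟨Q, hQ⟩ := exists_syl s (H20.inertia ⊤ θ)
  obtain ⟨Q, rfl⟩ := (hQ.of_idx le_top (PiN.of_not_dvd fun e => hn (dv_inertia hθ
    (hc.mul_dvd_of_dvd_of_dvd ht (e.mul_right _))))).exists_sylow_top
  have h3 := hQ.quo h1.norm
  have h4 := ito_psol (H1.isPSolvable_of_isSolvable inferInstance) h2 h3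
  exact ⟨Q, hQ.le, norms_of_quo h1.norm (hQ.le.trans h1.norm) h4.norm,
    (ab_quo_iff (hQ.le.trans h1.norm)).1 (ab_of_pg h3.pi (h2.normal h4 fun a b c d e => d (e.trans c)))⟩

section
variable {W : Type u} [AddCommGroup W] [Finite W] [DistribMulAction G W] {s : ℕ} [Fact s.Prime]

theorem np_map {Γ : Type u} [Group Γ] [Finite Γ] [DistribMulAction Γ W] {f : G →* Γ}
    (hf : Function.Surjective f) (hc : ∀ g (w : W), f g • w = g • w) {A : Subgroup G}
    (hA : A ≤ f.ker) (h : ∀ w : W, w ≠ 0 → ∃ Q : Sylow s G, (Q : Subgroup G) ≤ stabilizer G w ∧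
      stabilizer G w ≤ N(A ⊔ (Q : Subgroup G))) : NP Γ W s := fun w h0 => by
  obtain ⟨Q, h1, h2⟩ := h w h0
  refine ⟨Q.mapSurjective hf, ?_, fun x hx => ?_⟩
  · rintro _ ⟨x, hx, rfl⟩
    exact (hc x w).trans (h1 hx)
  · obtain ⟨g, rfl⟩ := hf x
    have := le_normalizer_map f ⟨g, h2 ((hc g w).symm.trans hx), rfl⟩
    rwa [Subgroup.map_sup, (Subgroup.map_eq_bot_iff _).2 hA, bot_sup_eq] at this

theorem NP.fix (h : NP G W s) {Q : Sylow s G} (hQ : (Q : Subgroup G).Normal) (w : W) :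
    w ∈ Fs W (Q : Subgroup G) := by
  by_cases e : w = 0
  · rw [e]; exact zero_mem _
  obtain ⟨R, h1, -⟩ := h w e
  rwa [← syl_eq (Q := Q) (R := R) (normalIn_top.norms le_top)]

@[reducible] noncomputable def quoAct (A : Subgroup G) [A.Normal] (h : ∀ w : W, w ∈ Fs W A) :
    DistribMulAction (G ⧸ A) W :=
  DistribMulAction.compHom W (QuotientGroup.lift A (BS.toImg G W)
    fun _ ha => BS.eq_one_of_triv (V := W) fun w => h w ha)

theorem st [Group.IsSolvable G] [Nontrivial W] {p q : ℕ} [Fact p.Prime] [Fact q.Prime] (pq : p ≠ q)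
    (h1 : NP G W p) (h2 : NP G W q) {P : Sylow p G} (n1 : ¬ (P : Subgroup G).Normal)
    {Q : Sylow q G} (n2 : ¬ (Q : Subgroup G).Normal) : Dv G (p * q) := by
  obtain ⟨X, ⟨hX, X0⟩, hm⟩ := exists_minimal_of_wellFoundedLT
    (fun X : AddSubgroup W => BS.Inv G W X ∧ X ≠ ⊥) ⟨⊤, fun _ _ _ => trivial, top_ne_bot⟩
  let _ := BS.subAct X hX
  have := (X.nontrivial_iff_ne_bot).2 X0
  have := BS.img_solvable (G := G) (V := X)
  have hi : BS.Irr G X := fun L hL => or_iff_not_imp_left.2 fun e => eq_top_iff.2 fun x _ => by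
    obtain ⟨y, a, b⟩ := hm (y := L.map X.subtype) ⟨by
      rintro g _ ⟨y, hy, rfl⟩
      exact ⟨g • y, hL g y hy, rfl⟩, fun e' => e ((AddSubgroup.map_eq_bot_iff_of_injective _
        X.subtype_injective).1 e')⟩ (AddSubgroup.map_subtype_le L) x.2
    rwa [← (Subtype.ext b : y = x)]
  have k : ∀ {p : ℕ} [Fact p.Prime] {P : Sylow p G}, NP G W p → ¬ (P : Subgroup G).Normal →
      NP (BS.Img G X) X p ∧ p ∣ Nat.card (BS.Img G X) := fun {p} _ P h n => by
    refine ⟨np_map (BS.toImg_surj G X) BS.toImg_smul bot_le fun w w0 => ?_, by_contra fun e => ?_⟩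
    · obtain ⟨R, a, b⟩ := h w.1 fun e => w0 (Subtype.ext e)
      exact ⟨R, fun g hg => Subtype.ext (a hg), fun g hg => by
        rw [bot_sup_eq]; exact b (congrArg Subtype.val hg)⟩
    obtain ⟨w, w0⟩ := exists_ne (0 : X)
    have a : ∀ R : Sylow p G, w.1 ∈ Fs W (R : Subgroup G) := fun R g hg => by
      have b := (PiN.of_isPGroup Fact.out (R.isPGroup'.map (BS.toImg G X))).eq_bot_of_not_dvd
        fun e' => e (e'.trans (card_subgroup_dvd_card _))
      have c := BS.toImg_smul g w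
      rw [mem_bot.1 (b.le (mem_map_of_mem _ hg)), one_smul] at c
      exact (congrArg Subtype.val c).symm
    have : Subsingleton (Sylow p G) :=
      ⟨fun R S => h.eq (fun e => w0 (Subtype.ext e)) (a R) (a S)⟩
    exact n P.normal_of_subsingleton
  obtain ⟨U, _, l, h3, h4⟩ := st0 hi.img pq (k h1 n1).1 (k h2 n2).1 (k h1 n1).2 (k h2 n2).2
  refine Dv.surj _ (BS.toImg_surj G X) (dv_inertia (Ch.irr (W := U) l) (Dvd.dvd.mul_right ?_ _))
  rw [relIndex_top_right]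
  refine h4.trans (index_dvd_of_le fun g hg x hx => ?_)
  have a := (Ch.fn_of_mem (W := U) l (Normal.conj_mem ‹_› x hx g)).symm.trans
    ((congrFun hg.2 x).trans (Ch.fn_of_mem (W := U) l hx))
  exact (mul_inv_eq_iff_eq_mul.1 (congrArg Subtype.val (h3 (Units.ext a)))).symm

end

/-- the dual module -/
def Du (N : Subgroup G) : Type u := Additive (Ch N)

namespace Du
variable {N : Subgroup G}

noncomputable instance grp : AddCommGroup (Du N) := inferInstanceAs (AddCommGroup (Additive (Ch N)))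
instance fin : Finite (Du N) := inferInstanceAs (Finite (Ch N))
noncomputable def fn (w : Du N) : G → ℂ := Ch.fn (W := N) w
theorem lin (w : Du N) : Lin N w.fn := Ch.lin _
theorem fn_add (v w : Du N) : (v + w).fn = v.fn * w.fn := Ch.fn_mul _ _
theorem eq_zero {w : Du N} (h : N ≤ cker w.fn) : w = 0 :=
  Ch.eq_one_iff.2 fun _ hx => (w.lin.mem_cker hx).1 (h hx)

noncomputable instance act [N.Normal] : DistribMulAction G (Du N) where
  smul g w := (H5.RD.instActAA N).smul g w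
  one_smul w := (H5.RD.instActAA N).one_smul w
  mul_smul a b w := (H5.RD.instActAA N).mul_smul a b w
  smul_zero _ := rfl
  smul_add _ _ _ := rfl

theorem fn_smul [N.Normal] (g : G) (w : Du N) : (g • w).fn = cfj g⁻¹ w.fn := H5.RD.fn_smul g w

theorem stab [N.Normal] (w : Du N) : stabilizer G w = H20.inertia ⊤ w.fn := by
  ext g
  rw [mem_stabilizer_iff, ← inv_mem_iff (x := g), H20.mem_inertia, ← fn_smul]
  exact ⟨fun e => ⟨trivial, congrArg fn e⟩, fun e => Ch.fn_injective e.2⟩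

theorem mem_Fs [hN : N.Normal] {w : Du N} {X : Subgroup G} :
    w ∈ Fs (Du N) X ↔ ⁅X, N⁆ ≤ cker w.fn := by
  change X ≤ _ ↔ _
  rw [stab]
  refine ⟨fun h => commutator_le.2 fun x hx a ha => ?_, fun h g hg => ⟨trivial, funext fun y => ?_⟩⟩
  · have := hN.conj_mem a ha x
    rw [commutatorElement_def, w.lin.mem_cker (mul_mem this (inv_mem ha)), w.lin.map_mul this (inv_mem ha),
      show w.fn (x * a * x⁻¹) = w.fn a from congrFun (h hx).2 a, w.lin.mul_inv ha]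
  · by_cases hy : y ∈ N
    · rw [cfj_apply, ← cker_mul (h (commutator_mem_commutator hg hy)) y]
      simp [commutatorElement_def]
    · rw [cfj_apply, w.lin.chr.2 y hy, w.lin.chr.2 _ fun e => hy
        ((conj_mem_iff_of_norm (H5.RD.mem_nrm N g)).1 e)]

theorem sep {K : Subgroup G} (h1 : ⁅N, N⁆ ≤ K) (h2 : K ≤ N) {x : G} (hx : x ∈ N)
    (h : ∀ w : Du N, K ≤ cker w.fn → x ∈ cker w.fn) : x ∈ K :=
  mem_of_forall_cker (normal_of_der_le h1 h2) hx fun _ a b => by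
    obtain ⟨w, rfl⟩ := exists_ch_of_lin ((irr_lin_iff a).2 (h1.trans b))
    exact h w b

theorem comm_le [N.Normal] {X : Subgroup G} (h : ∀ w, w ∈ Fs (Du N) X) : ⁅X, N⁆ ≤ ⁅N, N⁆ :=
  fun _ hx => sep le_rfl (der_le N) (commutator_le_right X N hx) fun w _ => mem_Fs.1 (h w) hx

theorem card_dvd [N.Normal] : Nat.card (Du N) ∣ #N :=
  (H5.RD.card_AA (N := N)).dvd.trans (Dvd.intro_left _ (card_mul_relIndex (der_le N)))

theorem nontriv (h : ¬ N ≤ ⁅N, N⁆) : Nontrivial (Du N) := by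
  obtain ⟨x, hx, h1⟩ := SetLike.not_le_iff_exists.1 h
  by_contra e
  rw [not_nontrivial_iff_subsingleton] at e
  exact h1 (sep le_rfl (der_le N) hx fun w _ => by
    rw [Subsingleton.elim w 0, show (0 : Du N).fn = triv N from Ch.fn_one, cker_triv]; exact hx)

/-- the characters trivial on `X` -/
def Kr {X : Subgroup G} (h : X ≤ N) : AddSubgroup (Du N) where
  carrier := {w | X ≤ cker w.fn}
  zero_mem' := by
    change X ≤ cker (Ch.fn (1 : Ch N)); rwa [Ch.fn_one, cker_triv]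
  add_mem' := fun {a b} ha hb => by
    change X ≤ _; rw [fn_add]; exact (le_inf ha hb).trans (inf_cker_le_mul _ _)
  neg_mem' := fun {a} ha => by
    change X ≤ _
    rwa [show (-a).fn = star a.fn from Ch.fn_inv (W := N) a, cker_star]

theorem Kr_inv [N.Normal] {X : Subgroup G} [X.Normal] (h : X ≤ N) : BS.Inv G (Du N) (Kr h) :=
  fun g w hw => by
    change X ≤ _
    rwa [fn_smul, le_cker_cfj (H5.RD.mem_nrm X _)]

end Du

theorem normal_map_iff {A : Subgroup G} [A.Normal] {s : ℕ} [Fact s.Prime] (Q : Sylow s G) :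
    (Q.mapSurjective (QuotientGroup.mk'_surjective A) : Subgroup (G ⧸ A)).Normal ↔
      (A ⊔ (Q : Subgroup G)).Normal := by
  rw [Sylow.coe_mapSurjective]
  refine ⟨fun h => ?_, fun h => ?_⟩
  · have := h.comap (QuotientGroup.mk' A)
    rwa [comap_map_eq, QuotientGroup.ker_mk', sup_comm] at this
  · have := h.map _ (QuotientGroup.mk'_surjective A)
    rwa [Subgroup.map_sup, QuotientGroup.map_mk'_self, bot_sup_eq] at this

theorem arith {p n a b A B : ℕ} (hp : p.Prime) {m : ℕ} (ha : a ∣ p ^ m) (hA : A ∣ p ^ m)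
    (hb : b ∣ p ^ m) (hB : B ∣ p ^ m) (hn : 1 < n) (h1 : 1 < A) (h2 : A < B)
    (e1 : n * (a - 1) = A - 1) (e2 : n * (b - 1) = B - 1) : False := by
  have k : ∀ {a A : ℕ}, a ∣ p ^ m → A ∣ p ^ m → 1 < A → n * (a - 1) = A - 1 →
      ∃ i, a = p ^ i ∧ p ^ i ∣ n - 1 ∧ ¬ p ^ (i + 1) ∣ n - 1 := by
    intro a A ha hA h1 e
    obtain ⟨i, -, rfl⟩ := (Nat.dvd_prime_pow hp).1 ha
    obtain ⟨j, -, rfl⟩ := (Nat.dvd_prime_pow hp).1 hA
    obtain ⟨n, rfl⟩ := Nat.exists_eq_add_of_lt hn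
    obtain ⟨c, hc⟩ := Nat.exists_eq_add_of_le (Nat.one_le_pow i p hp.pos)
    have e3 : 1 + n + p ^ j = (1 + n) * p ^ i + p ^ i := by
      rw [hc] at e ⊢
      rw [Nat.add_sub_cancel_left] at e
      have : p ^ j = (1 + n + 1) * c + 1 := by omega
      rw [this]; ring
    have c0 : c ≠ 0 := by rintro rfl; rw [hc] at e; omega
    have h3 : p ^ (i + 1) ∣ p ^ j := pow_dvd_pow p ((Nat.pow_lt_pow_iff_right hp.one_lt).1
      (by nlinarith [Nat.pos_of_ne_zero c0]))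
    have h4 : p ^ i ∣ 1 + n := (Nat.dvd_add_left ((pow_dvd_pow p i.le_succ).trans h3)).1
      (e3 ▸ dvd_add (dvd_mul_left _ _) dvd_rfl)
    refine ⟨i, rfl, h4, fun h5 => ?_⟩
    have h6 := (Nat.dvd_add_right (Dvd.dvd.mul_right h5 _)).1 (e3 ▸ dvd_add h5 h3)
    exact absurd ((Nat.pow_dvd_pow_iff_le_right hp.one_lt).1 h6) (by omega)
  obtain ⟨i, rfl, a1, a2⟩ := k ha hA h1 e1
  obtain ⟨j, rfl, b1, b2⟩ := k hb hB (h1.trans h2) e2
  obtain rfl : i = j := le_antisymm (not_lt.1 fun e => b2 ((pow_dvd_pow p e).trans a1))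
    (not_lt.1 fun e => a2 ((pow_dvd_pow p e).trans b1))
  omega

end H3.PT
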