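import Cfsg.Agent.H3.PT2
import Cfsg.Agent.H6.Glaub5

/-! Pálfy's three primes theorem: a normal Sylow subgroup. -/

set_option autoImplicit false
set_option linter.unusedSectionVars false

open Subgroup MulAction H19 H20 H6 Cfsg
open scoped commutatorElement

namespace H3.PT

universe u
variable {G : Type u} [Group G] [Finite G] {p q r : ℕ} [hp : Fact p.Prime] [hq : Fact q.Prime]
  [hr : Fact r.Prime] {A : Subgroup G}

theorem frat {Q : Sylow q G} (h : (A ⊔ (Q : Subgroup G)).Normal) : A ⊔ N((Q : Subgroup G)) = ⊤ :=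
  top_le_iff.1 ((Q.normalizer_sup_eq_top' le_sup_right).ge.trans
    (sup_le le_sup_right (sup_le le_sup_left (le_normalizer.trans le_sup_right))))

theorem frat' {Q : Sylow q G} (h : (A ⊔ (Q : Subgroup G)).Normal) (hA : A ≤ N((Q : Subgroup G))) :
    (Q : Subgroup G).Normal :=
  normalizer_eq_top_iff.1 (top_le_iff.1 ((frat h).ge.trans (sup_le hA le_rfl)))

theorem syl_le [hA : A.Normal] {Q : Sylow q G} (h : (Q : Subgroup G) ≤ A) (R : Sylow q G) :
    (R : Subgroup G) ≤ A := by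
  obtain ⟨g, rfl⟩ := exists_smul_eq G Q R
  rintro _ ⟨x, hx, rfl⟩
  exact hA.conj_mem x (h hx) g

theorem nsyl {Q : Sylow q G} (h : A ≤ N((Q : Subgroup G))) :
    N(A ⊔ (Q : Subgroup G)) ≤ N((Q : Subgroup G)) := fun g hg =>
  Sylow.smul_eq_iff_mem_normalizer.1 (syl_eq (by
    rintro _ ⟨x, hx, rfl⟩
    exact sup_le h le_normalizer (conj_mem_of_norm hg (mem_sup_right hx))))

theorem spi (Q : Sylow q G) : PG q (Q : Subgroup G) := PiN.of_isPGroup hq.out Q.isPGroup'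

theorem cop (pq : p ≠ q) (P : Sylow p G) (Q : Sylow q G) :
    (#(P : Subgroup G)).Coprime #(Q : Subgroup G) :=
  IsPGroup.coprime_card_of_ne p q pq _ _ P.isPGroup' Q.isPGroup'

theorem hall (P : Sylow p G) : (#(P : Subgroup G)).Coprime ((P : Subgroup G).relIndex ⊤) := by
  rw [relIndex_top_right]; exact P.card_coprime_index

theorem pdeg {P : Sylow p G} {θ : G → ℂ} (h : θ ∈ Irr (P : Subgroup G)) (h1 : deg θ ≠ 1) :
    p ∣ deg θ := by_contra fun e =>
  h1 (PiN.eq_one ((spi P).dvd (irr_deg_dvd h)) (PiN.of_not_dvd e))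

theorem le_in {Q : Sylow q G} (hn : (A ⊔ (Q : Subgroup G)).Normal) [A.Normal] {θ : G → ℂ}
    (hθ : θ ∈ Irr A) (h : ¬ q ∣ (H20.inertia ⊤ θ).relIndex ⊤) : (Q : Subgroup G) ≤ H20.inertia ⊤ θ :=
  le_sup_right.trans (le_inertia_of_not_dvd normalIn_top le_sup_left hθ (by
    rw [relIndex_sup_left]; exact (spi Q).dvd (relIndex_dvd_card _ _)) h)

variable [Group.IsSolvable G]

theorem nonab {P : Sylow p G} (hP : (P : Subgroup G).Normal) (d : Dv G p) :
    ¬ ⁅(P : Subgroup G), (P : Subgroup G)⁆ ≤ ⊥ := fun e =>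
  (ito P).2 ⟨hP, comm_iff_le_cent.2 (commg_eq_bot.1 (le_bot_iff.1 e))⟩ d

theorem b0 {P : Sylow p G} (hP : (P : Subgroup G).Normal) (pq : p ≠ q) (d1 : Dv G p) (d2 : Dv G q)
    (n : ¬ Dv G (p * q)) (Q : Sylow q G) : ¬ (Q : Subgroup G) ≤ C((P : Subgroup G)) := fun h => by
  obtain ⟨θ, hθ, -, h1⟩ := exists_nonlin (normalIn_top.of_le bot_le le_top) (nonab hP d1)
  obtain ⟨R, -, h2, h3⟩ := key hθ (ext_of_hall normalIn_top (hall P) hθ)
    ((Nat.coprime_primes hp.out hq.out).2 pq) ((pdeg hθ h1).mul_left _) n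
  have h4 := syl_le h R
  refine (ito R).2 ⟨normalizer_eq_top_iff.1 (top_le_iff.1 ((R.normalizer_sup_eq_top' h4).ge.trans
    (sup_le le_rfl ((H20.le_inertia (cinv_of_cent le_rfl (irr_chr hθ).2) le_top).trans
      (h2.trans (nsyl (norms_of_cents (cents_symm h4)))))))), comm_iff_le_cent.2 (commg_eq_bot.1
        (le_bot_iff.1 ((le_inf h3 (der_le _)).trans (disjoint_of_coprime_natCard (cop pq P R)).le_bot)))⟩ d2

theorem b1 {P : Sylow p G} (hP : (P : Subgroup G).Normal) (pq : p ≠ q) (d1 : Dv G p) (d2 : Dv G q)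
    (n : ¬ Dv G (p * q)) (Q : Sylow q G) :
    ¬ ⁅(P : Subgroup G), (Q : Subgroup G)⁆ ≤ ⁅(P : Subgroup G), (P : Subgroup G)⁆ := fun h =>
  b0 hP pq d1 d2 n Q (H2.le_centralizer_of_frattini ((cop pq P Q).symm.coprime_dvd_right
    (card_subgroup_dvd_card _)) (h.trans
      (H1.commutator_le_frattiniOf_of_isNilpotent P.isPGroup'.isNilpotent)))

def NQ (A : Subgroup G) (W : Type u) [AddCommGroup W] [DistribMulAction G W] (s : ℕ) : Prop :=
  (∀ w : W, w ∈ Fs W A) ∧ ∀ w : W, w ≠ 0 → ∃ Q : Sylow s G, (Q : Subgroup G) ≤ stabilizer G w ∧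
    stabilizer G w ≤ N(A ⊔ (Q : Subgroup G))

section
variable {W : Type u} [AddCommGroup W] [Finite W] [DistribMulAction G W] [A.Normal]

theorem NQ.np (h : NQ A W q) : letI := quoAct A h.1; NP (G ⧸ A) W q :=
  letI := quoAct A h.1
  np_map (QuotientGroup.mk'_surjective A) (fun _ _ => rfl) (QuotientGroup.ker_mk' A).ge h.2

theorem NQ.fix (h : NQ A W q) {Q : Sylow q G} (hQ : (A ⊔ (Q : Subgroup G)).Normal) (w : W) :
    w ∈ Fs W (Q : Subgroup G) := fun _ hg =>
  letI := quoAct A h.1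
  h.np.fix ((normal_map_iff Q).2 hQ) w (mem_map_of_mem _ hg)

theorem NQ.st [Nontrivial W] (h1 : NQ A W p) (h2 : NQ A W q) (pq : p ≠ q) {P : Sylow p G}
    (n1 : ¬ (A ⊔ (P : Subgroup G)).Normal) {Q : Sylow q G} (n2 : ¬ (A ⊔ (Q : Subgroup G)).Normal) :
    Dv G (p * q) :=
  letI := quoAct A h1.1
  (PT.st pq h1.np h2.np (mt (normal_map_iff P).1 n1) (mt (normal_map_iff Q).1 n2)).surj _
    (QuotientGroup.mk'_surjective A)

theorem NQ.count (h : NQ A W q) :
    ∃ a, a ∣ Nat.card W ∧ Nat.card (Sylow q (G ⧸ A)) * (a - 1) = Nat.card W - 1 :=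
  letI := quoAct A h.1
  ⟨_, AddSubgroup.card_addSubgroup_dvd_card _, h.np.count default⟩

end

structure Bad (G : Type u) [Group G] (p q r : ℕ) : Prop where
  pq : p ≠ q
  qr : q ≠ r
  pr : p ≠ r
  d1 : Dv G p
  d2 : Dv G q
  d3 : Dv G r
  n1 : ¬ Dv G (p * q)
  n2 : ¬ Dv G (q * r)
  n3 : ¬ Dv G (p * r)

theorem Bad.s1 (h : Bad G p q r) : Bad G q p r :=
  ⟨h.pq.symm, h.pr, h.qr, h.d2, h.d1, h.d3, mul_comm p q ▸ h.n1, h.n3, h.n2⟩

theorem Bad.s2 (h : Bad G p q r) : Bad G p r q :=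
  ⟨h.pr, h.qr.symm, h.pq, h.d1, h.d3, h.d2, h.n3, mul_comm q r ▸ h.n2, h.n1⟩

theorem Bad.quo (h : Bad G p q r) [A.Normal] (d1 : Dv (G ⧸ A) p) (d2 : Dv (G ⧸ A) q)
    (d3 : Dv (G ⧸ A) r) : Bad (G ⧸ A) p q r :=
  have k {a} := mt (Dv.surj _ (QuotientGroup.mk'_surjective A) (a := a))
  ⟨h.pq, h.qr, h.pr, d1, d2, d3, k h.n1, k h.n2, k h.n3⟩

theorem of_not_dv [A.Normal] (h : ¬ Dv (G ⧸ A) q) (Q : Sylow q G) :
    (A ⊔ (Q : Subgroup G)).Normal ∧ ⁅(Q : Subgroup G), (Q : Subgroup G)⁆ ≤ A := by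
  obtain ⟨h1, h2⟩ := (ito (Q.mapSurjective (QuotientGroup.mk'_surjective A))).1 h
  refine ⟨(normal_map_iff Q).1 h1, ?_⟩
  rwa [comm_iff_der, Sylow.coe_mapSurjective, ← Subgroup.map_commutator, Subgroup.map_eq_bot_iff,
    QuotientGroup.ker_mk'] at h2

variable {P : Sylow p G} [hP : (P : Subgroup G).Normal]

theorem Bad.caseA (h : Bad G p q r) :
    Bad (G ⧸ ⁅⁅(P : Subgroup G), (P : Subgroup G)⁆, (P : Subgroup G)⁆) p q r := by
  have a := commutator_le_left ⁅(P : Subgroup G), (P : Subgroup G)⁆ (P : Subgroup G)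
  have k : ∀ {q r : ℕ} [Fact q.Prime], Bad G p q r →
      Dv (G ⧸ ⁅⁅(P : Subgroup G), (P : Subgroup G)⁆, (P : Subgroup G)⁆) q := fun {q r} _ h =>
    by_contra fun e => by
      refine b1 hP h.pq h.d1 h.d2 h.n1 default (le_trans ?_ a)
      refine (le_inf ((commutator_mono le_rfl le_sup_right).trans
        (commutator_le_right _ _ (h := (of_not_dv e default).1))) (commutator_le_left _ _)).trans ?_
      rw [sup_inf_modl (normalIn_top.norms le_top) (a.trans (der_le _)),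
        (disjoint_of_coprime_natCard (cop h.pq.symm _ P)).eq_bot, sup_bot_eq]
  exact h.quo (by_contra fun e => nonab hP h.d1 (nil_eq_bot_of_commg P.isPGroup'.isNilpotent
    (der_le _) le_rfl (normalIn_top.norms le_top) (of_not_dv e P).2).le) (k h) (k h.s2)

theorem nl {θ : G → ℂ} {w : Du ⁅(P : Subgroup G), (P : Subgroup G)⁆} (w0 : w ≠ 0)
    (h : θ ∈ ovr P ⁅(P : Subgroup G), (P : Subgroup G)⁆ w.fn) : deg θ ≠ 1 := fun e =>
  w0 (Du.eq_zero (le_cker_of_below (irr_chr (mem_ovr.1 h).1) (der_le _) w.lin.irr (mem_ovr.1 h).2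
    le_rfl ((der_le_cker (mem_ovr.1 h).1).2 e)))

theorem nqZ (hZ : (P : Subgroup G) ≤ C(⁅(P : Subgroup G), (P : Subgroup G)⁆)) (pq : p ≠ q)
    (n : ¬ Dv G (p * q)) : NQ (P : Subgroup G) (Du ⁅(P : Subgroup G), (P : Subgroup G)⁆) q := by
  refine ⟨fun w => Du.mem_Fs.2 ((commg_eq_bot.2 hZ).le.trans bot_le), fun w w0 => ?_⟩
  have h1 := H20.le_inertia (L := ⊤) (cinv_of_cent hZ w.lin.chr.2) le_top
  obtain ⟨θ, h2, h3⟩ := exists_inv_above_top (normalIn_top.of_le ((der_le _).trans h1) le_top)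
    (normalIn_top.of_le h1 le_top) (der_le _) (((hall P).symm.coprime_dvd_left
      (relIndex_dvd_right h1 le_top)).coprime_dvd_right (relIndex_dvd_card _ _))
    (Or.inl inferInstance) (mem_IrrI.2 ⟨w.lin.irr, cinv_inertia _ _⟩)
  have h4 := mem_ovr.2 ⟨irrI_irr h2, h3⟩
  have h5 : H20.inertia ⊤ θ = H20.inertia ⊤ w.fn := by
    refine le_antisymm (H20.le_inertia ?_ le_top) (H20.le_inertia (irrI_cinv h2) le_top)
    have := ((cinv_inertia ⊤ θ).Res (H := ⁅(P : Subgroup G), (P : Subgroup G)⁆)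
      (normalIn_top.norms le_top)).smul (θ 1)⁻¹
    rwa [((mem_ovr_iff_hm (der_le _) hZ w.lin).1 h4).2.Res_eq w.lin,
      inv_smul_smul₀ (irr_one_ne (irrI_irr h2))] at this
  obtain ⟨Q, a, b, -⟩ := key (irrI_irr h2) (ext_of_hall normalIn_top (hall P) (irrI_irr h2))
    ((Nat.coprime_primes hp.out hq.out).2 pq) ((pdeg (irrI_irr h2) (nl w0 h4)).mul_left _) n
  rw [h5, ← Du.stab] at a b
  exact ⟨Q, a, b⟩

theorem card_lt {Q : Sylow q G} (hZ : (P : Subgroup G) ≤ C(⁅(P : Subgroup G), (P : Subgroup G)⁆))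
    (pq : p ≠ q) (h1 : ⁅(P : Subgroup G), (P : Subgroup G)⁆ ≤ C((Q : Subgroup G)))
    (h2 : ¬ (Q : Subgroup G) ≤ C((P : Subgroup G)))
    (h3 : ∀ θ ∈ Irr (P : Subgroup G), deg θ ≠ 1 → CInv Q θ) :
    Nat.card (Du ⁅(P : Subgroup G), (P : Subgroup G)⁆) <
      Nat.card (Du.Kr (inf_le_left : (P : Subgroup G) ⊓ C((Q : Subgroup G)) ≤ P)) := by
  have hc := cop pq P Q
  have hn : (Q : Subgroup G) ≤ N((P : Subgroup G)) := normalIn_top.norms le_top
  obtain ⟨x, x1, x2⟩ := SetLike.not_le_iff_exists.1 fun e : ⁅(P : Subgroup G), (Q : Subgroup G)⁆ ≤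
      C((Q : Subgroup G)) => h2 (cents_symm (commg_eq_bot.1
        ((commg_commg hn hc).symm.trans (commg_eq_bot.2 e))))
  have x3 := commutator_le_left _ _ x1
  have x4 : x ∈ C((P : Subgroup G) ⊓ C((Q : Subgroup G))) := by
    refine commg_eq_bot.1 (three_subgroup ?_ ?_) x1
    · rw [commg_eq_bot.2 (cents_symm inf_le_right), commutator_bot_left]
    · exact commg_eq_bot.2 ((commutator_mono inf_le_left le_rfl).trans h1)
  let c : (P : Subgroup G) →* ↥⁅(P : Subgroup G), (P : Subgroup G)⁆ := MonoidHom.mk'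
    (fun y => ⟨⁅y.1, x⁆, commutator_mem_commutator y.2 x3⟩) fun a b => Subtype.ext (by
      have e1 := hZ a.2 _ (commutator_mem_commutator b.2 x3)
      have e2 := hZ (commutator_le_left _ _ (commutator_mem_commutator a.2 x3)) _
        (commutator_mem_commutator b.2 x3)
      change ⁅a.1 * b.1, x⁆ = ⁅a.1, x⁆ * ⁅b.1, x⁆
      rw [← e2, ← mul_inv_cancel_right ⁅b.1, x⁆ a.1, e1]
      simp only [commutatorElement_def]; group)
  have k : ∀ (w : Du ⁅(P : Subgroup G), (P : Subgroup G)⁆) {y : G}, y ∈ (P : Subgroup G) →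
      Du.fn (N := P) (Ch.hom w |>.comp c) y = w.fn ⁅y, x⁆ := fun w y hy =>
    (Ch.fn_of_mem _ hy).trans (Ch.fn_of_mem _ (commutator_mem_commutator hy x3)).symm
  let Φ : Du ⁅(P : Subgroup G), (P : Subgroup G)⁆ →+
      Du.Kr (inf_le_left : (P : Subgroup G) ⊓ C((Q : Subgroup G)) ≤ P) := AddMonoidHom.mk'
    (fun w => ⟨Ch.hom w |>.comp c, fun y hy => ((Du.lin _).mem_cker hy.1).2 (by
      rw [k w hy.1, commutatorElement_eq_one_iff_mul_comm.2 (x4 y hy), w.lin.one])⟩) fun _ _ => rfl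
  replace k : ∀ w {y : G}, y ∈ (P : Subgroup G) → (Φ w).1.fn y = w.fn ⁅y, x⁆ := k
  have hi : Function.Injective Φ := (injective_iff_map_eq_zero Φ).2 fun w e => by_contra fun w0 => by
    obtain ⟨θ, a⟩ := exists_ovr (der_le (P : Subgroup G)) w.lin.irr
    obtain ⟨b, d⟩ := (mem_ovr_iff_hm (der_le _) hZ w.lin).1 a
    have f : θ x ≠ 0 := norm_ne_zero_iff.1 ((irr_norm_central b x3 fun y hy => by
      have g := commutator_mem_commutator hy x3
      have := d _ g 1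
      rw [one_mul, ← k w hy, e, ZeroMemClass.coe_zero, show (0 : Du (P : Subgroup G)).fn = triv P from Ch.fn_one,
        triv_of_mem hy, one_mul] at this
      exact (chr_mem_cker (irr_chr b) (der_le _ g)).2 this).trans_ne
        (Nat.cast_ne_zero.2 (irr_deg_pos b).ne'))
    obtain ⟨n, n1, n2⟩ := exists_mul_mem_cent (H := ⁅(P : Subgroup G), (P : Subgroup G)⁆) (k := x)
      (normalIn_top.norms le_top) (hc.coprime_dvd_left (card_dvd_of_le (der_le _)))
      (Or.inl inferInstance) fun y hy => by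
        have g := hP.conj_mem x x3 y
        refine Du.sep le_rfl (der_le _) (mul_mem g (inv_mem x3)) fun l _ => ?_
        have := h3 _ (irr_mul_lin b l.lin) (by
          rw [deg_congr (ψ := θ) (by rw [Pi.mul_apply, l.lin.one, one_mul])]; exact nl w0 a) y hy x
        rw [Pi.mul_apply, Pi.mul_apply, h3 θ b (nl w0 a) y hy x, mul_left_inj' f] at this
        rw [l.lin.mem_cker (mul_mem g (inv_mem x3)), l.lin.map_mul g (inv_mem x3), this,
          l.lin.mul_inv x3]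
    exact x2 ((mul_mem_cancel_left (h1 n1)).1 n2)
  refine (Nat.card_le_card_of_injective Φ hi).lt_of_ne fun e => x2 (Du.sep
    (le_inf (der_le _) h1) inf_le_left x3 fun l hl => ?_).2
  obtain ⟨w, hw⟩ := ((Nat.bijective_iff_injective_and_card Φ).2 ⟨hi, e⟩).2 ⟨l, hl⟩
  rw [l.lin.mem_cker x3, ← show _ = l from congrArg Subtype.val hw, k w x3, commutatorElement_self,
    w.lin.one]

theorem Bad.caseB (h : Bad G p q r)
    (hZ : (P : Subgroup G) ≤ C(⁅(P : Subgroup G), (P : Subgroup G)⁆)) {Q : Sylow q G}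
    (hQ : ((P : Subgroup G) ⊔ (Q : Subgroup G)).Normal) : False := by
  have qr := (Nat.coprime_primes hq.out hr.out).2 h.qr
  have h1 : ⁅(P : Subgroup G), (P : Subgroup G)⁆ ≤ C((Q : Subgroup G)) :=
    cents_symm (commg_eq_bot.1 (le_bot_iff.1 ((Du.comm_le ((nqZ hZ h.pq h.n1).fix hQ)).trans
      (commg_eq_bot.2 ((der_le _).trans hZ)).le)))
  have h2 : ((P : Subgroup G) ⊓ C((Q : Subgroup G))).Normal :=
    normalizer_eq_top_iff.1 (top_le_iff.1 ((frat hQ).ge.trans (sup_le (norms_of_commg_le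
      ((commutator_mono inf_le_left le_rfl).trans (le_inf (der_le _) h1)))
      (norms_inf (normalIn_top.norms le_top) (norms_cent le_rfl)))))
  let _ := BS.subAct _ (Du.Kr_inv (inf_le_left : (P : Subgroup G) ⊓ C((Q : Subgroup G)) ≤ P))
  have h3 : NQ (P : Subgroup G) (Du.Kr (inf_le_left : (P : Subgroup G) ⊓ C((Q : Subgroup G)) ≤ P)) r := by
    refine ⟨fun w g hg => Subtype.ext (Du.mem_Fs.2 w.1.lin.der_le hg), fun w w0 => ?_⟩
    obtain ⟨R, a, b, -⟩ := key w.1.lin.irr (ext_of_hall normalIn_top (hall P) w.1.lin.irr) qr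
      (Dvd.dvd.mul_right (by_contra fun e => w0 (Subtype.ext (Du.eq_zero ((commg_sup_cent
        (normalIn_top.norms le_top) (cop h.pq P Q) (Or.inl inferInstance)).ge.trans (sup_le (by
          rw [commutator_comm]
          exact Du.mem_Fs.1 ((le_in hQ w.1.lin.irr e).trans (Du.stab _).ge)) w.2))))) _) h.n2
    rw [← Du.stab] at a b
    exact ⟨R, fun g hg => Subtype.ext (a hg), fun g hg => b (congrArg Subtype.val hg)⟩
  have h4 : ¬ ((P : Subgroup G) ⊔ ((default : Sylow r G) : Subgroup G)).Normal := fun hR => by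
    have k : ∀ {q r : ℕ} [Fact q.Prime] {Q : Sylow q G}, Bad G p q r →
        ¬ ⊤ ≤ Fs (Du (P : Subgroup G)) (Q : Subgroup G) := fun {q r} _ Q h e =>
      b1 hP h.pq h.d1 h.d2 h.n1 Q (by rw [commutator_comm]; exact Du.comm_le fun w => e trivial)
    refine (AddSubgroupClass.subset_union.1 fun w _ => by_contra fun e => ?_).elim (k (Q := Q) h)
      (k (Q := default) h.s2)
    rw [Set.mem_union, not_or] at e
    exact h.n2 (dv_inertia w.lin.irr ((qr.mul_dvd_of_dvd_of_dvd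
      (by_contra fun e' => e.1 ((le_in hQ w.lin.irr e').trans (Du.stab _).ge))
      (by_contra fun e' => e.2 ((le_in hR w.lin.irr e').trans (Du.stab _).ge))).mul_right _))
  obtain ⟨a, a1, a2⟩ := (nqZ hZ h.pr h.n3).count
  obtain ⟨b, b1, b2⟩ := h3.count
  obtain ⟨m, hm⟩ := IsPGroup.iff_card.1 P.isPGroup'
  have c1 := Du.card_dvd.trans ((card_dvd_of_le (der_le (P : Subgroup G))).trans hm.dvd)
  have c2 := (AddSubgroup.card_addSubgroup_dvd_card (Du.Kr (inf_le_left : (P : Subgroup G) ⊓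
    C((Q : Subgroup G)) ≤ P))).trans (Du.card_dvd.trans hm.dvd)
  refine arith hp.out (a1.trans c1) c1 (b1.trans c2) c2 (Finite.one_lt_card_iff_nontrivial.2
    (not_subsingleton_iff_nontrivial.1 fun e => h4 ((normal_map_iff _).1
      (Sylow.normal_of_subsingleton _)))) (Finite.one_lt_card_iff_nontrivial.2 (Du.nontriv fun e =>
        nonab hP h.d1 (e.trans (commg_eq_bot.2 ((der_le _).trans hZ)).le)))
    (card_lt hZ h.pq h1 (b0 hP h.pq h.d1 h.d2 h.n1 Q) fun θ hθ e => (le_inertia_iff.1 (le_in hQ hθ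
      fun e' => h.n1 (dv_inertia hθ (mul_comm p q ▸ mul_dvd_mul e' (pdeg hθ e))))).2) a2 b2

theorem Bad.caseC (h : Bad G p q r)
    (hZ : (P : Subgroup G) ≤ C(⁅(P : Subgroup G), (P : Subgroup G)⁆)) : False :=
  have := Du.nontriv fun e => nonab hP h.d1 (e.trans (commg_eq_bot.2 ((der_le _).trans hZ)).le)
  h.n2 ((nqZ hZ h.pq h.n1).st (nqZ hZ h.pr h.n3) h.qr (P := default) (h.caseB hZ) (Q := default)
    (h.s2.caseB hZ))

omit hP

theorem ext_split {V H : Subgroup G} [V.Normal] (h1 : V ⊔ H = ⊤) (h2 : V ⊓ H = ⊥) (w : Du V) :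
    Ext (H20.inertia ⊤ w.fn) V w.fn := by
  have a := H20.le_inertia (L := ⊤) (irr_cinv w.lin.irr) le_top
  have b : ⁅H20.inertia ⊤ w.fn, V⁆ ≤ V ⊓ cker w.fn :=
    le_inf (commutator_le_right _ _) (Du.mem_Fs.1 (Du.stab w).ge)
  generalize H20.inertia ⊤ w.fn = T at a b ⊢
  have c : V ⊔ H ⊓ T = T := by rw [← sup_inf_modl (normalIn_top.norms le_top) a, h1, top_inf_eq]
  have e : V ≤ N((V ⊓ cker w.fn) ⊔ H ⊓ T) := norms_of_commg_le ((commutator_mono
    (sup_le (inf_le_left.trans a) inf_le_right) le_rfl).trans (b.trans le_sup_left))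
  have f : H ⊓ T ≤ N((V ⊓ cker w.fn) ⊔ H ⊓ T) := le_sup_right.trans le_normalizer
  have d : ⁅V ⊔ H ⊓ T, V ⊔ H ⊓ T⁆ ≤ (V ⊓ cker w.fn) ⊔ H ⊓ T :=
    commg_sup_left_le (by rw [c, commutator_comm]; exact b.trans le_sup_left) (commg_sup_right_le
      ((commutator_mono inf_le_right le_rfl).trans (b.trans le_sup_left))
      ((der_le _).trans le_sup_right) e f) e f
  obtain ⟨μ, f, g⟩ := exists_lin_ext_der a w.lin ((inf_le_inf_right V (c ▸ d)).trans (by
    rw [sup_inf_modl (norms_of_commg_le' ((commutator_mono inf_le_right inf_le_left).trans b))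
      inf_le_left]
    exact sup_le inf_le_right ((le_inf inf_le_right (inf_le_left.trans inf_le_left)).trans
      (h2.le.trans bot_le))))
  exact ⟨μ, f.irr, g⟩

theorem Bad.caseD (h : Bad G p q r) {V : Subgroup G} [V.Normal] (V0 : V ≠ ⊥)
    (hm : ∀ K : Subgroup G, K.Normal → K ≤ V → K = ⊥ ∨ K = V) {P : Sylow p G}
    (hP : ¬ (P : Subgroup G).Normal) {Q : Sylow q G} (hQ : ¬ (Q : Subgroup G).Normal) {R : Sylow r G}
    (hR : ¬ (R : Subgroup G).Normal) : Dv (G ⧸ V) r := by_contra fun e => by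
  have ha := comm_iff_der.1 (H1.elementary_of_minimal_normal V V0 inferInstance hm).1
  have h1 := (of_not_dv e R).1
  have h2 : V ⊓ N((R : Subgroup G)) = ⊥ := (hm _ (normalizer_eq_top_iff.1 (top_le_iff.1
    ((frat h1).ge.trans (sup_le (norms_of_comm (comm_iff_der.2 ha) le_rfl inf_le_left)
      (norms_inf (normalIn_top.norms le_top) le_normalizer))))) inf_le_left).resolve_right
        fun e => hR (frat' h1 (inf_eq_left.1 e))
  have h3 : ⁅(R : Subgroup G), V⁆ = V := (hm _ (normalizer_eq_top_iff.1 (top_le_iff.1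
    ((frat h1).ge.trans (sup_le (commg_normr _ _) (norms_comm le_rfl (normalIn_top.norms le_top))))))
      (commutator_le_right _ _)).resolve_left fun e =>
        hR (frat' h1 (norms_of_cents (cents_symm (commg_eq_bot.1 e))))
  have k : ∀ {p : ℕ} [hp : Fact p.Prime], p ≠ r → ¬ Dv G (p * r) → ∀ {P : Sylow p G},
      ¬ (P : Subgroup G).Normal → NQ V (Du V) p ∧ ¬ (V ⊔ (P : Subgroup G)).Normal := by
    intro p hp pr n P hP
    have a : NQ V (Du V) p := ⟨fun w => Du.mem_Fs.2 w.lin.der_le, fun w w0 => by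
      obtain ⟨S, a, b, -⟩ := key w.lin.irr (ext_split (frat h1) h2 w)
        ((Nat.coprime_primes hr.out hp.out).2 pr.symm) (Dvd.dvd.mul_right (by_contra fun e =>
          w0 (Du.eq_zero (h3.ge.trans (Du.mem_Fs.1 ((le_in h1 w.lin.irr e).trans (Du.stab _).ge)))))
            _) (mul_comm p r ▸ n)
      rw [← Du.stab] at a b
      exact ⟨S, a, b⟩⟩
    exact ⟨a, fun e => hP (frat' e (norms_of_cents (cents_symm (commg_eq_bot.1 (le_bot_iff.1
      ((Du.comm_le (a.fix e)).trans ha.le))))))⟩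
  have := Du.nontriv fun e => V0 (le_bot_iff.1 (e.trans ha.le))
  exact h.n1 ((k h.pr h.n3 hP).1.st (k h.qr h.n2 hQ).1 h.pq (k h.pr h.n3 hP).2 (k h.qr h.n2 hQ).2)

theorem not_bad (n : ℕ) : ∀ (G : Type u) [Group G] [Finite G] [Group.IsSolvable G], Nat.card G = n →
    ∀ (p q r : ℕ) [Fact p.Prime] [Fact q.Prime] [Fact r.Prime], ¬ Bad G p q r := by
  induction n using Nat.strong_induction_on with
  | _ n ih =>
  rintro G _ _ _ rfl
  have ih' : ∀ (A : Subgroup G) [A.Normal], A ≠ ⊥ → ∀ (p q r : ℕ) [Fact p.Prime] [Fact q.Prime]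
      [Fact r.Prime], ¬ Bad (G ⧸ A) p q r := fun A _ hA => ih _ (by
    rw [card_eq_card_quotient_mul_card_subgroup A]
    exact lt_mul_of_one_lt_right Nat.card_pos (A.one_lt_card_iff_ne_bot.2 hA)) _ rfl
  have k : ∀ {p q r : ℕ} [Fact p.Prime] [Fact q.Prime] [Fact r.Prime], Bad G p q r →
      ¬ ((default : Sylow p G) : Subgroup G).Normal := fun h hP =>
    h.caseC (P := default) (cents_symm (commg_eq_bot.1 (by_contra fun e =>
      ih' _ e _ _ _ (h.caseA (P := default)))))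
  intro p q r _ _ _ h
  have : Nontrivial G := not_subsingleton_iff_nontrivial.1 fun _ =>
    k h ⟨fun x hx g => by rwa [Subsingleton.elim (g * x * g⁻¹) x]⟩
  obtain ⟨V, _, -, V0, hm⟩ := BS.exists_min_normal (N := (⊤ : Subgroup G)) top_ne_bot
  exact ih' V V0 p q r (h.quo (h.s1.s2.caseD V0 hm (k h.s1) (k h.s2.s1) (k h))
    (h.s2.caseD V0 hm (k h) (k h.s2.s1) (k h.s1)) (h.caseD V0 hm (k h) (k h.s1) (k h.s2.s1)))

end H3.PT
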