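/-
S5855, chunk AM: the computation for the two special fields (meet in the middle over divisors).
-/
import Cfsg.Agent.H6.UE0

set_option autoImplicit false

namespace H3.UE
open H6.UE

/-- evaluate the argument first -/
def frc {α : Type} (x : ℕ) (f : ℕ → α) : α := Nat.casesOn x (f 0) fun n => f n.succ

theorem frc_eq {α : Type} (x : ℕ) (f : ℕ → α) : frc x f = f x := by cases x <;> rfl

/-- the number with the given factorisation -/
def pr (l : List (ℕ × ℕ)) : ℕ := (l.map fun x => x.1 ^ x.2).prod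

/-- a test on all divisors -/
def allD (f : ℕ → Bool) (l : List (ℕ × ℕ)) : ℕ → Bool :=
  l.foldr (fun t g x => (List.range (t.2 + 1)).all fun i => frc (x * t.1 ^ i) g) f

/-- the set of the values on all divisors -/
def orD (f : ℕ → ℕ) (l : List (ℕ × ℕ)) : ℕ → ℕ :=
  l.foldr (fun t g x => (List.range (t.2 + 1)).foldr (fun i s => frc (x * t.1 ^ i) g ||| s) 0) fun x => 1 <<< f x

/-- trial division -/
def isP (p : ℕ) : Bool := decide (2 ≤ p) && decide (p < 90000 * 90000) && (List.range 300).all fun i =>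
  decide (p < 300 * i * (300 * i)) || (List.range 300).all fun j => frc (300 * i + j) fun m =>
    decide (m < 2) || decide (p < m * m) || p % m != 0

theorem isP_prime {p : ℕ} (h : isP p = true) : p.Prime := by
  simp only [isP, frc_eq, Bool.and_eq_true, decide_eq_true_eq, List.all_eq_true, List.mem_range, Bool.or_eq_true,
    bne_iff_ne] at h
  refine Nat.prime_def_le_sqrt.2 ⟨h.1.1, fun m a b c => ?_⟩
  have b' := Nat.le_sqrt.1 b
  have m9 : m < 90000 := by
    by_contra n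
    have := Nat.mul_le_mul (not_lt.1 n) (not_lt.1 n)
    omega
  have e : 300 * (m / 300) + m % 300 = m := Nat.div_add_mod m 300
  rcases h.2 (m / 300) (by omega) with k | k
  · have : 300 * (m / 300) ≤ m := by omega
    have := Nat.mul_le_mul this this
    omega
  · have k := k (m % 300) (by omega)
    rw [e] at k
    rcases k with (k | k) | k
    · omega
    · omega
    · exact k (Nat.mod_eq_zero_of_dvd c)

theorem split {t : ℕ × ℕ} {l : List (ℕ × ℕ)} {d : ℕ} (h : t.1.Prime) (hd : d ∣ pr (t :: l)) :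
    ∃ i d', i < t.2 + 1 ∧ d' ∣ pr l ∧ d = t.1 ^ i * d' := by
  rw [pr, List.map_cons, List.prod_cons] at hd
  obtain ⟨a, b, h1, h2, rfl⟩ := exists_dvd_and_dvd_of_dvd_mul hd
  obtain ⟨i, hi, rfl⟩ := (Nat.dvd_prime_pow h).1 h1
  exact ⟨i, b, by omega, h2, rfl⟩

theorem allD_of (f : ℕ → Bool) : ∀ (l : List (ℕ × ℕ)), (∀ t ∈ l, t.1.Prime) → ∀ x d, allD f l x = true → d ∣ pr l →
    f (x * d) = true
  | [], _, x, d, h, hd => by
    obtain rfl : d = 1 := Nat.dvd_one.1 hd
    rw [mul_one]; exact h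
  | t :: l, hl, x, d, h, hd => by
    obtain ⟨i, d', hi, h2, rfl⟩ := split (hl t List.mem_cons_self) hd
    rw [allD, List.foldr_cons, List.all_eq_true] at h
    have := h i (List.mem_range.2 hi)
    rw [frc_eq] at this
    rw [← mul_assoc]
    exact allD_of f l (fun t h => hl t (List.mem_cons_of_mem _ h)) _ _ this h2

theorem bit_fold (g : ℕ → ℕ) (k : ℕ) : ∀ (l : List ℕ) (i : ℕ), i ∈ l → (g i).testBit k = true →
    (l.foldr (fun i s => g i ||| s) 0).testBit k = true
  | [], _, h, _ => absurd h List.not_mem_nil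
  | a :: l, i, h, hb => by
    rw [List.foldr_cons, Nat.testBit_or, Bool.or_eq_true]
    rcases List.mem_cons.1 h with rfl | h
    · exact Or.inl hb
    · exact Or.inr (bit_fold g k l i h hb)

theorem orD_of (f : ℕ → ℕ) : ∀ (l : List (ℕ × ℕ)), (∀ t ∈ l, t.1.Prime) → ∀ x d, d ∣ pr l →
    (orD f l x).testBit (f (x * d)) = true
  | [], _, x, d, hd => by
    obtain rfl : d = 1 := Nat.dvd_one.1 hd
    rw [mul_one]
    show (1 <<< f x).testBit (f x) = true
    rw [Nat.one_shiftLeft, Nat.testBit_two_pow_self]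
  | t :: l, hl, x, d, hd => by
    obtain ⟨i, d', hi, h2, rfl⟩ := split (hl t List.mem_cons_self) hd
    rw [orD, List.foldr_cons]
    refine bit_fold _ _ _ i (List.mem_range.2 hi) ?_
    rw [frc_eq, ← mul_assoc]
    exact orD_of f l (fun t h => hl t (List.mem_cons_of_mem _ h)) _ _ h2

/-- membership -/
def mem (v : ℕ) (l : List ℕ) : Bool := List.rec false (fun a _ ih => Bool.rec ih true (Nat.beq a v)) l

theorem mem_of {v : ℕ} : ∀ {l : List ℕ}, v ∈ l → mem v l = true
  | [], h => absurd h List.not_mem_nil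
  | a :: l, h => by
    show Bool.rec (mem v l) true (Nat.beq a v) = true
    cases e : Nat.beq a v
    · rcases List.mem_cons.1 h with rfl | h
      · rw [Nat.beq_refl] at e; exact absurd e (by decide)
      · exact mem_of h
    · rfl

/-- the first half of the search -/
def s1 (c o X : ℕ) (LA LB : List (ℕ × ℕ)) (ms La : List ℕ) : Bool :=
  allD (fun a => frc ((X * a) ^ o % c) fun v =>
    (ms.any fun m => !(orD (fun b => b ^ o % c % m) LB 1).testBit (v % m)) || La.contains a) LA 1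

/-- the second half of the search -/
def s2 (c o : ℕ) (LB : List (ℕ × ℕ)) (V Lb : List ℕ) : Bool :=
  allD (fun b => frc (b ^ o % c) fun v => !mem v V || Lb.contains b) LB 1

theorem mitm {c o D p E I : ℕ} {LA LB : List (ℕ × ℕ)} {ms La Lb V : List ℕ} (hp : p.Prime) (hA : ∀ t ∈ LA, t.1.Prime)
    (hB : ∀ t ∈ LB, t.1.Prime) (B0 : pr LB ≠ 0) (ho : p ^ o ≡ 1 [MOD c]) (h1 : s1 c o (D * pr LB) LA LB ms La = true)
    (hV : La.map (fun a => (D * pr LB * a) ^ o % c) = V) (h2 : s2 c o LB V Lb = true) (hI : I ∣ p ^ E * pr LA * pr LB) (hm : D * I ≡ 1 [MOD c]) :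
    ∃ e, e < E + 1 ∧ ∃ a ∈ La, ∃ b ∈ Lb, I = p ^ e * a * pr LB / b := by
  obtain ⟨x, b', hx, ⟨b, hb⟩, rfl⟩ := exists_dvd_and_dvd_of_dvd_mul hI
  obtain ⟨y, a, hy, ha, rfl⟩ := exists_dvd_and_dvd_of_dvd_mul hx
  obtain ⟨e, he, rfl⟩ := (Nat.dvd_prime_pow hp).1 hy
  have hb' : b ∣ pr LB := ⟨b', by rw [hb, mul_comm]⟩
  have b0 : b ≠ 0 := by rintro rfl; exact B0 (by rw [hb, mul_zero])
  have key : (D * pr LB * a) ^ o % c = b ^ o % c := by
    have k1 : (D * (p ^ e * a * b')) ^ o * b ^ o ≡ 1 ^ o * b ^ o [MOD c] := (hm.pow o).mul_right _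
    have k2 : (p ^ o) ^ e * (D * pr LB * a) ^ o ≡ 1 ^ e * (D * pr LB * a) ^ o [MOD c] := (ho.pow e).mul_right _
    rw [one_pow, one_mul] at k1 k2
    refine k2.symm.trans (Eq.trans (congrArg (· % c) ?_) k1)
    rw [hb, ← pow_mul, mul_comm o e, pow_mul, ← mul_pow, ← mul_pow]
    congr 1; ring
  have k1 := allD_of _ LA hA 1 a h1 ha
  have k2 := allD_of _ LB hB 1 b h2 hb'
  rw [frc_eq, one_mul, Bool.or_eq_true] at k1 k2
  have aL : a ∈ La := by
    rcases k1 with k | k
    · obtain ⟨m, -, k⟩ := List.any_eq_true.1 k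
      have := orD_of (fun b => b ^ o % c % m) LB hB 1 b hb'
      rw [one_mul, ← key] at this
      rw [this] at k
      exact absurd k (by decide)
    · exact List.mem_of_elem_eq_true k
  have bL : b ∈ Lb := by
    rcases k2 with k | k
    · rw [mem_of (hV ▸ List.mem_map.2 ⟨a, aL, key⟩)] at k
      exact absurd k (by decide)
    · exact List.mem_of_elem_eq_true k
  refine ⟨e, by omega, a, aL, b, bL, ?_⟩
  rw [hb, ← mul_assoc, Nat.mul_div_cancel _ (Nat.pos_of_ne_zero b0)]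

/-- the character degrees -/
def s0 (q : ℕ) : Bool := (List.range 12).all fun a => (List.range 4).all fun j => j == 0 || decide (a < j) ||
  (a == 11 && j == 1) || frc ((a * cc q - j) / Nat.gcd (a * cc q - j) (q ^ 20)) fun d => Nat.gcd d q == 1 && oG q % d != 0

/-- the Sylow normaliser -/
def s3 (q p E D B : ℕ) (LN : List (ℕ × ℕ)) (La Lb : List ℕ) : Bool := La.all fun a => Lb.all fun b =>
  (List.range (E + 1)).all fun e => D * (p ^ e * a * B / b) % cc q != 1 % cc q ||
    frc ((q ^ 11 + 1) * (D * (p ^ e * a * B / b))) fun J => 11 * J == oG q || allD (fun n => J % n != 0 || J / n % rr q != 1 % rr q ||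
      (q == 32 && n % 121 == 0 && J % 1331 != 0)) LN (q + 1)

theorem gen {q o D p E : ℕ} {LA LB LN : List (ℕ × ℕ)} {ms La Lb V : List ℕ}
    (hp : (((p, 0) :: LA ++ LB ++ LN).all fun t => isP t.1) = true)
    (ar : pr LB ≠ 0 ∧ p ^ o % cc q = 1 % cc q ∧ oG q = (q ^ 11 + 1) * (D * (p ^ E * pr LA * pr LB)) ∧ D ≠ 0 ∧
      (11 * cc q - 1) % D = 0 ∧ Nat.gcd D q = 1 ∧ Nat.gcd D (q ^ 11 + 1) = 1 ∧ D % rr q = 0 ∧ pr LN = 10 * (q ^ 10 - 1) ∧
      pr LN ≠ 0 ∧ La.map (fun a => (D * pr LB * a) ^ o % cc q) = V)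
    (h0 : s0 q = true) (h1 : s1 (cc q) o (D * pr LB) LA LB ms La = true) (h2 : s2 (cc q) o LB V Lb = true)
    (h3 : s3 q p E D (pr LB) LN La Lb = true) : AM q := by
  intro a j k I a1 j1 j3 ja hd hG hI
  obtain ⟨r1, r2, r3, r4, r5, r6, r7, r8, r9, r10, r11⟩ := ar
  have pp : ∀ t ∈ (p, 0) :: LA ++ LB ++ LN, t.1.Prime := fun t h => isP_prime (List.all_eq_true.1 hp t h)
  have e : a = 11 ∧ j = 1 := by
    have := List.all_eq_true.1 (List.all_eq_true.1 h0 a (List.mem_range.2 (by omega))) j (List.mem_range.2 (by omega))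
    simp only [frc_eq, Bool.or_eq_true, Bool.and_eq_true, beq_iff_eq, decide_eq_true_eq, bne_iff_ne] at this
    rcases this with ((h | h) | h) | h
    · omega
    · omega
    · exact h
    · exact absurd (Nat.mod_eq_zero_of_dvd ((Nat.Coprime.dvd_of_dvd_mul_left (Nat.Coprime.pow_right k h.1)
        ((Nat.div_dvd_of_dvd (Nat.gcd_dvd_left _ _)).trans hd)).trans hG)) h.2
  obtain ⟨rfl, rfl⟩ := e
  obtain ⟨I, rfl⟩ : D ∣ I := Nat.Coprime.dvd_of_dvd_mul_left r7 (Nat.Coprime.dvd_of_dvd_mul_left (Nat.Coprime.pow_right k r6)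
    ((Nat.dvd_of_mod_eq_zero r5).trans hd))
  refine ⟨(Nat.dvd_of_mod_eq_zero r8).mul_right _, fun n m e hm hn hn' hc => ?_⟩
  have hI' : I ∣ p ^ E * pr LA * pr LB := by
    rw [r3] at hG
    exact Nat.dvd_of_mul_dvd_mul_left (Nat.pos_of_ne_zero r4) (Nat.dvd_of_mul_dvd_mul_left (Nat.succ_pos _) hG)
  obtain ⟨i, hi, a, ha, b, hb, e'⟩ := mitm (pp (p, 0) (by simp)) (fun t h => pp t (by simp [h])) (fun t h => pp t (by simp [h]))
    r1 r2 h1 r11 h2 hI' hI
  have := List.all_eq_true.1 (List.all_eq_true.1 (List.all_eq_true.1 h3 a ha) b hb) i (List.mem_range.2 hi)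
  rw [frc_eq, ← e', Bool.or_eq_true, Bool.or_eq_true] at this
  rcases this with h | h | h
  · exact absurd hI (bne_iff_ne.1 h)
  · exact beq_iff_eq.1 h
  exfalso
  obtain ⟨n, rfl⟩ := hn
  have hn2 : n ∣ pr LN := by
    rw [r9]
    refine Nat.dvd_of_mul_dvd_mul_left (Nat.succ_pos q) ?_
    rwa [mul_comm 10, mul_assoc] at hn'
  have n0 : 0 < (q + 1) * n := Nat.mul_pos (Nat.succ_pos q) (Nat.pos_of_dvd_of_pos hn2 (Nat.pos_of_ne_zero r10))
  have := allD_of _ LN (fun t h => pp t (by simp [h])) _ _ h hn2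
  simp only [Bool.or_eq_true, Bool.and_eq_true, beq_iff_eq, bne_iff_ne] at this
  rcases this with (h | h) | h
  · exact h (by rw [e, Nat.mul_mod_right])
  · exact h (by rw [e, Nat.mul_div_cancel_left _ n0]; exact hm)
  · exact h.2 (Nat.mod_eq_zero_of_dvd (hc h.1.1 (Nat.dvd_of_mod_eq_zero h.1.2)))

end H3.UE
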