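/-
S5855, chunk AM: the data of the two searches.
-/
import Cfsg.Agent.H3.UE1

set_option autoImplicit false
set_option maxRecDepth 100000
set_option Elab.async false

namespace H3.UE
open H6.UE

/-- data -/
def A32 : List (ℕ × ℕ) := [(86171, 1), (61681, 1), (281, 1), (43, 1), (17, 1), (41, 2), (5, 4), (3, 14)]
/-- data -/
def B32 : List (ℕ × ℕ) := [(18837001, 1), (4051, 1), (251, 1), (151, 1), (7, 1), (19, 1), (331, 3), (31, 4), (11, 10)]
/-- data -/
def N32 : List (ℕ × ℕ) := [(2, 1), (3, 1), (5, 1), (11, 1), (31, 1), (251, 1), (601, 1), (1801, 1), (4051, 1)]
/-- data -/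
def a32 : List ℕ := [1, 79726701765, 3224374275, 1701516187411247475, 68814147603349125, 5486325023184905204048705625]
/-- data -/
def b32 : List ℕ := [11, 3936933209, 78495315291898109, 46825548032755927477153727, 933616589721295362998489313058427, 334144196049735979007860217582847146691113]
/-- data -/
def v32 : List ℕ := [8655629436053, 48457576728937, 58929871522291, 68653132960603, 31445135620305, 88139134824218]

theorem c_32 : cc 32 = 99252884349763 ∧ 34118178995231 * pr B32 = 11400391491042451363569226426582040902794053000657082103 := by decide +kernel
theorem s1_32 : s1 99252884349763 110 11400391491042451363569226426582040902794053000657082103 A32 B32 [65521, 65519, 65497, 65479, 65449, 65447] a32 = true := by decide +kernel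
theorem s2_32 : s2 99252884349763 110 B32 v32 b32 = true := by decide +kernel
theorem s3_32 : s3 32 2 275 34118178995231 (pr B32) N32 a32 b32 = true := by decide +kernel

theorem am32 : AM 32 := gen (p := 2) (o := 110) (D := 34118178995231) (E := 275) (LA := A32) (LB := B32) (LN := N32) (La := a32)
  (Lb := b32) (V := v32) (by decide +kernel) (by decide +kernel) (by decide +kernel)
  (by rw [c_32.1, c_32.2]; exact s1_32) (by rw [c_32.1]; exact s2_32) s3_32

/-- data -/
def A43 : List (ℕ × ℕ) := [(57993427, 1), (631, 1), (193, 1), (17, 1), (37, 2), (139, 3), (5, 4), (2, 28)]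
/-- data -/
def B43 : List (ℕ × ℕ) := [(6177695707, 1), (3341101, 1), (521, 1), (109, 1), (13, 3), (7, 4), (3, 5), (11, 10)]
/-- data -/
def N43 : List (ℕ × ℕ) := [(3, 1), (5, 1), (7, 1), (11, 1), (3341101, 1), (3500201, 1), (2, 4)]
/-- data -/
def a43 : List ℕ := [2, 1448315715992808680, 11842110854294141560, 1408045611503800, 1658638294400, 43604414861634611200, 475082153984, 138672840704, 33597440000, 27175129815449600, 11811542681025668710400, 105195068319386828800, 74059727149477522961177740574720000]
/-- data -/
def b43 : List ℕ := [11, 624679, 686232779180715102010735447737847497, 38970473296893629928087655341584621507133]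
/-- data -/
def v43 : List ℕ := [1675731489228254, 126570572144830, 1801428967356423, 582343772097967, 1818324260939939, 217700740164258, 310485453818913, 1644067867076024, 153949125756510, 466940524575312, 1550360433265097, 301034286259043, 899179140104115]

theorem c_43 : cc 43 = 1920028387337237 ∧ 245585026287321 * pr B43 = 9570564709046963183260559611910171374428852026508960693 := by decide +kernel
theorem s1_43 : s1 1920028387337237 22 9570564709046963183260559611910171374428852026508960693 A43 B43 [65521, 65519, 65497, 65479, 65449, 65447] a43 = true := by decide +kernel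
theorem s2_43 : s2 1920028387337237 22 B43 v43 b43 = true := by decide +kernel
theorem s3_43 : s3 43 43 55 245585026287321 (pr B43) N43 a43 b43 = true := by decide +kernel

theorem am43 : AM 43 := gen (p := 43) (o := 22) (D := 245585026287321) (E := 55) (LA := A43) (LB := B43) (LN := N43) (La := a43)
  (Lb := b43) (V := v43) (by decide +kernel) (by decide +kernel) (by decide +kernel)
  (by rw [c_43.1, c_43.2]; exact s1_43) (by rw [c_43.1]; exact s2_43) s3_43

end H3.UE
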